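import Cfsg.Agent.Lib.helper99.UPerf

/-!
Iwasawa's argument for `SU_n(q)`: a normal subgroup of `SU_n(q)` (`n ≥ 3`, `(n, q) ≠ (3, 2)`) not
contained in the centre is the whole group.
-/

set_option autoImplicit false

namespace Cfsg.Agent.Lib.helper99

open Cfsg Matrix Cfsg.Agent.Lib.helper17

section
variable {F : Type*} [Field F] [Fintype F] {q : ℕ} (hF : Fintype.card F = q ^ 2)
include hF

omit [Fintype F] hF in
theorem suMat_inv_apply (n : ℕ) (g : ↥(SU n F q)) (x : Fin n → F) :
    suMat g⁻¹ *ᵥ (suMat g *ᵥ x) = x := by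
  rw [Matrix.mulVec_mulVec, suMat_inv_mul, Matrix.one_mulVec]

omit [Fintype F] hF in
/-- Conjugating a transvection by an isometry. -/
theorem conj_transv (n : ℕ) (g : ↥(SU n F q)) (v : Fin n → F) (c : F) :
    unitaryTransvection n q (suMat g *ᵥ v) c * suMat g = suMat g * unitaryTransvection n q v c := by
  rw [Matrix.ext_iff_mulVec]
  intro z
  rw [← Matrix.mulVec_mulVec, ← Matrix.mulVec_mulVec, unitaryTransvection_mulVec,
    unitaryTransvection_mulVec, suMat_isIsom, Matrix.mulVec_add, Matrix.mulVec_smul]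

omit [Fintype F] hF in
theorem transv_smul (n : ℕ) (v : Fin n → F) (l c : F) :
    unitaryTransvection n q (l • v) c = unitaryTransvection n q v (c * (l * l ^ q)) := by
  rw [Matrix.ext_iff_mulVec]
  intro z
  rw [unitaryTransvection_mulVec, unitaryTransvection_mulVec, hermForm_smul_right, smul_smul]
  congr 2
  ring

/-- The coefficient of a non-trivial unitary transvection in `SU` is skew. -/
theorem skew_of_transv_mem (n : ℕ) (v : Fin n → F) (c : F) (hv0 : v ≠ 0)
    (hv : hermForm n F q v v = 0) (A : ↥(SU n F q))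
    (hA : suMat A = unitaryTransvection n q v c) : c ^ q = -c := by
  classical
  have hAp : ∀ x y : Fin n → F, hermForm n F q (unitaryTransvection n q v c *ᵥ x)
      (unitaryTransvection n q v c *ᵥ y) = hermForm n F q x y := by
    intro x y
    rw [← hA]
    exact suMat_isIsom A x y
  simp only [hermForm_unitaryTransvection hF n v hv c] at hAp
  obtain ⟨i, hi⟩ : ∃ i, v i ≠ 0 := by
    by_contra hcon
    push Not at hcon
    exact hv0 (funext hcon)
  have h1 := hAp (Pi.single i 1) (Pi.single i 1)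
  have e1 : hermForm n F q (Pi.single i 1) v = v i ^ q := hermForm_single_left n q i v
  have e2 : hermForm n F q v (Pi.single i 1) = v i := by
    rw [← hermForm_conj hF, e1, pow_q_pow_q hF]
  rw [e1, e2] at h1
  have h2 : (c ^ q + c) * (v i ^ q * v i) = 0 := by linear_combination h1
  rcases mul_eq_zero.mp h2 with h | h
  · linear_combination h
  · exact absurd h (mul_ne_zero (pow_ne_zero _ hi) hi)

/-- Non-degeneracy of the Hermitian form. -/
theorem herm_eq_zero_of_forall (n : ℕ) (z : Fin n → F) (h : ∀ w, hermForm n F q w z = 0) :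
    z = 0 := by
  classical
  have hq2 := two_le_of_card_eq_sq hF
  funext i
  have h1 := h (Pi.single i 1)
  rw [hermForm_single_left] at h1
  exact (pow_eq_zero_iff (by omega)).mp h1

/-- Separating a vector from a line by the form. -/
theorem herm_two_fun (n : ℕ) (u v : Fin n → F) (hu : u ∉ Submodule.span F {v}) :
    ∃ w, hermForm n F q w v = 0 ∧ hermForm n F q w u ≠ 0 := by
  by_contra hcon
  push Not at hcon
  apply hu
  by_cases hv : v = 0
  · have hu0 : u = 0 := by
      apply herm_eq_zero_of_forall hF n u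
      intro w
      exact hcon w (by rw [hv, hermForm_zero_right hF])
    rw [hu0]
    exact Submodule.zero_mem _
  · obtain ⟨w₀, hw₀⟩ := exists_pair_one (q := q) n v hv
    have hkey : ∀ w, hermForm n F q w (u - (hermForm n F q w₀ u) ^ q • v) = 0 := by
      intro w
      have h1 := hcon (w - hermForm n F q w v • w₀) (by
        rw [hermForm_sub_left, hermForm_smul_left, hw₀, mul_one, sub_self])
      rw [hermForm_sub_left, hermForm_smul_left] at h1
      rw [hermForm_sub_right hF, hermForm_smul_right, pow_q_pow_q hF]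
      linear_combination h1
    have hzero := herm_eq_zero_of_forall hF n _ hkey
    rw [sub_eq_zero.1 hzero]
    exact Submodule.smul_mem _ _ (Submodule.mem_span_singleton_self v)

/-- An isotropic vector orthogonal to `v₀` but not to `v₁`, for orthogonal isotropic `v₀`, `v₁` spanning
a plane. -/
theorem exists_iso_sep (n : ℕ) (v₀ v₁ : Fin n → F) (h1 : hermForm n F q v₁ v₁ = 0)
    (h01 : hermForm n F q v₀ v₁ = 0) (hv : v₁ ∉ Submodule.span F {v₀}) :
    ∃ w, hermForm n F q w w = 0 ∧ hermForm n F q w v₀ = 0 ∧ hermForm n F q w v₁ ≠ 0 := by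
  obtain ⟨z, hz0, hz1⟩ := herm_two_fun hF n v₁ v₀ hv
  have h10 := hermForm_eq_zero_symm hF n v₀ v₁ h01
  have hz1' : hermForm n F q ((hermForm n F q z v₁)⁻¹ • z) v₁ = 1 := by
    rw [hermForm_smul_left, inv_mul_cancel₀ hz1]
  obtain ⟨a, ha⟩ := exists_iso_shift hF n v₁ _ h1 hz1'
  refine ⟨_, ha, ?_, ?_⟩
  · rw [hermForm_add_left, hermForm_smul_left, hermForm_smul_left, hz0, h10]
    ring
  · rw [hermForm_add_left, hz1', hermForm_smul_left, h1, mul_zero, add_zero]
    exact one_ne_zero

omit [Fintype F] hF in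
/-- The relation "in the same `N`-orbit of points". -/
def URel {n : ℕ} (N : Subgroup ↥(SU n F q)) (x y : Fin n → F) : Prop :=
  ∃ g ∈ N, ∃ l : F, l ≠ 0 ∧ suMat g *ᵥ x = l • y

omit [Fintype F] hF in
theorem urel_symm {n : ℕ} (N : Subgroup ↥(SU n F q)) (x y : Fin n → F) (h : URel N x y) :
    URel N y x := by
  obtain ⟨g, hg, l, hl, hgx⟩ := h
  refine ⟨g⁻¹, N.inv_mem hg, l⁻¹, inv_ne_zero hl, ?_⟩
  have h1 := suMat_inv_apply n g x
  rw [hgx, Matrix.mulVec_smul] at h1
  rw [← h1, smul_smul, inv_mul_cancel₀ hl, one_smul]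

omit [Fintype F] hF in
theorem urel_trans {n : ℕ} (N : Subgroup ↥(SU n F q)) (x y z : Fin n → F) (h : URel N x y)
    (h' : URel N y z) : URel N x z := by
  obtain ⟨g, hg, l, hl, hgx⟩ := h
  obtain ⟨g', hg', l', hl', hgy⟩ := h'
  refine ⟨g' * g, N.mul_mem hg' hg, l * l', mul_ne_zero hl hl', ?_⟩
  rw [suMat_mul, ← Matrix.mulVec_mulVec, hgx, Matrix.mulVec_smul, hgy, smul_smul]

omit [Fintype F] hF in
theorem urel_conj {n : ℕ} (N : Subgroup ↥(SU n F q)) [hN : N.Normal] (k : ↥(SU n F q))
    (x y : Fin n → F) (h : URel N x y) : URel N (suMat k *ᵥ x) (suMat k *ᵥ y) := by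
  obtain ⟨g, hg, l, hl, hgx⟩ := h
  refine ⟨k * g * k⁻¹, hN.conj_mem g hg k, l, hl, ?_⟩
  rw [suMat_mul, suMat_mul, ← Matrix.mulVec_mulVec, ← Matrix.mulVec_mulVec, suMat_inv_apply, hgx,
    Matrix.mulVec_smul]

omit [Fintype F] hF in
theorem urel_smul {n : ℕ} (N : Subgroup ↥(SU n F q)) (x y : Fin n → F) (c : F) (hc : c ≠ 0)
    (h : URel N x (c • y)) : URel N x y := by
  obtain ⟨g, hg, l, hl, hgx⟩ := h
  exact ⟨g, hg, l * c, mul_ne_zero hl hc, by rw [hgx, smul_smul]⟩

/-- A normal subgroup moving some isotropic point is transitive on isotropic points. -/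
theorem urel_total (n : ℕ) (hn : 3 ≤ n) (HQ : EichIn n F q) (N : Subgroup ↥(SU n F q))
    [hN : N.Normal] (n₀ : ↥(SU n F q)) (hn₀ : n₀ ∈ N) (v₀ : Fin n → F)
    (hv₀iso : hermForm n F q v₀ v₀ = 0) (hv₀ : suMat n₀ *ᵥ v₀ ∉ Submodule.span F {v₀})
    (x y : Fin n → F) (hx : x ≠ 0) (hy : y ≠ 0) (hxx : hermForm n F q x x = 0)
    (hyy : hermForm n F q y y = 0) : URel N x y := by
  have hq2 := two_le_of_card_eq_sq hF
  have h0 : URel N v₀ (suMat n₀ *ᵥ v₀) := ⟨n₀, hn₀, 1, one_ne_zero, by rw [one_smul]⟩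
  have hv₁iso : hermForm n F q (suMat n₀ *ᵥ v₀) (suMat n₀ *ᵥ v₀) = 0 := by
    rw [suMat_isIsom]
    exact hv₀iso
  -- a related non-orthogonal pair of isotropic vectors
  obtain ⟨p, p', hpp', hp, hp', hfpp'⟩ : ∃ p p', URel N p p' ∧ hermForm n F q p p = 0 ∧
      hermForm n F q p' p' = 0 ∧ hermForm n F q p p' ≠ 0 := by
    by_cases hf : hermForm n F q v₀ (suMat n₀ *ᵥ v₀) = 0
    · obtain ⟨w, hww, hw0, hw1⟩ := exists_iso_sep hF n v₀ _ hv₁iso hf hv₀
      obtain ⟨κ, hκ0, hκ⟩ := exists_skew_ne_zero hF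
      have h0w : hermForm n F q (0 : Fin n → F) w = 0 := hermForm_zero_left n q w
      have hβ : κ + κ ^ q + hermForm n F q (0 : Fin n → F) 0 = 0 := by
        rw [hermForm_zero_left, hκ]
        ring
      have h1 := urel_conj N (eichSU hF n w 0 κ hww h0w hβ) _ _ h0
      have ht : suMat (eichSU hF n w 0 κ hww h0w hβ) = unitaryTransvection n q w κ :=
        eichlerU_zero hF n w κ
      rw [ht, unitaryTransvection_mulVec, unitaryTransvection_mulVec,
        hermForm_eq_zero_symm hF n w v₀ hw0, mul_zero, zero_smul, add_zero] at h1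
      refine ⟨_, _, urel_trans N _ _ _ (urel_symm N _ _ h0) h1, hv₁iso, ?_, ?_⟩
      · rw [← unitaryTransvection_mulVec, ← ht, suMat_isIsom]
        exact hv₁iso
      · have hw1' : hermForm n F q (suMat n₀ *ᵥ v₀) w ≠ 0 := fun h =>
          hw1 (hermForm_eq_zero_symm hF n _ w h)
        rw [hermForm_add_right hF, hv₁iso, zero_add, hermForm_smul_right]
        exact mul_ne_zero (pow_ne_zero _ (mul_ne_zero hκ0 hw1')) hw1'
    · exact ⟨_, _, h0, hv₀iso, hv₁iso, hf⟩
  -- non-orthogonal pairs are related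
  have hb : ∀ x y : Fin n → F, hermForm n F q x x = 0 → hermForm n F q y y = 0 →
      hermForm n F q x y ≠ 0 → URel N x y := by
    intro x y hxx hyy hxy
    have e1 : hermForm n F q p (((hermForm n F q p p') ^ q)⁻¹ • p') = 1 := by
      rw [hermForm_smul_right, inv_pow, pow_q_pow_q hF, inv_mul_cancel₀ hfpp']
    have e2 : hermForm n F q x (((hermForm n F q x y) ^ q)⁻¹ • y) = 1 := by
      rw [hermForm_smul_right, inv_pow, pow_q_pow_q hF, inv_mul_cancel₀ hxy]
    obtain ⟨M, hM, hM1, hM2⟩ := hyp_trans hF n hn HQ p _ x _ hp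
      (by rw [hermForm_smul_left, hermForm_smul_right, hp']; ring) e1 hxx
      (by rw [hermForm_smul_left, hermForm_smul_right, hyy]; ring) e2
    obtain ⟨A, -, rfl⟩ := hM
    have h1 := urel_conj N A p p' hpp'
    rw [hM1] at h1
    rw [Matrix.mulVec_smul] at hM2
    have hq1 : (hermForm n F q p p') ^ q ≠ 0 := pow_ne_zero _ hfpp'
    have hq2' : (hermForm n F q x y) ^ q ≠ 0 := pow_ne_zero _ hxy
    have hAp' : suMat A *ᵥ p' =
        ((hermForm n F q p p') ^ q * ((hermForm n F q x y) ^ q)⁻¹) • y := by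
      have := congrArg (fun z => (hermForm n F q p p') ^ q • z) hM2
      simp only [smul_smul, mul_inv_cancel₀ hq1, one_smul] at this
      exact this
    rw [hAp'] at h1
    exact urel_smul N x y _ (mul_ne_zero hq1 (inv_ne_zero hq2')) h1
  by_cases hxy : hermForm n F q x y = 0
  · obtain ⟨w, hww, hw1, hw2⟩ := exists_common_nonorth hF n x y hx hy hxx hxy
    exact urel_trans N x w y (hb x w hxx hww hw1)
      (hb w y hww hyy (fun h => hw2 (hermForm_eq_zero_symm hF n w y h)))
  · exact hb x y hxx hyy hxy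

/-- An element of `SU` fixing every isotropic point is central. -/
theorem mem_center_of_fix (n : ℕ) (hn : 3 ≤ n) (h32 : ¬ (n = 3 ∧ q = 2)) (g : ↥(SU n F q))
    (h : ∀ v, hermForm n F q v v = 0 → suMat g *ᵥ v ∈ Submodule.span F {v}) :
    g ∈ Subgroup.center ↥(SU n F q) := by
  have hle : TU n F q ≤ Subgroup.centralizer {g} := by
    unfold TU
    rw [Subgroup.closure_le]
    rintro A ⟨v, c, hv, hA⟩
    rw [SetLike.mem_coe, Subgroup.mem_centralizer_iff]
    intro k hk
    rw [Set.mem_singleton_iff.mp hk]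
    have hA' : suMat A = unitaryTransvection n q v c := hA
    by_cases hv0 : v = 0
    · have hA1 : A = 1 := by
        apply suMat_inj
        rw [hA', hv0, suMat_one]
        unfold unitaryTransvection
        simp
      rw [hA1, mul_one, one_mul]
    · obtain ⟨l, hl⟩ := Submodule.mem_span_singleton.1 (h v hv)
      have hnorm : l * l ^ q = 1 := by
        obtain ⟨w, hww, hvw⟩ := exists_partner hF n v hv0 hv
        have hwv := hermForm_eq_one_symm hF n v w hvw
        obtain ⟨m, hm⟩ := Submodule.mem_span_singleton.1 (h w hww)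
        obtain ⟨κ, hκ0, hκ⟩ := exists_skew_ne_zero hF
        have hiso : hermForm n F q (v + κ • w) (v + κ • w) = 0 := by
          simp only [hermForm_add_left, hermForm_add_right hF, hermForm_smul_left,
            hermForm_smul_right, hv, hww, hvw, hwv, hκ]
          ring
        obtain ⟨ν, hν⟩ := Submodule.mem_span_singleton.1 (h _ hiso)
        have hlin : ν • (v + κ • w) = l • v + κ • (m • w) := by
          rw [hν, Matrix.mulVec_add, Matrix.mulVec_smul, ← hl, ← hm]
        have h1 : ν = l := by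
          have := congrArg (fun z => hermForm n F q z w) hlin
          simp only [hermForm_add_left, hermForm_smul_left, hvw, hww] at this
          linear_combination this
        have h2 : ν = m := by
          have := congrArg (fun z => hermForm n F q z v) hlin
          simp only [hermForm_add_left, hermForm_smul_left, hv, hwv] at this
          have h3 : κ * (ν - m) = 0 := by linear_combination this
          rcases mul_eq_zero.mp h3 with h4 | h4
          · exact absurd h4 hκ0
          · linear_combination h4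
        have h3 := suMat_isIsom g v w
        rw [← hl, ← hm, hermForm_smul_left, hermForm_smul_right, hvw, mul_one] at h3
        rw [← h2, h1] at h3
        exact h3
      apply suMat_inj
      rw [suMat_mul, suMat_mul, hA', ← conj_transv, ← hl, transv_smul, hnorm, mul_one]
  rw [Subgroup.mem_center_iff]
  intro k
  have hk : k ∈ Subgroup.centralizer {g} :=
    hle (by rw [TU_eq_top hF n hn h32]; exact Subgroup.mem_top k)
  rw [Subgroup.mem_centralizer_iff] at hk
  exact (hk g rfl).symm

omit [Fintype F] hF in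
/-- The root subgroup of an isotropic vector. -/
def XU (n q : ℕ) (v : Fin n → F) : Subgroup ↥(SU n F q) :=
  Subgroup.closure {A : ↥(SU n F q) | ∃ c : F, suMat A = unitaryTransvection n q v c}

omit [Fintype F] hF in
theorem XU_comm (n : ℕ) (v : Fin n → F) (hv : hermForm n F q v v = 0) :
    IsMulCommutative (XU n q v) := by
  have hc : ∀ a ∈ {A : ↥(SU n F q) | ∃ c : F, suMat A = unitaryTransvection n q v c},
      ∀ b ∈ {A : ↥(SU n F q) | ∃ c : F, suMat A = unitaryTransvection n q v c}, a * b = b * a := by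
    rintro a ⟨c, ha⟩ b ⟨c', hb⟩
    apply suMat_inj
    rw [suMat_mul, suMat_mul, ha, hb, Matrix.ext_iff_mulVec]
    intro x
    rw [← Matrix.mulVec_mulVec, ← Matrix.mulVec_mulVec]
    simp only [unitaryTransvection_mulVec, hermForm_add_left, hermForm_smul_left, hv]
    module
  refine ⟨⟨?_⟩⟩
  rintro ⟨a, ha⟩ ⟨b, hb⟩
  apply Subtype.ext
  show a * b = b * a
  have hcen : XU n q v ≤ Subgroup.centralizer
      {A : ↥(SU n F q) | ∃ c : F, suMat A = unitaryTransvection n q v c} := by
    unfold XU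
    rw [Subgroup.closure_le]
    intro a ha
    rw [SetLike.mem_coe, Subgroup.mem_centralizer_iff]
    intro b hb
    exact hc b hb a ha
  have hcen2 : XU n q v ≤ Subgroup.centralizer (XU n q v : Set ↥(SU n F q)) := by
    unfold XU
    rw [Subgroup.closure_le]
    intro a ha
    rw [SetLike.mem_coe, Subgroup.mem_centralizer_iff]
    intro b hb
    have := hcen hb
    rw [Subgroup.mem_centralizer_iff] at this
    exact (this a ha).symm
  have := hcen2 hb
  rw [Subgroup.mem_centralizer_iff] at this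
  exact this a ha

/-- A normal subgroup of `SU_n(q)` not contained in the centre is the whole group. -/
theorem su_normal (n : ℕ) (hn : 3 ≤ n) (h32 : ¬ (n = 3 ∧ q = 2)) (N : Subgroup ↥(SU n F q))
    [hN : N.Normal] (hNc : ¬ N ≤ Subgroup.center ↥(SU n F q)) : N = ⊤ := by
  have hq2 := two_le_of_card_eq_sq hF
  have HQ : EichIn n F q := eichIn_of hF n (by
    by_cases h4 : 4 ≤ n
    · exact Or.inl h4
    · right
      by_contra hcon
      exact h32 ⟨by omega, by omega⟩)
  obtain ⟨n₀, hn₀, hn₀c⟩ := SetLike.not_le_iff_exists.1 hNc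
  obtain ⟨v₀, hv₀iso, hv₀⟩ : ∃ v₀, hermForm n F q v₀ v₀ = 0 ∧
      suMat n₀ *ᵥ v₀ ∉ Submodule.span F {v₀} := by
    by_contra hcon
    push Not at hcon
    exact hn₀c (mem_center_of_fix hF n hn h32 n₀ hcon)
  have hv₀0 : v₀ ≠ 0 := by
    rintro rfl
    apply hv₀
    rw [Matrix.mulVec_zero]
    exact Submodule.zero_mem _
  have hsup : N ⊔ XU n q v₀ = ⊤ := by
    rw [eq_top_iff, ← TU_eq_top hF n hn h32]
    unfold TU
    rw [Subgroup.closure_le]
    rintro A ⟨w, c, hw, hA⟩
    have hA' : suMat A = unitaryTransvection n q w c := hA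
    rw [SetLike.mem_coe]
    by_cases hw0 : w = 0
    · have hA1 : A = 1 := by
        apply suMat_inj
        rw [hA', hw0, suMat_one]
        unfold unitaryTransvection
        simp
      rw [hA1]
      exact Subgroup.one_mem _
    have hc := skew_of_transv_mem hF n w c hw0 hw A hA'
    obtain ⟨k, hk, l, hl, hkv⟩ :=
      urel_total hF n hn HQ N n₀ hn₀ v₀ hv₀iso hv₀ v₀ w hv₀0 hw0 hv₀iso hw
    have hlq : l ^ q ≠ 0 := pow_ne_zero _ hl
    have h0v : hermForm n F q (0 : Fin n → F) v₀ = 0 := hermForm_zero_left n q v₀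
    have hβ : c / (l * l ^ q) + (c / (l * l ^ q)) ^ q + hermForm n F q (0 : Fin n → F) 0 = 0 := by
      rw [hermForm_zero_left, div_pow, mul_pow, pow_q_pow_q hF, hc]
      field_simp
      ring
    have hB : suMat (eichSU hF n v₀ 0 (c / (l * l ^ q)) hv₀iso h0v hβ) =
        unitaryTransvection n q v₀ (c / (l * l ^ q)) := eichlerU_zero hF n v₀ _
    have h3 : A = k * eichSU hF n v₀ 0 (c / (l * l ^ q)) hv₀iso h0v hβ * k⁻¹ := by
      rw [eq_mul_inv_iff_mul_eq]
      apply suMat_inj
      rw [suMat_mul, suMat_mul, hA', hB, ← conj_transv, hkv, transv_smul,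
        div_mul_cancel₀ _ (mul_ne_zero hl hlq)]
    rw [h3]
    refine Subgroup.mul_mem _ (Subgroup.mul_mem _ (Subgroup.mem_sup_left hk)
      (Subgroup.mem_sup_right ?_)) (Subgroup.inv_mem _ (Subgroup.mem_sup_left hk))
    exact Subgroup.subset_closure ⟨_, hB⟩
  have hle := hN.commutator_le_of_self_sup_commutative_eq_top hsup (XU_comm n v₀ hv₀iso)
  rw [su_perfect hF n hn h32] at hle
  exact top_le_iff.1 hle

/-- A non-zero isotropic vector in dimension at least two. -/
theorem exists_isotropic (n : ℕ) (hn : 2 ≤ n) :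
    ∃ u : Fin n → F, u ≠ 0 ∧ hermForm n F q u u = 0 := by
  classical
  have hq2 := two_le_of_card_eq_sq hF
  obtain ⟨ζ, hζ⟩ := exists_norm_eq hF (-1) (neg_ne_zero.mpr one_ne_zero)
    (by rw [neg_pow_q hF, one_pow])
  have hne : (⟨0, by omega⟩ : Fin n) ≠ ⟨1, by omega⟩ := by simp [Fin.ext_iff]
  refine ⟨Pi.single ⟨0, by omega⟩ 1 + ζ • Pi.single ⟨1, by omega⟩ 1, ?_, ?_⟩
  · intro h0
    have := congrFun h0 ⟨0, by omega⟩
    simp [Pi.single_apply, hne] at this
  · rw [hermForm_add_left, hermForm_smul_left, hermForm_single_left, hermForm_single_left]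
    simp only [Pi.add_apply, Pi.smul_apply, Pi.single_apply, hne, hne.symm, if_true, if_false,
      smul_eq_mul, mul_one, mul_zero, add_zero, zero_add, one_pow]
    linear_combination hζ

/-- `SU_n(q)` is non-trivial for `n ≥ 2`. -/
theorem su_nontrivial (n : ℕ) (hn : 2 ≤ n) : ∃ g : ↥(SU n F q), g ≠ 1 := by
  obtain ⟨u, hu0, huu⟩ := exists_isotropic hF n hn
  obtain ⟨w, hww, huw⟩ := exists_partner hF n u hu0 huu
  obtain ⟨κ, hκ0, hκ⟩ := exists_skew_ne_zero hF
  have h0u : hermForm n F q (0 : Fin n → F) u = 0 := hermForm_zero_left n q u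
  have hβ : κ + κ ^ q + hermForm n F q (0 : Fin n → F) 0 = 0 := by
    rw [hermForm_zero_left, hκ]
    ring
  refine ⟨eichSU hF n u 0 κ huu h0u hβ, fun h1 => ?_⟩
  have h2 : suMat (eichSU hF n u 0 κ huu h0u hβ) *ᵥ w = w + (κ * hermForm n F q w u) • u := by
    have ht : suMat (eichSU hF n u 0 κ huu h0u hβ) = unitaryTransvection n q u κ :=
      eichlerU_zero hF n u κ
    rw [ht, unitaryTransvection_mulVec]
  rw [h1, suMat_one, Matrix.one_mulVec, hermForm_eq_one_symm hF n u w huw, mul_one] at h2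
  have h3 : κ • u = 0 := by
    have := h2.symm
    rwa [add_eq_left] at this
  rcases smul_eq_zero.1 h3 with h4 | h4
  · exact hκ0 h4
  · exact hu0 h4

end

end Cfsg.Agent.Lib.helper99
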