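import Cfsg.Agent.Lib.helper99.UGen6

/-!
Generation of `SU_n(q)` by unitary transvections, part 7: the embedding `SU_n → SU_{n+1}`, the induction
on the dimension, and the theorem: for `n ≥ 3`, `(n, q) ≠ (3, 2)`, every element of `SU_n(q)` is a product
of unitary transvections.
-/

set_option autoImplicit false

namespace Cfsg.Agent.Lib.helper99

open Cfsg Matrix Cfsg.Agent.Lib.helper17 Cfsg.Agent.Lib.helper7

section
variable {F : Type*} [Field F] [Fintype F]

theorem extMat_mul (n : ℕ) (M N : Matrix (Fin n) (Fin n) F) :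
    extMat n (M * N) = extMat n M * extMat n N := by
  rw [Matrix.ext_iff_mulVec]
  intro y
  funext i
  refine Fin.cases ?_ (fun i' => ?_) i
  · rw [← Matrix.mulVec_mulVec, extMat_mulVec_zero, extMat_mulVec_zero, extMat_mulVec_zero]
  · have e : (fun j : Fin n => (extMat n N *ᵥ y) j.succ) = N *ᵥ (fun j => y j.succ) := by
      funext j
      rw [extMat_mulVec_succ]
    rw [← Matrix.mulVec_mulVec, extMat_mulVec_succ, extMat_mulVec_succ, ← Matrix.mulVec_mulVec, e]

theorem extMat_one (n : ℕ) : extMat n (1 : Matrix (Fin n) (Fin n) F) = 1 := by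
  rw [Matrix.ext_iff_mulVec]
  intro y
  funext i
  refine Fin.cases ?_ (fun i' => ?_) i
  · rw [extMat_mulVec_zero, Matrix.one_mulVec]
  · rw [extMat_mulVec_succ, Matrix.one_mulVec, Matrix.one_mulVec]

theorem det_extMat (n : ℕ) (M : Matrix (Fin n) (Fin n) F) : (extMat n M).det = M.det := by
  rw [Matrix.det_succ_row_zero, Fin.sum_univ_succ]
  have h0 : extMat n M 0 0 = 1 := by simp [extMat]
  have hs : ∀ j : Fin n, extMat n M 0 j.succ = 0 := fun j => by simp [extMat]
  simp only [hs, mul_zero, zero_mul, Finset.sum_const_zero, add_zero, h0, Fin.val_zero, pow_zero,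
    one_mul, Fin.succAbove_zero]
  rw [submatrix_extMat]

theorem extMat_transv {q : ℕ} (hq : q ≠ 0) (n : ℕ) (v : Fin n → F) (c : F) :
    extMat n (unitaryTransvection n q v c) =
      unitaryTransvection (n + 1) q (Fin.cons 0 v) c := by
  rw [Matrix.ext_iff_mulVec]
  intro y
  funext i
  have hh : hermForm (n + 1) F q y (Fin.cons 0 v) = hermForm n F q (fun j => y j.succ) v := by
    rw [herm_succ]
    simp [zero_pow hq]
  refine Fin.cases ?_ (fun i' => ?_) i
  · rw [extMat_mulVec_zero, unitaryTransvection_mulVec]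
    simp
  · rw [extMat_mulVec_succ, unitaryTransvection_mulVec, unitaryTransvection_mulVec, hh]
    simp

omit [Fintype F] in
/-- Cancelling an element of `TU` on the left. -/
theorem InT_of_mul {q n : ℕ} (t g : ↥(SU n F q)) (ht : t ∈ TU n F q)
    (h : InT n q (suMat (t * g))) : InT n q (suMat g) := by
  obtain ⟨k, hk, hk'⟩ := h
  have h1 : t * g = k := (suMat_inj hk').symm
  have h2 : g = t⁻¹ * k := by
    rw [← h1]
    group
  exact ⟨g, by rw [h2]; exact mul_mem (inv_mem ht) hk, rfl⟩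

end

section
variable {F : Type*} [Field F] [Fintype F] {q : ℕ} (hF : Fintype.card F = q ^ 2)
include hF

omit [Fintype F] hF in
/-- The embedding `SU_n → SU_{n+1}`. -/
def extSU (n : ℕ) (g : ↥(SU n F q)) : ↥(SU (n + 1) F q) :=
  mkSU (extMat n (suMat g)) (by rw [det_extMat]; exact suMat_det g)
    (extMat_isIsom n (suMat g) (suMat_isIsom g))

/-- The embedding `SU_n → SU_{n+1}` maps products of transvections to products of transvections. -/
theorem InT_extMat (n : ℕ) (M : Matrix (Fin n) (Fin n) F) (hM : InT n q M) :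
    InT (n + 1) q (extMat n M) := by
  have hq2 := two_le_of_card_eq_sq hF
  obtain ⟨g, hg, rfl⟩ := hM
  refine ⟨extSU n g, ?_, rfl⟩
  induction hg using Subgroup.closure_induction with
  | mem x hx =>
    obtain ⟨v, c, hv, hx⟩ := hx
    apply Subgroup.subset_closure
    refine ⟨Fin.cons 0 v, c, ?_, ?_⟩
    · rw [herm_succ]
      simp [zero_pow (by omega : q ≠ 0), hv]
    · change extMat n (suMat x) = _
      have hx' : suMat x = unitaryTransvection n q v c := hx
      rw [hx', extMat_transv (by omega : q ≠ 0)]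
  | one =>
    have : extSU n (1 : ↥(SU n F q)) = 1 := suMat_inj (extMat_one n)
    rw [this]
    exact one_mem _
  | mul x y _ _ hx hy =>
    have : extSU n (x * y) = extSU n x * extSU n y := suMat_inj (extMat_mul n _ _)
    rw [this]
    exact mul_mem hx hy
  | inv x _ hx =>
    have : extSU n x⁻¹ = (extSU n x)⁻¹ := by
      apply eq_inv_of_mul_eq_one_left
      apply suMat_inj
      change extMat n (suMat x⁻¹) * extMat n (suMat x) = 1
      rw [← extMat_mul, suMat_inv_mul, extMat_one]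
    rw [this]
    exact inv_mem hx

/-- An element of `SU_{n+1}` fixing the first basis vector comes from `SU_n`. -/
theorem exists_extMat_of_fix (n : ℕ) (g : ↥(SU (n + 1) F q))
    (hfix : suMat g *ᵥ Pi.single 0 1 = Pi.single 0 1) :
    ∃ g' : ↥(SU n F q), suMat g = extMat n (suMat g') := by
  have hq2 := two_le_of_card_eq_sq hF
  have hE := eq_extMat_of_fix (by omega : q ≠ 0) n (suMat g) (suMat_isIsom g) hfix
  have hI := submatrix_isIsom (by omega : q ≠ 0) n (suMat g) (suMat_isIsom g) hfix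
  have hd : ((suMat g).submatrix Fin.succ Fin.succ).det = 1 := by
    rw [← det_extMat, hE]
    exact suMat_det g
  exact ⟨mkSU _ hd hI, hE.symm⟩

/-- Induction step, fixing one basis vector. -/
theorem step_one (n : ℕ) (IH : ∀ g : ↥(SU n F q), InT n q (suMat g))
    (g t : ↥(SU (n + 1) F q)) (ht : t ∈ TU (n + 1) F q)
    (hfix : suMat (t * g) *ᵥ Pi.single 0 1 = Pi.single 0 1) : InT (n + 1) q (suMat g) := by
  obtain ⟨g', hg'⟩ := exists_extMat_of_fix hF n (t * g) hfix
  apply InT_of_mul t g ht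
  rw [hg']
  exact InT_extMat hF n _ (IH g')

/-- Induction step, fixing two basis vectors. -/
theorem step_two (n : ℕ) (IH : ∀ g : ↥(SU n F q), InT n q (suMat g))
    (g t : ↥(SU (n + 2) F q)) (ht : t ∈ TU (n + 2) F q)
    (hfix0 : suMat (t * g) *ᵥ Pi.single 0 1 = Pi.single 0 1)
    (hfix1 : suMat (t * g) *ᵥ Pi.single 1 1 = Pi.single 1 1) : InT (n + 2) q (suMat g) := by
  classical
  obtain ⟨g', hg'⟩ := exists_extMat_of_fix hF (n + 1) (t * g) hfix0
  have hfix' : suMat g' *ᵥ Pi.single 0 1 = Pi.single 0 1 := by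
    funext i
    have h1 := congrFun hfix1 i.succ
    rw [hg', extMat_mulVec_succ] at h1
    have e : (fun j : Fin (n + 1) => (Pi.single 1 1 : Fin (n + 2) → F) j.succ) = Pi.single 0 1 := by
      funext j
      rw [Pi.single_apply, Pi.single_apply, ← Fin.succ_zero_eq_one]
      simp only [Fin.succ_inj]
    rw [e] at h1
    rw [h1]
    exact congrFun e i
  obtain ⟨g'', hg''⟩ := exists_extMat_of_fix hF n g' hfix'
  apply InT_of_mul t g ht
  rw [hg', hg'']
  exact InT_extMat hF (n + 1) _ (InT_extMat hF n _ (IH g''))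

/-- Using transitivity on hyperbolic pairs to fix the first two basis vectors. -/
theorem exists_fix01 (m : ℕ) (hm : 1 ≤ m) (HQ : EichIn (m + 2) F q) (g : ↥(SU (m + 2) F q)) :
    ∃ t : ↥(SU (m + 2) F q), t ∈ TU (m + 2) F q ∧
      suMat (t * g) *ᵥ Pi.single 0 1 = Pi.single 0 1 ∧
      suMat (t * g) *ᵥ Pi.single 1 1 = Pi.single 1 1 := by
  classical
  have hq2 := two_le_of_card_eq_sq hF
  obtain ⟨ζ, hζ⟩ := exists_norm_eq hF (-1) (neg_ne_zero.mpr one_ne_zero)
    (by rw [neg_pow_q hF, one_pow])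
  obtain ⟨α, hα⟩ := exists_trace_one hF
  have hζ0 : ζ ≠ 0 := by
    rintro rfl
    rw [zero_mul] at hζ
    exact (neg_ne_zero.mpr one_ne_zero) hζ.symm
  obtain ⟨e₀, he₀⟩ : ∃ e₀ : Fin (m + 2) → F, e₀ = Pi.single 0 1 := ⟨_, rfl⟩
  obtain ⟨e₁, he₁⟩ : ∃ e₁ : Fin (m + 2) → F, e₁ = Pi.single 1 1 := ⟨_, rfl⟩
  have h00 : hermForm (m + 2) F q e₀ e₀ = 1 := by
    rw [he₀, hermForm_single_left]
    simp
  have h11 : hermForm (m + 2) F q e₁ e₁ = 1 := by
    rw [he₁, hermForm_single_left]
    simp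
  have h01 : hermForm (m + 2) F q e₀ e₁ = 0 := by
    rw [he₀, he₁, hermForm_single_left]
    simp [zero_pow (by omega : q ≠ 0)]
  have h10 : hermForm (m + 2) F q e₁ e₀ = 0 := by
    rw [he₀, he₁, hermForm_single_left]
    simp [zero_pow (by omega : q ≠ 0)]
  rw [← he₀, ← he₁]
  obtain ⟨u₀, hu₀⟩ : ∃ u₀ : Fin (m + 2) → F, u₀ = e₀ + ζ • e₁ := ⟨_, rfl⟩
  obtain ⟨w₀, hw₀⟩ : ∃ w₀ : Fin (m + 2) → F, w₀ = (1 - α) • e₀ - (α * ζ) • e₁ := ⟨_, rfl⟩
  have huu : hermForm (m + 2) F q u₀ u₀ = 0 := by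
    rw [hu₀]
    simp only [hermForm_add_left, hermForm_add_right hF, hermForm_smul_left, hermForm_smul_right,
      h00, h11, h01, h10]
    linear_combination hζ
  have hww : hermForm (m + 2) F q w₀ w₀ = 0 := by
    rw [hw₀]
    simp only [hermForm_sub_left, hermForm_sub_right hF, hermForm_smul_left, hermForm_smul_right,
      h00, h11, h01, h10, sub_pow_q hF, mul_pow, one_pow]
    linear_combination (-1 : F) * hα + (α * α ^ q) * hζ
  have huw : hermForm (m + 2) F q u₀ w₀ = 1 := by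
    rw [hu₀, hw₀]
    simp only [hermForm_add_left, hermForm_sub_right hF, hermForm_smul_left, hermForm_smul_right,
      h00, h11, h01, h10, sub_pow_q hF, mul_pow, one_pow]
    linear_combination (-α ^ q) * hζ
  obtain ⟨M, hM, hMu, hMw⟩ := hyp_trans hF (m + 2) (by omega) HQ (suMat g *ᵥ u₀) (suMat g *ᵥ w₀)
    u₀ w₀ (by rw [suMat_isIsom]; exact huu) (by rw [suMat_isIsom]; exact hww)
    (by rw [suMat_isIsom]; exact huw) huu hww huw
  obtain ⟨t, ht, rfl⟩ := hM
  have hu' : suMat (t * g) *ᵥ u₀ = u₀ := by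
    rw [suMat_mul, ← Matrix.mulVec_mulVec]
    exact hMu
  have hw' : suMat (t * g) *ᵥ w₀ = w₀ := by
    rw [suMat_mul, ← Matrix.mulVec_mulVec]
    exact hMw
  have he : e₀ = α • u₀ + w₀ := by
    rw [hu₀, hw₀]
    module
  have he' : e₁ = ζ⁻¹ • ((1 - α) • u₀ - w₀) := by
    rw [hu₀, hw₀]
    match_scalars <;> field_simp <;> ring
  refine ⟨t, ht, ?_, ?_⟩
  · rw [he, Matrix.mulVec_add, Matrix.mulVec_smul, hu', hw']
  · rw [he', Matrix.mulVec_smul, Matrix.mulVec_sub, Matrix.mulVec_smul, hu', hw']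

theorem eichIn_of (n : ℕ) (h : 4 ≤ n ∨ 3 ≤ q) : EichIn n F q := by
  intro u y β hu huu hyu hβ
  rcases h with h | h
  · exact eich_InT_n4 hF n h u y β hu huu hyu hβ
  · exact eich_InT_q3 hF n h u y β hu huu hyu hβ

/-- For `n ≥ 3`, `(n, q) ≠ (3, 2)`, every element of `SU_n(q)` is a product of unitary
transvections. -/
theorem su_InT (n : ℕ) (hn : 3 ≤ n) (h32 : ¬ (n = 3 ∧ q = 2)) (g : ↥(SU n F q)) :
    InT n q (suMat g) := by
  have hq2 := two_le_of_card_eq_sq hF
  have h4 : ∀ m : ℕ, ∀ g : ↥(SU (m + 4) F q), InT (m + 4) q (suMat g) := by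
    intro m
    induction m with
    | zero =>
      intro g
      obtain ⟨t, ht, h0, h1⟩ := exists_fix01 hF 2 (by omega) (eichIn_of hF 4 (Or.inl le_rfl)) g
      exact step_two hF 2 (su2_InT hF) g t ht h0 h1
    | succ m ih =>
      intro g
      obtain ⟨t, ht, h0, -⟩ := exists_fix01 hF (m + 3) (by omega)
        (eichIn_of hF (m + 5) (Or.inl (by omega))) g
      exact step_one hF (m + 4) ih g t ht h0
  rcases Nat.lt_or_ge n 4 with hlt | hge
  · have hn3 : n = 3 := by omega
    subst hn3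
    have hq3 : 3 ≤ q := by
      by_contra hcon
      exact h32 ⟨rfl, by omega⟩
    obtain ⟨t, ht, h0, -⟩ := exists_fix01 hF 1 le_rfl (eichIn_of hF 3 (Or.inr hq3)) g
    exact step_one hF 2 (su2_InT hF) g t ht h0
  · obtain ⟨m, rfl⟩ : ∃ m, n = m + 4 := ⟨n - 4, by omega⟩
    exact h4 m g

end

end Cfsg.Agent.Lib.helper99
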