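import Cfsg.Agent.Lib.helper99.USimple

/-!
`p`-local structure of `SU_3(q)`, `q` a power of the odd prime `p`: the normaliser of a non-trivial
`p`-subgroup stabilises an isotropic point, and the stabiliser of an isotropic point is `p`-closed.
-/

set_option autoImplicit false

namespace Cfsg.Agent.Lib.helper99

open Cfsg Matrix Cfsg.Agent.Lib.helper17

theorem exists_last_pow {R : Type*} [Ring R] (N : R) (hN : N ≠ 0) (j : ℕ) (hj : N ^ j = 0) :
    ∃ i : ℕ, N ^ (i + 1) ≠ 0 ∧ N ^ (i + 2) = 0 := by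
  induction j with
  | zero =>
    exfalso; apply hN
    rw [pow_zero] at hj
    calc N = N * 1 := (mul_one N).symm
      _ = 0 := by rw [hj, mul_zero]
  | succ j ih =>
    by_cases h : N ^ j = 0
    · exact ih h
    · rcases j with _ | i
      · exfalso; apply hN; simpa using hj
      · exact ⟨i, h, hj⟩

section
variable {F : Type*} [Field F]

/-- An eigenvalue of a `p`-element in characteristic `p` is one. -/
theorem eig_one_of_pow {n : ℕ} {p : ℕ} [Fact p.Prime] [CharP F p] (A : Matrix (Fin n) (Fin n) F)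
    (k : ℕ) (hA : A ^ p ^ k = 1) (v : Fin n → F) (hv : v ≠ 0) (l : F) (h : A *ᵥ v = l • v) :
    l = 1 := by
  have hpow : ∀ j : ℕ, (A ^ j) *ᵥ v = l ^ j • v := by
    intro j
    induction j with
    | zero => simp
    | succ j ih =>
      rw [pow_succ, ← Matrix.mulVec_mulVec, h, Matrix.mulVec_smul, ih, smul_smul, pow_succ, mul_comm]
  have h1 := hpow (p ^ k)
  rw [hA, Matrix.one_mulVec] at h1
  have h2 : (l ^ p ^ k - 1) • v = 0 := by rw [sub_smul, one_smul, ← h1, sub_self]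
  have h3 : l ^ p ^ k - 1 = 0 := by
    rcases smul_eq_zero.mp h2 with h | h
    · exact h
    · exact absurd h hv
  have h4 : (l - 1) ^ p ^ k = 0 := by
    rw [sub_pow_char_pow, one_pow, h3]
  exact sub_eq_zero.mp
    ((pow_eq_zero_iff (pow_ne_zero _ (Fact.out : p.Prime).ne_zero)).mp h4)

end

section
variable {F : Type*} [Field F] [Fintype F] {q : ℕ} (hF : Fintype.card F = q ^ 2)
include hF

/-- In dimension three the orthogonal complement of a hyperbolic pair is an anisotropic line. -/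
theorem exists_third (u w : Fin 3 → F) (huu : hermForm 3 F q u u = 0)
    (hww : hermForm 3 F q w w = 0) (huw : hermForm 3 F q u w = 1) :
    ∃ z : Fin 3 → F, hermForm 3 F q z u = 0 ∧ hermForm 3 F q z w = 0 ∧ hermForm 3 F q z z ≠ 0 ∧
      ∀ x, hermForm 3 F q x u = 0 → hermForm 3 F q x w = 0 → ∃ t : F, x = t • z := by
  classical
  have hwu := hermForm_eq_one_symm hF 3 u w huw
  obtain ⟨z, hz, hzz⟩ := exists_orth_noniso hF 3
    (Submodule.span F (({u, w} : Finset (Fin 3 → F)) : Set (Fin 3 → F)))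
    (lt_of_le_of_lt (finrank_span_finset_le_card _)
      (lt_of_le_of_lt Finset.card_le_two (by omega)))
    (fun x => x - (hermForm 3 F q x w) • u - (hermForm 3 F q x u) • w)
    (fun x => by
      have : x - (x - (hermForm 3 F q x w) • u - (hermForm 3 F q x u) • w) =
          (hermForm 3 F q x w) • u + (hermForm 3 F q x u) • w := by abel
      rw [this]
      exact Submodule.add_mem _ (Submodule.smul_mem _ _ (Submodule.subset_span (by simp)))
        (Submodule.smul_mem _ _ (Submodule.subset_span (by simp))))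
    (fun x => orth_span hF 3 _ _ (by
      intro y hy
      simp only [Finset.coe_insert, Finset.coe_singleton, Set.mem_insert_iff,
        Set.mem_singleton_iff] at hy
      rcases hy with hy | hy
      · rw [hy]
        simp only [hermForm_sub_left, hermForm_smul_left, huu, hwu]
        ring
      · rw [hy]
        simp only [hermForm_sub_left, hermForm_smul_left, huw, hww]
        ring))
  have hzu : hermForm 3 F q z u = 0 := hz u (Submodule.subset_span (by simp))
  have hzw : hermForm 3 F q z w = 0 := hz w (Submodule.subset_span (by simp))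
  refine ⟨z, hzu, hzw, hzz, ?_⟩
  let φ : (Fin 3 → F) →ₗ[F] (Fin 2 → F) :=
    { toFun := fun x => ![hermForm 3 F q x u, hermForm 3 F q x w]
      map_add' := by
        intro x y
        ext i
        fin_cases i <;> simp [hermForm_add_left]
      map_smul' := by
        intro a x
        ext i
        fin_cases i <;> simp [hermForm_smul_left] }
  have hφ : ∀ x, φ x = ![hermForm 3 F q x u, hermForm 3 F q x w] := fun x => rfl
  have hsurj : Function.Surjective φ := by
    intro y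
    refine ⟨y 0 • w + y 1 • u, ?_⟩
    rw [hφ]
    ext i
    fin_cases i
    · show hermForm 3 F q (y 0 • w + y 1 • u) u = y 0
      rw [hermForm_add_left, hermForm_smul_left, hermForm_smul_left, hwu, huu]; ring
    · show hermForm 3 F q (y 0 • w + y 1 • u) w = y 1
      rw [hermForm_add_left, hermForm_smul_left, hermForm_smul_left, hww, huw]; ring
  have hker : Module.finrank F (LinearMap.ker φ) = 1 := by
    have h1 := LinearMap.finrank_range_add_finrank_ker φ
    rw [LinearMap.range_eq_top.mpr hsurj, finrank_top, Module.finrank_fin_fun,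
      Module.finrank_fin_fun] at h1
    omega
  have hmem : ∀ x, hermForm 3 F q x u = 0 → hermForm 3 F q x w = 0 → x ∈ LinearMap.ker φ := by
    intro x hxu hxw
    rw [LinearMap.mem_ker, hφ, hxu, hxw]
    ext i
    fin_cases i <;> rfl
  have hz0 : z ≠ 0 := by
    rintro rfl
    exact hzz (hermForm_zero_left 3 q 0)
  have hne : (⟨z, hmem z hzu hzw⟩ : LinearMap.ker φ) ≠ 0 := by
    intro h
    exact hz0 (congrArg Subtype.val h)
  have hall := (finrank_eq_one_iff_of_nonzero' _ hne).mp hker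
  intro x hxu hxw
  obtain ⟨c, hc⟩ := hall ⟨x, hmem x hxu hxw⟩
  exact ⟨c, (congrArg Subtype.val hc).symm⟩

/-- Decomposition of a vector with respect to a hyperbolic pair and the third vector. -/
theorem decomp3 (u w z : Fin 3 → F) (huu : hermForm 3 F q u u = 0)
    (hww : hermForm 3 F q w w = 0) (huw : hermForm 3 F q u w = 1)
    (hz : ∀ x, hermForm 3 F q x u = 0 → hermForm 3 F q x w = 0 → ∃ t : F, x = t • z)
    (x : Fin 3 → F) :
    ∃ t : F, x = hermForm 3 F q x w • u + hermForm 3 F q x u • w + t • z := by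
  have hwu := hermForm_eq_one_symm hF 3 u w huw
  obtain ⟨t, ht⟩ := hz (x - hermForm 3 F q x w • u - hermForm 3 F q x u • w)
    (by simp only [hermForm_sub_left, hermForm_smul_left, huu, hwu]; ring)
    (by simp only [hermForm_sub_left, hermForm_smul_left, huw, hww]; ring)
  refine ⟨t, ?_⟩
  rw [← ht]; abel

omit hF in
/-- A non-trivial `p`-element of `SU_n(q)` fixes a non-zero isotropic vector. -/
theorem exists_iso_fixed {n : ℕ} {p : ℕ} [Fact p.Prime] [CharP F p] (g : ↥(SU n F q)) (k : ℕ)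
    (hg : suMat g ^ p ^ k = 1) (hg1 : g ≠ 1) :
    ∃ v : Fin n → F, v ≠ 0 ∧ hermForm n F q v v = 0 ∧ suMat g *ᵥ v = v := by
  classical
  have : Nonempty (Fin n) := by
    by_contra hne
    rw [not_nonempty_iff] at hne
    exact hg1 (suMat_inj (Subsingleton.elim _ _))
  have hN : (suMat g - 1) ^ p ^ k = 0 := by
    rw [sub_pow_char_pow_of_commute p k (Commute.one_right _), hg, one_pow, sub_self]
  have hN0 : suMat g - 1 ≠ 0 := by
    intro h
    apply hg1
    apply suMat_inj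
    rw [suMat_one]; exact sub_eq_zero.mp h
  obtain ⟨i, hi1, hi2⟩ := exists_last_pow _ hN0 _ hN
  obtain ⟨x, hx⟩ : ∃ x : Fin n → F, ((suMat g - 1) ^ (i + 1)) *ᵥ x ≠ 0 := by
    by_contra hcon
    push Not at hcon
    apply hi1
    rw [Matrix.ext_iff_mulVec]
    intro x
    rw [hcon x, Matrix.zero_mulVec]
  obtain ⟨v, hv⟩ : ∃ v : Fin n → F, v = ((suMat g - 1) ^ (i + 1)) *ᵥ x := ⟨_, rfl⟩
  obtain ⟨y, hy⟩ : ∃ y : Fin n → F, y = ((suMat g - 1) ^ i) *ᵥ x := ⟨_, rfl⟩
  rw [← hv] at hx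
  have hNv : (suMat g - 1) *ᵥ v = 0 := by
    rw [hv, Matrix.mulVec_mulVec, ← pow_succ', hi2, Matrix.zero_mulVec]
  have hfix : suMat g *ᵥ v = v := by
    rw [Matrix.sub_mulVec, Matrix.one_mulVec, sub_eq_zero] at hNv
    exact hNv
  refine ⟨v, hx, ?_, hfix⟩
  have e : v = suMat g *ᵥ y - y := by
    rw [hv, hy, pow_succ', ← Matrix.mulVec_mulVec, Matrix.sub_mulVec, Matrix.one_mulVec]
  have h1 : hermForm n F q (suMat g *ᵥ y) v = hermForm n F q y v := by
    conv_lhs => rw [← hfix]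
    rw [suMat_isIsom]
  calc hermForm n F q v v = hermForm n F q (suMat g *ᵥ y - y) v := by rw [← e]
    _ = 0 := by rw [hermForm_sub_left, h1, sub_self]

omit [Fintype F] hF in
theorem suMat_pow {n : ℕ} (g : ↥(SU n F q)) (k : ℕ) : suMat (g ^ k) = suMat g ^ k := by
  induction k with
  | zero => rw [pow_zero, pow_zero, suMat_one]
  | succ k ih => rw [pow_succ, pow_succ, suMat_mul, ih]

/-- A `p`-element of `SU_3(q)` stabilising two distinct isotropic points is trivial. -/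
theorem eq_one_of_two_points {p : ℕ} [Fact p.Prime] [CharP F p] (g : ↥(SU 3 F q)) (k : ℕ)
    (hg : suMat g ^ p ^ k = 1) (v₁ v₂ : Fin 3 → F) (hv₁ : v₁ ≠ 0)
    (h11 : hermForm 3 F q v₁ v₁ = 0) (h22 : hermForm 3 F q v₂ v₂ = 0)
    (hne : v₂ ∉ Submodule.span F {v₁})
    (hg₁ : suMat g *ᵥ v₁ ∈ Submodule.span F {v₁})
    (hg₂ : suMat g *ᵥ v₂ ∈ Submodule.span F {v₂}) : g = 1 := by
  have hq2 := two_le_of_card_eq_sq hF
  have hv₂ : v₂ ≠ 0 := by
    rintro rfl
    exact hne (Submodule.zero_mem _)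
  have hf₁ : suMat g *ᵥ v₁ = v₁ := by
    obtain ⟨l, hl⟩ := Submodule.mem_span_singleton.mp hg₁
    have h1 := eig_one_of_pow (suMat g) k hg v₁ hv₁ l hl.symm
    rw [← hl, h1, one_smul]
  have hf₂ : suMat g *ᵥ v₂ = v₂ := by
    obtain ⟨l, hl⟩ := Submodule.mem_span_singleton.mp hg₂
    have h1 := eig_one_of_pow (suMat g) k hg v₂ hv₂ l hl.symm
    rw [← hl, h1, one_smul]
  have hc : hermForm 3 F q v₁ v₂ ≠ 0 := by
    intro hc
    have hc' := hermForm_eq_zero_symm hF 3 v₁ v₂ hc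
    obtain ⟨w, hww, hvw⟩ := exists_partner hF 3 v₁ hv₁ h11
    obtain ⟨z, hzv, hzw, hzz, hz⟩ := exists_third hF v₁ w h11 hww hvw
    obtain ⟨t, ht⟩ := decomp3 hF v₁ w z h11 hww hvw hz v₂
    rw [hc', zero_smul, add_zero] at ht
    have hvz := hermForm_eq_zero_symm hF 3 z v₁ hzv
    obtain ⟨a, ha⟩ : ∃ a : F, a = hermForm 3 F q v₂ w := ⟨_, rfl⟩
    rw [← ha] at ht
    have h1 : hermForm 3 F q v₂ v₂ = t * t ^ q * hermForm 3 F q z z := by
      conv_lhs => rw [ht]
      simp only [hermForm_add_left, hermForm_add_right hF, hermForm_smul_left,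
        hermForm_smul_right, h11, hzv, hvz]
      ring
    rw [h22] at h1
    have ht0 : t = 0 := by
      have h2 : t * t ^ q = 0 := by
        rcases mul_eq_zero.mp h1.symm with h | h
        · exact h
        · exact absurd h hzz
      rcases mul_eq_zero.mp h2 with h | h
      · exact h
      · exact (pow_eq_zero_iff (by omega)).mp h
    apply hne
    rw [ht, ht0, zero_smul, add_zero]
    exact Submodule.smul_mem _ _ (Submodule.subset_span rfl)
  obtain ⟨c, hcdef⟩ : ∃ c : F, c = hermForm 3 F q v₁ v₂ := ⟨_, rfl⟩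
  rw [← hcdef] at hc
  obtain ⟨w, hw⟩ : ∃ w : Fin 3 → F, w = (c⁻¹) ^ q • v₂ := ⟨_, rfl⟩
  have hvw : hermForm 3 F q v₁ w = 1 := by
    rw [hw, hermForm_smul_right, pow_q_pow_q hF, ← hcdef, inv_mul_cancel₀ hc]
  have hww : hermForm 3 F q w w = 0 := by
    rw [hw, hermForm_smul_left, hermForm_smul_right, h22, mul_zero, mul_zero]
  have hfw : suMat g *ᵥ w = w := by
    rw [hw, Matrix.mulVec_smul, hf₂]
  obtain ⟨z, hzv, hzw, hzz, hz⟩ := exists_third hF v₁ w h11 hww hvw
  have hz0 : z ≠ 0 := by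
    rintro rfl
    exact hzz (hermForm_zero_left 3 q 0)
  have hfz : suMat g *ᵥ z = z := by
    have e1 : hermForm 3 F q (suMat g *ᵥ z) v₁ = 0 := by
      conv_lhs => rw [← hf₁]
      rw [suMat_isIsom, hzv]
    have e2 : hermForm 3 F q (suMat g *ᵥ z) w = 0 := by
      conv_lhs => rw [← hfw]
      rw [suMat_isIsom, hzw]
    obtain ⟨t, ht⟩ := hz (suMat g *ᵥ z) e1 e2
    have h1 := eig_one_of_pow (suMat g) k hg z hz0 t ht
    rw [ht, h1, one_smul]
  apply suMat_inj
  rw [suMat_one]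
  apply mat_ext_hyp hF 3 v₁ w h11 hww hvw
  · rw [hf₁, Matrix.one_mulVec]
  · rw [hfw, Matrix.one_mulVec]
  · intro x hxv hxw
    obtain ⟨t, ht⟩ := hz x hxv hxw
    rw [ht, Matrix.mulVec_smul, hfz, Matrix.one_mulVec]

omit [Fintype F] hF in
/-- `Tri v z l μ A`: `A v = l v` and `A z ∈ μ z + ⟨v⟩`. -/
def Tri {n : ℕ} (v z : Fin n → F) (l μ : F) (A : Matrix (Fin n) (Fin n) F) : Prop :=
  A *ᵥ v = l • v ∧ ∃ c : F, A *ᵥ z = μ • z + c • v

omit [Fintype F] hF in
theorem Tri.mul {n : ℕ} {v z : Fin n → F} {l μ l' μ' : F} {A B : Matrix (Fin n) (Fin n) F}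
    (hA : Tri v z l μ A) (hB : Tri v z l' μ' B) : Tri v z (l * l') (μ * μ') (A * B) := by
  obtain ⟨h1, c, h2⟩ := hA
  obtain ⟨h1', c', h2'⟩ := hB
  refine ⟨?_, μ' * c + c' * l, ?_⟩
  · rw [← Matrix.mulVec_mulVec, h1', Matrix.mulVec_smul, h1, smul_smul, mul_comm]
  · rw [← Matrix.mulVec_mulVec, h2', Matrix.mulVec_add, Matrix.mulVec_smul, Matrix.mulVec_smul,
      h1, h2]
    module

omit [Fintype F] hF in
theorem Tri.pow {n : ℕ} {v z : Fin n → F} {l μ : F} {A : Matrix (Fin n) (Fin n) F}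
    (hA : Tri v z l μ A) (k : ℕ) : Tri v z (l ^ k) (μ ^ k) (A ^ k) := by
  induction k with
  | zero => exact ⟨by simp, 0, by simp⟩
  | succ k ih =>
    rw [pow_succ, pow_succ, pow_succ]
    exact ih.mul hA

/-- Elements of the stabiliser of an isotropic point are triangular. -/
theorem tri_of_stab (v w z : Fin 3 → F) (hv0 : v ≠ 0) (hvv : hermForm 3 F q v v = 0)
    (hww : hermForm 3 F q w w = 0) (hvw : hermForm 3 F q v w = 1)
    (hzv : hermForm 3 F q z v = 0) (hzz : hermForm 3 F q z z ≠ 0)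
    (hz : ∀ x, hermForm 3 F q x v = 0 → hermForm 3 F q x w = 0 → ∃ t : F, x = t • z)
    (g : ↥(SU 3 F q)) (hg : suMat g *ᵥ v ∈ Submodule.span F {v}) :
    ∃ l μ : F, l ≠ 0 ∧ μ ^ (q + 1) = 1 ∧ Tri v z l μ (suMat g) := by
  have hq2 := two_le_of_card_eq_sq hF
  obtain ⟨l, hl⟩ := Submodule.mem_span_singleton.mp hg
  have hl0 : l ≠ 0 := by
    rintro rfl
    rw [zero_smul] at hl
    have h1 := suMat_inv_apply 3 g v
    rw [← hl, Matrix.mulVec_zero] at h1
    exact hv0 h1.symm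
  have h1 : hermForm 3 F q (suMat g *ᵥ z) v = 0 := by
    have h2 : hermForm 3 F q (suMat g *ᵥ z) (suMat g *ᵥ v) = 0 := by rw [suMat_isIsom, hzv]
    rw [← hl, hermForm_smul_right] at h2
    rcases mul_eq_zero.mp h2 with h | h
    · exact absurd ((pow_eq_zero_iff (by omega)).mp h) hl0
    · exact h
  obtain ⟨μ, hμ⟩ := decomp3 hF v w z hvv hww hvw hz (suMat g *ᵥ z)
  rw [h1, zero_smul, add_zero] at hμ
  obtain ⟨c, hc⟩ : ∃ c : F, c = hermForm 3 F q (suMat g *ᵥ z) w := ⟨_, rfl⟩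
  rw [← hc] at hμ
  have hvz := hermForm_eq_zero_symm hF 3 z v hzv
  have h3 : hermForm 3 F q (suMat g *ᵥ z) (suMat g *ᵥ z) = μ * μ ^ q * hermForm 3 F q z z := by
    rw [hμ]
    simp only [hermForm_add_left, hermForm_add_right hF, hermForm_smul_left,
      hermForm_smul_right, hvv, hzv, hvz]
    ring
  rw [suMat_isIsom] at h3
  have h4 : μ * μ ^ q = 1 := by
    have h5 : (μ * μ ^ q - 1) * hermForm 3 F q z z = 0 := by linear_combination -h3
    rcases mul_eq_zero.mp h5 with h | h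
    · exact sub_eq_zero.mp h
    · exact absurd h hzz
  refine ⟨l, μ, hl0, by rw [pow_succ']; exact h4, hl.symm, c, ?_⟩
  rw [hμ, add_comm]

/-- An isometry which is unitriangular with respect to the flag of an isotropic vector has order
dividing `p`. -/
theorem pow_of_tri_one {p : ℕ} [Fact p.Prime] [CharP F p] (hp3 : 3 ≤ p) (v w z : Fin 3 → F)
    (hvv : hermForm 3 F q v v = 0)
    (hww : hermForm 3 F q w w = 0) (hvw : hermForm 3 F q v w = 1)
    (hz : ∀ x, hermForm 3 F q x v = 0 → hermForm 3 F q x w = 0 → ∃ t : F, x = t • z)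
    (g : ↥(SU 3 F q)) (hT : Tri v z 1 1 (suMat g)) : suMat g ^ p = 1 := by
  obtain ⟨h1, c, h2⟩ := hT
  rw [one_smul] at h1 h2
  have hNv : (suMat g - 1) *ᵥ v = 0 := by
    rw [Matrix.sub_mulVec, Matrix.one_mulVec, h1, sub_self]
  have hNz : (suMat g - 1) *ᵥ z = c • v := by
    rw [Matrix.sub_mulVec, Matrix.one_mulVec, h2]; abel
  obtain ⟨a, t, hNw⟩ : ∃ a t : F, (suMat g - 1) *ᵥ w = a • v + t • z := by
    obtain ⟨t, ht⟩ := decomp3 hF v w z hvv hww hvw hz ((suMat g - 1) *ᵥ w)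
    have h0 : hermForm 3 F q ((suMat g - 1) *ᵥ w) v = 0 := by
      rw [Matrix.sub_mulVec, Matrix.one_mulVec, hermForm_sub_left]
      have h3 : hermForm 3 F q (suMat g *ᵥ w) v = hermForm 3 F q w v := by
        conv_lhs => rw [← h1]
        rw [suMat_isIsom]
      rw [h3, sub_self]
    rw [h0, zero_smul, add_zero] at ht
    exact ⟨_, t, ht⟩
  have hN3 : (suMat g - 1) ^ 3 = 0 := by
    apply mat_ext_hyp hF 3 v w hvv hww hvw
    · rw [Matrix.zero_mulVec, pow_succ, ← Matrix.mulVec_mulVec, hNv, Matrix.mulVec_zero]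
    · rw [Matrix.zero_mulVec, pow_succ, pow_two, ← Matrix.mulVec_mulVec, ← Matrix.mulVec_mulVec,
        hNw, Matrix.mulVec_add, Matrix.mulVec_smul, Matrix.mulVec_smul, hNv, hNz, smul_zero,
        zero_add, Matrix.mulVec_smul, Matrix.mulVec_smul, hNv, smul_zero, smul_zero]
    · intro x hxv hxw
      obtain ⟨s, hs⟩ := hz x hxv hxw
      rw [Matrix.zero_mulVec, hs, pow_succ, pow_two, ← Matrix.mulVec_mulVec,
        ← Matrix.mulVec_mulVec]
      simp only [Matrix.mulVec_smul, hNz, hNv, smul_zero, Matrix.mulVec_zero]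
  have hNp : (suMat g - 1) ^ p = 0 := pow_eq_zero_of_le hp3 hN3
  have e : suMat g = (suMat g - 1) + 1 := by abel
  rw [e, add_pow_char_of_commute p (Commute.one_right _), hNp, one_pow, zero_add]

/-- The stabiliser of an isotropic point of the unitary `3`-space is `p`-closed. -/
theorem stab_p_closed {p : ℕ} [Fact p.Prime] [CharP F p] (hp3 : 3 ≤ p) (v : Fin 3 → F)
    (hv0 : v ≠ 0) (hvv : hermForm 3 F q v v = 0) (a b : ↥(SU 3 F q))
    (ha : suMat a *ᵥ v ∈ Submodule.span F {v}) (hb : suMat b *ᵥ v ∈ Submodule.span F {v}) :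
    (a ^ (q ^ 2 - 1) * b ^ (q ^ 2 - 1)) ^ p = 1 := by
  have hq2 := two_le_of_card_eq_sq hF
  obtain ⟨w, hww, hvw⟩ := exists_partner hF 3 v hv0 hvv
  obtain ⟨z, hzv, hzw, hzz, hz⟩ := exists_third hF v w hvv hww hvw
  obtain ⟨l, μ, hl, hμ, hT⟩ := tri_of_stab hF v w z hv0 hvv hww hvw hzv hzz hz a ha
  obtain ⟨l', μ', hl', hμ', hT'⟩ := tri_of_stab hF v w z hv0 hvv hww hvw hzv hzz hz b hb
  have e1 : ∀ x : F, x ≠ 0 → x ^ (q ^ 2 - 1) = 1 := by
    intro x hx
    rw [← hF]; exact FiniteField.pow_card_sub_one_eq_one x hx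
  have e2 : ∀ x : F, x ^ (q + 1) = 1 → x ^ (q ^ 2 - 1) = 1 := by
    intro x hx
    have h1 : q ^ 2 - 1 = (q + 1) * (q - 1) := by
      obtain ⟨r, rfl⟩ : ∃ r, q = r + 1 := ⟨q - 1, by omega⟩
      rw [Nat.add_sub_cancel]
      have h2 : (r + 1) ^ 2 = (r + 1 + 1) * r + 1 := by ring
      rw [h2, Nat.add_sub_cancel]
    rw [h1, pow_mul, hx, one_pow]
  have hTa := hT.pow (q ^ 2 - 1)
  have hTb := hT'.pow (q ^ 2 - 1)
  rw [e1 l hl, e2 μ hμ] at hTa
  rw [e1 l' hl', e2 μ' hμ'] at hTb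
  have hTab := hTa.mul hTb
  rw [one_mul, ← suMat_pow, ← suMat_pow, ← suMat_mul] at hTab
  apply suMat_inj
  rw [suMat_one, suMat_pow]
  exact pow_of_tri_one hF hp3 v w z hvv hww hvw hz _ hTab

/-- The normaliser of a non-trivial `p`-subgroup of `SU_3(q)` stabilises an isotropic point. -/
theorem normalizer_stab {p : ℕ} [Fact p.Prime] [CharP F p] (P : Subgroup ↥(SU 3 F q))
    (hP : IsPGroup p P) (hne : P ≠ ⊥) :
    ∃ v : Fin 3 → F, v ≠ 0 ∧ hermForm 3 F q v v = 0 ∧
      ∀ g ∈ Subgroup.normalizer (P : Set ↥(SU 3 F q)),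
        suMat g *ᵥ v ∈ Submodule.span F {v} := by
  have hfin : Finite ↥(SU 3 F q) := inferInstance
  have hnt : Nontrivial ↥P := (Subgroup.nontrivial_iff_ne_bot P).mpr hne
  have hcn := hP.center_nontrivial
  obtain ⟨⟨u₀, hu₀c⟩, hu₀⟩ := exists_ne (1 : Subgroup.center ↥P)
  have hu1 : (u₀ : ↥(SU 3 F q)) ≠ 1 := by
    intro h
    apply hu₀
    apply Subtype.ext
    apply Subtype.ext
    exact h
  have hcomm : ∀ g ∈ P, g * (u₀ : ↥(SU 3 F q)) = (u₀ : ↥(SU 3 F q)) * g := by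
    intro g hg
    have h1 := (Subgroup.mem_center_iff.mp hu₀c) ⟨g, hg⟩
    exact congrArg Subtype.val h1
  have hpel : ∀ g ∈ P, ∃ k : ℕ, suMat g ^ p ^ k = 1 := by
    intro g hg
    obtain ⟨k, hk⟩ := hP ⟨g, hg⟩
    refine ⟨k, ?_⟩
    have h1 : g ^ p ^ k = 1 := congrArg Subtype.val hk
    rw [← suMat_pow, h1, suMat_one]
  obtain ⟨k₀, hk₀⟩ := hpel u₀ u₀.2
  obtain ⟨v, hv0, hvv, hfix⟩ := exists_iso_fixed (u₀ : ↥(SU 3 F q)) k₀ hk₀ hu1
  have hPstab : ∀ g ∈ P, suMat g *ᵥ v ∈ Submodule.span F {v} := by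
    intro g hg
    by_contra hcon
    apply hu1
    apply eq_one_of_two_points hF (u₀ : ↥(SU 3 F q)) k₀ hk₀ v (suMat g *ᵥ v) hv0 hvv
      (by rw [suMat_isIsom, hvv]) hcon
    · rw [hfix]; exact Submodule.mem_span_singleton_self _
    · have h1 : suMat (u₀ : ↥(SU 3 F q)) *ᵥ (suMat g *ᵥ v) = suMat g *ᵥ v := by
        rw [Matrix.mulVec_mulVec, ← suMat_mul, ← hcomm g hg, suMat_mul, ← Matrix.mulVec_mulVec,
          hfix]
      rw [h1]; exact Submodule.mem_span_singleton_self _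
  refine ⟨v, hv0, hvv, ?_⟩
  intro g hg
  by_contra hcon
  have hu' : g * (u₀ : ↥(SU 3 F q)) * g⁻¹ ∈ P :=
    (Subgroup.mem_set_normalizer_iff.mp hg (u₀ : ↥(SU 3 F q))).mp u₀.2
  obtain ⟨k₁, hk₁⟩ := hpel _ hu'
  have hu'1 : g * (u₀ : ↥(SU 3 F q)) * g⁻¹ ≠ 1 := by
    intro h
    exact hu1 (conj_eq_one_iff.mp h)
  apply hu'1
  apply eq_one_of_two_points hF _ k₁ hk₁ v (suMat g *ᵥ v) hv0 hvv
    (by rw [suMat_isIsom, hvv]) hcon
  · exact hPstab _ hu'
  · have h1 : suMat (g * (u₀ : ↥(SU 3 F q)) * g⁻¹) *ᵥ (suMat g *ᵥ v) = suMat g *ᵥ v := by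
      rw [suMat_mul, suMat_mul, ← Matrix.mulVec_mulVec, suMat_inv_apply, ← Matrix.mulVec_mulVec,
        hfix]
    rw [h1]; exact Submodule.mem_span_singleton_self _

end

end Cfsg.Agent.Lib.helper99
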