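import Cfsg.Agent.Lib.helper17.UEichler
import Cfsg.Agent.Lib.helper7.SU

/-!
Generation of `SU_n(q)` by unitary transvections, part 1: the subgroup `TU` generated by the
transvections, the matrix predicate `InT`, Eichler elements as elements of `SU`, normality of `TU`,
and a matrix extensionality principle relative to a hyperbolic pair.
-/

set_option autoImplicit false

namespace Cfsg.Agent.Lib.helper99

open Cfsg Matrix Cfsg.Agent.Lib.helper17

section
variable {F : Type*} [Field F] {q : ℕ} {n : ℕ}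

/-- The underlying matrix of an element of `SU`. -/
def suMat (g : ↥(SU n F q)) : Matrix (Fin n) (Fin n) F :=
  ((g : Matrix.SpecialLinearGroup (Fin n) F) : Matrix (Fin n) (Fin n) F)

theorem suMat_mul (g k : ↥(SU n F q)) : suMat (g * k) = suMat g * suMat k := rfl

theorem suMat_one : suMat (1 : ↥(SU n F q)) = 1 := rfl

theorem suMat_inj {g k : ↥(SU n F q)} (h : suMat g = suMat k) : g = k :=
  Subtype.ext (Subtype.ext h)

theorem suMat_isIsom (g : ↥(SU n F q)) (u v : Fin n → F) :
    hermForm n F q (suMat g *ᵥ u) (suMat g *ᵥ v) = hermForm n F q u v := g.2 u v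

theorem suMat_det (g : ↥(SU n F q)) : (suMat g).det = 1 := g.1.2

theorem suMat_inv_mul (g : ↥(SU n F q)) : suMat g⁻¹ * suMat g = 1 := by
  rw [← suMat_mul, inv_mul_cancel, suMat_one]

theorem suMat_mul_inv (g : ↥(SU n F q)) : suMat g * suMat g⁻¹ = 1 := by
  rw [← suMat_mul, mul_inv_cancel, suMat_one]

/-- An element of `SU` from a matrix of determinant one preserving the form. -/
def mkSU (M : Matrix (Fin n) (Fin n) F) (hd : M.det = 1)
    (hM : ∀ u v, hermForm n F q (M *ᵥ u) (M *ᵥ v) = hermForm n F q u v) : ↥(SU n F q) :=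
  ⟨⟨M, hd⟩, hM⟩

theorem suMat_mkSU (M : Matrix (Fin n) (Fin n) F) (hd : M.det = 1)
    (hM : ∀ u v, hermForm n F q (M *ᵥ u) (M *ᵥ v) = hermForm n F q u v) :
    suMat (mkSU M hd hM) = M := rfl

/-- The subgroup of `SU` generated by the unitary transvections. -/
def TU (n : ℕ) (F : Type*) [Field F] (q : ℕ) : Subgroup ↥(SU n F q) :=
  Subgroup.closure {A : ↥(SU n F q) | ∃ (v : Fin n → F) (c : F), hermForm n F q v v = 0 ∧
    ((A : Matrix.SpecialLinearGroup (Fin n) F) : Matrix (Fin n) (Fin n) F) =
      unitaryTransvection n q v c}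

/-- The matrix `M` is the matrix of an element of `TU`. -/
def InT (n q : ℕ) {F : Type*} [Field F] (M : Matrix (Fin n) (Fin n) F) : Prop :=
  ∃ g : ↥(SU n F q), g ∈ TU n F q ∧ suMat g = M

theorem InT.mul {M N : Matrix (Fin n) (Fin n) F} (hM : InT n q M) (hN : InT n q N) :
    InT n q (M * N) := by
  obtain ⟨g, hg, rfl⟩ := hM
  obtain ⟨k, hk, rfl⟩ := hN
  exact ⟨g * k, mul_mem hg hk, rfl⟩

theorem InT.one : InT n q (1 : Matrix (Fin n) (Fin n) F) := ⟨1, one_mem _, rfl⟩

theorem InT.isIsom {M : Matrix (Fin n) (Fin n) F} (hM : InT n q M) (u v : Fin n → F) :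
    hermForm n F q (M *ᵥ u) (M *ᵥ v) = hermForm n F q u v := by
  obtain ⟨g, -, rfl⟩ := hM
  exact suMat_isIsom g u v

theorem InT.det {M : Matrix (Fin n) (Fin n) F} (hM : InT n q M) : M.det = 1 := by
  obtain ⟨g, -, rfl⟩ := hM
  exact suMat_det g

theorem InT.of_mul_eq_one {M N : Matrix (Fin n) (Fin n) F} (hM : InT n q M) (h : M * N = 1) :
    InT n q N := by
  obtain ⟨g, hg, rfl⟩ := hM
  refine ⟨g⁻¹, inv_mem hg, ?_⟩
  calc suMat g⁻¹ = suMat g⁻¹ * (suMat g * N) := by rw [h, mul_one]
    _ = N := by rw [← mul_assoc, suMat_inv_mul, one_mul]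

end

section
variable {F : Type*} [Field F] [Fintype F] {q : ℕ} (hF : Fintype.card F = q ^ 2)
include hF

theorem hermForm_zero_right (n : ℕ) (u : Fin n → F) : hermForm n F q u 0 = 0 := by
  have hq2 := two_le_of_card_eq_sq hF
  rw [← hermForm_conj hF, hermForm_zero_left, zero_pow (by omega)]

theorem hermForm_eq_zero_symm (n : ℕ) (u v : Fin n → F) (h : hermForm n F q u v = 0) :
    hermForm n F q v u = 0 := by
  have hq2 := two_le_of_card_eq_sq hF
  rw [← hermForm_conj hF, h, zero_pow (by omega)]

theorem hermForm_eq_one_symm (n : ℕ) (u v : Fin n → F) (h : hermForm n F q u v = 1) :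
    hermForm n F q v u = 1 := by
  rw [← hermForm_conj hF, h, one_pow]

/-- The Eichler element as an element of `SU`. -/
def eichSU (n : ℕ) (u y : Fin n → F) (β : F) (huu : hermForm n F q u u = 0)
    (hyu : hermForm n F q y u = 0) (hβ : β + β ^ q + hermForm n F q y y = 0) : ↥(SU n F q) :=
  mkSU (eichlerU n q u y β) (eichlerU_det n q u y β huu hyu (hermForm_eq_zero_symm hF n y u hyu))
    (eichlerU_preserves hF n u y β huu hyu hβ)

/-- Unitary transvections lie in `TU`. -/
theorem transv_InT (n : ℕ) (v : Fin n → F) (c : F) (hv : hermForm n F q v v = 0)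
    (hc : c ^ q = -c) : InT n q (unitaryTransvection n q v c) := by
  have h0 : hermForm n F q (0 : Fin n → F) v = 0 := hermForm_zero_left n q v
  have hβ : c + c ^ q + hermForm n F q (0 : Fin n → F) 0 = 0 := by
    rw [hermForm_zero_left, hc]; ring
  refine ⟨eichSU hF n v 0 c hv h0 hβ, ?_, ?_⟩
  · apply Subgroup.subset_closure
    exact ⟨v, c, hv, eichlerU_zero hF n v c⟩
  · exact eichlerU_zero hF n v c

/-- `TU` is a normal subgroup of `SU`. -/
theorem TU_normal (n : ℕ) : (TU n F q).Normal := by
  refine ⟨fun t ht g => ?_⟩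
  induction ht using Subgroup.closure_induction with
  | mem x hx =>
    obtain ⟨v, c, hv, hx⟩ := hx
    apply Subgroup.subset_closure
    refine ⟨suMat g *ᵥ v, c, ?_, ?_⟩
    · rw [suMat_isIsom]
      exact hv
    · have h1 : suMat (g * x * g⁻¹) * suMat g = suMat g * suMat x := by
        rw [← suMat_mul, ← suMat_mul]
        congr 1
        group
      have h2 : unitaryTransvection n q (suMat g *ᵥ v) c * suMat g = suMat g * suMat x := by
        have hx' : suMat x = unitaryTransvection n q v c := hx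
        rw [hx', Matrix.ext_iff_mulVec]
        intro z
        rw [← Matrix.mulVec_mulVec, ← Matrix.mulVec_mulVec, unitaryTransvection_mulVec,
          unitaryTransvection_mulVec, suMat_isIsom, Matrix.mulVec_add, Matrix.mulVec_smul]
      change suMat (g * x * g⁻¹) = _
      calc suMat (g * x * g⁻¹) = suMat (g * x * g⁻¹) * (suMat g * suMat g⁻¹) := by
            rw [suMat_mul_inv, mul_one]
        _ = unitaryTransvection n q (suMat g *ᵥ v) c * (suMat g * suMat g⁻¹) := by
            rw [← mul_assoc, h1, ← h2, mul_assoc]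
        _ = _ := by rw [suMat_mul_inv, mul_one]
  | one => simp [one_mem]
  | mul x y _ _ hx hy =>
    have : g * (x * y) * g⁻¹ = (g * x * g⁻¹) * (g * y * g⁻¹) := by group
    rw [this]
    exact mul_mem hx hy
  | inv x _ hx =>
    have : g * x⁻¹ * g⁻¹ = (g * x * g⁻¹)⁻¹ := by group
    rw [this]
    exact inv_mem hx

/-- Conjugation invariance of `InT`: if `N` is in `SU` and `N M = M' N` with `M` in `TU` then `M'` is in
`TU`. -/
theorem InT.conj (n : ℕ) {M M' : Matrix (Fin n) (Fin n) F} (hM : InT n q M) (k : ↥(SU n F q))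
    (h : suMat k * M = M' * suMat k) : InT n q M' := by
  obtain ⟨g, hg, rfl⟩ := hM
  have hN := TU_normal hF n
  refine ⟨k * g * k⁻¹, hN.conj_mem g hg k, ?_⟩
  calc suMat (k * g * k⁻¹) = suMat k * suMat g * suMat k⁻¹ := rfl
    _ = M' * (suMat k * suMat k⁻¹) := by rw [h, mul_assoc]
    _ = M' := by rw [suMat_mul_inv, mul_one]

/-- Two matrices agreeing on a hyperbolic pair and on its orthogonal complement are equal. -/
theorem mat_ext_hyp (n : ℕ) (u w : Fin n → F) (huu : hermForm n F q u u = 0)
    (hww : hermForm n F q w w = 0) (huw : hermForm n F q u w = 1)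
    (A B : Matrix (Fin n) (Fin n) F) (hu : A *ᵥ u = B *ᵥ u) (hw : A *ᵥ w = B *ᵥ w)
    (hx : ∀ x, hermForm n F q x u = 0 → hermForm n F q x w = 0 → A *ᵥ x = B *ᵥ x) : A = B := by
  have hwu := hermForm_eq_one_symm hF n u w huw
  rw [Matrix.ext_iff_mulVec]
  intro x
  have hdec : x = hermForm n F q x w • u + hermForm n F q x u • w +
      (x - hermForm n F q x w • u - hermForm n F q x u • w) := by abel
  have h1 : hermForm n F q (x - hermForm n F q x w • u - hermForm n F q x u • w) u = 0 := by
    simp only [hermForm_sub_left, hermForm_smul_left, huu, hwu]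
    ring
  have h2 : hermForm n F q (x - hermForm n F q x w • u - hermForm n F q x u • w) w = 0 := by
    simp only [hermForm_sub_left, hermForm_smul_left, hww, huw]
    ring
  rw [hdec, Matrix.mulVec_add, Matrix.mulVec_add, Matrix.mulVec_smul, Matrix.mulVec_smul,
    Matrix.mulVec_add, Matrix.mulVec_add, Matrix.mulVec_smul, Matrix.mulVec_smul, hu, hw,
    hx _ h1 h2]

end

end Cfsg.Agent.Lib.helper99
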