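import Mathlib

set_option autoImplicit false

/-!
# Jordan bases for endomorphisms with `f³ = 0` (helper99)

Coefficient form: vectors `a i` (heads of chains of length three), `b j` (length two), `c l`
(length one) such that `a, f a, f² a, b, f b, c` is a basis.
-/

namespace Cfsg.Agent.Lib.helper99.Subf

variable {K V : Type*} [Field K] [AddCommGroup V] [Module K V] [FiniteDimensional K V]

/-- a basis of a submodule, in coefficient form -/
theorem sub_basis (U : Submodule K V) :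
    ∃ (r : ℕ) (u : Fin r → V), (∀ i, u i ∈ U) ∧
      (∀ α : Fin r → K, ∑ i, α i • u i = 0 → α = 0) ∧
      (∀ y ∈ U, ∃ α : Fin r → K, y = ∑ i, α i • u i) := by
  let B := Module.finBasis K U
  refine ⟨_, fun i => (B i : V), fun i => (B i).2, ?_, ?_⟩
  · intro α h
    have h1 : ∑ i, α i • B i = 0 := by
      apply Subtype.ext
      rw [Submodule.coe_sum]
      simpa using h
    funext i
    exact Fintype.linearIndependent_iff.1 B.linearIndependent α h1 i
  · intro y hy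
    refine ⟨fun i => B.repr ⟨y, hy⟩ i, ?_⟩
    have h1 := B.sum_repr ⟨y, hy⟩
    have h2 := congrArg Subtype.val h1
    rw [Submodule.coe_sum] at h2
    simpa using h2.symm

omit [FiniteDimensional K V] in
/-- a relative complement -/
theorem rel_compl (U W : Submodule K V) (hUW : U ≤ W) :
    ∃ U' : Submodule K V, U' ≤ W ∧ U ⊓ U' = ⊥ ∧ U ⊔ U' = W := by
  obtain ⟨q, hq⟩ := Submodule.exists_isCompl U
  refine ⟨q ⊓ W, inf_le_right, ?_, ?_⟩
  · rw [← inf_assoc, hq.inf_eq_bot, bot_inf_eq]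
  · rw [← sup_inf_assoc_of_le q hUW, hq.sup_eq_top, top_inf_eq]

omit [FiniteDimensional K V] in
theorem zero_of_inf_bot (U U' : Submodule K V) (h : U ⊓ U' = ⊥) (x y : V) (hx : x ∈ U)
    (hy : y ∈ U') (hxy : x + y = 0) : x = 0 ∧ y = 0 := by
  have hx' : x ∈ U' := by
    have : x = -y := eq_neg_of_add_eq_zero_left hxy
    rw [this]
    exact U'.neg_mem hy
  have h0 : x ∈ U ⊓ U' := ⟨hx, hx'⟩
  rw [h, Submodule.mem_bot] at h0
  refine ⟨h0, ?_⟩
  rw [h0, zero_add] at hxy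
  exact hxy

/-- Jordan basis for `f³ = 0` -/
theorem jb3 (f : V →ₗ[K] V) (hf : ∀ v, f (f (f v)) = 0) :
    ∃ (r3 r2 r1 : ℕ) (a : Fin r3 → V) (b : Fin r2 → V) (c : Fin r1 → V),
      (∀ j, f (f (b j)) = 0) ∧ (∀ l, f (c l) = 0) ∧
      (∀ (α α' α'' : Fin r3 → K) (β β' : Fin r2 → K) (γ : Fin r1 → K),
        ∑ i, (α i • a i + α' i • f (a i) + α'' i • f (f (a i)))
          + ∑ j, (β j • b j + β' j • f (b j)) + ∑ l, γ l • c l = 0 →
        α = 0 ∧ α' = 0 ∧ α'' = 0 ∧ β = 0 ∧ β' = 0 ∧ γ = 0) ∧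
      (∀ v : V, ∃ (α α' α'' : Fin r3 → K) (β β' : Fin r2 → K) (γ : Fin r1 → K),
        v = ∑ i, (α i • a i + α' i • f (a i) + α'' i • f (f (a i)))
          + ∑ j, (β j • b j + β' j • f (b j)) + ∑ l, γ l • c l) := by
  classical
  obtain ⟨U, hU⟩ : ∃ U : Submodule K V, U = LinearMap.range (f ∘ₗ f) := ⟨_, rfl⟩
  obtain ⟨W, hW⟩ : ∃ W : Submodule K V, W = LinearMap.range f ⊓ LinearMap.ker f := ⟨_, rfl⟩
  have hUW : U ≤ W := by
    rw [hU, hW]
    rintro _ ⟨y, rfl⟩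
    exact ⟨⟨f y, rfl⟩, LinearMap.mem_ker.2 (hf y)⟩
  have hWk : W ≤ LinearMap.ker f := by rw [hW]; exact inf_le_right
  obtain ⟨U', hU'W, hUU', hUsup⟩ := rel_compl U W hUW
  obtain ⟨U'', hU''k, hWU'', hWsup⟩ := rel_compl W (LinearMap.ker f) hWk
  obtain ⟨r3, u, huU, hui, hus⟩ := sub_basis U
  obtain ⟨r2, u', hu'U, hu'i, hu's⟩ := sub_basis U'
  obtain ⟨r1, u'', hu''U, hu''i, hu''s⟩ := sub_basis U''
  have ha : ∀ i, ∃ y, f (f y) = u i := by
    intro i
    have h := huU i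
    rw [hU] at h
    obtain ⟨y, hy⟩ := h
    exact ⟨y, hy⟩
  choose a haf using ha
  have hb : ∀ j, ∃ y, f y = u' j := by
    intro j
    have h := hU'W (hu'U j)
    rw [hW] at h
    obtain ⟨y, hy⟩ := h.1
    exact ⟨y, hy⟩
  choose b hbf using hb
  have hu'k : ∀ j, f (u' j) = 0 := by
    intro j
    have h := hU'W (hu'U j)
    rw [hW] at h
    exact LinearMap.mem_ker.1 h.2
  have hu''k : ∀ l, f (u'' l) = 0 := fun l => LinearMap.mem_ker.1 (hU''k (hu''U l))
  have huk : ∀ i, f (u i) = 0 := by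
    intro i
    rw [← haf i]
    exact hf _
  have hsumU : ∀ α : Fin r3 → K, ∑ i, α i • u i ∈ U :=
    fun α => U.sum_mem (fun i _ => U.smul_mem _ (huU i))
  have hsumU' : ∀ β : Fin r2 → K, ∑ j, β j • u' j ∈ U' :=
    fun β => U'.sum_mem (fun j _ => U'.smul_mem _ (hu'U j))
  have hsumU'' : ∀ γ : Fin r1 → K, ∑ l, γ l • u'' l ∈ U'' :=
    fun γ => U''.sum_mem (fun l _ => U''.smul_mem _ (hu''U l))
  refine ⟨r3, r2, r1, a, b, u'', ?_, hu''k, ?_, ?_⟩
  · intro j
    rw [hbf j]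
    exact hu'k j
  · intro α α' α'' β β' γ hsum
    simp only [haf, hbf] at hsum
    -- apply f twice
    have h1 := congrArg (fun v => f (f v)) hsum
    simp only [map_add, map_sum, map_smul, haf, hbf, huk, hu'k, hu''k, map_zero, smul_zero,
      add_zero, Finset.sum_const_zero, zero_add] at h1
    have hα := hui α h1
    subst hα
    have h2 := congrArg (fun v => f v) hsum
    simp only [map_add, map_sum, map_smul, haf, hbf, huk, hu'k, hu''k, map_zero, smul_zero,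
      add_zero, Finset.sum_const_zero, zero_add, Pi.zero_apply, zero_smul] at h2
    obtain ⟨h3, h4⟩ := zero_of_inf_bot U U' hUU' _ _ (hsumU α') (hsumU' β) h2
    have hα' := hui α' h3
    have hβ := hu'i β h4
    subst hα'
    subst hβ
    simp only [Pi.zero_apply, zero_smul, zero_add, Finset.sum_add_distrib] at hsum
    have h5 : ∑ i, α'' i • u i + ∑ j, β' j • u' j ∈ W := by
      rw [← hUsup]
      exact Submodule.add_mem_sup (hsumU α'') (hsumU' β')
    obtain ⟨h6, h7⟩ := zero_of_inf_bot W U'' hWU'' _ _ h5 (hsumU'' γ) hsum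
    obtain ⟨h8, h9⟩ := zero_of_inf_bot U U' hUU' _ _ (hsumU α'') (hsumU' β') h6
    exact ⟨rfl, rfl, hui α'' h8, rfl, hu'i β' h9, hu''i γ h7⟩
  · intro v
    obtain ⟨α, hα⟩ := hus (f (f v)) (by rw [hU]; exact ⟨v, rfl⟩)
    obtain ⟨v1, hv1⟩ : ∃ v1 : V, v1 = v - ∑ i, α i • a i := ⟨_, rfl⟩
    have hfv1 : f (f v1) = 0 := by
      rw [hv1, map_sub, map_sub, map_sum, map_sum, hα]
      simp only [map_smul, haf]
      exact sub_self _
    have hv1W : f v1 ∈ W := by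
      rw [hW]
      exact ⟨⟨v1, rfl⟩, LinearMap.mem_ker.2 hfv1⟩
    rw [← hUsup] at hv1W
    obtain ⟨x, hx, y, hy, hxy⟩ := Submodule.mem_sup.1 hv1W
    obtain ⟨α', hα'⟩ := hus x hx
    obtain ⟨β, hβ⟩ := hu's y hy
    obtain ⟨v2, hv2⟩ : ∃ v2 : V, v2 = v1 - ∑ i, α' i • f (a i) - ∑ j, β j • b j := ⟨_, rfl⟩
    have hfv2 : f v2 = 0 := by
      rw [hv2, map_sub, map_sub, map_sum, map_sum, ← hxy, hα', hβ]
      simp only [map_smul, haf, hbf]
      abel
    have hv2k : v2 ∈ LinearMap.ker f := LinearMap.mem_ker.2 hfv2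
    rw [← hWsup, ← hUsup] at hv2k
    obtain ⟨xy, hxy', z, hz, hxyz⟩ := Submodule.mem_sup.1 hv2k
    obtain ⟨x2, hx2, y2, hy2, hxy2⟩ := Submodule.mem_sup.1 hxy'
    obtain ⟨α'', hα''⟩ := hus x2 hx2
    obtain ⟨β', hβ'⟩ := hu's y2 hy2
    obtain ⟨γ, hγ⟩ := hu''s z hz
    refine ⟨α, α', α'', β, β', γ, ?_⟩
    simp only [haf, hbf, Finset.sum_add_distrib]
    rw [← hα'', ← hβ', ← hγ]
    have e1 : v = ∑ i, α i • a i + (∑ i, α' i • f (a i) + ∑ j, β j • b j + (x2 + y2 + z)) := by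
      rw [hxy2, hxyz, hv2, hv1]
      abel
    rw [e1]
    abel

end Cfsg.Agent.Lib.helper99.Subf
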