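import Mathlib
import Cfsg.Agent.Lib.helper99.SubfA

set_option autoImplicit false

/-!
# Jordan bases for matrices with `N³ = 0`, matrix form (helper99)
-/

namespace Cfsg.Agent.Lib.helper99.Subf

open Matrix

variable {K : Type*} [Field K] {n : ℕ}

/-- the index type of a Jordan basis: chains of length three, two and one -/
abbrev JIdx (r3 r2 r1 : ℕ) : Type := (Fin r3 × Fin 3) ⊕ ((Fin r2 × Fin 2) ⊕ Fin r1)

/-- the standard nilpotent matrix of chains of length `m` -/
def Jch (K : Type*) [Field K] (r m : ℕ) : Matrix (Fin r × Fin m) (Fin r × Fin m) K :=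
  Matrix.of (fun x y => if x.1 = y.1 ∧ (x.2 : ℕ) = (y.2 : ℕ) + 1 then 1 else 0)

theorem Jch_apply (r m : ℕ) (x y : Fin r × Fin m) :
    Jch K r m x y = if x.1 = y.1 ∧ (x.2 : ℕ) = (y.2 : ℕ) + 1 then 1 else 0 := rfl

/-- the standard nilpotent matrix -/
def Jst (K : Type*) [Field K] (r3 r2 r1 : ℕ) : Matrix (JIdx r3 r2 r1) (JIdx r3 r2 r1) K :=
  Matrix.fromBlocks (Jch K r3 3) 0 0 (Matrix.fromBlocks (Jch K r2 2) 0 0 0)

theorem Jst_zero_or_one (r3 r2 r1 : ℕ) (x y : JIdx r3 r2 r1) :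
    Jst K r3 r2 r1 x y = 0 ∨ Jst K r3 r2 r1 x y = 1 := by
  unfold Jst
  rcases x with x | x | x <;> rcases y with y | y | y <;> simp [Jch_apply] <;> tauto

/-- weights constant on chains -/
def wfun {r3 r2 r1 : ℕ} (w3 : Fin r3 → K) (w2 : Fin r2 → K) (w1 : Fin r1 → K) :
    JIdx r3 r2 r1 → K :=
  Sum.elim (fun x => w3 x.1) (Sum.elim (fun x => w2 x.1) w1)

theorem Jst_comm {r3 r2 r1 : ℕ} (w3 : Fin r3 → K) (w2 : Fin r2 → K) (w1 : Fin r1 → K) :
    Jst K r3 r2 r1 * Matrix.diagonal (wfun w3 w2 w1)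
      = Matrix.diagonal (wfun w3 w2 w1) * Jst K r3 r2 r1 := by
  ext x y
  rw [Matrix.mul_diagonal, Matrix.diagonal_mul]
  unfold Jst wfun
  rcases x with x | x | x <;> rcases y with y | y | y <;> simp [Jch_apply]
  · split_ifs with h
    · rw [h.1]
    · rfl
  · split_ifs with h
    · rw [h.1]
    · rfl

theorem wfun_prod {r3 r2 r1 : ℕ} (w3 : Fin r3 → K) (w2 : Fin r2 → K) (w1 : Fin r1 → K) :
    ∏ x, wfun w3 w2 w1 x = (∏ i, w3 i) ^ 3 * ((∏ j, w2 j) ^ 2 * ∏ l, w1 l) := by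
  unfold wfun
  rw [Fintype.prod_sum_type, Fintype.prod_sum_type, Fintype.prod_prod_type,
    Fintype.prod_prod_type]
  simp [Finset.prod_pow]

theorem sum_Jch (r m : ℕ) (g : Fin r × Fin m → K) (x : Fin r × Fin m) :
    ∑ y, g y * Jch K r m y x
      = if h : (x.2 : ℕ) + 1 < m then g (x.1, ⟨(x.2 : ℕ) + 1, h⟩) else 0 := by
  classical
  split_ifs with h
  · rw [Finset.sum_eq_single (x.1, (⟨(x.2 : ℕ) + 1, h⟩ : Fin m))]
    · simp [Jch_apply]
    · intro y _ hy
      rw [Jch_apply, if_neg, mul_zero]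
      rintro ⟨h1, h2⟩
      apply hy
      exact Prod.ext h1 (Fin.ext h2)
    · intro h'
      exact absurd (Finset.mem_univ _) h'
  · apply Finset.sum_eq_zero
    intro y _
    rw [Jch_apply, if_neg, mul_zero]
    rintro ⟨_, h2⟩
    exact h (by rw [← h2]; exact y.2.2)

/-- Jordan basis, matrix form -/
theorem jb3_mat (N : Matrix (Fin n) (Fin n) K) (hN : N * N * N = 0) :
    ∃ (r3 r2 r1 : ℕ) (e : JIdx r3 r2 r1 ≃ Fin n) (P : Matrix (Fin n) (JIdx r3 r2 r1) K),
      IsUnit (P.submatrix id e.symm) ∧ N * P = P * Jst K r3 r2 r1 ∧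
      n = 3 * r3 + 2 * r2 + r1 := by
  classical
  obtain ⟨r3, r2, r1, a, b, c, hb2, hc1, hind, hspan⟩ := jb3 (Matrix.mulVecLin N) (by
    intro v
    simp only [Matrix.mulVecLin_apply]
    rw [Matrix.mulVec_mulVec, Matrix.mulVec_mulVec, hN, Matrix.zero_mulVec])
  simp only [Matrix.mulVecLin_apply] at hb2 hc1 hind hspan
  have ha3 : ∀ i, N *ᵥ (N *ᵥ (N *ᵥ a i)) = 0 := by
    intro i
    rw [Matrix.mulVec_mulVec, Matrix.mulVec_mulVec, hN, Matrix.zero_mulVec]
  obtain ⟨col, hcol⟩ : ∃ col : JIdx r3 r2 r1 → (Fin n → K), col =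
      Sum.elim (fun x => ![a x.1, N *ᵥ a x.1, N *ᵥ (N *ᵥ a x.1)] x.2)
        (Sum.elim (fun x => ![b x.1, N *ᵥ b x.1] x.2) c) := ⟨_, rfl⟩
  have c30 : ∀ i, col (Sum.inl (i, 0)) = a i := fun i => by rw [hcol]; rfl
  have c31 : ∀ i, col (Sum.inl (i, 1)) = N *ᵥ a i := fun i => by rw [hcol]; rfl
  have c32 : ∀ i, col (Sum.inl (i, 2)) = N *ᵥ (N *ᵥ a i) := fun i => by rw [hcol]; rfl
  have c20 : ∀ j, col (Sum.inr (Sum.inl (j, 0))) = b j := fun j => by rw [hcol]; rfl
  have c21 : ∀ j, col (Sum.inr (Sum.inl (j, 1))) = N *ᵥ b j := fun j => by rw [hcol]; rfl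
  have c1 : ∀ l, col (Sum.inr (Sum.inr l)) = c l := fun l => by rw [hcol]; rfl
  have hli : LinearIndependent K col := by
    rw [Fintype.linearIndependent_iff]
    intro g hg
    rw [Fintype.sum_sum_type, Fintype.sum_sum_type, Fintype.sum_prod_type,
      Fintype.sum_prod_type] at hg
    simp only [Fin.sum_univ_three, Fin.sum_univ_two, c30, c31, c32, c20, c21, c1] at hg
    rw [← add_assoc] at hg
    obtain ⟨h1, h2, h3, h4, h5, h6⟩ := hind (fun i => g (Sum.inl (i, 0)))
      (fun i => g (Sum.inl (i, 1))) (fun i => g (Sum.inl (i, 2)))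
      (fun j => g (Sum.inr (Sum.inl (j, 0)))) (fun j => g (Sum.inr (Sum.inl (j, 1))))
      (fun l => g (Sum.inr (Sum.inr l))) hg
    rintro (⟨i, k⟩ | ⟨j, k⟩ | l)
    · fin_cases k
      · exact congrFun h1 i
      · exact congrFun h2 i
      · exact congrFun h3 i
    · fin_cases k
      · exact congrFun h4 j
      · exact congrFun h5 j
    · exact congrFun h6 l
  have hsp : ⊤ ≤ Submodule.span K (Set.range col) := by
    intro v _
    obtain ⟨α, α', α'', β, β', γ, hv⟩ := hspan v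
    rw [hv]
    have hmem : ∀ x, col x ∈ Submodule.span K (Set.range col) :=
      fun x => Submodule.subset_span ⟨x, rfl⟩
    refine Submodule.add_mem _ (Submodule.add_mem _ (Submodule.sum_mem _ fun i _ => ?_)
      (Submodule.sum_mem _ fun j _ => ?_)) (Submodule.sum_mem _ fun l _ => ?_)
    · rw [← c32, ← c31, ← c30]
      exact Submodule.add_mem _ (Submodule.add_mem _ (Submodule.smul_mem _ _ (hmem _))
        (Submodule.smul_mem _ _ (hmem _))) (Submodule.smul_mem _ _ (hmem _))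
    · rw [← c21, ← c20]
      exact Submodule.add_mem _ (Submodule.smul_mem _ _ (hmem _)) (Submodule.smul_mem _ _ (hmem _))
    · rw [← c1]
      exact Submodule.smul_mem _ _ (hmem _)
  have hcard : Fintype.card (JIdx r3 r2 r1) = n := by
    have h := Module.finrank_eq_card_basis (Module.Basis.mk hli hsp)
    rw [Module.finrank_fin_fun] at h
    exact h.symm
  refine ⟨r3, r2, r1, Fintype.equivFinOfCardEq hcard, Matrix.of (fun i x => col x i), ?_, ?_, ?_⟩
  · rw [← Matrix.linearIndependent_cols_iff_isUnit]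
    have e1 : ((Matrix.of (fun i x => col x i)).submatrix id
        (Fintype.equivFinOfCardEq hcard).symm).col = col ∘ (Fintype.equivFinOfCardEq hcard).symm := by
      ext j i
      rfl
    rw [e1]
    exact hli.comp _ (Fintype.equivFinOfCardEq hcard).symm.injective
  · ext i x
    have eL : (N * Matrix.of (fun i x => col x i)) i x = (N *ᵥ col x) i := rfl
    rw [eL, Matrix.mul_apply, Fintype.sum_sum_type, Fintype.sum_sum_type]
    rcases x with ⟨i0, k⟩ | ⟨j0, k⟩ | l
    · have e3 : ∀ y : Fin r3 × Fin 3, Jst K r3 r2 r1 (Sum.inl y) (Sum.inl (i0, k))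
          = Jch K r3 3 y (i0, k) := fun y => rfl
      have e2 : ∀ y : Fin r2 × Fin 2, Jst K r3 r2 r1 (Sum.inr (Sum.inl y)) (Sum.inl (i0, k))
          = 0 := fun y => rfl
      have e1 : ∀ y : Fin r1, Jst K r3 r2 r1 (Sum.inr (Sum.inr y)) (Sum.inl (i0, k))
          = 0 := fun y => rfl
      simp only [e3, e2, e1, mul_zero, Finset.sum_const_zero, add_zero, Matrix.of_apply]
      rw [sum_Jch r3 3 (fun y => col (Sum.inl y) i) (i0, k)]
      fin_cases k
      · simp [c30, c31]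
      · simp [c31, c32]
      · have h0 : N * (N * N) = 0 := by rw [← Matrix.mul_assoc, hN]
        simp [c32, h0]
    · have e3 : ∀ y : Fin r3 × Fin 3, Jst K r3 r2 r1 (Sum.inl y) (Sum.inr (Sum.inl (j0, k)))
          = 0 := fun y => rfl
      have e2 : ∀ y : Fin r2 × Fin 2, Jst K r3 r2 r1 (Sum.inr (Sum.inl y))
          (Sum.inr (Sum.inl (j0, k))) = Jch K r2 2 y (j0, k) := fun y => rfl
      have e1 : ∀ y : Fin r1, Jst K r3 r2 r1 (Sum.inr (Sum.inr y)) (Sum.inr (Sum.inl (j0, k)))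
          = 0 := fun y => rfl
      simp only [e3, e2, e1, mul_zero, Finset.sum_const_zero, add_zero, zero_add, Matrix.of_apply]
      rw [sum_Jch r2 2 (fun y => col (Sum.inr (Sum.inl y)) i) (j0, k)]
      fin_cases k
      · simp [c20, c21]
      · simp [c21, hb2]
    · have e3 : ∀ y : Fin r3 × Fin 3, Jst K r3 r2 r1 (Sum.inl y) (Sum.inr (Sum.inr l))
          = 0 := fun y => rfl
      have e2 : ∀ y : Fin r2 × Fin 2, Jst K r3 r2 r1 (Sum.inr (Sum.inl y))
          (Sum.inr (Sum.inr l)) = 0 := fun y => rfl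
      have e1 : ∀ y : Fin r1, Jst K r3 r2 r1 (Sum.inr (Sum.inr y)) (Sum.inr (Sum.inr l))
          = 0 := fun y => rfl
      simp only [e3, e2, e1, mul_zero, Finset.sum_const_zero, add_zero]
      rw [c1, hc1]
      rfl
  · have h := hcard
    simp only [Fintype.card_sum, Fintype.card_prod, Fintype.card_fin] at h
    omega

end Cfsg.Agent.Lib.helper99.Subf
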