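import Mathlib
import Cfsg.Agent.Lib.helper99.SubfB

set_option autoImplicit false

/-!
# Conjugating nilpotent matrices of index three into a subfield by `SL_n` (helper99)
-/

namespace Cfsg.Agent.Lib.helper99.Subf

open Matrix

variable {F : Type*} [Field F]

theorem prod_update_one {ι : Type*} [Fintype ι] [DecidableEq ι] (i : ι) (t : F) :
    ∏ x, Function.update (fun _ : ι => (1 : F)) i t x = t := by
  rw [Fintype.prod_eq_single i]
  · simp
  · intro x hx
    simp [Function.update_of_ne hx]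

/-- conjugating a matrix with `N³ = 0` into the matrices over a subfield by a matrix of
determinant one -/
theorem exists_sl_conj (F₀ : Subfield F) {n : ℕ} (hn : 0 < n) (N : Matrix (Fin n) (Fin n) F)
    (hN : N * N * N = 0) (h3 : ∀ t : F, t ≠ 0 → ∃ l : F, l ^ 3 = t)
    (h2 : Even n → ∀ t : F, t ≠ 0 → ∃ l μ : F, μ ∈ F₀ ∧ l ^ 2 * μ = t) :
    ∃ Q : Matrix (Fin n) (Fin n) F, Q.det = 1 ∧ ∀ i j, (Q⁻¹ * N * Q) i j ∈ F₀ := by
  classical
  obtain ⟨r3, r2, r1, e, P, hP, hNP, hcount⟩ := jb3_mat N hN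
  obtain ⟨δ, hδ⟩ : ∃ δ : F, δ = (P.submatrix id e.symm).det := ⟨_, rfl⟩
  have hδ0 : δ ≠ 0 := by
    rw [hδ]
    exact ((Matrix.isUnit_iff_isUnit_det _).1 hP).ne_zero
  have hw : ∃ (w3 : Fin r3 → F) (w2 : Fin r2 → F) (w1 : Fin r1 → F) (m : Fin n → F),
      (∀ i, m i ∈ F₀) ∧ (∀ i, m i ≠ 0) ∧
      δ * ((∏ i, w3 i) ^ 3 * ((∏ j, w2 j) ^ 2 * ∏ l, w1 l)) * ∏ i, m i = 1 := by
    by_cases h1 : 0 < r1
    · refine ⟨fun _ => 1, fun _ => 1, Function.update (fun _ => 1) ⟨0, h1⟩ δ⁻¹, fun _ => 1,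
        fun _ => F₀.one_mem, fun _ => one_ne_zero, ?_⟩
      rw [prod_update_one]
      simp [hδ0]
    · by_cases h3' : 0 < r3
      · obtain ⟨l, hl⟩ := h3 δ⁻¹ (inv_ne_zero hδ0)
        refine ⟨Function.update (fun _ => 1) ⟨0, h3'⟩ l, fun _ => 1, fun _ => 1, fun _ => 1,
          fun _ => F₀.one_mem, fun _ => one_ne_zero, ?_⟩
        rw [prod_update_one, hl]
        simp [hδ0]
      · have hr2 : 0 < r2 := by omega
        have heven : Even n := ⟨r2, by omega⟩
        obtain ⟨l, μ, hμ, hl⟩ := h2 heven δ⁻¹ (inv_ne_zero hδ0)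
        have hμ0 : μ ≠ 0 := by
          rintro rfl
          rw [mul_zero] at hl
          exact inv_ne_zero hδ0 hl.symm
        refine ⟨fun _ => 1, Function.update (fun _ => 1) ⟨0, hr2⟩ l, fun _ => 1,
          Function.update (fun _ => 1) ⟨0, hn⟩ μ, ?_, ?_, ?_⟩
        · intro i
          by_cases hi : i = ⟨0, hn⟩
          · rw [hi, Function.update_self]
            exact hμ
          · rw [Function.update_of_ne hi]
            exact F₀.one_mem
        · intro i
          by_cases hi : i = ⟨0, hn⟩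
          · rw [hi, Function.update_self]
            exact hμ0
          · rw [Function.update_of_ne hi]
            exact one_ne_zero
        · rw [prod_update_one, prod_update_one]
          simp only [Finset.prod_const_one, one_pow, one_mul, mul_one]
          rw [mul_assoc, hl, mul_inv_cancel₀ hδ0]
  obtain ⟨w3, w2, w1, m, hmF, hm0, hprod⟩ := hw
  obtain ⟨Q₁, hQ₁⟩ : ∃ Q₁ : Matrix (Fin n) (Fin n) F,
      Q₁ = (P * Matrix.diagonal (wfun w3 w2 w1)).submatrix id e.symm := ⟨_, rfl⟩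
  obtain ⟨J₁, hJ₁⟩ : ∃ J₁ : Matrix (Fin n) (Fin n) F,
      J₁ = (Jst F r3 r2 r1).submatrix e.symm e.symm := ⟨_, rfl⟩
  have hQ₁det : Q₁.det = δ * ((∏ i, w3 i) ^ 3 * ((∏ j, w2 j) ^ 2 * ∏ l, w1 l)) := by
    have e1 : Q₁ = P.submatrix id e.symm
        * (Matrix.diagonal (wfun w3 w2 w1)).submatrix e.symm e.symm := by
      rw [hQ₁, Matrix.submatrix_mul_equiv]
    rw [e1, Matrix.det_mul, Matrix.det_submatrix_equiv_self, Matrix.det_diagonal, wfun_prod, hδ]
  have hNQ₁ : N * Q₁ = Q₁ * J₁ := by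
    have e1 : N * Q₁ = (N * (P * Matrix.diagonal (wfun w3 w2 w1))).submatrix id e.symm := by
      rw [hQ₁]
      rfl
    rw [e1, ← Matrix.mul_assoc, hNP, Matrix.mul_assoc, Jst_comm, ← Matrix.mul_assoc, hQ₁, hJ₁,
      Matrix.submatrix_mul_equiv]
  refine ⟨Q₁ * Matrix.diagonal m, ?_, ?_⟩
  · rw [Matrix.det_mul, Matrix.det_diagonal, hQ₁det]
    exact hprod
  · have hQdet : (Q₁ * Matrix.diagonal m).det = 1 := by
      rw [Matrix.det_mul, Matrix.det_diagonal, hQ₁det]
      exact hprod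
    have hu : IsUnit (Q₁ * Matrix.diagonal m).det := by rw [hQdet]; exact isUnit_one
    have e2 : N * (Q₁ * Matrix.diagonal m) = (Q₁ * Matrix.diagonal m)
        * (Matrix.diagonal (fun i => (m i)⁻¹) * J₁ * Matrix.diagonal m) := by
      have e3 : Matrix.diagonal m * Matrix.diagonal (fun i => (m i)⁻¹) = 1 := by
        rw [Matrix.diagonal_mul_diagonal]
        have : (fun i => m i * (m i)⁻¹) = fun _ => (1 : F) := by
          funext i
          exact mul_inv_cancel₀ (hm0 i)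
        rw [this, Matrix.diagonal_one]
      calc N * (Q₁ * Matrix.diagonal m) = Q₁ * J₁ * Matrix.diagonal m := by
            rw [← Matrix.mul_assoc, hNQ₁]
        _ = Q₁ * (Matrix.diagonal m * Matrix.diagonal (fun i => (m i)⁻¹)) * J₁
              * Matrix.diagonal m := by rw [e3, Matrix.mul_one]
        _ = _ := by simp only [Matrix.mul_assoc]
    intro i j
    rw [Matrix.mul_assoc, e2, ← Matrix.mul_assoc, Matrix.nonsing_inv_mul _ hu, Matrix.one_mul,
      Matrix.mul_diagonal, Matrix.diagonal_mul, hJ₁, Matrix.submatrix_apply]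
    rcases Jst_zero_or_one (K := F) r3 r2 r1 (e.symm i) (e.symm j) with h | h
    · rw [h, mul_zero, zero_mul]
      exact F₀.zero_mem
    · rw [h, mul_one]
      exact F₀.mul_mem (F₀.inv_mem (hmF i)) (hmF j)

end Cfsg.Agent.Lib.helper99.Subf
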