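import Mathlib
import Cfsg.Agent.Lib.helper99.SubfC

set_option autoImplicit false

/-!
# Subfields of finite fields: fixed points of Frobenius, norms and squares (helper99)
-/

namespace Cfsg.Agent.Lib.helper99.Subf

open Matrix

variable {F : Type*} [Field F] [Fintype F]

theorem pow_card_subfield (F₀ : Subfield F) (a : F) (ha : a ∈ F₀) : a ^ Nat.card F₀ = a := by
  classical
  let _ : Fintype ↥F₀ := Fintype.ofFinite _
  have h1 : (⟨a, ha⟩ : ↥F₀) ^ Fintype.card ↥F₀ = ⟨a, ha⟩ := FiniteField.pow_card _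
  rw [← Nat.card_eq_fintype_card] at h1
  exact congrArg Subtype.val h1

theorem two_le_card_subfield (F₀ : Subfield F) : 2 ≤ Nat.card F₀ := by
  classical
  let _ : Fintype ↥F₀ := Fintype.ofFinite _
  rw [Nat.card_eq_fintype_card]
  exact Fintype.one_lt_card

/-- a subfield of a finite field is the set of fixed points of its Frobenius -/
theorem mem_subfield_of_pow (F₀ : Subfield F) (a : F) (h : a ^ Nat.card F₀ = a) : a ∈ F₀ := by
  classical
  have hq2 := two_le_card_subfield F₀
  obtain ⟨q, hq⟩ : ∃ q : ℕ, q = Nat.card F₀ := ⟨_, rfl⟩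
  rw [← hq] at h hq2
  have hne : (Polynomial.X ^ q - Polynomial.X : Polynomial F) ≠ 0 :=
    FiniteField.X_pow_card_sub_X_ne_zero F (by omega)
  have hsub : (F₀ : Set F) ⊆ {a : F | a ^ q = a} := by
    intro b hb
    show b ^ q = b
    rw [hq]
    exact pow_card_subfield F₀ b hb
  have hle : ({a : F | a ^ q = a} : Set F).ncard ≤ (F₀ : Set F).ncard := by
    have h1 : ({a : F | a ^ q = a} : Set F) ⊆
        ↑((Polynomial.X ^ q - Polynomial.X : Polynomial F).roots.toFinset) := by
      intro a ha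
      simp only [Finset.mem_coe, Multiset.mem_toFinset, Polynomial.mem_roots hne,
        Polynomial.IsRoot, Polynomial.eval_sub, Polynomial.eval_pow, Polynomial.eval_X]
      exact sub_eq_zero.mpr ha
    calc ({a : F | a ^ q = a} : Set F).ncard
        ≤ (↑((Polynomial.X ^ q - Polynomial.X : Polynomial F).roots.toFinset) : Set F).ncard :=
          Set.ncard_le_ncard h1 (Finset.finite_toSet _)
      _ = ((Polynomial.X ^ q - Polynomial.X : Polynomial F).roots.toFinset).card :=
          Set.ncard_coe_finset _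
      _ ≤ Multiset.card (Polynomial.X ^ q - Polynomial.X : Polynomial F).roots :=
          Multiset.toFinset_card_le _
      _ ≤ (Polynomial.X ^ q - Polynomial.X : Polynomial F).natDegree := Polynomial.card_roots' _
      _ = q := FiniteField.X_pow_card_sub_X_natDegree_eq F (by omega)
      _ = (F₀ : Set F).ncard := by
          rw [hq]
          rfl
  have heq : (F₀ : Set F) = {a : F | a ^ q = a} :=
    Set.eq_of_subset_of_ncard_le hsub hle (Set.toFinite _)
  have : a ∈ ({a : F | a ^ q = a} : Set F) := h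
  rw [← heq] at this
  exact this

/-- cube roots in characteristic three -/
theorem exists_cube_root_char3 [CharP F 3] (t : F) : ∃ l : F, l ^ 3 = t := by
  have : Fact (Nat.Prime 3) := ⟨by norm_num⟩
  have hinj : Function.Injective (frobenius F 3) := frobenius_inj F 3
  obtain ⟨l, hl⟩ := (Finite.injective_iff_surjective.1 hinj) t
  exact ⟨l, by rw [← hl, frobenius_def]⟩

theorem geom_parity (q₀ k : ℕ) (hq : q₀ % 2 = 1) :
    (∑ j ∈ Finset.range k, q₀ ^ j) % 2 = k % 2 := by
  induction k with
  | zero => simp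
  | succ k ih =>
    rw [Finset.sum_range_succ, Nat.add_mod, ih, Nat.pow_mod, hq, one_pow]
    omega

theorem geom_mul (q₀ k : ℕ) :
    q₀ * (∑ j ∈ Finset.range k, q₀ ^ j) + 1 = (∑ j ∈ Finset.range k, q₀ ^ j) + q₀ ^ k := by
  induction k with
  | zero => simp
  | succ k ih =>
    rw [Finset.sum_range_succ, mul_add, pow_succ]
    linarith

/-- for an extension of odd degree of finite fields of odd order, every non-zero element is a
square times an element of the subfield -/
theorem exists_sq_mul (F₀ : Subfield F) (k : ℕ) (hcard : Fintype.card F = Nat.card F₀ ^ k)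
    (hk : k % 2 = 1) (hq : Nat.card F₀ % 2 = 1) (t : F) (ht : t ≠ 0) :
    ∃ l μ : F, μ ∈ F₀ ∧ l ^ 2 * μ = t := by
  obtain ⟨S, hS⟩ : ∃ S : ℕ, S = ∑ j ∈ Finset.range k, Nat.card F₀ ^ j := ⟨_, rfl⟩
  have hpar : S % 2 = 1 := by rw [hS, geom_parity _ k hq, hk]
  have hmul : Nat.card F₀ * S + 1 = S + Fintype.card F := by rw [hS, hcard, geom_mul]
  have hμ : (t ^ S) ^ Nat.card F₀ = t ^ S := by
    have h1 : t ^ (Nat.card F₀ * S + 1) = t ^ (S + Fintype.card F) := by rw [hmul]
    rw [pow_succ, pow_add, FiniteField.pow_card, mul_comm (Nat.card F₀) S, pow_mul] at h1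
    exact mul_right_cancel₀ ht h1
  refine ⟨(t⁻¹) ^ (S / 2), t ^ S, mem_subfield_of_pow F₀ _ hμ, ?_⟩
  have hS2 : S = 2 * (S / 2) + 1 := by omega
  rw [← pow_mul, mul_comm (S / 2) 2]
  nth_rewrite 2 [hS2]
  rw [pow_succ, inv_pow, ← mul_assoc, inv_mul_cancel₀ (pow_ne_zero _ ht), one_mul]

/-- in a quadratic extension of finite fields of odd order every element of the subfield is a
square -/
theorem isSquare_of_mem (F₀ : Subfield F) (hcard : Fintype.card F = Nat.card F₀ ^ 2)
    (hq : Nat.card F₀ % 2 = 1) (y : F) (hy : y ∈ F₀) : IsSquare y := by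
  classical
  by_cases hy0 : y = 0
  · rw [hy0]
    exact ⟨0, by simp⟩
  have hchar : ringChar F ≠ 2 := by
    intro h2
    have hdvd : ringChar F ∣ Fintype.card F := by
      have : CharP F (ringChar F) := ringChar.charP F
      have := FiniteField.card F (ringChar F)
      obtain ⟨m, hp, hm⟩ := this
      rw [hm]
      exact dvd_pow_self _ m.pos.ne'
    rw [h2, hcard] at hdvd
    have := (Nat.Prime.dvd_of_dvd_pow Nat.prime_two hdvd)
    omega
  rw [FiniteField.isSquare_iff hchar hy0, hcard]
  have h1 : y ^ (Nat.card F₀ - 1) = 1 := by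
    have h2 := pow_card_subfield F₀ y hy
    have hq2 := two_le_card_subfield F₀
    have h3 : y ^ (Nat.card F₀ - 1) * y = 1 * y := by
      rw [← pow_succ, Nat.sub_add_cancel (by omega), h2, one_mul]
    exact mul_right_cancel₀ hy0 h3
  have e : Nat.card F₀ ^ 2 / 2 = (Nat.card F₀ - 1) * ((Nat.card F₀ + 1) / 2) := by
    obtain ⟨s, hs⟩ : ∃ s, Nat.card F₀ = 2 * s + 1 := ⟨Nat.card F₀ / 2, by omega⟩
    rw [hs]
    have e1 : (2 * s + 1) ^ 2 = 2 * (2 * s * (s + 1)) + 1 := by ring
    have e2 : (2 * s + 1 + 1) / 2 = s + 1 := by omega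
    rw [e1, e2]
    have e3 : (2 * (2 * s * (s + 1)) + 1) / 2 = 2 * s * (s + 1) := by omega
    rw [e3]
    simp
  rw [e, pow_mul, h1, one_pow]

end Cfsg.Agent.Lib.helper99.Subf
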