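import Mathlib

set_option autoImplicit false

/-!
# Rank invariants of nilpotent endomorphisms (helper99)

`cc G U k = dim (G^k U ∩ ker G)` (the number of Jordan blocks of size `> k` of `G` on an
invariant subspace `U`); additivity over invariant decompositions, monotonicity, and the
resulting sub-partition statement.  Also a rank bound for `(X - 1)^(p-1)` when `X` permutes
independent subspaces in a `p`-cycle.
-/

namespace Cfsg.Agent.Lib.helper99.Jord

open Module

section Abstract

variable {F : Type*} [Field F] {V : Type*} [AddCommGroup V] [Module F V] [FiniteDimensional F V]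

/-- `dim G^k U` -/
noncomputable def rho (G : Module.End F V) (U : Submodule F V) (k : ℕ) : ℕ :=
  finrank F ↥(U.map (G ^ k))

/-- `dim (G^k U ∩ ker G)` -/
noncomputable def cc (G : Module.End F V) (U : Submodule F V) (k : ℕ) : ℕ :=
  finrank F ↥(U.map (G ^ k) ⊓ LinearMap.ker G)

theorem finrank_map_add (G : Module.End F V) (A : Submodule F V) :
    finrank F ↥(A.map G) + finrank F ↥(A ⊓ LinearMap.ker G) = finrank F ↥A := by
  have h := LinearMap.finrank_range_add_finrank_ker (G.domRestrict A)
  rw [LinearMap.range_domRestrict, LinearMap.ker_domRestrict] at h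
  have e : finrank F ↥((LinearMap.ker G).comap A.subtype) = finrank F ↥(A ⊓ LinearMap.ker G) := by
    have h1 : (LinearMap.ker G).comap A.subtype = (A ⊓ LinearMap.ker G).comap A.subtype := by
      rw [Submodule.comap_inf, Submodule.comap_subtype_self, top_inf_eq]
    rw [h1]
    exact LinearEquiv.finrank_eq (Submodule.comapSubtypeEquivOfLe inf_le_left)
  rw [← e]
  exact h

theorem rho_succ (G : Module.End F V) (U : Submodule F V) (k : ℕ) :
    rho G U k = rho G U (k + 1) + cc G U k := by
  unfold rho cc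
  have h : U.map (G ^ (k + 1)) = (U.map (G ^ k)).map G := by
    rw [pow_succ', Module.End.mul_eq_comp, Submodule.map_comp]
  rw [h]
  exact (finrank_map_add G (U.map (G ^ k))).symm

theorem rho_zero (G : Module.End F V) (U : Submodule F V) : rho G U 0 = finrank F ↥U := by
  unfold rho
  rw [pow_zero, Module.End.one_eq_id, Submodule.map_id]

theorem rho_of_pow_eq_zero (G : Module.End F V) (U : Submodule F V) (P : ℕ) (hP : G ^ P = 0) :
    rho G U P = 0 := by
  unfold rho
  rw [hP, Submodule.map_zero, finrank_bot]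

theorem cc_of_pow_eq_zero (G : Module.End F V) (U : Submodule F V) (P : ℕ) (hP : G ^ P = 0) :
    cc G U P = 0 := by
  unfold cc
  rw [hP, Submodule.map_zero, bot_inf_eq, finrank_bot]

theorem sum_cc (G : Module.End F V) (U : Submodule F V) (P : ℕ) (hP : G ^ P = 0) :
    ∑ k ∈ Finset.range P, cc G U k = finrank F ↥U := by
  have h : ∀ m, rho G U 0 = rho G U m + ∑ k ∈ Finset.range m, cc G U k := by
    intro m
    induction m with
    | zero => simp
    | succ m ih => rw [Finset.sum_range_succ, ih, rho_succ G U m]; ring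
  have h2 := h P
  rw [rho_zero, rho_of_pow_eq_zero G U P hP, zero_add] at h2
  exact h2.symm

theorem map_pow_le (G : Module.End F V) (U : Submodule F V) (hU : ∀ u ∈ U, G u ∈ U) (k : ℕ) :
    U.map (G ^ k) ≤ U := by
  induction k with
  | zero => rw [pow_zero, Module.End.one_eq_id, Submodule.map_id]
  | succ k ih =>
    rw [pow_succ', Module.End.mul_eq_comp, Submodule.map_comp]
    rintro _ ⟨w, hw, rfl⟩
    exact hU w (ih hw)

theorem cc_antitone (G : Module.End F V) (U : Submodule F V) (hU : ∀ u ∈ U, G u ∈ U) (k : ℕ) :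
    cc G U (k + 1) ≤ cc G U k := by
  unfold cc
  apply Submodule.finrank_mono
  apply inf_le_inf_right
  rw [pow_succ, Module.End.mul_eq_comp, Submodule.map_comp]
  apply Submodule.map_mono
  rintro _ ⟨u, hu, rfl⟩
  exact hU u hu

theorem rho_add (G : Module.End F V) (W W' : Submodule F V) (hW : ∀ u ∈ W, G u ∈ W)
    (hW' : ∀ u ∈ W', G u ∈ W') (hsup : W ⊔ W' = ⊤) (hdisj : Disjoint W W') (k : ℕ) :
    rho G ⊤ k = rho G W k + rho G W' k := by
  unfold rho
  rw [← hsup, Submodule.map_sup]
  have hd : Disjoint (W.map (G ^ k)) (W'.map (G ^ k)) :=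
    hdisj.mono (map_pow_le G W hW k) (map_pow_le G W' hW' k)
  have h := Submodule.finrank_sup_add_finrank_inf_eq (W.map (G ^ k)) (W'.map (G ^ k))
  rw [hd.eq_bot, finrank_bot, add_zero] at h
  exact h

theorem cc_add (G : Module.End F V) (W W' : Submodule F V) (hW : ∀ u ∈ W, G u ∈ W)
    (hW' : ∀ u ∈ W', G u ∈ W') (hsup : W ⊔ W' = ⊤) (hdisj : Disjoint W W') (k : ℕ) :
    cc G ⊤ k = cc G W k + cc G W' k := by
  have h1 := rho_add G W W' hW hW' hsup hdisj k
  have h2 := rho_add G W W' hW hW' hsup hdisj (k + 1)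
  have h3 := rho_succ G ⊤ k
  have h4 := rho_succ G W k
  have h5 := rho_succ G W' k
  omega

/-- the multiset with `c k - c (k+1)` parts equal to `k + 1`, `k < P` -/
def nu (c : ℕ → ℕ) (P : ℕ) : Multiset ℕ :=
  ∑ k ∈ Finset.range P, Multiset.replicate (c k - c (k + 1)) (k + 1)

theorem nu_sum (c : ℕ → ℕ) (hc : ∀ k, c (k + 1) ≤ c k) (P : ℕ) :
    (nu c P).sum + P * c P = ∑ k ∈ Finset.range P, c k := by
  induction P with
  | zero => simp [nu]
  | succ P ih =>
    unfold nu at ih ⊢
    rw [Finset.sum_range_succ, Multiset.sum_add, Multiset.sum_replicate, Finset.sum_range_succ, ← ih]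
    obtain ⟨d, hd⟩ := Nat.exists_eq_add_of_le (hc P)
    rw [hd, Nat.add_sub_cancel_left, smul_eq_mul]
    ring

theorem nu_count (c : ℕ → ℕ) (P j : ℕ) :
    (nu c P).count j = if 1 ≤ j ∧ j ≤ P then c (j - 1) - c j else 0 := by
  unfold nu
  rw [Multiset.count_sum']
  simp only [Multiset.count_replicate]
  split_ifs with h
  · rw [Finset.sum_eq_single (j - 1)]
    · have h1 : j - 1 + 1 = j := by omega
      simp [h1]
    · intro k _ hk
      rw [if_neg]
      omega
    · intro hn
      exact absurd (Finset.mem_range.2 (by omega)) hn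
  · apply Finset.sum_eq_zero
    intro k hk
    rw [Finset.mem_range] at hk
    rw [if_neg]
    omega

/-- Krull–Schmidt for nilpotent endomorphisms, in the form needed: if `μ` is the Jordan type
of `G` (read off from the invariants `cc G ⊤`) and `W` is an invariant subspace with an invariant
complement, some sub-multiset of `μ` sums to `dim W`. -/
theorem exists_sub_partition (G : Module.End F V) (P : ℕ) (hP : G ^ P = 0)
    (W W' : Submodule F V) (hW : ∀ u ∈ W, G u ∈ W) (hW' : ∀ u ∈ W', G u ∈ W')
    (hsup : W ⊔ W' = ⊤) (hdisj : Disjoint W W') (μ : Multiset ℕ)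
    (hμ : ∀ j, 1 ≤ j → j ≤ P → cc G ⊤ (j - 1) = cc G ⊤ j + μ.count j) :
    ∃ ν : Multiset ℕ, ν ≤ μ ∧ ν.sum = finrank F ↥W := by
  refine ⟨nu (cc G W) P, ?_, ?_⟩
  · rw [Multiset.le_iff_count]
    intro j
    rw [nu_count]
    split_ifs with h
    · have h1 := hμ j h.1 h.2
      have h2 := cc_add G W W' hW hW' hsup hdisj (j - 1)
      have h3 := cc_add G W W' hW hW' hsup hdisj j
      have h4 := cc_antitone G W' hW' (j - 1)
      have h5 : j - 1 + 1 = j := by omega
      rw [h5] at h4
      omega
    · exact Nat.zero_le _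
  · have h := nu_sum (cc G W) (cc_antitone G W hW) P
    rw [cc_of_pow_eq_zero G W P hP, mul_zero, add_zero, sum_cc G W P hP] at h
    exact h

theorem geom_eq (p : ℕ) [Fact p.Prime] [CharP F p] (X : Module.End F V) :
    (X - 1) ^ (p - 1) = ∑ i ∈ Finset.range p, X ^ i := by
  have hpoly : ((Polynomial.X : Polynomial F) - 1) ^ (p - 1)
      = ∑ i ∈ Finset.range p, (Polynomial.X : Polynomial F) ^ i := by
    have h1 : ((Polynomial.X : Polynomial F) - 1) * (Polynomial.X - 1) ^ (p - 1)
        = (Polynomial.X - 1) * ∑ i ∈ Finset.range p, (Polynomial.X : Polynomial F) ^ i := by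
      rw [← pow_succ', Nat.sub_add_cancel (Fact.out : p.Prime).one_le, sub_pow_char, one_pow,
        mul_geom_sum]
    have hne : (Polynomial.X : Polynomial F) - 1 ≠ 0 := by
      have := Polynomial.X_sub_C_ne_zero (1 : F)
      simpa using this
    exact mul_left_cancel₀ hne h1
  have h2 := congrArg (Polynomial.aeval X) hpoly
  simpa using h2

/-- if `X` moves `D j₀` around a `p`-cycle of independent subspaces then `(X-1)^(p-1)` is
injective on `D j₀` -/
theorem finrank_le_of_cycle (p : ℕ) [Fact p.Prime] [CharP F p] (X : Module.End F V) {t : ℕ}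
    (D : Fin t → Submodule F V) (hind : iSupIndep D) (σ : Equiv.Perm (Fin t))
    (hσ : ∀ j, (D j).map X = D (σ j)) (j₀ : Fin t)
    (hj₀ : ∀ i, 0 < i → i < p → (σ ^ i) j₀ ≠ j₀) :
    finrank F ↥(D j₀) ≤ finrank F ↥(LinearMap.range ((X - 1) ^ (p - 1))) := by
  have hpow : ∀ i j, (D j).map (X ^ i) = D ((σ ^ i) j) := by
    intro i
    induction i with
    | zero => intro j; simp [Module.End.one_eq_id]
    | succ i ih =>
      intro j
      rw [pow_succ', Module.End.mul_eq_comp, Submodule.map_comp, ih, hσ, pow_succ',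
        Equiv.Perm.mul_apply]
  set S := (X - 1) ^ (p - 1) with hS
  have hSsum : S = ∑ i ∈ Finset.range p, X ^ i := geom_eq p X
  have hinj : D j₀ ⊓ LinearMap.ker S = ⊥ := by
    rw [eq_bot_iff]
    rintro v ⟨hv, hker⟩
    rw [SetLike.mem_coe, LinearMap.mem_ker, hSsum] at hker
    have hp : 0 < p := (Fact.out : p.Prime).pos
    have hsplit : (∑ i ∈ Finset.range p, X ^ i) v
        = v + ∑ i ∈ (Finset.range p).erase 0, (X ^ i) v := by
      rw [LinearMap.sum_apply, ← Finset.add_sum_erase _ _ (Finset.mem_range.2 hp)]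
      simp
    rw [hsplit] at hker
    have hmem : ∑ i ∈ (Finset.range p).erase 0, (X ^ i) v ∈ ⨆ (k) (_ : k ≠ j₀), D k := by
      apply Submodule.sum_mem
      intro i hi
      rw [Finset.mem_erase, Finset.mem_range] at hi
      have h1 : (X ^ i) v ∈ D ((σ ^ i) j₀) := by
        rw [← hpow]
        exact Submodule.mem_map_of_mem hv
      exact Submodule.mem_iSup_of_mem ((σ ^ i) j₀)
        (Submodule.mem_iSup_of_mem (hj₀ i (by omega) hi.2) h1)
    have hv2 : v ∈ ⨆ (k) (_ : k ≠ j₀), D k := by
      have : v = - ∑ i ∈ (Finset.range p).erase 0, (X ^ i) v := eq_neg_of_add_eq_zero_left hker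
      rw [this]
      exact Submodule.neg_mem _ hmem
    exact (Submodule.disjoint_def.1 (hind j₀)) v hv hv2
  have h := finrank_map_add S (D j₀)
  rw [hinj, finrank_bot, add_zero] at h
  rw [← h]
  apply Submodule.finrank_mono
  exact LinearMap.map_le_range

end Abstract

end Cfsg.Agent.Lib.helper99.Jord
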