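import Mathlib
import Cfsg.Agent.Lib.helper99.JordA

set_option autoImplicit false
set_option linter.unusedSectionVars false

/-!
# The standard nilpotent endomorphism of Jordan type `μ` (helper99)
-/

namespace Cfsg.Agent.Lib.helper99.Jord

open Module

section Shift

variable (μ : Multiset ℕ)

/-- index set: blocks `(b, c)` with `b ∈ μ`, `c < count b μ`, and positions `r < b` -/
abbrev Idx : Type := Σ b : {b : ℕ // b ∈ μ.toFinset}, Fin (μ.count b.1) × Fin b.1

theorem card_Idx : Fintype.card (Idx μ) = μ.sum := by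
  rw [Fintype.card_sigma]
  simp only [Fintype.card_prod, Fintype.card_fin]
  rw [Finset.sum_coe_sort μ.toFinset (fun b => μ.count b * b), Finset.sum_multiset_count]
  simp [smul_eq_mul]

variable (F : Type*) [Field F]

/-- the shift: `e_{(b,c,r)} ↦ e_{(b,c,r+1)}` -/
def sh : Module.End F (Idx μ → F) where
  toFun f := fun s => if h : 0 < s.2.2.val then
    f ⟨s.1, (s.2.1, ⟨s.2.2.val - 1, by have := s.2.2.isLt; omega⟩)⟩ else 0
  map_add' f g := by
    funext s
    by_cases h : 0 < s.2.2.val <;> simp [h]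
  map_smul' a f := by
    funext s
    by_cases h : 0 < s.2.2.val <;> simp [h]

theorem sh_apply (f : Idx μ → F) (s : Idx μ) :
    sh μ F f s = if h : 0 < s.2.2.val then
      f ⟨s.1, (s.2.1, ⟨s.2.2.val - 1, by have := s.2.2.isLt; omega⟩)⟩ else 0 := rfl

theorem sh_pow_apply (k : ℕ) (f : Idx μ → F) (s : Idx μ) :
    ((sh μ F) ^ k) f s = if h : k ≤ s.2.2.val then
      f ⟨s.1, (s.2.1, ⟨s.2.2.val - k, by have := s.2.2.isLt; omega⟩)⟩ else 0 := by
  induction k generalizing s with
  | zero => simp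
  | succ k ih =>
    rw [pow_succ', Module.End.mul_apply, sh_apply]
    by_cases h0 : 0 < s.2.2.val
    · rw [dif_pos h0, ih]
      by_cases h1 : k + 1 ≤ s.2.2.val
      · rw [dif_pos (by simp only; omega), dif_pos h1]
        congr 4
        simp only
        omega
      · rw [dif_neg (by simp only; omega), dif_neg h1]
    · rw [dif_neg h0, dif_neg (by omega)]

/-- functions supported on `A` -/
def E (A : Set (Idx μ)) : Submodule F (Idx μ → F) where
  carrier := {f | ∀ s, s ∉ A → f s = 0}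
  add_mem' := by
    intro f g hf hg s hs
    simp [hf s hs, hg s hs]
  zero_mem' := by
    intro s _
    rfl
  smul_mem' := by
    intro a f hf s hs
    simp [hf s hs]

theorem mem_E (A : Set (Idx μ)) (f : Idx μ → F) : f ∈ E μ F A ↔ ∀ s, s ∉ A → f s = 0 := Iff.rfl

theorem E_inf (A B : Set (Idx μ)) : E μ F A ⊓ E μ F B = E μ F (A ∩ B) := by
  ext f
  rw [Submodule.mem_inf, mem_E, mem_E, mem_E]
  constructor
  · rintro ⟨h1, h2⟩ s hs
    by_cases hA : s ∈ A
    · exact h2 s (fun hB => hs ⟨hA, hB⟩)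
    · exact h1 s hA
  · intro h
    exact ⟨fun s hs => h s (fun hh => hs hh.1), fun s hs => h s (fun hh => hs hh.2)⟩

theorem finrank_E (A : Set (Idx μ)) : finrank F ↥(E μ F A) = A.ncard := by
  classical
  let e : ↥(E μ F A) ≃ₗ[F] (A → F) :=
    { toFun := fun f a => f.1 a.1
      map_add' := fun f g => rfl
      map_smul' := fun a f => rfl
      invFun := fun g => ⟨fun s => if h : s ∈ A then g ⟨s, h⟩ else 0, fun s hs => by simp [hs]⟩
      left_inv := by
        intro f
        apply Subtype.ext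
        funext s
        by_cases h : s ∈ A
        · simp [h]
        · simp [h, f.2 s h]
      right_inv := by
        intro g
        funext a
        simp [a.2] }
  rw [LinearEquiv.finrank_eq e, Module.finrank_fintype_fun_eq_card, ← Nat.card_eq_fintype_card,
    Nat.card_coe_set_eq]

theorem range_sh_pow (k : ℕ) :
    LinearMap.range ((sh μ F) ^ k) = E μ F {s | k ≤ s.2.2.val} := by
  ext f
  rw [mem_E]
  constructor
  · rintro ⟨g, rfl⟩ s hs
    have hs' : ¬ k ≤ s.2.2.val := hs
    rw [sh_pow_apply, dif_neg hs']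
  · intro hf
    refine ⟨fun s => if h : s.2.2.val + k < s.1.1 then
      f ⟨s.1, (s.2.1, ⟨s.2.2.val + k, h⟩)⟩ else 0, ?_⟩
    funext s
    rw [sh_pow_apply]
    by_cases h : k ≤ s.2.2.val
    · rw [dif_pos h]
      have hlt := s.2.2.isLt
      rw [dif_pos (by simp only; omega)]
      obtain ⟨b, c, r⟩ := s
      congr 4
      simp only at h ⊢
      omega
    · rw [dif_neg h]
      exact (hf s h).symm

theorem ker_sh : LinearMap.ker (sh μ F) = E μ F {s | s.2.2.val + 1 = s.1.1} := by
  ext f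
  rw [LinearMap.mem_ker, mem_E]
  constructor
  · intro h s hs
    have hlt : s.2.2.val + 1 < s.1.1 := by
      have := s.2.2.isLt
      simp only [Set.mem_ofPred_eq] at hs
      omega
    have h1 := congrFun h ⟨s.1, (s.2.1, ⟨s.2.2.val + 1, hlt⟩)⟩
    rw [sh_apply, dif_pos (by simp)] at h1
    obtain ⟨b, c, r⟩ := s
    simpa using h1
  · intro hf
    funext s
    rw [sh_apply]
    by_cases h0 : 0 < s.2.2.val
    · rw [dif_pos h0]
      apply hf
      have := s.2.2.isLt
      simp only [Set.mem_ofPred_eq]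
      omega
    · rw [dif_neg h0]
      rfl

/-- top positions of blocks of size `> k` -/
def topSet (k : ℕ) : Set (Idx μ) := {s | k ≤ s.2.2.val ∧ s.2.2.val + 1 = s.1.1}

/-- top positions of blocks of size exactly `j` -/
def zSet (j : ℕ) : Set (Idx μ) := {s | s.1.1 = j ∧ s.2.2.val + 1 = j}

theorem cc_sh (k : ℕ) : cc (sh μ F) ⊤ k = (topSet μ k).ncard := by
  unfold cc
  rw [Submodule.map_top, range_sh_pow, ker_sh, E_inf, finrank_E]
  rfl

theorem ncard_zSet (j : ℕ) (hj : 1 ≤ j) : (zSet μ j).ncard = μ.count j := by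
  classical
  by_cases hmem : j ∈ μ
  · have hmem' : j ∈ μ.toFinset := Multiset.mem_toFinset.2 hmem
    let φ : Fin (μ.count j) → Idx μ := fun c => ⟨⟨j, hmem'⟩, (c, ⟨j - 1, by show j - 1 < j; omega⟩)⟩
    have hφ : Function.Injective φ := by
      intro c c' h
      simpa [φ] using h
    have himg : zSet μ j = φ '' Set.univ := by
      ext s
      constructor
      · rintro ⟨h1, h2⟩
        obtain ⟨⟨b, hb⟩, c, r⟩ := s
        simp only at h1 h2
        subst h1
        refine ⟨c, Set.mem_univ _, ?_⟩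
        simp only [φ]
        congr 3
        omega
      · rintro ⟨c, -, rfl⟩
        refine ⟨rfl, ?_⟩
        simp only [φ]
        omega
    rw [himg, Set.ncard_image_of_injective _ hφ, Set.ncard_univ, Nat.card_fin]
  · rw [Multiset.count_eq_zero_of_notMem hmem]
    have h0 : zSet μ j = ∅ := by
      ext s
      simp only [zSet, Set.mem_ofPred_eq, Set.mem_empty_iff_false, iff_false]
      rintro ⟨h1, -⟩
      apply hmem
      have := s.1.2
      rw [Multiset.mem_toFinset] at this
      rw [← h1]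
      exact this
    rw [h0, Set.ncard_empty]

theorem ncard_topSet (j : ℕ) (hj : 1 ≤ j) :
    (topSet μ (j - 1)).ncard = (topSet μ j).ncard + μ.count j := by
  have hU : topSet μ (j - 1) = topSet μ j ∪ zSet μ j := by
    ext s
    simp only [topSet, zSet, Set.mem_ofPred_eq, Set.mem_union]
    omega
  have hD : Disjoint (topSet μ j) (zSet μ j) := by
    rw [Set.disjoint_left]
    intro s h1 h2
    simp only [topSet, zSet, Set.mem_ofPred_eq] at h1 h2
    omega
  rw [hU, Set.ncard_union_eq hD, ncard_zSet μ j hj]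

/-- the invariants of the shift read off the multiset -/
theorem cc_sh_count (j : ℕ) (hj : 1 ≤ j) :
    cc (sh μ F) ⊤ (j - 1) = cc (sh μ F) ⊤ j + μ.count j := by
  rw [cc_sh, cc_sh, ncard_topSet μ j hj]

theorem sh_pow_eq_zero (P : ℕ) (hP : ∀ b ∈ μ, b ≤ P) : (sh μ F) ^ P = 0 := by
  apply LinearMap.ext
  intro f
  funext s
  rw [sh_pow_apply, dif_neg]
  · rfl
  · have h1 := s.2.2.isLt
    have h2 := hP s.1.1 (Multiset.mem_toFinset.1 s.1.2)
    omega

theorem finrank_range_sh_pow (P : ℕ) (hP1 : 1 ≤ P) (hP : ∀ b ∈ μ, b ≤ P) :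
    finrank F ↥(LinearMap.range ((sh μ F) ^ (P - 1))) = μ.count P := by
  rw [range_sh_pow, finrank_E, ← ncard_zSet μ P hP1]
  congr 1
  ext s
  simp only [zSet, Set.mem_ofPred_eq]
  have h1 := s.2.2.isLt
  have h2 := hP s.1.1 (Multiset.mem_toFinset.1 s.1.2)
  omega

theorem sh_ne_zero (b₀ : ℕ) (hb₀ : b₀ ∈ μ) (h2 : 2 ≤ b₀) : sh μ F ≠ 0 := by
  classical
  intro h0
  have hc : 0 < μ.count b₀ := Multiset.count_pos.2 hb₀
  let s₀ : Idx μ := ⟨⟨b₀, Multiset.mem_toFinset.2 hb₀⟩, (⟨0, hc⟩, ⟨0, by show 0 < b₀; omega⟩)⟩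
  let s₁ : Idx μ := ⟨⟨b₀, Multiset.mem_toFinset.2 hb₀⟩, (⟨0, hc⟩, ⟨1, by show 1 < b₀; omega⟩)⟩
  have h1 := congrFun (LinearMap.congr_fun h0 (Pi.single s₀ 1)) s₁
  rw [sh_apply, dif_pos (by simp [s₁])] at h1
  simp [s₁, s₀] at h1

end Shift

section Transport

variable {F : Type*} [Field F] {V V' : Type*} [AddCommGroup V] [Module F V]
  [AddCommGroup V'] [Module F V'] [FiniteDimensional F V] [FiniteDimensional F V']

theorem range_conj (e : V ≃ₗ[F] V') (g : Module.End F V) :
    LinearMap.range (e.conjRingEquiv g) = (LinearMap.range g).map (e : V →ₗ[F] V') := by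
  ext y
  constructor
  · rintro ⟨x, rfl⟩
    exact ⟨g (e.symm x), ⟨e.symm x, rfl⟩, rfl⟩
  · rintro ⟨_, ⟨x, rfl⟩, rfl⟩
    refine ⟨e x, ?_⟩
    show e (g (e.symm (e x))) = e (g x)
    simp

theorem ker_conj (e : V ≃ₗ[F] V') (g : Module.End F V) :
    LinearMap.ker (e.conjRingEquiv g) = (LinearMap.ker g).map (e : V →ₗ[F] V') := by
  ext y
  rw [LinearMap.mem_ker]
  constructor
  · intro h
    refine ⟨e.symm y, ?_, by simp⟩
    show g (e.symm y) = 0
    have h2 : e (g (e.symm y)) = 0 := h
    simpa using h2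
  · rintro ⟨x, hx, rfl⟩
    have hx' : g x = 0 := hx
    show e (g (e.symm (e x))) = 0
    simp [hx']

theorem cc_conj (e : V ≃ₗ[F] V') (g : Module.End F V) (k : ℕ) :
    cc (e.conjRingEquiv g) ⊤ k = cc g ⊤ k := by
  unfold cc
  rw [Submodule.map_top, Submodule.map_top, ← map_pow, range_conj, ker_conj,
    ← Submodule.map_inf _ e.injective]
  exact LinearEquiv.finrank_map_eq e _

theorem finrank_range_conj (e : V ≃ₗ[F] V') (g : Module.End F V) :
    finrank F ↥(LinearMap.range (e.conjRingEquiv g)) = finrank F ↥(LinearMap.range g) := by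
  rw [range_conj]
  exact LinearEquiv.finrank_map_eq e _

end Transport

end Cfsg.Agent.Lib.helper99.Jord
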