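import Mathlib
import Cfsg.Agent.Lib.helper99.JordA
import Cfsg.Agent.Lib.helper50.SymForm2

set_option autoImplicit false
set_option linter.unusedSectionVars false
set_option linter.unusedVariables false

/-!
# Unipotent isometries of symmetric forms: even parts come in pairs (helper99)

`B` a non-degenerate symmetric bilinear form (characteristic not two), `1 + G` an isometry.
Then for odd `n` the number `cc G ⊤ n - cc G ⊤ (n+1)` of Jordan blocks of size `n + 1` is even.
-/

namespace Cfsg.Agent.Lib.helper99.Oj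

open Module Cfsg.Agent.Lib.helper99.Jord

section Even

variable {F : Type*} [Field F] {V : Type*} [AddCommGroup V] [Module F V] [FiniteDimensional F V]

theorem oj_adj (B : LinearMap.BilinForm F V) (G : Module.End F V)
    (hiso : ∀ u v, B (u + G u) (v + G v) = B u v) (u v : V) :
    B (G u) v = - B (u + G u) (G v) := by
  have h := hiso u v
  simp only [map_add, LinearMap.add_apply] at h ⊢
  linear_combination h

theorem oj_iso_pow (B : LinearMap.BilinForm F V) (G : Module.End F V)
    (hiso : ∀ u v, B (u + G u) (v + G v) = B u v) (k : ℕ) (u v : V) :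
    B (((1 + G) ^ k) u) (((1 + G) ^ k) v) = B u v := by
  induction k generalizing u v with
  | zero => simp
  | succ k ih =>
    rw [pow_succ, Module.End.mul_apply, Module.End.mul_apply, ih]
    simpa using hiso u v

theorem oj_fix_pow (G : Module.End F V) (k : ℕ) (a : V) (ha : G a = 0) :
    ((1 + G) ^ k) a = a := by
  induction k with
  | zero => simp
  | succ k ih =>
    rw [pow_succ, Module.End.mul_apply]
    simp [ha, ih]

theorem oj_adj_pow (B : LinearMap.BilinForm F V) (G : Module.End F V)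
    (hiso : ∀ u v, B (u + G u) (v + G v) = B u v) (k : ℕ) (u v : V) :
    B ((G ^ k) u) v = (-1) ^ k * B (((1 + G) ^ k) u) ((G ^ k) v) := by
  induction k generalizing u v with
  | zero => simp
  | succ k ih =>
    have hc : Commute G ((1 + G) ^ k) := (Commute.add_right (Commute.one_right G) (Commute.refl G)).pow_right k
    have h1 : (G ^ (k + 1)) u = (G ^ k) (G u) := by
      rw [pow_succ, Module.End.mul_apply]
    have h2 : ((1 + G) ^ k) (G u) = G (((1 + G) ^ k) u) := by
      have := congrArg (fun f : Module.End F V => f u) hc.eq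
      simpa [Module.End.mul_apply] using this.symm
    have h3 : ((1 + G) ^ (k + 1)) u = ((1 + G) ^ k) u + G (((1 + G) ^ k) u) := by
      rw [pow_succ', Module.End.mul_apply]
      simp
    have h4 : (G ^ (k + 1)) v = G ((G ^ k) v) := by
      rw [pow_succ', Module.End.mul_apply]
    rw [h1, ih, h2, oj_adj B G hiso, h3, h4]
    ring

/-- the key parity statement, on the whole space -/
theorem oj_even (h2 : (2 : F) ≠ 0) (B : LinearMap.BilinForm F V) (hsym : ∀ u v, B u v = B v u)
    (hnd : ∀ v, (∀ u, B u v = 0) → v = 0) (G : Module.End F V)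
    (hiso : ∀ u v, B (u + G u) (v + G v) = B u v) (n : ℕ) (hn : Odd n) :
    ∃ t, cc G ⊤ n = cc G ⊤ (n + 1) + 2 * t := by
  classical
  have hBnd : B.Nondegenerate := by
    refine ⟨fun x hx => hnd x (fun u => ?_), fun x hx => hnd x (fun u => hx u)⟩
    rw [hsym]
    exact hx u
  obtain ⟨U, hUdef⟩ : ∃ U : Submodule F V, U = LinearMap.ker (G ^ (n + 1)) := ⟨_, rfl⟩
  have hU : ∀ u, u ∈ U ↔ (G ^ (n + 1)) u = 0 := by
    intro u
    rw [hUdef, LinearMap.mem_ker]
  have hGn : ∀ u, G ((G ^ n) u) = (G ^ (n + 1)) u := by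
    intro u
    rw [pow_succ', Module.End.mul_apply]
  -- skewness
  have hskew : ∀ u u', u' ∈ U → B u' ((G ^ n) u) = - B u ((G ^ n) u') := by
    intro u u' hu'
    rw [hsym, oj_adj_pow B G hiso n u u', hn.neg_one_pow]
    have h1 : G ((G ^ n) u') = 0 := by rw [hGn]; exact (hU u').1 hu'
    have h2 := oj_iso_pow B G hiso n u ((G ^ n) u')
    rw [oj_fix_pow G n _ h1] at h2
    rw [h2]
    ring
  -- orthogonal of U
  have horth : B.orthogonal U = LinearMap.range (G ^ (n + 1)) := by
    symm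
    apply Submodule.eq_of_le_of_finrank_eq
    · rintro _ ⟨w, rfl⟩
      rw [LinearMap.BilinForm.mem_orthogonal_iff]
      intro u hu
      rw [hsym, oj_adj_pow B G hiso (n + 1) w u, (hU u).1 hu]
      simp
    · rw [LinearMap.BilinForm.finrank_orthogonal hBnd, hUdef]
      have := LinearMap.finrank_range_add_finrank_ker (G ^ (n + 1))
      omega
  obtain ⟨R, hRdef⟩ : ∃ R : Submodule F V,
      R = U ⊓ (LinearMap.range (G ^ (n + 1))).comap (G ^ n) := ⟨_, rfl⟩
  have hR : ∀ u, u ∈ R ↔ u ∈ U ∧ (G ^ n) u ∈ LinearMap.range (G ^ (n + 1)) := by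
    intro u
    rw [hRdef, Submodule.mem_inf, Submodule.mem_comap]
  have hRU : R ≤ U := by rw [hRdef]; exact inf_le_left
  obtain ⟨R', hR'⟩ := Submodule.exists_isCompl R
  obtain ⟨C, hCdef⟩ : ∃ C : Submodule F V, C = R' ⊓ U := ⟨_, rfl⟩
  have hCU : C ≤ U := by rw [hCdef]; exact inf_le_right
  have hCR : C ⊓ R = ⊥ := by
    rw [eq_bot_iff, ← hR'.inf_eq_bot, hCdef]
    exact le_inf inf_le_right (inf_le_left.trans inf_le_left)
  have hCRU : R ⊔ C = U := by
    rw [hCdef, ← sup_inf_assoc_of_le R' hRU, hR'.sup_eq_top, top_inf_eq]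
  -- the alternating form on C
  obtain ⟨ω, hω⟩ : ∃ ω : ↥C →ₗ[F] ↥C →ₗ[F] F, ∀ c c' : ↥C, ω c c' = B (c : V) ((G ^ n) (c' : V)) :=
    ⟨(B.compl₂ (G ^ n)).domRestrict₁₂ C C, fun c c' => rfl⟩
  have halt : ∀ c : ↥C, ω c c = 0 := by
    intro c
    rw [hω]
    have h := hskew (c : V) (c : V) (hCU c.2)
    have h3 : (2 : F) * B (c : V) ((G ^ n) (c : V)) = 0 := by linear_combination h
    rcases mul_eq_zero.1 h3 with h4 | h4
    · exact absurd h4 h2
    · exact h4
  have hndω : ∀ c : ↥C, (∀ c' : ↥C, ω c c' = 0) → c = 0 := by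
    intro c hc
    have h1 : (G ^ n) (c : V) ∈ B.orthogonal U := by
      rw [LinearMap.BilinForm.mem_orthogonal_iff]
      intro u hu
      rw [← hCRU] at hu
      obtain ⟨r, hr, c', hc', rfl⟩ := Submodule.mem_sup.1 hu
      rw [map_add, LinearMap.add_apply]
      have e1 : B r ((G ^ n) (c : V)) = 0 := by
        rw [hskew (c : V) r (hRU hr)]
        have h5 : (G ^ n) r ∈ B.orthogonal U := by
          rw [horth]
          exact ((hR r).1 hr).2
        rw [LinearMap.BilinForm.mem_orthogonal_iff] at h5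
        have h6 := h5 (c : V) (hCU c.2)
        rw [h6, neg_zero]
      have e2 : B c' ((G ^ n) (c : V)) = 0 := by
        rw [hskew (c : V) c' (hCU hc')]
        have h7 := hc ⟨c', hc'⟩
        rw [hω] at h7
        rw [h7, neg_zero]
      rw [e1, e2, add_zero]
    have h2' : (c : V) ∈ C ⊓ R := by
      refine Submodule.mem_inf.2 ⟨c.2, (hR _).2 ⟨hCU c.2, ?_⟩⟩
      rw [← horth]
      exact h1
    rw [hCR, Submodule.mem_bot] at h2'
    exact Subtype.ext h2'
  have heven := Cfsg.Agent.Lib.helper50.even_finrank_of_alt_nondeg (finrank F ↥C) ↥C ω halt hndω rfl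
  obtain ⟨t, ht⟩ := heven
  -- dimension count
  have hdim : finrank F ↥U = finrank F ↥R + finrank F ↥C := by
    have h := Submodule.finrank_sup_add_finrank_inf_eq R C
    rw [hCRU, inf_comm, hCR, finrank_bot, add_zero] at h
    exact h
  have hA : (⊤ : Submodule F V).map (G ^ n) ⊓ LinearMap.ker G = U.map (G ^ n) := by
    ext a
    constructor
    · rintro ⟨⟨v, -, rfl⟩, hker⟩
      have hv : v ∈ U := by
        rw [hU, ← hGn]
        exact hker
      exact ⟨v, hv, rfl⟩
    · rintro ⟨u, hu, rfl⟩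
      refine ⟨⟨u, trivial, rfl⟩, ?_⟩
      show G ((G ^ n) u) = 0
      rw [hGn]
      exact (hU u).1 hu
  have hA' : (⊤ : Submodule F V).map (G ^ (n + 1)) ⊓ LinearMap.ker G = R.map (G ^ n) := by
    ext a
    constructor
    · rintro ⟨⟨w, -, rfl⟩, hker⟩
      have hker' : G ((G ^ (n + 1)) w) = 0 := hker
      have e1 : (G ^ (n + 1)) w = (G ^ n) (G w) := by
        rw [pow_succ, Module.End.mul_apply]
      have e2 : (G ^ (n + 1)) (G w) = G ((G ^ (n + 1)) w) := by
        rw [← Module.End.mul_apply, ← Module.End.mul_apply, ← pow_succ, ← pow_succ']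
      refine ⟨G w, (hR _).2 ⟨?_, ?_⟩, e1.symm⟩
      · rw [hU, e2]
        exact hker'
      · rw [← e1]
        exact ⟨w, rfl⟩
    · rintro ⟨r, hr, rfl⟩
      obtain ⟨hrU, w, hw⟩ := (hR r).1 hr
      refine ⟨⟨w, trivial, hw⟩, ?_⟩
      show G ((G ^ n) r) = 0
      rw [hGn]
      exact (hU r).1 hrU
  have hkU : U ⊓ LinearMap.ker (G ^ n) = LinearMap.ker (G ^ n) := by
    apply inf_eq_right.2
    intro v hv
    rw [hU, ← hGn, LinearMap.mem_ker.1 hv, map_zero]
  have hkR : R ⊓ LinearMap.ker (G ^ n) = LinearMap.ker (G ^ n) := by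
    apply inf_eq_right.2
    intro v hv
    have hv0 : (G ^ n) v = 0 := LinearMap.mem_ker.1 hv
    refine (hR v).2 ⟨?_, ?_⟩
    · rw [hU, ← hGn, hv0, map_zero]
    · rw [hv0]
      exact zero_mem _
  have e1 := finrank_map_add (G ^ n) U
  have e2 := finrank_map_add (G ^ n) R
  rw [hkU] at e1
  rw [hkR] at e2
  refine ⟨t, ?_⟩
  unfold cc
  rw [hA, hA']
  omega

end Even

section Restrict

variable {F : Type*} [Field F] {V : Type*} [AddCommGroup V] [Module F V] [FiniteDimensional F V]

theorem oj_restrict_pow (G : Module.End F V) (W : Submodule F V) (hW : ∀ u ∈ W, G u ∈ W) (k : ℕ)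
    (w : ↥W) : ((((G.restrict hW : Module.End F ↥W)) ^ k) w : V) = (G ^ k) (w : V) := by
  induction k generalizing w with
  | zero => simp
  | succ k ih =>
    rw [pow_succ, Module.End.mul_apply, ih, pow_succ, Module.End.mul_apply]
    rfl

theorem oj_cc_restrict (G : Module.End F V) (W : Submodule F V) (hW : ∀ u ∈ W, G u ∈ W) (k : ℕ) :
    cc (G.restrict hW : Module.End F ↥W) ⊤ k = cc G W k := by
  unfold cc
  rw [← Submodule.finrank_map_subtype_eq W]
  have hS : Submodule.map W.subtype ((⊤ : Submodule F ↥W).map ((G.restrict hW : Module.End F ↥W) ^ k)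
      ⊓ LinearMap.ker (G.restrict hW : Module.End F ↥W)) = W.map (G ^ k) ⊓ LinearMap.ker G := by
    ext v
    constructor
    · rintro ⟨w, ⟨⟨w₀, -, rfl⟩, hker⟩, rfl⟩
      refine ⟨⟨(w₀ : V), w₀.2, ?_⟩, ?_⟩
      · exact (oj_restrict_pow G W hW k w₀).symm
      · show G (((G.restrict hW : Module.End F ↥W) ^ k) w₀ : V) = 0
        have h := congrArg (Subtype.val) (LinearMap.mem_ker.1 hker)
        exact h
    · rintro ⟨⟨u, hu, rfl⟩, hker⟩
      refine ⟨((G.restrict hW : Module.End F ↥W) ^ k) ⟨u, hu⟩, ⟨⟨⟨u, hu⟩, trivial, rfl⟩, ?_⟩, ?_⟩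
      · show (G.restrict hW : Module.End F ↥W) (((G.restrict hW : Module.End F ↥W) ^ k) ⟨u, hu⟩) = 0
        apply Subtype.ext
        show G ((((G.restrict hW : Module.End F ↥W)) ^ k) ⟨u, hu⟩ : V) = 0
        rw [oj_restrict_pow]
        exact hker
      · exact oj_restrict_pow G W hW k ⟨u, hu⟩
  rw [hS]

/-- parity statement for an invariant subspace on which the form is non-degenerate -/
theorem oj_even_sub (h2 : (2 : F) ≠ 0) (B : LinearMap.BilinForm F V) (hsym : ∀ u v, B u v = B v u)
    (G : Module.End F V) (hiso : ∀ u v, B (u + G u) (v + G v) = B u v)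
    (W : Submodule F V) (hW : ∀ u ∈ W, G u ∈ W)
    (hnd : ∀ w ∈ W, (∀ u ∈ W, B u w = 0) → w = 0) (n : ℕ) (hn : Odd n) :
    ∃ t, cc G W n = cc G W (n + 1) + 2 * t := by
  have h := oj_even h2 (B.restrict W) (fun u v => hsym u v)
    (fun v hv => Subtype.ext (hnd v v.2 (fun u hu => hv ⟨u, hu⟩)))
    (G.restrict hW) (fun u v => hiso u v) n hn
  rw [oj_cc_restrict, oj_cc_restrict] at h
  exact h

end Restrict

end Cfsg.Agent.Lib.helper99.Oj
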