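import Mathlib
import Cfsg.Agent.Lib.helper99.JordA
import Cfsg.Agent.Lib.helper99.JordB

set_option autoImplicit false
set_option linter.unusedSectionVars false
set_option linter.unusedVariables false

/-!
# A unipotent isometry of a symmetric form with prescribed Jordan type (helper99)

On `Idx μ → F` (`μ` a multiset in which even parts have even multiplicity) we put the symmetric
form `B(f,g) = ∑ ε(s) f(s) g(σ s)`; the shift `sh μ F` is skew-adjoint and its Cayley transform
`1 + G` is an isometry with the same Jordan invariants.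
-/

namespace Cfsg.Agent.Lib.helper99.Oj

open Module Cfsg.Agent.Lib.helper99.Jord

section Flip

/-- swap `2i ↔ 2i+1` on `Fin n` for even `n` (identity for odd `n`) -/
def flipFin (n : ℕ) (c : Fin n) : Fin n :=
  if h : Even n then
    (if h0 : c.val % 2 = 0 then ⟨c.val + 1, by obtain ⟨k, hk⟩ := h; have := c.isLt; omega⟩
     else ⟨c.val - 1, by have := c.isLt; omega⟩)
  else c

theorem flipFin_val (n : ℕ) (h : Even n) (c : Fin n) :
    (flipFin n c).val = if c.val % 2 = 0 then c.val + 1 else c.val - 1 := by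
  unfold flipFin
  rw [dif_pos h]
  split_ifs <;> rfl

theorem flipFin_of_odd (n : ℕ) (h : ¬ Even n) (c : Fin n) : flipFin n c = c := by
  unfold flipFin
  rw [dif_neg h]

theorem flipFin_flipFin (n : ℕ) (c : Fin n) : flipFin n (flipFin n c) = c := by
  by_cases h : Even n
  · apply Fin.ext
    rw [flipFin_val n h, flipFin_val n h]
    split_ifs <;> omega
  · rw [flipFin_of_odd n h, flipFin_of_odd n h]

theorem flipFin_mod (n : ℕ) (h : Even n) (c : Fin n) :
    (flipFin n c).val % 2 = (c.val + 1) % 2 := by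
  rw [flipFin_val n h]
  split_ifs <;> omega

end Flip

section Model

variable (μ : Multiset ℕ) (F : Type*) [Field F]

/-- the involution of the index set -/
def sig (s : Idx μ) : Idx μ :=
  ⟨s.1, (if Even s.1.1 then flipFin _ s.2.1 else s.2.1, Fin.rev s.2.2)⟩

/-- the signs -/
def eps (s : Idx μ) : F := (-1) ^ (s.2.2.val + if Even s.1.1 then s.2.1.val else 0)

theorem sig_sig (s : Idx μ) : sig μ (sig μ s) = s := by
  obtain ⟨b, c, t⟩ := s
  unfold sig
  by_cases h : Even b.1
  · simp [h, flipFin_flipFin]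
  · simp [h]

theorem eps_mul_self (s : Idx μ) : eps μ F s * eps μ F s = 1 := by
  unfold eps
  rw [← pow_add, ← two_mul, pow_mul]
  simp

theorem eps_ne_zero (s : Idx μ) : eps μ F s ≠ 0 := by
  intro h
  have := eps_mul_self μ F s
  rw [h, mul_zero] at this
  exact zero_ne_one this

theorem eps_sig (hμ : ∀ e, Even e → Even (μ.count e)) (s : Idx μ) :
    eps μ F (sig μ s) = eps μ F s := by
  obtain ⟨b, c, t⟩ := s
  unfold eps sig
  rw [neg_one_pow_eq_pow_mod_two, neg_one_pow_eq_pow_mod_two (n := t.val + _)]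
  congr 1
  have ht := t.isLt
  by_cases h : Even b.1
  · simp only [h, if_true, Fin.val_rev]
    have h1 := flipFin_mod _ (hμ _ h) c
    obtain ⟨k, hk⟩ := h
    omega
  · simp only [h, if_false, Fin.val_rev]
    rcases Nat.even_or_odd b.1 with h' | ⟨k, hk⟩
    · exact absurd h' h
    · omega

/-- the symmetric form -/
def bil : LinearMap.BilinForm F (Idx μ → F) :=
  LinearMap.mk₂ F (fun f g => ∑ s, eps μ F s * f s * g (sig μ s))
    (by
      intro f f' g
      simp only [Pi.add_apply, mul_add, add_mul, Finset.sum_add_distrib])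
    (by
      intro c f g
      simp only [Pi.smul_apply, smul_eq_mul, Finset.mul_sum]
      apply Finset.sum_congr rfl
      intro s _
      ring)
    (by
      intro f g g'
      simp only [Pi.add_apply, mul_add, Finset.sum_add_distrib])
    (by
      intro c f g
      simp only [Pi.smul_apply, smul_eq_mul, Finset.mul_sum]
      apply Finset.sum_congr rfl
      intro s _
      ring)

theorem bil_apply (f g : Idx μ → F) :
    bil μ F f g = ∑ s, eps μ F s * f s * g (sig μ s) := rfl

theorem bil_symm (hμ : ∀ e, Even e → Even (μ.count e)) (f g : Idx μ → F) :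
    bil μ F f g = bil μ F g f := by
  rw [bil_apply, bil_apply]
  have hinv : Function.Involutive (sig μ) := sig_sig μ
  refine Fintype.sum_equiv hinv.toPerm _ _ (fun s => ?_)
  show _ = eps μ F (sig μ s) * g (sig μ s) * f (sig μ (sig μ s))
  rw [eps_sig μ F hμ, sig_sig]
  ring

theorem bil_nondeg (g : Idx μ → F) (hg : ∀ f, bil μ F f g = 0) : g = 0 := by
  classical
  funext s
  have h := hg (Pi.single (sig μ s) 1)
  rw [bil_apply, Finset.sum_eq_single (sig μ s)] at h
  · rw [Pi.single_eq_same, mul_one, sig_sig] at h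
    rcases mul_eq_zero.1 h with h1 | h1
    · exact absurd h1 (eps_ne_zero μ F _)
    · exact h1
  · intro a _ ha
    rw [Pi.single_eq_of_ne ha]
    simp
  · intro hn
    exact absurd (Finset.mem_univ _) hn

/-- predecessor inside a block -/
def predI (s : Idx μ) : Idx μ :=
  ⟨s.1, (s.2.1, ⟨s.2.2.val - 1, by have := s.2.2.isLt; omega⟩)⟩

/-- successor inside a block (identity at the end of the block) -/
def succI (s : Idx μ) : Idx μ :=
  ⟨s.1, (s.2.1, ⟨if s.2.2.val + 1 < s.1.1 then s.2.2.val + 1 else s.2.2.val, by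
    have := s.2.2.isLt
    split_ifs <;> omega⟩)⟩

theorem sum_shift (h₁ h₂ : Idx μ → F) (h : ∀ s : Idx μ, 0 < s.2.2.val → h₁ s = h₂ (predI μ s)) :
    ∑ s, (if 0 < s.2.2.val then h₁ s else 0) = ∑ s, (if s.2.2.val + 1 < s.1.1 then h₂ s else 0) := by
  classical
  rw [← Finset.sum_filter, ← Finset.sum_filter]
  refine Finset.sum_nbij' (predI μ) (succI μ) ?_ ?_ ?_ ?_ ?_
  · intro s hs
    rw [Finset.mem_filter] at hs ⊢
    refine ⟨Finset.mem_univ _, ?_⟩
    have := s.2.2.isLt
    show s.2.2.val - 1 + 1 < s.1.1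
    omega
  · intro s hs
    rw [Finset.mem_filter] at hs ⊢
    refine ⟨Finset.mem_univ _, ?_⟩
    show 0 < (if s.2.2.val + 1 < s.1.1 then s.2.2.val + 1 else s.2.2.val)
    rw [if_pos hs.2]
    omega
  · intro s hs
    rw [Finset.mem_filter] at hs
    obtain ⟨b, c, t⟩ := s
    have ht := t.isLt
    have h0 : 0 < t.val := hs.2
    unfold succI predI
    simp only
    congr 3
    rw [if_pos (by omega)]
    omega
  · intro s hs
    rw [Finset.mem_filter] at hs
    obtain ⟨b, c, t⟩ := s
    have h0 : t.val + 1 < b.1 := hs.2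
    unfold succI predI
    simp only
    congr 3
    rw [if_pos h0]
    omega
  · intro s hs
    rw [Finset.mem_filter] at hs
    exact h s hs.2

theorem eps_predI (s : Idx μ) (hs : 0 < s.2.2.val) : eps μ F (predI μ s) = - eps μ F s := by
  unfold eps predI
  simp only
  have h1 : s.2.2.val + (if Even s.1.1 then s.2.1.val else 0)
      = (s.2.2.val - 1 + (if Even s.1.1 then s.2.1.val else 0)) + 1 := by omega
  rw [h1, pow_succ]
  ring

theorem predI_sig_predI (s : Idx μ) (hs : 0 < s.2.2.val) :
    predI μ (sig μ (predI μ s)) = sig μ s := by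
  obtain ⟨b, c, t⟩ := s
  have ht := t.isLt
  have h0 : 0 < t.val := hs
  unfold predI sig
  simp only
  congr 3
  simp only [Fin.val_rev]
  omega

theorem bil_sh (f g : Idx μ → F) :
    bil μ F (sh μ F f) g = - bil μ F f (sh μ F g) := by
  rw [bil_apply, bil_apply, ← Finset.sum_neg_distrib]
  have e1 : ∀ s : Idx μ, eps μ F s * sh μ F f s * g (sig μ s)
      = if 0 < s.2.2.val then eps μ F s * f (predI μ s) * g (sig μ s) else 0 := by
    intro s
    rw [sh_apply]
    by_cases h : 0 < s.2.2.val
    · rw [dif_pos h, if_pos h]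
      rfl
    · rw [dif_neg h, if_neg h]
      ring
  have e2 : ∀ s : Idx μ, -(eps μ F s * f s * sh μ F g (sig μ s))
      = if s.2.2.val + 1 < s.1.1 then -(eps μ F s * f s * g (predI μ (sig μ s))) else 0 := by
    intro s
    rw [sh_apply]
    have ht := s.2.2.isLt
    have hv : (sig μ s).2.2.val = s.1.1 - (s.2.2.val + 1) := by
      unfold sig
      simp only [Fin.val_rev]
    by_cases h : s.2.2.val + 1 < s.1.1
    · rw [dif_pos (by rw [hv]; omega), if_pos h]
      rfl
    · rw [dif_neg (by rw [hv]; omega), if_neg h]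
      ring
  rw [Finset.sum_congr rfl (fun s _ => e1 s), Finset.sum_congr rfl (fun s _ => e2 s)]
  apply sum_shift
  intro s hs
  rw [eps_predI μ F s hs, predI_sig_predI μ s hs]
  ring

end Model

section Cayley

variable {F : Type*} [Field F] {V : Type*} [AddCommGroup V] [Module F V] [FiniteDimensional F V]

/-- Cayley transform of a nilpotent skew-adjoint endomorphism -/
theorem oj_cayley (h2 : (2 : F) ≠ 0) (B : LinearMap.BilinForm F V) (N : Module.End F V)
    (hN : IsNilpotent N) (hskew : ∀ u v, B (N u) v = - B u (N v)) :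
    ∃ G : Module.End F V, (∀ u v, B (u + G u) (v + G v) = B u v) ∧
      (∀ k, LinearMap.range (G ^ k) = LinearMap.range (N ^ k)) ∧
      LinearMap.ker G = LinearMap.ker N := by
  obtain ⟨un, hun⟩ := hN.isUnit_one_sub
  obtain ⟨M, hMdef⟩ : ∃ M : Module.End F V, M = ((un⁻¹ : (Module.End F V)ˣ) : Module.End F V) :=
    ⟨_, rfl⟩
  have hM1 : (1 - N) * M = 1 := by rw [hMdef, ← hun]; exact un.mul_inv
  have hM2 : M * (1 - N) = 1 := by rw [hMdef, ← hun]; exact un.inv_mul
  have hNM : N * M = M * N := by
    have h := hM1.trans hM2.symm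
    rw [sub_mul, mul_sub, one_mul, mul_one] at h
    exact sub_right_inj.1 h
  obtain ⟨D, hD⟩ : ∃ D : Module.End F V, D = (2 : F) • M := ⟨_, rfl⟩
  have hDu : IsUnit D := by
    refine IsUnit.of_mul_eq_one ((2⁻¹ : F) • (1 - N)) ?_
    rw [hD, smul_mul_smul_comm, mul_inv_cancel₀ h2, one_smul, hM2]
  have hND : N * D = D * N := by
    rw [hD, mul_smul_comm, smul_mul_assoc, hNM]
  refine ⟨N * D, ?_, ?_, ?_⟩
  · intro u v
    have hu : ∀ w : V, w = M w - N (M w) := by
      intro w
      have := congrArg (fun f : Module.End F V => f w) hM1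
      simp only [Module.End.mul_apply, LinearMap.sub_apply, Module.End.one_apply] at this
      exact this.symm
    have e : ∀ w : V, w + (N * D) w = M w + N (M w) := by
      intro w
      rw [Module.End.mul_apply, hD, LinearMap.smul_apply, map_smul, two_smul]
      nth_rewrite 1 [hu w]
      abel
    rw [e u, e v]
    nth_rewrite 3 [hu u]
    nth_rewrite 3 [hu v]
    simp only [map_add, map_sub, LinearMap.add_apply, LinearMap.sub_apply, hskew]
    ring
  · intro k
    have hc : Commute N D := hND
    rw [hc.mul_pow, Module.End.mul_eq_comp]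
    apply LinearMap.range_comp_of_range_eq_top
    rw [LinearMap.range_eq_top]
    exact ((Module.End.isUnit_iff _).1 (hDu.pow k)).2
  · rw [hND, Module.End.mul_eq_comp]
    apply LinearMap.ker_comp_of_ker_eq_bot
    rw [LinearMap.ker_eq_bot]
    exact ((Module.End.isUnit_iff _).1 hDu).1

end Cayley

section Main

variable (μ : Multiset ℕ) (F : Type*) [Field F]

/-- the model: a symmetric non-degenerate form on `Idx μ → F` and a unipotent isometry `1 + G`
whose Jordan invariants are those of the shift -/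
theorem oj_model (h2 : (2 : F) ≠ 0) (hμ : ∀ e, Even e → Even (μ.count e)) (P : ℕ)
    (hP : ∀ b ∈ μ, b ≤ P) :
    ∃ (B : LinearMap.BilinForm F (Idx μ → F)) (G : Module.End F (Idx μ → F)),
      (∀ u v, B u v = B v u) ∧ (∀ v, (∀ u, B u v = 0) → v = 0) ∧
      (∀ u v, B (u + G u) (v + G v) = B u v) ∧ G ^ P = 0 ∧
      (∀ k, cc G ⊤ k = cc (sh μ F) ⊤ k) ∧ (sh μ F ≠ 0 → G ≠ 0) := by
  have hN : IsNilpotent (sh μ F) := ⟨P, sh_pow_eq_zero μ F P hP⟩
  obtain ⟨G, hiso, hrange, hker⟩ := oj_cayley h2 (bil μ F) (sh μ F) hN (bil_sh μ F)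
  refine ⟨bil μ F, G, bil_symm μ F hμ, bil_nondeg μ F, hiso, ?_, ?_, ?_⟩
  · have h := hrange P
    rw [sh_pow_eq_zero μ F P hP, LinearMap.range_zero] at h
    exact LinearMap.range_eq_bot.1 h
  · intro k
    unfold cc
    rw [Submodule.map_top, Submodule.map_top, hrange k, hker]
  · intro hne h0
    apply hne
    rw [h0, LinearMap.ker_zero] at hker
    exact LinearMap.ker_eq_top.1 hker.symm

end Main

end Cfsg.Agent.Lib.helper99.Oj
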