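import Mathlib
import Cfsg.Prelude.Def_GeometricClasses
import Cfsg.Agent.Lib.helper99.JordA
import Cfsg.Agent.Lib.helper99.JordB
import Cfsg.Agent.Lib.helper99.OjA
import Cfsg.Agent.Lib.helper99.OjB
import Cfsg.Agent.Lib.helper45.OConj
import Cfsg.Agent.Lib.helper49.WittIso

set_option autoImplicit false
set_option linter.unusedSectionVars false
set_option linter.unusedVariables false

/-!
# Unipotent isometries in orthogonal matrix groups (helper99)

* `oj_realise`: an abstract unipotent isometry `1 + G` (`G ^ p = 0`, `G ≠ 0`) of a quadratic space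
  similar to `(ι → F, Q')` gives an element of order `p` of `Ω(Q')` with the same Jordan invariants;
* `oj_sub_partition`: a non-degenerate subspace fixed by a unipotent isometry of Jordan type `μ`
  has Jordan type `ν ≤ μ`, with even parts of even multiplicity.
-/

namespace Cfsg.Agent.Lib.helper99.Oj

open Module Matrix Cfsg.Agent.Lib.helper99.Jord Cfsg.Agent.Lib.helper45 Cfsg.Agent.Lib.helper49

section Realise

variable {F : Type*} [Field F] [Fintype F] {ι : Type} [Fintype ι] [DecidableEq ι]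

theorem oj_one_add_pow {V : Type*} [AddCommGroup V] [Module F V] (p : ℕ) [Fact p.Prime] [CharP F p]
    (G : Module.End F V) : (1 + G) ^ p = 1 + G ^ p := by
  have hpoly : ((1 : Polynomial F) + Polynomial.X) ^ p = 1 + Polynomial.X ^ p := by
    rw [add_pow_char, one_pow]
  have h := congrArg (Polynomial.aeval G) hpoly
  simpa using h

theorem oj_realise {p : ℕ} [Fact p.Prime] [CharP F p] (h2 : (2 : F) ≠ 0)
    (Q' : QuadraticForm F (ι → F)) (hQ' : (QuadraticMap.polarBilin Q').Nondegenerate)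
    {V : Type*} [AddCommGroup V] [Module F V] [FiniteDimensional F V]
    (B : LinearMap.BilinForm F V) (G : Module.End F V)
    (hiso : ∀ u v, B (u + G u) (v + G v) = B u v) (hGp : G ^ p = 0) (hG0 : G ≠ 0)
    (T : V ≃ₗ[F] (ι → F)) (c : F) (hT : ∀ v, Q' (T v) = c * B v v) :
    ∃ g : GL ι F, g ∈ Cfsg.Geo.omegaGL (⇑Q') ∧ orderOf g = p ∧
      (Matrix.toLin' (g : Matrix ι ι F) - 1) ^ p = 0 ∧
      ∀ k, cc (Matrix.toLin' (g : Matrix ι ι F) - 1) ⊤ k = cc G ⊤ k := by
  classical
  have hnil : IsNilpotent G := ⟨p, hGp⟩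
  obtain ⟨ua, hua⟩ := hnil.isUnit_one_add
  obtain ⟨Ψ, hΨ⟩ : ∃ Ψ : Module.End F V ≃+* Matrix ι ι F,
      ∀ X, Ψ X = LinearMap.toMatrix' (T.conjRingEquiv X) :=
    ⟨T.conjRingEquiv.trans (LinearMap.toMatrixAlgEquiv' (R := F) (n := ι)).toRingEquiv, fun X => rfl⟩
  obtain ⟨g, hg⟩ : ∃ g : GL ι F, g = Units.map Ψ.toMonoidHom ua := ⟨_, rfl⟩
  have hgval : (g : Matrix ι ι F) = LinearMap.toMatrix' (T.conjRingEquiv (1 + G)) := by
    rw [hg, ← hΨ, ← hua]
    rfl
  have hlin : Matrix.toLin' (g : Matrix ι ι F) = T.conjRingEquiv (1 + G) := by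
    rw [hgval, Matrix.toLin'_toMatrix']
  have hG' : Matrix.toLin' (g : Matrix ι ι F) - 1 = T.conjRingEquiv G := by
    rw [hlin, map_add, map_one, add_sub_cancel_left]
  have hmem : g ∈ Cfsg.isometryGroup F (⇑Q') := by
    rw [mem_isometryGroup_iff']
    intro u
    have e : (g : Matrix ι ι F) *ᵥ u = T ((T.symm u) + G (T.symm u)) := by
      rw [← Matrix.toLin'_apply, hlin]
      show T ((1 + G) (T.symm u)) = _
      simp
    rw [e, hT, hiso, ← hT, LinearEquiv.apply_symm_apply]
  have hpow : (1 + G) ^ p = 1 := by rw [oj_one_add_pow p G, hGp, add_zero]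
  have huap : ua ^ p = 1 := by
    apply Units.ext
    rw [Units.val_pow_eq_pow_val, hua, hpow]
    rfl
  have hgp : g ^ p = 1 := by
    rw [hg, ← map_pow, huap, map_one]
  have hg1 : g ≠ 1 := by
    intro h
    have h1 : Matrix.toLin' (g : Matrix ι ι F) = 1 := by
      rw [h]
      simp [Module.End.one_eq_id]
    rw [hlin, ← map_one T.conjRingEquiv] at h1
    have h3 := T.conjRingEquiv.injective h1
    apply hG0
    have h4 : (1 + G) - 1 = 0 := by rw [h3, sub_self]
    rwa [add_sub_cancel_left] at h4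
  have hpodd : Odd p := by
    rcases (Fact.out : p.Prime).eq_two_or_odd' with h | h
    · exfalso
      apply h2
      have := CharP.cast_eq_zero F p
      rw [h] at this
      exact_mod_cast this
    · exact h
  obtain ⟨gi, hgi⟩ : ∃ gi : ↥(Cfsg.isometryGroup F (⇑Q')), (gi : GL ι F) = g := ⟨⟨g, hmem⟩, rfl⟩
  have hgip : gi ^ p = 1 := by
    apply Subtype.ext
    rw [Subgroup.coe_pow, hgi, hgp]
    rfl
  have hdet : detHom (⇑Q') gi = 1 := by
    rcases detHom_eq_one_or h2 Q' hQ' gi with h | h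
    · exact h
    · exfalso
      have h1 : (detHom (⇑Q') gi) ^ p = 1 := by rw [← map_pow, hgip, map_one]
      rw [h, hpodd.neg_one_pow] at h1
      apply h2
      have h3 := congrArg Units.val h1
      rw [Units.val_neg, Units.val_one] at h3
      linear_combination (-1 : F) * h3
  have hsp : spinorSign (⇑Q') gi = 1 := by
    rcases Int.units_eq_one_or (spinorSign (⇑Q') gi) with h | h
    · exact h
    · exfalso
      have h1 : (spinorSign (⇑Q') gi) ^ p = 1 := by rw [← map_pow, hgip, map_one]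
      rw [h, hpodd.neg_one_pow] at h1
      exact absurd h1 (by decide)
  have hΩ : gi ∈ Cfsg.Omega F (⇑Q') := (mem_Omega_iff_det_spinor h2 Q' hQ' gi).2 ⟨hdet, hsp⟩
  refine ⟨g, ?_, orderOf_eq_prime hgp hg1, ?_, ?_⟩
  · exact Subgroup.mem_map.2 ⟨gi, hΩ, hgi⟩
  · rw [hG', ← map_pow, hGp, map_zero]
  · intro k
    rw [hG']
    exact cc_conj T G k

end Realise

section SubPartition

variable {F : Type*} [Field F] {ι : Type} [Fintype ι] [DecidableEq ι]

/-- a non-degenerate subspace fixed by a unipotent isometry of Jordan type `μ` has Jordan type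
`ν ≤ μ`, and the even parts of `ν` have even multiplicity -/
theorem oj_sub_partition (h2 : (2 : F) ≠ 0) (Q' : QuadraticForm F (ι → F)) (g : GL ι F)
    (hg : g ∈ Cfsg.isometryGroup F (⇑Q')) (P : ℕ)
    (hP : (Matrix.toLin' (g : Matrix ι ι F) - 1) ^ P = 0) (μ : Multiset ℕ)
    (hμ : ∀ j, 1 ≤ j → j ≤ P → cc (Matrix.toLin' (g : Matrix ι ι F) - 1) ⊤ (j - 1)
      = cc (Matrix.toLin' (g : Matrix ι ι F) - 1) ⊤ j + μ.count j)
    (W : Submodule F (ι → F)) (hWnd : Cfsg.Geo.IsNondegenerateOn (QuadraticMap.polar (⇑Q')) W)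
    (hWg : W.map (Matrix.toLin' (g : Matrix ι ι F)) ≤ W) :
    ∃ ν : Multiset ℕ, ν ≤ μ ∧ ν.sum = Module.finrank F ↥W ∧ ∀ e : ℕ, Even e → Even (ν.count e) := by
  classical
  obtain ⟨G, hGdef⟩ : ∃ G : Module.End F (ι → F), G = Matrix.toLin' (g : Matrix ι ι F) - 1 :=
    ⟨_, rfl⟩
  rw [← hGdef] at hP hμ
  have hx : ∀ u : ι → F, u + G u = (g : Matrix ι ι F) *ᵥ u := by
    intro u
    rw [hGdef]
    simp [Matrix.toLin'_apply]
  obtain ⟨B, hB⟩ : ∃ B : LinearMap.BilinForm F (ι → F),
      ∀ u v, B u v = QuadraticMap.polar (⇑Q') u v := ⟨QuadraticMap.polarBilin Q', fun u v => rfl⟩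
  have hsym : ∀ u v, B u v = B v u := by
    intro u v
    rw [hB, hB, QuadraticMap.polar_comm]
  have hgQ : ∀ u, Q' ((g : Matrix ι ι F) *ᵥ u) = Q' u := (mem_isometryGroup_iff' _ _).1 hg
  have hiso : ∀ u v, B (u + G u) (v + G v) = B u v := by
    intro u v
    rw [hB, hB, hx, hx]
    unfold QuadraticMap.polar
    rw [← Matrix.mulVec_add, hgQ, hgQ, hgQ]
  have hWx : ∀ u ∈ W, (g : Matrix ι ι F) *ᵥ u ∈ W := by
    intro u hu
    exact hWg ⟨u, hu, by rw [Matrix.toLin'_apply]⟩
  have hWG : ∀ u ∈ W, G u ∈ W := by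
    intro u hu
    have h3 : G u = (g : Matrix ι ι F) *ᵥ u - u := by rw [← hx]; abel
    rw [h3]
    exact W.sub_mem (hWx u hu) hu
  have hndW : ∀ w ∈ W, (∀ u ∈ W, B u w = 0) → w = 0 := by
    intro w hw h
    by_contra hw0
    obtain ⟨⟨x, hx1, hx2⟩, _⟩ := hWnd w hw hw0
    exact hx2 (by rw [← hB]; exact h x hx1)
  obtain ⟨W', hW'def⟩ : ∃ W' : Submodule F (ι → F), W' = B.orthogonal W := ⟨_, rfl⟩
  have hW'mem : ∀ v, v ∈ W' ↔ ∀ w ∈ W, B w v = 0 := by
    intro v
    rw [hW'def, LinearMap.BilinForm.mem_orthogonal_iff]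
  have hcompl : IsCompl W W' := by
    rw [hW'def]
    apply LinearMap.BilinForm.isCompl_orthogonal_of_restrict_nondegenerate
    · intro x y h
      rw [hsym]
      exact h
    · refine ⟨fun x hx' => ?_, fun y hy => ?_⟩
      · exact Subtype.ext (hndW x x.2 (fun u hu => by rw [hsym]; exact hx' ⟨u, hu⟩))
      · exact Subtype.ext (hndW y y.2 (fun u hu => hy ⟨u, hu⟩))
  -- `1 + G` maps `W` onto `W`
  have hsurj : ∀ w ∈ W, ∃ w' ∈ W, w' + G w' = w := by
    obtain ⟨f', hf'⟩ : ∃ f' : ↥W →ₗ[F] ↥W, ∀ w : ↥W, (f' w : ι → F) = (g : Matrix ι ι F) *ᵥ (w : ι → F) :=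
      ⟨(Matrix.toLin' (g : Matrix ι ι F)).restrict (fun u hu => by
        rw [Matrix.toLin'_apply]; exact hWx u hu), fun w => by
          rw [LinearMap.coe_restrict_apply, Matrix.toLin'_apply]⟩
    have hinj : Function.Injective f' := by
      intro a b hab
      have h1 := congrArg (fun w : ↥W => ((g⁻¹ : GL ι F) : Matrix ι ι F) *ᵥ (w : ι → F)) hab
      simp only [hf', Matrix.mulVec_mulVec] at h1
      rw [← Units.val_mul, inv_mul_cancel] at h1
      simp only [Units.val_one, Matrix.one_mulVec] at h1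
      exact Subtype.ext h1
    have hsur : Function.Surjective f' := LinearMap.injective_iff_surjective.1 hinj
    intro w hw
    obtain ⟨w', hw'⟩ := hsur ⟨w, hw⟩
    refine ⟨w', w'.2, ?_⟩
    rw [hx, ← hf', hw']
  have hW'G : ∀ v ∈ W', G v ∈ W' := by
    intro v hv
    rw [hW'mem]
    intro w hw
    obtain ⟨w', hw', rfl⟩ := hsurj w hw
    have h1 := oj_adj B G hiso w' v
    have h3 := (hW'mem v).1 hv (G w') (hWG w' hw')
    rw [h3] at h1
    exact neg_eq_zero.1 h1.symm
  refine ⟨nu (cc G W) P, ?_, ?_, ?_⟩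
  · rw [Multiset.le_iff_count]
    intro j
    rw [nu_count]
    split_ifs with h
    · have h1 := hμ j h.1 h.2
      have h2' := cc_add G W W' hWG hW'G hcompl.sup_eq_top hcompl.disjoint (j - 1)
      have h3 := cc_add G W W' hWG hW'G hcompl.sup_eq_top hcompl.disjoint j
      have h4 := cc_antitone G W' hW'G (j - 1)
      have h5 : j - 1 + 1 = j := by omega
      rw [h5] at h4
      omega
    · exact Nat.zero_le _
  · have h := nu_sum (cc G W) (cc_antitone G W hWG) P
    rw [cc_of_pow_eq_zero G W P hP, mul_zero, add_zero, sum_cc G W P hP] at h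
    exact h
  · intro e he
    rw [nu_count]
    split_ifs with h
    · obtain ⟨k, hk⟩ := he
      obtain ⟨t, ht⟩ := oj_even_sub h2 B hsym G hiso W hWG hndW (e - 1) ⟨k - 1, by omega⟩
      have h5 : e - 1 + 1 = e := by omega
      rw [h5] at ht
      exact ⟨t, by omega⟩
    · exact ⟨0, rfl⟩

end SubPartition

section Mod4

/-- arithmetic for the congruence `m ≡ 0 (mod 4)` -/
theorem oj_mod4 (ν : Multiset ℕ) (a c : ℕ) (hc : Odd c)
    (hν : ν ≤ Multiset.replicate a 2 + {c}) (hev : Even (ν.count 2)) (hsum : Even ν.sum) :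
    ν.sum % 4 = 0 := by
  have h1 : ∀ e, ν.count e ≤ (Multiset.replicate a 2 + {c}).count e := Multiset.le_iff_count.1 hν
  have hc2 : c ≠ 2 := by
    rintro rfl
    exact absurd hc (by decide)
  have hνeq : ν = Multiset.replicate (ν.count 2) 2 + Multiset.replicate (ν.count c) c := by
    ext e
    rw [Multiset.count_add, Multiset.count_replicate, Multiset.count_replicate]
    by_cases he2 : e = 2
    · rw [he2, if_pos rfl, if_neg hc2, add_zero]
    · by_cases hec : e = c
      · rw [hec, if_neg (Ne.symm hc2), if_pos rfl, zero_add]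
      · have := h1 e
        rw [Multiset.count_add, Multiset.count_replicate, Multiset.count_singleton] at this
        simp only [Ne.symm he2, if_false, hec, zero_add] at this
        rw [if_neg (Ne.symm he2), if_neg (Ne.symm hec)]
        omega
  have hs : ν.sum = 2 * ν.count 2 + c * ν.count c := by
    conv_lhs => rw [hνeq]
    rw [Multiset.sum_add, Multiset.sum_replicate, Multiset.sum_replicate, smul_eq_mul, smul_eq_mul]
    ring
  have hcc : ν.count c ≤ 1 := by
    have := h1 c
    rw [Multiset.count_add, Multiset.count_replicate, Multiset.count_singleton] at this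
    simp only [Ne.symm hc2, if_false, if_true, zero_add] at this
    exact this
  obtain ⟨t, ht⟩ := hev
  obtain ⟨k, hk⟩ := hc
  obtain ⟨s, hs'⟩ := hsum
  have h01 : ν.count c = 0 ∨ ν.count c = 1 := by omega
  rcases h01 with h0 | h0
  · rw [h0] at hs
    omega
  · rw [h0] at hs
    omega

end Mod4

end Cfsg.Agent.Lib.helper99.Oj
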