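import Mathlib
import Cfsg.Prelude.Def_GeometricClasses
import Cfsg.Agent.Lib.helper99.JordA
import Cfsg.Agent.Lib.helper99.JordB
import Cfsg.Agent.Lib.helper99.OjA
import Cfsg.Agent.Lib.helper99.OjB
import Cfsg.Agent.Lib.helper99.OjC
import Cfsg.Agent.Lib.helper45.OPrimeOrder

set_option autoImplicit false
set_option linter.unusedSectionVars false
set_option linter.unusedVariables false

/-!
# Unipotent elements of `Ω_{2d+1}(q)`, `q` odd, with prescribed Jordan type (helper99)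
-/

namespace Cfsg.Agent.Lib.helper99.Oj

open Module Matrix Cfsg.Agent.Lib.helper99.Jord Cfsg.Agent.Lib.helper45 Cfsg.Agent.Lib.helper49
  Cfsg.Agent.Lib.helper18

section Odd

variable {F : Type*} [Field F] [Fintype F]

/-- a quadratic space of dimension `2m+1` with non-degenerate polar form over a finite field of odd
characteristic is similar to the standard one -/
theorem oj_simil (h2 : (2 : F) ≠ 0) (m : ℕ) {V : Type*}
    [AddCommGroup V] [Module F V] [FiniteDimensional F V] (Q : QuadraticForm F V)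
    (hnd : ∀ v, (∀ w, QuadraticMap.polar Q v w = 0) → v = 0)
    (hfin : Module.finrank F V = 2 * m + 1) :
    ∃ (T : V ≃ₗ[F] (Unit ⊕ (Fin m ⊕ Fin m) → F)) (c : F),
      ∀ v, Cfsg.quadFormOdd m F (T v) = c * Q v := by
  classical
  have hQnd := nondegenerate_of_forall Q hnd
  obtain ⟨bs, hbs1, hbs2⟩ := exists_normal_basis h2 (2 * m) hfin Q hQnd
  have hQnd' := nondegenerate_of_gram (oddForm m F) (gramOdd m F) (gramOddInv m F)
    (gramOdd_mul_inv m h2) (polar_oddForm m)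
  obtain ⟨bs', hbs1', hbs2'⟩ := exists_normal_basis h2 (2 * m) (finrank_odd m) (oddForm m F) hQnd'
  obtain ⟨w₁, hw₁⟩ : ∃ w₁ : Fin (2 * m + 1) → F, w₁ = fun k => Q (bs k) := ⟨_, rfl⟩
  obtain ⟨w₂, hw₂⟩ : ∃ w₂ : Fin (2 * m + 1) → F, w₂ = fun k => oddForm m F (bs' k) := ⟨_, rfl⟩
  have hw₁0 : ∀ k, w₁ k ≠ 0 := by
    intro k
    rw [hw₁]
    exact ortho_basis_ne_zero Q hnd bs hbs1 k
  have hw₂0 : ∀ k, w₂ k ≠ 0 := by
    intro k
    rw [hw₂]
    exact ortho_basis_ne_zero (oddForm m F) (forall_of_nondegenerate _ hQnd') bs' hbs1' k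
  obtain ⟨g₁, c, hc0, hg₁⟩ := diag_similar h2
    (by rw [Fintype.card_fin]; exact odd_two_mul_add_one m) w₁ w₂ hw₁0 hw₂0
  obtain ⟨T, hT⟩ : ∃ T : V ≃ₗ[F] (Unit ⊕ (Fin m ⊕ Fin m) → F),
      T = bs.equivFun ≪≫ₗ g₁ ≪≫ₗ bs'.equivFun.symm := ⟨_, rfl⟩
  have hQexp : ∀ v : V, Q v = ∑ k, w₁ k * (bs.equivFun v k) ^ 2 := by
    intro v
    conv_lhs => rw [← bs.sum_equivFun v]
    rw [map_sum_ortho Q bs hbs1 (bs.equivFun v) Finset.univ, hw₁]
    apply Finset.sum_congr rfl
    intro k _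
    ring
  have hQexp' : ∀ x : Fin (2 * m + 1) → F,
      oddForm m F (bs'.equivFun.symm x) = ∑ k, w₂ k * (x k) ^ 2 := by
    intro x
    rw [Module.Basis.equivFun_symm_apply, map_sum_ortho (oddForm m F) bs' hbs1' x Finset.univ, hw₂]
    apply Finset.sum_congr rfl
    intro k _
    ring
  refine ⟨T, c, ?_⟩
  intro v
  rw [hT]
  show oddForm m F (bs'.equivFun.symm (g₁ (bs.equivFun v))) = _
  rw [hQexp', hg₁, hQexp]

/-- the hypothesis "every element of order `p` of `Ω_{2d+1}(q)` fixes a non-degenerate `m`-space"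
forces every admissible partition of `2d+1` to contain an admissible partition of `m` -/
theorem oj_partition_odd {p : ℕ} [Fact p.Prime] [CharP F p] (h2 : (2 : F) ≠ 0) (d m : ℕ)
    (hmn : m ≤ 2 * d)
    (H : ∀ x : GL (Unit ⊕ (Fin d ⊕ Fin d)) F, x ∈ Cfsg.Geo.omegaGL (Cfsg.quadFormOdd d F) →
      orderOf x = p →
      ∃ W : Submodule F (Unit ⊕ (Fin d ⊕ Fin d) → F), (Module.finrank F ↥W = m ∧
        Cfsg.Geo.IsNondegenerateOn (QuadraticMap.polar (Cfsg.quadFormOdd d F)) W ∧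
        Cfsg.Geo.IsPlusTypeOn (Cfsg.quadFormOdd d F) W) ∧
        W.map (Matrix.toLin' (x : Matrix (Unit ⊕ (Fin d ⊕ Fin d)) (Unit ⊕ (Fin d ⊕ Fin d)) F)) ≤ W)
    (μ : Multiset ℕ) (hμ1 : ∀ e ∈ μ, 0 < e ∧ e ≤ p) (hμ2 : ∀ e : ℕ, Even e → Even (μ.count e))
    (hμ3 : μ.sum = 2 * d + 1) :
    ∃ ν : Multiset ℕ, ν ≤ μ ∧ ν.sum = m ∧ ∀ e : ℕ, Even e → Even (ν.count e) := by
  classical
  by_cases hall : ∀ e ∈ μ, e = 1
  · have hμeq : μ = Multiset.replicate (Multiset.card μ) 1 := Multiset.eq_replicate_card.2 hall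
    have hcard : Multiset.card μ = 2 * d + 1 := by
      rw [hμeq, Multiset.sum_replicate, smul_eq_mul, mul_one] at hμ3
      exact hμ3
    refine ⟨Multiset.replicate m 1, ?_, ?_, ?_⟩
    · rw [hμeq, hcard]
      exact (Multiset.replicate_le_replicate 1).2 (by omega)
    · rw [Multiset.sum_replicate, smul_eq_mul, mul_one]
    · intro e he
      rw [Multiset.count_replicate]
      split_ifs with h1
      · exfalso
        rw [← h1] at he
        exact absurd he (by decide)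
      · exact ⟨0, rfl⟩
  · push Not at hall
    obtain ⟨b₀, hb₀, hb₀1⟩ := hall
    have hb₀2 : 2 ≤ b₀ := by
      have := (hμ1 b₀ hb₀).1
      omega
    obtain ⟨B, G, hsym, hnd, hiso, hGP, hcc, hne⟩ :=
      oj_model μ F h2 hμ2 p (fun b hb => (hμ1 b hb).2)
    have hG0 : G ≠ 0 := hne (sh_ne_zero μ F b₀ hb₀ hb₀2)
    have hfin : Module.finrank F (Idx μ → F) = 2 * d + 1 := by
      rw [Module.finrank_fintype_fun_eq_card, card_Idx, hμ3]
    obtain ⟨Q, hQ⟩ : ∃ Q : QuadraticForm F (Idx μ → F), ∀ v, Q v = B v v :=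
      ⟨LinearMap.BilinMap.toQuadraticMap B, fun v => rfl⟩
    have hpol : ∀ u v, QuadraticMap.polar Q u v = 2 * B u v := by
      intro u v
      unfold QuadraticMap.polar
      rw [hQ, hQ, hQ]
      simp only [map_add, LinearMap.add_apply]
      rw [hsym v u]
      ring
    have hndQ : ∀ v, (∀ w, QuadraticMap.polar Q v w = 0) → v = 0 := by
      intro v hv
      apply hnd
      intro u
      have := hv u
      rw [hpol] at this
      rcases mul_eq_zero.1 this with h | h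
      · exact absurd h h2
      · rw [hsym]
        exact h
    obtain ⟨T, c, hT⟩ := oj_simil h2 d Q hndQ hfin
    have hQnd' := nondegenerate_of_gram (oddForm d F) (gramOdd d F) (gramOddInv d F)
      (gramOdd_mul_inv d h2) (polar_oddForm d)
    obtain ⟨g, hgΩ, hgord, hgP, hgcc⟩ := oj_realise h2 (oddForm d F) hQnd' B G hiso hGP hG0 T c
      (fun v => by rw [← hQ]; exact hT v)
    obtain ⟨W, ⟨hWm, hWnd, -⟩, hWg⟩ := H g hgΩ hgord
    have hgiso : g ∈ Cfsg.isometryGroup F (⇑(oddForm d F)) := by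
      obtain ⟨gi, -, hgi⟩ := Subgroup.mem_map.1 hgΩ
      rw [← hgi]
      exact gi.2
    obtain ⟨ν, hν1, hν2, hν3⟩ := oj_sub_partition h2 (oddForm d F) g hgiso p hgP μ
      (fun j hj1 hj2 => by
        rw [hgcc, hgcc, hcc, hcc]
        exact cc_sh_count μ F j hj1) W hWnd hWg
    exact ⟨ν, hν1, hν2.trans hWm, hν3⟩

end Odd

end Cfsg.Agent.Lib.helper99.Oj
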