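import Mathlib
import Cfsg.Agent.Lib.helper24.TensE
import Cfsg.Agent.Lib.helper24.LagCountB

/-!
# Rank lemmas for Kronecker products (second batch) and skew matrices
-/

set_option autoImplicit false

namespace Cfsg.Agent.Lib.helper99

open Module Matrix
open scoped Kronecker
open Cfsg.Agent.Lib.helper24

variable {F : Type*} [Field F]

theorem ts_kron_swap {a b : ℕ} (M : Matrix (Fin a) (Fin a) F) (N : Matrix (Fin b) (Fin b) F) :
    (M ⊗ₖ N).submatrix (Equiv.prodComm (Fin b) (Fin a)) (Equiv.prodComm (Fin b) (Fin a))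
      = N ⊗ₖ M := by
  ext p q
  simp [Matrix.kroneckerMap_apply, mul_comm]

theorem ts_rank_swap {a b : ℕ} (M : Matrix (Fin a) (Fin a) F) (N : Matrix (Fin b) (Fin b) F)
    (lam : F) :
    (M ⊗ₖ N - lam • (1 : Matrix (Fin a × Fin b) (Fin a × Fin b) F)).rank =
      (N ⊗ₖ M - lam • (1 : Matrix (Fin b × Fin a) (Fin b × Fin a) F)).rank := by
  classical
  have h : (M ⊗ₖ N - lam • (1 : Matrix (Fin a × Fin b) (Fin a × Fin b) F)).submatrix
      (Equiv.prodComm (Fin b) (Fin a)) (Equiv.prodComm (Fin b) (Fin a)) =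
      N ⊗ₖ M - lam • (1 : Matrix (Fin b × Fin a) (Fin b × Fin a) F) := by
    ext p q
    simp [Matrix.kroneckerMap_apply, mul_comm, Matrix.one_apply, Prod.swap_inj]
  rw [← h, Matrix.rank_submatrix]

theorem ts_rank_kron_one {a b : ℕ} (N : Matrix (Fin a) (Fin a) F) :
    (N ⊗ₖ (1 : Matrix (Fin b) (Fin b) F)).rank = b * N.rank := by
  classical
  rw [← ts_kron_swap (1 : Matrix (Fin b) (Fin b) F) N, Matrix.rank_submatrix, tens_rank_one_kron]

/-- contraction with a functional in the first tensor factor -/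
noncomputable def tsContr {a b : ℕ} (f : (Fin a → F) →ₗ[F] F) :
    (Fin a × Fin b → F) →ₗ[F] (Fin b → F) where
  toFun T := fun j => f (fun i => T (i, j))
  map_add' T T' := by
    ext j
    have h : (fun i => (T + T') (i, j)) = (fun i => T (i, j)) + (fun i => T' (i, j)) := rfl
    show f (fun i => (T + T') (i, j)) = f (fun i => T (i, j)) + f (fun i => T' (i, j))
    rw [h, map_add]
  map_smul' c T := by
    ext j
    have h : (fun i => (c • T) (i, j)) = c • (fun i => T (i, j)) := rfl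
    show f (fun i => (c • T) (i, j)) = c • f (fun i => T (i, j))
    rw [h, map_smul]

/-- pure tensors -/
noncomputable def tsPure {a b : ℕ} (x : Fin a → F) : (Fin b → F) →ₗ[F] (Fin a × Fin b → F) where
  toFun w := fun p => x p.1 * w p.2
  map_add' w w' := by
    ext p
    simp [mul_add]
  map_smul' c w := by
    ext p
    simp [mul_left_comm]

theorem tsPure_apply {a b : ℕ} (x : Fin a → F) (w : Fin b → F) (p : Fin a × Fin b) :
    tsPure x w p = x p.1 * w p.2 := rfl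

theorem tsContr_pure {a b : ℕ} (f : (Fin a → F) →ₗ[F] F) (x : Fin a → F) (w : Fin b → F) :
    tsContr f (tsPure x w) = f x • w := by
  ext j
  show f (fun i => x i * w j) = f x * w j
  have h : (fun i => x i * w j) = w j • x := by
    ext i
    simp [mul_comm]
  rw [h, map_smul, smul_eq_mul, mul_comm]

theorem ts_mulVec_pure {a b : ℕ} (g₁ : Matrix (Fin a) (Fin a) F) (g₂ : Matrix (Fin b) (Fin b) F)
    (lam : F) (x : Fin a → F) (w : Fin b → F) :
    (g₁ ⊗ₖ g₂ - lam • (1 : Matrix (Fin a × Fin b) (Fin a × Fin b) F)) *ᵥ (tsPure x w)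
      = tsPure (g₁ *ᵥ x) (g₂ *ᵥ w) - lam • tsPure x w := by
  classical
  rw [Matrix.sub_mulVec, Matrix.smul_mulVec, Matrix.one_mulVec]
  congr 1
  ext p
  exact tens_kron_mulVec g₁ g₂ x w p

/-- if `u, g₁ u, g₁² u` are independent then `g₁ ⊗ g₂ - λ` has rank at least `2b` -/
theorem ts_rank_ge_two {a b : ℕ} (g₁ : Matrix (Fin a) (Fin a) F) (g₂ : Matrix (Fin b) (Fin b) F)
    (u : Fin a → F)
    (h1 : u ∉ Submodule.span F {g₁ *ᵥ u, g₁ *ᵥ (g₁ *ᵥ u)})
    (h2 : g₁ *ᵥ u ∉ Submodule.span F {g₁ *ᵥ (g₁ *ᵥ u)})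
    (lam : F) (hlam : lam ≠ 0) :
    2 * b ≤ (g₁ ⊗ₖ g₂ - lam • (1 : Matrix (Fin a × Fin b) (Fin a × Fin b) F)).rank := by
  classical
  obtain ⟨f, hfu, hf⟩ := Submodule.exists_dual_map_eq_bot_of_notMem h1 inferInstance
  obtain ⟨f', hf'u, hf'⟩ := Submodule.exists_dual_map_eq_bot_of_notMem h2 inferInstance
  have hf1 : f (g₁ *ᵥ u) = 0 := by
    have h : f (g₁ *ᵥ u) ∈ (Submodule.span F {g₁ *ᵥ u, g₁ *ᵥ (g₁ *ᵥ u)}).map f :=
      Submodule.mem_map_of_mem (Submodule.subset_span (by simp))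
    rw [hf] at h
    exact (Submodule.mem_bot F).1 h
  have hf2 : f (g₁ *ᵥ (g₁ *ᵥ u)) = 0 := by
    have h : f (g₁ *ᵥ (g₁ *ᵥ u)) ∈ (Submodule.span F {g₁ *ᵥ u, g₁ *ᵥ (g₁ *ᵥ u)}).map f :=
      Submodule.mem_map_of_mem (Submodule.subset_span (by simp))
    rw [hf] at h
    exact (Submodule.mem_bot F).1 h
  have hf'2 : f' (g₁ *ᵥ (g₁ *ᵥ u)) = 0 := by
    have h : f' (g₁ *ᵥ (g₁ *ᵥ u)) ∈ (Submodule.span F {g₁ *ᵥ (g₁ *ᵥ u)}).map f' :=
      Submodule.mem_map_of_mem (Submodule.subset_span (by simp))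
    rw [hf'] at h
    exact (Submodule.mem_bot F).1 h
  obtain ⟨M, hM⟩ : ∃ M : Matrix (Fin a × Fin b) (Fin a × Fin b) F,
      M = g₁ ⊗ₖ g₂ - lam • (1 : Matrix (Fin a × Fin b) (Fin a × Fin b) F) := ⟨_, rfl⟩
  rw [← hM]
  obtain ⟨Φ, hΦ⟩ : ∃ Φ : ((Fin b → F) × (Fin b → F)) →ₗ[F] (Fin a × Fin b → F),
      Φ = M.mulVecLin ∘ₗ ((tsPure u).coprod (tsPure (g₁ *ᵥ u))) := ⟨_, rfl⟩
  have hΦapp : ∀ w₁ w₂ : Fin b → F, Φ (w₁, w₂) =
      (tsPure (g₁ *ᵥ u) (g₂ *ᵥ w₁) - lam • tsPure u w₁) +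
        (tsPure (g₁ *ᵥ (g₁ *ᵥ u)) (g₂ *ᵥ w₂) - lam • tsPure (g₁ *ᵥ u) w₂) := by
    intro w₁ w₂
    rw [hΦ, LinearMap.comp_apply, LinearMap.coprod_apply, Matrix.mulVecLin_apply,
      Matrix.mulVec_add, hM, ts_mulVec_pure, ts_mulVec_pure]
  have hinj : Function.Injective Φ := by
    rw [← LinearMap.ker_eq_bot, LinearMap.ker_eq_bot']
    rintro ⟨w₁, w₂⟩ hw
    rw [hΦapp] at hw
    have hw1 : w₁ = 0 := by
      have h := congrArg (tsContr f) hw
      simp only [map_add, map_sub, map_smul, tsContr_pure, hf1, hf2, zero_smul, map_zero,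
        smul_zero, zero_sub, sub_zero, add_zero] at h
      rw [neg_eq_zero, smul_smul] at h
      rcases smul_eq_zero.1 h with h | h
      · exact absurd h (mul_ne_zero hlam hfu)
      · exact h
    have hw2 : w₂ = 0 := by
      have h := congrArg (tsContr f') hw
      rw [hw1] at h
      simp only [map_add, map_sub, map_smul, tsContr_pure, hf'2, zero_smul, map_zero,
        smul_zero, zero_sub, sub_zero, add_zero, zero_add, Matrix.mulVec_zero] at h
      rw [neg_eq_zero, smul_smul] at h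
      rcases smul_eq_zero.1 h with h | h
      · exact absurd h (mul_ne_zero hlam hf'u)
      · exact h
    rw [hw1, hw2]
    rfl
  have hle : LinearMap.range Φ ≤ LinearMap.range M.mulVecLin := by
    rw [hΦ]
    exact LinearMap.range_comp_le_range _ _
  have h3 : finrank F (LinearMap.range Φ) = 2 * b := by
    rw [LinearMap.finrank_range_of_inj hinj, Module.finrank_prod, Module.finrank_fin_fun]
    ring
  have h4 := Submodule.finrank_mono hle
  rw [h3] at h4
  exact h4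

end Cfsg.Agent.Lib.helper99
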