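import Mathlib
import Cfsg.Agent.Lib.helper99.TsA

/-!
# Cyclic vectors for elements of prime order, and even rank for isometries of odd order
-/

set_option autoImplicit false

namespace Cfsg.Agent.Lib.helper99

open Module Matrix
open scoped Kronecker
open Cfsg.Agent.Lib.helper24

variable {F : Type*} [Field F]

/-- a non-trivial matrix of prime order `r`, where `q` has order at least 3 modulo `r`, has a
vector `u` with `u, G u, G² u` independent -/
theorem ts_exists_cyc [Fintype F] {a : ℕ} (r : ℕ) [hr : Fact r.Prime]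
    (hrq : ¬ r ∣ Fintype.card F)
    (he : ∀ ρ : ℕ, ρ ≠ 0 → ((Fintype.card F : ℕ) : ZMod r) ^ ρ = 1 → 3 ≤ ρ)
    (G : Matrix (Fin a) (Fin a) F) (hG : G ^ r = 1) (hG1 : G ≠ 1) :
    ∃ u : Fin a → F, u ∉ Submodule.span F {G *ᵥ u, G *ᵥ (G *ᵥ u)} ∧
      G *ᵥ u ∉ Submodule.span F {G *ᵥ (G *ᵥ u)} := by
  classical
  obtain ⟨u, hu⟩ : ∃ u, G *ᵥ u ≠ u := by
    by_contra hcon
    push Not at hcon
    apply hG1
    apply Matrix.toLin'.injective
    apply LinearMap.ext
    intro x
    rw [Matrix.toLin'_apply, hcon, Matrix.toLin'_one, LinearMap.id_apply]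
  have key : u ∉ Submodule.span F {G *ᵥ u, G *ᵥ (G *ᵥ u)} := by
    intro hmem
    rw [Submodule.mem_span_pair] at hmem
    obtain ⟨α, β, hαβ⟩ := hmem
    obtain ⟨T, hTdef⟩ : ∃ T : (Fin a → F) →ₗ[F] (Fin a → F), T = Matrix.toLin' G := ⟨_, rfl⟩
    have hT : T ^ r = 1 := by
      rw [hTdef, ← Matrix.toLin'_pow, hG]
      exact Matrix.toLin'_one
    have hTa : ∀ x, T x = G *ᵥ x := fun x => by rw [hTdef, Matrix.toLin'_apply]
    have hGGu : G *ᵥ (G *ᵥ u) ∈ Submodule.span F {u, G *ᵥ u} := by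
      by_cases hβ : β = 0
      · rw [hβ, zero_smul, add_zero] at hαβ
        have hα : α ≠ 0 := by
          rintro rfl
          rw [zero_smul] at hαβ
          apply hu
          rw [← hαβ, Matrix.mulVec_zero]
        have h3 : G *ᵥ u = α⁻¹ • u := by
          rw [eq_inv_smul_iff₀ hα]
          exact hαβ
        have h4 : G *ᵥ (G *ᵥ u) = α⁻¹ • G *ᵥ u := by
          conv_lhs => rw [h3]
          rw [Matrix.mulVec_smul]
        rw [h4]
        exact Submodule.smul_mem _ _ (Submodule.subset_span (by simp))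
      · have h3 : G *ᵥ (G *ᵥ u) = β⁻¹ • (u - α • G *ᵥ u) := by
          rw [eq_inv_smul_iff₀ hβ, eq_sub_iff_add_eq, add_comm]
          exact hαβ
        rw [h3]
        exact Submodule.smul_mem _ _ (Submodule.sub_mem _ (Submodule.subset_span (by simp))
          (Submodule.smul_mem _ _ (Submodule.subset_span (by simp))))
    obtain ⟨W, hWdef⟩ : ∃ W : Submodule F (Fin a → F), W = Submodule.span F {u, G *ᵥ u} :=
      ⟨_, rfl⟩
    have hW : ∀ w ∈ W, T w ∈ W := by
      have h5 : W.map T ≤ W := by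
        rw [hWdef, Submodule.map_span_le]
        intro m hm
        rcases hm with rfl | hm
        · rw [hTa]
          exact Submodule.subset_span (by simp)
        · rw [Set.mem_singleton_iff] at hm
          rw [hm, hTa]
          exact hGGu
      intro w hw
      exact h5 (Submodule.mem_map_of_mem hw)
    have h6 := lag_fix_pow r hrq T hT W hW
    have h7 : finrank F (W.map (T - 1)) ≠ 0 := by
      intro h0
      have h8 : W.map (T - 1) = ⊥ := Submodule.finrank_eq_zero.1 h0
      have h9 : (T - 1) u ∈ W.map (T - 1) := by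
        apply Submodule.mem_map_of_mem
        rw [hWdef]
        exact Submodule.subset_span (by simp)
      rw [h8, Submodule.mem_bot, LinearMap.sub_apply, hTa, Module.End.one_apply, sub_eq_zero] at h9
      exact hu h9
    have h10 : finrank F (W.map (T - 1)) ≤ 2 := by
      refine le_trans (Submodule.finrank_map_le _ _) ?_
      rw [hWdef]
      have h11 := finrank_span_finset_le_card (R := F) ({u, G *ᵥ u} : Finset (Fin a → F))
      rw [Finset.coe_pair] at h11
      exact le_trans h11 Finset.card_le_two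
    have h12 := he _ h7 h6
    omega
  refine ⟨u, key, ?_⟩
  intro hmem
  rw [Submodule.mem_span_singleton] at hmem
  obtain ⟨c, hc⟩ := hmem
  apply key
  have hinv : ∀ x, (G ^ (r - 1)) *ᵥ (G *ᵥ x) = x := by
    intro x
    rw [Matrix.mulVec_mulVec, ← pow_succ, Nat.sub_add_cancel hr.out.one_le, hG, Matrix.one_mulVec]
  have h1 : c • G *ᵥ u = u := by
    have h2 := congrArg (fun y => (G ^ (r - 1)) *ᵥ y) hc
    simp only [Matrix.mulVec_smul, hinv] at h2
    exact h2
  have h5 : c • G *ᵥ u ∈ Submodule.span F {G *ᵥ u, G *ᵥ (G *ᵥ u)} :=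
    Submodule.smul_mem _ _ (Submodule.subset_span (by simp))
  rw [h1] at h5
  exact h5

/-- a skew-symmetric matrix has even rank (characteristic not 2) -/
theorem ts_even_rank_skew {n : ℕ} (h2 : (2 : F) ≠ 0) (B : Matrix (Fin n) (Fin n) F)
    (hB : Bᵀ = -B) : Even B.rank := by
  classical
  obtain ⟨K, hKdef⟩ : ∃ K : Submodule F (Fin n → F), K = LinearMap.ker B.mulVecLin := ⟨_, rfl⟩
  obtain ⟨C, hC⟩ := Submodule.exists_isCompl K
  have hrank : B.rank = finrank F C := by
    have h1 := LinearMap.finrank_range_add_finrank_ker B.mulVecLin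
    have h3 := Submodule.finrank_add_eq_of_isCompl hC
    rw [hKdef] at h3
    have h4 : B.rank = finrank F (LinearMap.range B.mulVecLin) := rfl
    omega
  rw [hrank]
  by_contra hodd
  rw [Nat.not_even_iff_odd] at hodd
  obtain ⟨bs⟩ : Nonempty (Basis (Fin (finrank F C)) F C) := ⟨Module.finBasis F C⟩
  obtain ⟨c, hc⟩ : ∃ c : Fin (finrank F C) → (Fin n → F), c = fun i => (bs i : Fin n → F) :=
    ⟨_, rfl⟩
  obtain ⟨M, hM⟩ : ∃ M : Matrix (Fin (finrank F C)) (Fin (finrank F C)) F,
      M = Matrix.of fun i j => c i ⬝ᵥ B *ᵥ c j := ⟨_, rfl⟩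
  have hsk : ∀ x y : Fin n → F, x ⬝ᵥ B *ᵥ y = -(y ⬝ᵥ B *ᵥ x) := by
    intro x y
    rw [Matrix.dotProduct_mulVec, ← Matrix.mulVec_transpose, hB, Matrix.neg_mulVec, neg_dotProduct,
      dotProduct_comm]
  have hMskew : Mᵀ = -M := by
    ext i j
    rw [Matrix.transpose_apply, Matrix.neg_apply, hM, Matrix.of_apply, Matrix.of_apply]
    exact hsk _ _
  have hdet0 : M.det = 0 := by
    have h1 : M.det = (-M).det := by rw [← hMskew, Matrix.det_transpose]
    rw [Matrix.det_neg, Fintype.card_fin, hodd.neg_one_pow, neg_one_mul] at h1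
    have h3 : (2 : F) * M.det = 0 := by linear_combination h1
    exact (mul_eq_zero.1 h3).resolve_left h2
  obtain ⟨w, hw0, hw⟩ := Matrix.exists_mulVec_eq_zero_iff.2 hdet0
  obtain ⟨v, hv⟩ : ∃ v : Fin n → F, v = ∑ j, w j • c j := ⟨_, rfl⟩
  have hvC : v ∈ C := by
    rw [hv]
    refine Submodule.sum_mem _ (fun j _ => Submodule.smul_mem _ _ ?_)
    rw [hc]
    exact (bs j).2
  have hcv : ∀ i, c i ⬝ᵥ B *ᵥ v = 0 := by
    intro i
    have h1 := congrFun hw i
    rw [Matrix.mulVec, dotProduct, Pi.zero_apply] at h1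
    rw [hv, Matrix.mulVec_sum, dotProduct_sum, ← h1]
    apply Finset.sum_congr rfl
    intro j _
    rw [Matrix.mulVec_smul, dotProduct_smul, hM, Matrix.of_apply, smul_eq_mul, mul_comm]
  have hCv : ∀ x ∈ C, x ⬝ᵥ B *ᵥ v = 0 := by
    intro x hx
    have h1 := bs.sum_repr ⟨x, hx⟩
    have h3 : x = ∑ i, (bs.repr ⟨x, hx⟩ i) • c i := by
      have h4 := congrArg (Subtype.val) h1
      rw [Submodule.coe_sum] at h4
      rw [hc]
      simp only [Submodule.coe_smul] at h4
      exact h4.symm
    rw [h3, sum_dotProduct]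
    apply Finset.sum_eq_zero
    intro i _
    rw [smul_dotProduct, hcv, smul_zero]
  have hKv : ∀ k ∈ K, k ⬝ᵥ B *ᵥ v = 0 := by
    intro k hk
    rw [hsk]
    have h1 : B *ᵥ k = 0 := by
      rw [hKdef] at hk
      exact hk
    rw [h1, dotProduct_zero, neg_zero]
  have hBv : B *ᵥ v = 0 := by
    have hall : ∀ x : Fin n → F, x ⬝ᵥ B *ᵥ v = 0 := by
      intro x
      have hx : x ∈ K ⊔ C := by
        rw [hC.sup_eq_top]
        trivial
      obtain ⟨k, hk, c', hc', rfl⟩ := Submodule.mem_sup.1 hx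
      rw [add_dotProduct, hKv k hk, hCv c' hc', add_zero]
    ext i
    have h1 := hall (Pi.single i 1)
    rw [single_dotProduct, one_mul] at h1
    exact h1
  have hv0 : v = 0 := by
    have h1 : v ∈ K ⊓ C := ⟨by rw [hKdef]; exact hBv, hvC⟩
    rw [hC.inf_eq_bot] at h1
    exact (Submodule.mem_bot F).1 h1
  apply hw0
  have hsum : ∑ j, w j • bs j = 0 := by
    apply Subtype.ext
    rw [Submodule.coe_sum]
    simp only [Submodule.coe_smul]
    rw [Submodule.coe_zero, ← hv0, hv, hc]
  ext j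
  exact Fintype.linearIndependent_iff.1 bs.linearIndependent w hsum j

/-- an isometry of odd order of a non-degenerate symmetric form moves a space of even dimension -/
theorem ts_even_rank_isom {n : ℕ} (h2 : (2 : F) ≠ 0) (S G : Matrix (Fin n) (Fin n) F)
    (hS : Sᵀ = S) (hSdet : S.det ≠ 0) (hG : Gᵀ * S * G = S) (r : ℕ) (hr : Odd r)
    (hGr : G ^ r = 1) : Even (G - 1).rank := by
  classical
  obtain ⟨k, hk⟩ := hr
  obtain ⟨Gi, hGi⟩ : ∃ Gi : Matrix (Fin n) (Fin n) F, Gi = G ^ (2 * k) := ⟨_, rfl⟩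
  have h1 : G * Gi = 1 := by rw [hGi, ← pow_succ', ← hk, hGr]
  have hGS : Gᵀ * S = S * Gi := by
    calc Gᵀ * S = Gᵀ * S * (G * Gi) := by rw [h1, Matrix.mul_one]
      _ = (Gᵀ * S * G) * Gi := by simp only [Matrix.mul_assoc]
      _ = S * Gi := by rw [hG]
  have hGiS : Giᵀ * S = S * G := by
    have h3 : Giᵀ * Gᵀ = 1 := by rw [← Matrix.transpose_mul, h1, Matrix.transpose_one]
    calc Giᵀ * S = Giᵀ * (Gᵀ * S * G) := by rw [hG]
      _ = (Giᵀ * Gᵀ) * S * G := by simp only [Matrix.mul_assoc]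
      _ = S * G := by rw [h3, Matrix.one_mul]
  have hskew : (S * (G - Gi))ᵀ = -(S * (G - Gi)) := by
    rw [Matrix.transpose_mul, Matrix.transpose_sub, hS, Matrix.sub_mul, hGS, hGiS, Matrix.mul_sub]
    abel
  have heven := ts_even_rank_skew h2 _ hskew
  have hr1 : (S * (G - Gi)).rank = (G - Gi).rank :=
    Matrix.rank_mul_eq_right_of_isUnit_det _ _ (isUnit_iff_ne_zero.2 hSdet)
  have hker : LinearMap.ker (G - Gi).mulVecLin = LinearMap.ker (G - 1).mulVecLin := by
    ext v
    simp only [LinearMap.mem_ker, Matrix.mulVecLin_apply, Matrix.sub_mulVec, Matrix.one_mulVec,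
      sub_eq_zero]
    constructor
    · intro h
      have h4 : G *ᵥ (G *ᵥ v) = v := by rw [h, Matrix.mulVec_mulVec, h1, Matrix.one_mulVec]
      have h5 : ∀ j : ℕ, (G ^ (2 * j)) *ᵥ v = v := by
        intro j
        induction j with
        | zero => simp
        | succ j ih =>
          rw [show 2 * (j + 1) = 2 * j + 2 by ring, pow_add, pow_two, ← Matrix.mulVec_mulVec,
            ← Matrix.mulVec_mulVec, h4, ih]
      rw [h, hGi, h5 k]
    · intro h
      have h5 : ∀ j : ℕ, (G ^ j) *ᵥ v = v := by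
        intro j
        induction j with
        | zero => simp
        | succ j ih => rw [pow_succ, ← Matrix.mulVec_mulVec, h, ih]
      rw [h, hGi, h5]
  have e1 := LinearMap.finrank_range_add_finrank_ker (G - Gi).mulVecLin
  have e2 := LinearMap.finrank_range_add_finrank_ker (G - 1).mulVecLin
  rw [hker] at e1
  have h6 : (G - Gi).rank = finrank F (LinearMap.range (G - Gi).mulVecLin) := rfl
  have h7 : (G - 1).rank = finrank F (LinearMap.range (G - 1).mulVecLin) := rfl
  have h8 : (G - Gi).rank = (G - 1).rank := by omega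
  rw [← h8, ← hr1]
  exact heven

end Cfsg.Agent.Lib.helper99
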