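import Mathlib
import Cfsg.Agent.Lib.helper24.SroDefs
import Cfsg.Agent.Lib.helper13.SroEMB

/-! PIECE CNT of the S5989 split (helper24's skeleton `tools/S5989_Skel.lean.txt`):
the counting lemma for isometry classes of subspaces. -/

set_option autoImplicit false
set_option linter.unusedSectionVars false
set_option linter.unusedVariables false

namespace Cfsg.Agent.Lib.helper24

open Module Cfsg.Agent.Lib.helper45 Cfsg.Agent.Lib.helper49

universe u

section cnt

variable {F : Type u} [Field F] [Fintype F]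

/-- an isometric copy of a nondegenerate subspace is nondegenerate of the same dimension
(local copy of piece ISO) -/
theorem sro_cnt_iso_nd {V V₀ : Type u} [AddCommGroup V] [Module F V] [AddCommGroup V₀]
    [Module F V₀] (Q : QuadraticForm F V) (W : Submodule F V) (Q₀ : QuadraticForm F V₀)
    (W₀ : Submodule F V₀) (h : SrIsoTo Q W Q₀ W₀) (hW₀ : SpNd (QuadraticMap.polarBilin Q₀) W₀) :
    SpNd (QuadraticMap.polarBilin Q) W ∧ finrank F W = finrank F W₀ := by
  obtain ⟨e, he⟩ := h
  refine ⟨?_, e.finrank_eq⟩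
  have hpol : ∀ x y : W, QuadraticMap.polar Q₀ ((e x : W₀) : V₀) ((e y : W₀) : V₀) =
      QuadraticMap.polar Q (x : V) (y : V) := by
    intro x y
    unfold QuadraticMap.polar
    have h3 := he (x + y)
    rw [map_add] at h3
    rw [← he x, ← he y]
    have h4 : Q ((x : V) + (y : V)) = Q₀ (((e x : W₀) : V₀) + ((e y : W₀) : V₀)) := h3.symm
    rw [h4]
  intro u hu hu2
  have h1 : (e ⟨u, hu⟩ : V₀) = 0 := by
    apply hW₀ _ (e ⟨u, hu⟩).2
    intro v hv
    have h3 := hpol ⟨u, hu⟩ (e.symm ⟨v, hv⟩)
    rw [LinearEquiv.apply_symm_apply] at h3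
    rw [QuadraticMap.polarBilin_apply_apply, h3]
    have h4 := hu2 _ (e.symm ⟨v, hv⟩).2
    rwa [QuadraticMap.polarBilin_apply_apply] at h4
  have h5 : e ⟨u, hu⟩ = 0 := Subtype.ext h1
  have h6 : (⟨u, hu⟩ : W) = 0 := by
    rw [← e.symm_apply_apply ⟨u, hu⟩, h5, map_zero]
  exact congrArg Subtype.val h6

/-- the image of a member of the class under an isometry is a member -/
theorem sro_cnt_map {V V₀ : Type u} [AddCommGroup V] [Module F V] [AddCommGroup V₀] [Module F V₀]
    (Q : QuadraticForm F V) (Q₀ : QuadraticForm F V₀) (W₀ : Submodule F V₀) (W : Submodule F V)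
    (h : SrIsoTo Q W Q₀ W₀) (g : V ≃ₗ[F] V) (hg : ∀ v, Q (g v) = Q v) :
    SrIsoTo Q (W.map (g : V →ₗ[F] V)) Q₀ W₀ := by
  obtain ⟨e, he⟩ := h
  obtain ⟨f, hf⟩ : ∃ f : W ≃ₗ[F] ↥(W.map (g : V →ₗ[F] V)), ∀ x : W, (f x : V) = g (x : V) :=
    ⟨Submodule.equivMapOfInjective (g : V →ₗ[F] V) g.injective W, fun x => rfl⟩
  refine ⟨f.symm.trans e, fun y => ?_⟩
  rw [LinearEquiv.trans_apply, he]
  have h1 := hf (f.symm y)
  rw [LinearEquiv.apply_symm_apply] at h1
  rw [h1, hg]

/-- members of the class inside a subspace -/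
theorem sro_cnt_sub {V V₀ : Type u} [AddCommGroup V] [Module F V] [AddCommGroup V₀] [Module F V₀]
    (Q : QuadraticForm F V) (Q₀ : QuadraticForm F V₀) (W₀ : Submodule F V₀) (K : Submodule F V)
    (W' : Submodule F K) :
    SrIsoTo (Q.comp K.subtype) W' Q₀ W₀ ↔ SrIsoTo Q (W'.map K.subtype) Q₀ W₀ := by
  obtain ⟨f, hf⟩ : ∃ f : W' ≃ₗ[F] ↥(W'.map K.subtype), ∀ x : W', (f x : V) = ((x : K) : V) :=
    ⟨Submodule.equivMapOfInjective K.subtype K.injective_subtype W', fun x => rfl⟩
  constructor
  · rintro ⟨e, he⟩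
    refine ⟨f.symm.trans e, fun y => ?_⟩
    rw [LinearEquiv.trans_apply, he, QuadraticMap.comp_apply]
    have h1 := hf (f.symm y)
    rw [LinearEquiv.apply_symm_apply] at h1
    rw [h1]
    rfl
  · rintro ⟨e, he⟩
    refine ⟨f.trans e, fun x => ?_⟩
    rw [LinearEquiv.trans_apply, he, hf, QuadraticMap.comp_apply]
    rfl

/-- the class is one orbit of the isometry group -/
theorem sro_cnt_dvd {V V₀ : Type u} [AddCommGroup V] [Module F V] [FiniteDimensional F V]
    [AddCommGroup V₀] [Module F V₀]
    (Q : QuadraticForm F V) (hnd : ∀ v, (∀ w, QuadraticMap.polar Q v w = 0) → v = 0)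
    (Q₀ : QuadraticForm F V₀) (W₀ : Submodule F V₀) (W₁ : Submodule F V)
    (h1 : SrIsoTo Q W₁ Q₀ W₀) :
    Nat.card {W : Submodule F V // SrIsoTo Q W Q₀ W₀} ∣ Nat.card ↥(srIso Q) := by
  letI := srAct Q
  have hsmul : ∀ (g : ↥(srIso Q)) (W : Submodule F V), g • W = W.map (g.1 : V →ₗ[F] V) :=
    fun g W => rfl
  have h3 := Cfsg.Agent.Lib.helper17.card_eq_card_range_mul_card
    (MulAction.stabilizer ↥(srIso Q) W₁) (fun g => g • W₁) (by
      intro g g'
      show g • W₁ = g' • W₁ ↔ g⁻¹ * g' ∈ MulAction.stabilizer _ W₁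
      rw [MulAction.mem_stabilizer_iff, mul_smul, inv_smul_eq_iff]
      exact eq_comm)
  have h4 : Set.range (fun g : ↥(srIso Q) => g • W₁) =
      {W : Submodule F V | SrIsoTo Q W Q₀ W₀} := by
    ext W
    constructor
    · rintro ⟨g, rfl⟩
      show SrIsoTo Q (g • W₁) Q₀ W₀
      rw [hsmul]
      exact sro_cnt_map Q Q₀ W₀ W₁ h1 g.1 g.2
    · intro hW
      obtain ⟨e₁, he₁⟩ := h1
      obtain ⟨e, he⟩ : SrIsoTo Q W Q₀ W₀ := hW
      obtain ⟨φ, hφ⟩ : ∃ φ : W₁ ≃ₗ[F] W, ∀ x : W₁, Q (φ x : V) = Q (x : V) := by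
        refine ⟨e₁.trans e.symm, fun x => ?_⟩
        have h5 := he (e.symm (e₁ x))
        rw [LinearEquiv.apply_symm_apply, he₁] at h5
        exact h5.symm
      obtain ⟨g, hg, hgφ⟩ := Cfsg.Agent.S0750.result Q (nondegenerate_of_forall Q hnd) W₁ W φ hφ
      refine ⟨⟨g, hg⟩, ?_⟩
      show (⟨g, hg⟩ : ↥(srIso Q)) • W₁ = W
      rw [hsmul]
      ext w
      constructor
      · rintro ⟨x, hx, rfl⟩
        have := hgφ ⟨x, hx⟩
        show g x ∈ W
        rw [this]
        exact (φ ⟨x, hx⟩).2
      · intro hw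
        refine ⟨(φ.symm ⟨w, hw⟩ : V), (φ.symm ⟨w, hw⟩).2, ?_⟩
        show g (φ.symm ⟨w, hw⟩ : V) = w
        rw [hgφ, LinearEquiv.apply_symm_apply]
  rw [h4] at h3
  exact Dvd.intro _ h3.symm

/-- The counting lemma: if `r` divides the number of subspaces of `V` isometric to `W₀` and
`dim W₀ < c`, then `dim V mod c ≤ dim W₀`. -/
theorem sro_count (h2 : (2 : F) ≠ 0) (p f' : ℕ) [Fact p.Prime] (hF : Fintype.card F = p ^ f')
    (r : ℕ) [Fact r.Prime] (hpr : p.Coprime r) (hr2 : r ≠ 2) (i c : ℕ)
    (hi : i = orderOf ((Fintype.card F : ℕ) : ZMod r)) (hc : c = if Even i then i else 2 * i)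
    {V₀ : Type u} [AddCommGroup V₀] [Module F V₀] [FiniteDimensional F V₀]
    (Q₀ : QuadraticForm F V₀) (W₀ : Submodule F V₀) (hW₀ : SpNd (QuadraticMap.polarBilin Q₀) W₀)
    (hm : Odd (finrank F W₀)) (hmc : finrank F W₀ < c) :
    ∀ (n : ℕ) (V : Type u) [AddCommGroup V] [Module F V] [FiniteDimensional F V]
      (Q : QuadraticForm F V), (∀ v, (∀ w, QuadraticMap.polar Q v w = 0) → v = 0) →
      finrank F V = n →
      r ∣ Nat.card {W : Submodule F V // SrIsoTo Q W Q₀ W₀} → n % c ≤ finrank F W₀ := by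
  have hr : r.Prime := Fact.out
  have hq0 := el_card_ne_zero p f' hF r hpr
  have hrF := el_natCast_ne_zero (F := F) p f' hF r hpr
  intro n
  induction n using Nat.strong_induction_on with
  | _ n ih =>
    intro V _ _ _ Q hnd hdim hdvd
    haveI : Finite V := Module.finite_of_finite F
    by_cases hex : ∃ T : Module.End F V, (∀ v, Q (T v) = Q v) ∧ T ^ r = 1 ∧ T ≠ 1
    · obtain ⟨T, hT, hTr, hT1⟩ := hex
      obtain ⟨T', hT'⟩ : ∃ T' : Module.End F V, T' = T ^ (r - 1) := ⟨_, rfl⟩
      have hTT' : T * T' = 1 := by rw [hT', ← pow_succ', Nat.sub_add_cancel hr.one_le, hTr]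
      have hT'T : T' * T = 1 := by rw [hT', ← pow_succ, Nat.sub_add_cancel hr.one_le, hTr]
      obtain ⟨K, hK⟩ : ∃ K : Submodule F V, K = LinearMap.ker (T - 1) := ⟨_, rfl⟩
      have hKnd : SpNd (QuadraticMap.polarBilin Q) K := by
        rw [hK]
        exact sr_K_nd Q hnd T hT r hTr hrF
      have hRnd := sr_R_nd Q hnd T hT r hTr hrF
      have hKR := sr_KR_bot T r hTr hrF
      obtain ⟨t, ht⟩ := sr_dvd Q hnd T hT p f' hF r hpr hr2 hTr i c hi hc _ hRnd (sr_R_inv T) hKR
      have hRne : finrank F (LinearMap.range (T - 1)) ≠ 0 := by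
        intro h0
        apply hT1
        have := Submodule.finrank_eq_zero.mp h0
        rw [LinearMap.range_eq_bot] at this
        exact sub_eq_zero.mp this
      have hsum := LinearMap.finrank_range_add_finrank_ker (T - 1)
      rw [hdim, ← hK] at hsum
      have hKfix : ∀ k ∈ K, T k = k := by
        intro k hk
        rw [hK, LinearMap.mem_ker, LinearMap.sub_apply, Module.End.one_apply, sub_eq_zero] at hk
        exact hk
      obtain ⟨g, hg⟩ : ∃ g : V ≃ₗ[F] V, (g : V →ₗ[F] V) = T :=
        ⟨LinearEquiv.ofLinear T T' hTT' hT'T, rfl⟩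
      have hgiso : ∀ v, Q (g v) = Q v := by
        intro v
        have : g v = T v := by rw [← hg]; rfl
        rw [this, hT]
      obtain ⟨σ, hσ⟩ : ∃ σ : {W : Submodule F V // SrIsoTo Q W Q₀ W₀} →
          {W : Submodule F V // SrIsoTo Q W Q₀ W₀}, ∀ W, (σ W).1 = W.1.map T :=
        ⟨fun W => ⟨W.1.map T, by
          have := sro_cnt_map Q Q₀ W₀ W.1 W.2 g hgiso
          rw [hg] at this
          exact this⟩, fun W => rfl⟩
      have hiter : ∀ (k : ℕ) W, ((σ^[k]) W).1 = W.1.map (T ^ k) := by
        intro k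
        induction k with
        | zero =>
          intro W
          rw [pow_zero]
          exact (Submodule.map_id _).symm
        | succ k ih2 =>
          intro W
          rw [Function.iterate_succ_apply', hσ, ih2, pow_succ', ← Submodule.map_comp]
          rfl
      have hmod := sr_fixed_mod σ r (fun W => by
        apply Subtype.ext
        rw [hiter, hTr]
        exact Submodule.map_id _)
      have hdvd2 := (Nat.ModEq.dvd_iff hmod (dvd_refl r)).mp hdvd
      have hcard : Nat.card {W' : Submodule F K // SrIsoTo (Q.comp K.subtype) W' Q₀ W₀} =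
          Nat.card {a : {W : Submodule F V // SrIsoTo Q W Q₀ W₀} // σ a = a} := by
        apply Nat.card_congr
        refine Equiv.ofBijective (fun W' => ⟨⟨W'.1.map K.subtype,
          (sro_cnt_sub Q Q₀ W₀ K W'.1).mp W'.2⟩, ?_⟩) ⟨?_, ?_⟩
        · apply Subtype.ext
          rw [hσ]
          show (W'.1.map K.subtype).map T = W'.1.map K.subtype
          ext x
          constructor
          · rintro ⟨_, ⟨k, hk, rfl⟩, rfl⟩
            refine ⟨k, hk, ?_⟩
            exact (hKfix k.1 k.2).symm
          · rintro ⟨k, hk, rfl⟩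
            exact ⟨k.1, ⟨k, hk, rfl⟩, hKfix k.1 k.2⟩
        · intro W' W'' h
          have h1 : W'.1.map K.subtype = W''.1.map K.subtype :=
            congrArg (fun x => (x.1.1 : Submodule F V)) h
          exact Subtype.ext (Submodule.map_injective_of_injective K.injective_subtype h1)
        · rintro ⟨⟨W, hW⟩, hfix⟩
          obtain ⟨hWnd, hWdim⟩ := sro_cnt_iso_nd Q W Q₀ W₀ hW hW₀
          have hWT : W.map T = W := by
            have := congrArg Subtype.val hfix
            rw [hσ] at this
            exact this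
          have hWinv : ∀ w ∈ W, T w ∈ W := by
            intro w hw
            rw [← hWT]
            exact ⟨w, hw, rfl⟩
          obtain ⟨hsup, hdimW⟩ := sr_split Q hnd T hT r hTr hrF W hWinv
          obtain ⟨-, hRnd'⟩ := sr_split_nd Q hnd T hT r hTr hrF W hWinv hWnd
          have hDinv : ∀ d ∈ W ⊓ LinearMap.range (T - 1),
              T d ∈ W ⊓ LinearMap.range (T - 1) := by
            intro d hd
            rw [Submodule.mem_inf] at hd ⊢
            exact ⟨hWinv d hd.1, sr_R_inv T d hd.2⟩
          have hDfix : LinearMap.ker (T - 1) ⊓ (W ⊓ LinearMap.range (T - 1)) = ⊥ := by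
            rw [eq_bot_iff, ← hKR]
            exact inf_le_inf_left _ inf_le_right
          obtain ⟨b', hb'⟩ := sr_dvd Q hnd T hT p f' hF r hpr hr2 hTr i c hi hc _ hRnd' hDinv
            hDfix
          have hD0 : finrank F ↥(W ⊓ LinearMap.range (T - 1)) = 0 := by
            have hle : finrank F ↥(W ⊓ LinearMap.range (T - 1)) ≤ finrank F W :=
              Submodule.finrank_mono inf_le_left
            rw [hWdim] at hle
            rcases Nat.eq_zero_or_pos b' with h0 | hpos
            · rw [hb', h0, mul_zero]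
            · exfalso
              have : c ≤ c * b' := Nat.le_mul_of_pos_right c hpos
              omega
          have hWK : W ≤ K := by
            rw [Submodule.finrank_eq_zero.mp hD0, sup_bot_eq] at hsup
            rw [← hsup, hK]
            exact inf_le_right
          have hmc' : (W.comap K.subtype).map K.subtype = W := by
            rw [Submodule.map_comap_subtype]
            exact inf_eq_right.mpr hWK
          refine ⟨⟨W.comap K.subtype, ?_⟩, ?_⟩
          · rw [sro_cnt_sub, hmc']
            exact hW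
          · exact Subtype.ext (Subtype.ext hmc')
      rw [← hcard] at hdvd2
      have hKlt : finrank F K < n := by omega
      have h5 := ih (finrank F K) hKlt ↥K (Q.comp K.subtype) (sr_restr_nd Q K hKnd) rfl hdvd2
      have h6 : n % c = finrank F K % c := by
        rw [← hsum, ht, Nat.mul_add_mod]
      rw [h6]
      exact h5
    · push Not at hex
      by_contra hlt
      push Not at hlt
      have hmn : finrank F W₀ + 1 ≤ n := by
        have := Nat.mod_le n c
        omega
      have hTop : SpNd (QuadraticMap.polarBilin Q) ⊤ := by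
        intro u _ hu2
        apply hnd u
        intro w
        have := hu2 w Submodule.mem_top
        rwa [QuadraticMap.polarBilin_apply_apply] at this
      obtain ⟨W₁, -, hW₁⟩ := sro_embed Q Q₀ h2 W₀ hW₀ hm ⊤ hTop
        (by rw [finrank_top, hdim]; omega)
      have hdvdG := hdvd.trans (sro_cnt_dvd Q hnd Q₀ W₀ W₁ hW₁)
      haveI : Finite (V ≃ₗ[F] V) :=
        Finite.of_injective (fun g : V ≃ₗ[F] V => (g : V → V)) DFunLike.coe_injective
      obtain ⟨g, hg⟩ := exists_prime_orderOf_dvd_card' r hdvdG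
      have hpow : ∀ (k : ℕ) (v : V), ((g.1 : V →ₗ[F] V) ^ k) v = ((g ^ k).1 : V ≃ₗ[F] V) v := by
        intro k
        induction k with
        | zero => intro v; rfl
        | succ k ih2 =>
          intro v
          rw [pow_succ, Module.End.mul_apply, ih2, pow_succ]
          rfl
      have hgr : g ^ r = 1 := by
        rw [← hg]
        exact pow_orderOf_eq_one g
      have h1 := hex (g.1 : V →ₗ[F] V) g.2 (by
        apply LinearMap.ext
        intro v
        rw [hpow, hgr]
        rfl)
      have hg1 : g = 1 := by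
        apply Subtype.ext
        apply LinearEquiv.ext
        intro v
        have := congrArg (fun L : Module.End F V => L v) h1
        exact this
      rw [hg1, orderOf_one] at hg
      exact hr.one_lt.ne hg

end cnt

end Cfsg.Agent.Lib.helper24
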