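import Mathlib
import Cfsg.Agent.Lib.helper24.SroDefs
import Cfsg.Agent.Lib.helper42.FormsNondeg

/-! PIECE UNIP of the S5989 split (helper24's skeleton `tools/S5989_Skel.lean.txt`). -/

set_option autoImplicit false
set_option linter.unusedSectionVars false
set_option linter.unusedVariables false

namespace Cfsg.Agent.Lib.helper24

open Module Cfsg.Agent.Lib.helper45 Cfsg.Agent.Lib.helper49

universe u

section plus

variable {F : Type u} [Field F] [Fintype F]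

/-- arithmetic of the three Jordan types -/
theorem sro_unip_arith (d m e t b c₁ c₂ c₃ : ℕ) (hm : Odd m)
    (hcase : (Even d ∧ e = d ∧ t = 0 ∧ b = 1) ∨ (Odd d ∧ m % 4 = 1 ∧ e + 3 = d ∧ t = 2 ∧ b = 3) ∨
      (Odd d ∧ m % 4 = 3 ∧ e + 1 = d ∧ t = 2 ∧ b = 1))
    (hsum : m = c₁ + 2 * c₂ + 3 * c₃) (hc₂ : Even c₂)
    (h1 : c₁ ≤ if b = 1 then t else 0) (h3 : c₃ ≤ if b = 3 then t else 0) : False := by
  obtain ⟨k, hk⟩ := hc₂
  obtain ⟨j, hj⟩ := hm
  rcases hcase with ⟨-, -, rfl, rfl⟩ | ⟨-, hm4, -, rfl, rfl⟩ | ⟨-, hm4, -, rfl, rfl⟩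
  · simp at h1 h3
    omega
  · simp at h1 h3
    omega
  · simp at h1 h3
    omega

/-- A unipotent element of order `p` of `Ω⁺_{2d}(q)` fixing no nondegenerate subspace of the odd
dimension `m`. -/
theorem sro_unip_plus (p : ℕ) [Fact p.Prime] [CharP F p] (hp2 : p ≠ 2) (d m : ℕ) (hd : 4 ≤ d)
    (hm : Odd m) :
    ∃ g : GL (Fin d ⊕ Fin d) F, g ∈ Cfsg.Geo.omegaGL (Cfsg.quadFormPlus d F) ∧ g ^ p = 1 ∧
      (∀ z : F, (g : Matrix (Fin d ⊕ Fin d) (Fin d ⊕ Fin d) F) ≠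
        z • (1 : Matrix (Fin d ⊕ Fin d) (Fin d ⊕ Fin d) F)) ∧
      ∀ W : Submodule F (Fin d ⊕ Fin d → F), finrank F W = m →
        Cfsg.Geo.IsNondegenerateOn (QuadraticMap.polar (Cfsg.quadFormPlus d F)) W →
        W.map (Matrix.toLin' (g : Matrix (Fin d ⊕ Fin d) (Fin d ⊕ Fin d) F)) ≤ W → False := by
  classical
  have hpp : p.Prime := Fact.out
  have h2 : (2 : F) ≠ 0 := sq_two_ne p hp2
  have hp3 : 3 ≤ p := by
    have := hpp.two_le
    omega
  obtain ⟨e, t, b, hcase⟩ : ∃ e t b : ℕ,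
      (Even d ∧ e = d ∧ t = 0 ∧ b = 1) ∨ (Odd d ∧ m % 4 = 1 ∧ e + 3 = d ∧ t = 2 ∧ b = 3) ∨
      (Odd d ∧ m % 4 = 3 ∧ e + 1 = d ∧ t = 2 ∧ b = 1) := by
    rcases Nat.even_or_odd d with he | ho
    · exact ⟨d, 0, 1, Or.inl ⟨he, rfl, rfl, rfl⟩⟩
    · obtain ⟨j, hj⟩ := hm
      rcases Nat.even_or_odd j with ⟨k, hk⟩ | ⟨k, hk⟩
      · exact ⟨d - 3, 2, 3, Or.inr (Or.inl ⟨ho, by omega, by omega, rfl, rfl⟩)⟩
      · exact ⟨d - 1, 2, 1, Or.inr (Or.inr ⟨ho, by omega, by omega, rfl, rfl⟩)⟩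
  have heev : Even e := by
    rcases hcase with ⟨h, rfl, -, -⟩ | ⟨⟨k, hk⟩, -, h, -, -⟩ | ⟨⟨k, hk⟩, -, h, -, -⟩
    · exact h
    · exact ⟨k - 1, by omega⟩
    · exact ⟨k, by omega⟩
  have he1 : 1 ≤ e := by
    rcases hcase with ⟨-, rfl, -, -⟩ | ⟨-, -, h, -, -⟩ | ⟨-, -, h, -, -⟩ <;> omega
  have hb13 : b = 1 ∨ b = 3 := by
    rcases hcase with ⟨-, -, -, rfl⟩ | ⟨-, -, -, -, rfl⟩ | ⟨-, -, -, -, rfl⟩ <;> simp
  have hsum2 : 2 * e + t * b = 2 * d := by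
    rcases hcase with ⟨-, rfl, rfl, rfl⟩ | ⟨-, -, h, rfl, rfl⟩ | ⟨-, -, h, rfl, rfl⟩ <;> omega
  have htev : Even t := by
    rcases hcase with ⟨-, -, rfl, -⟩ | ⟨-, -, -, rfl, -⟩ | ⟨-, -, -, rfl, -⟩ <;> decide
  obtain ⟨μ, hμ⟩ : ∃ μ : Multiset ℕ, μ = Multiset.replicate e 2 + Multiset.replicate t b :=
    ⟨_, rfl⟩
  have hμsum : μ.sum = 2 * d := by
    rw [hμ, Multiset.sum_add, Multiset.sum_replicate, Multiset.sum_replicate, smul_eq_mul,
      smul_eq_mul]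
    omega
  have hμmem : ∀ a ∈ μ, a = 2 ∨ a = b := by
    intro a ha
    rw [hμ] at ha
    rcases Multiset.mem_add.mp ha with h | h
    · exact Or.inl (Multiset.eq_of_mem_replicate h)
    · exact Or.inr (Multiset.eq_of_mem_replicate h)
  have hμparts : ∀ a ∈ μ, 0 < a ∧ a ≤ p := by
    intro a ha
    rcases hμmem a ha with rfl | rfl
    · omega
    · rcases hb13 with rfl | rfl <;> omega
  have hμcount : ∀ a, Even a → Even (μ.count a) := by
    intro a hae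
    rw [hμ, Multiset.count_add, Multiset.count_replicate, Multiset.count_replicate]
    have hba : ¬ (b = a) := by
      rintro rfl
      rcases hb13 with rfl | rfl <;> exact absurd hae (by decide)
    rw [if_neg hba, add_zero]
    split_ifs
    · exact heev
    · exact Even.zero
  have hreal : SoReal F p μ :=
    so_real_all p hp2 _ μ rfl hμparts hμcount (by rw [hμsum]; exact even_two_mul d)
  obtain ⟨g, hgΩ, hgp, hgker⟩ := so_real_plus p hp2 μ hreal (fun a ha => (hμparts a ha).2) d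
    (by omega) hμsum
  have h2μ : 2 ∈ μ := by
    rw [hμ]
    apply Multiset.mem_add.mpr
    left
    rw [Multiset.mem_replicate]
    exact ⟨by omega, rfl⟩
  refine ⟨g, hgΩ, hgp, ?_, ?_⟩
  · intro z hz
    have := so_scalar_parts (g : Matrix (Fin d ⊕ Fin d) (Fin d ⊕ Fin d) F) z hz μ hgker 2 h2μ
    omega
  intro W hWm hWnd hWinv
  obtain ⟨T, hTdef⟩ : ∃ T : Module.End F (Fin d ⊕ Fin d → F), T = Matrix.toLin'
      (g : Matrix (Fin d ⊕ Fin d) (Fin d ⊕ Fin d) F) := ⟨_, rfl⟩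
  rw [← hTdef] at hgker hWinv
  have hTp : T ^ p = 1 := by
    have h3 : (g : Matrix (Fin d ⊕ Fin d) (Fin d ⊕ Fin d) F) ^ p = 1 := by
      rw [← Units.val_pow_eq_pow_val, hgp, Units.val_one]
    rw [hTdef, so_toLin_pow, h3, Matrix.toLin'_one]
    rfl
  have hQg : ∀ v, plusForm d F (T v) = plusForm d F v := by
    intro u
    obtain ⟨y, hyΩ, hyx⟩ := Subgroup.mem_map.mp hgΩ
    rw [hTdef, Matrix.toLin'_apply, ← hyx]
    exact y.2 u u
  obtain ⟨ω₀, hω₀⟩ : ∃ ω₀ : (Fin d ⊕ Fin d → F) →ₗ[F] (Fin d ⊕ Fin d → F) →ₗ[F] F,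
      ω₀ = QuadraticMap.polarBilin (plusForm d F) := ⟨_, rfl⟩
  have hω₀a : ∀ u v, ω₀ u v = QuadraticMap.polar (plusForm d F) u v := by
    intro u v
    rw [hω₀, QuadraticMap.polarBilin_apply_apply]
  have hsym₀ : ∀ u v, ω₀ u v = ω₀ v u := by
    intro u v
    rw [hω₀a, hω₀a, QuadraticMap.polar_comm]
  have hnd₀ : ∀ v, (∀ w, ω₀ v w = 0) → v = 0 := by
    intro v hv
    apply forall_of_nondegenerate (plusForm d F) (Cfsg.Agent.Lib.helper42.plusForm_nondegenerate d) v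
    intro w
    rw [← hω₀a]
    exact hv w
  have hiso₀ : ∀ u v, ω₀ (T u) (T v) = ω₀ u v := by
    rw [hω₀]
    exact sr_iso_bilin (plusForm d F) T hQg
  have hWnd' : SpNd ω₀ W := by
    rw [hω₀]
    exact (sro_ndOn (plusForm d F) W).mp hWnd
  have hWinv' : ∀ w ∈ W, T w ∈ W := fun w hw => hWinv (Submodule.mem_map_of_mem hw)
  obtain ⟨ν, hν1, hν2, hν3, -⟩ := so_type_sub' ω₀ hsym₀ hnd₀ h2 T hiso₀ p hTp μ
    (fun a ha => (hμparts a ha).1) hgker W hWnd' hWinv'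
  have hν13 : ∀ a ∈ ν, 1 ≤ a ∧ a ≤ 3 := by
    intro a ha
    rcases hμmem a (Multiset.mem_of_le hν1 ha) with rfl | rfl
    · omega
    · rcases hb13 with rfl | rfl <;> omega
  have hsum := so_sum_le3 ν hν13
  rw [hν2, hWm] at hsum
  have hc1 : ν.count 1 ≤ if b = 1 then t else 0 := by
    have h3 := Multiset.count_le_of_le 1 hν1
    rw [hμ, Multiset.count_add, Multiset.count_replicate, Multiset.count_replicate] at h3
    simpa using h3
  have hc3 : ν.count 3 ≤ if b = 3 then t else 0 := by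
    have h3 := Multiset.count_le_of_le 3 hν1
    rw [hμ, Multiset.count_add, Multiset.count_replicate, Multiset.count_replicate] at h3
    simpa using h3
  exact sro_unip_arith d m e t b _ _ _ hm hcase hsum (hν3 2 even_two) hc1 hc3

end plus

end Cfsg.Agent.Lib.helper24
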