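import Mathlib
import Cfsg.Agent.Lib.helper24.SroDefs
import Cfsg.Agent.Lib.helper42.FormsNondeg
import Cfsg.Agent.Lib.helper99.SroUNIP

/-! PIECE UNIPM of the S5991 split, part A: `d` odd (no invariant nondegenerate subspace of
dimension `m` at all). -/

set_option autoImplicit false
set_option linter.unusedSectionVars false
set_option linter.unusedVariables false

namespace Cfsg.Agent.Lib.helper24

open Module Cfsg.Agent.Lib.helper45 Cfsg.Agent.Lib.helper49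

universe u

section minusA

variable {F : Type u} [Field F] [Fintype F]

/-- transfer of the data of an element of `Ω(Q)` of order `p` to the linear-algebra setting -/
theorem sro_um_setup {ι : Type} [Fintype ι] [DecidableEq ι] (Q : QuadraticForm F (ι → F))
    (p : ℕ) [Fact p.Prime] (g : GL ι F) (hgΩ : g ∈ Cfsg.Geo.omegaGL ⇑Q) (hgp : g ^ p = 1) :
    (Matrix.toLin' (g : Matrix ι ι F)) ^ p = 1 ∧
    (∀ v, Q (Matrix.toLin' (g : Matrix ι ι F) v) = Q v) := by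
  constructor
  · have h3 : (g : Matrix ι ι F) ^ p = 1 := by
      rw [← Units.val_pow_eq_pow_val, hgp, Units.val_one]
    rw [so_toLin_pow, h3, Matrix.toLin'_one]
    rfl
  · intro u
    obtain ⟨y, hyΩ, hyx⟩ := Subgroup.mem_map.mp hgΩ
    rw [Matrix.toLin'_apply, ← hyx]
    exact y.2 u u

/-- `d` odd: a unipotent element of `Ω⁻_{2d}(q)` without invariant nondegenerate subspaces of
the odd dimension `m`. -/
theorem sro_um_odd (p : ℕ) [Fact p.Prime] [CharP F p] (hp2 : p ≠ 2) (d m : ℕ) (hd : 4 ≤ d)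
    (hdodd : Odd d) (hm : Odd m) (a b : F)
    (hab : ∀ x y : F, x ^ 2 + a * x * y + b * y ^ 2 = 0 → x = 0 ∧ y = 0) :
    ∃ g : GL ((Fin (d - 1) ⊕ Fin (d - 1)) ⊕ Fin 2) F,
      g ∈ Cfsg.Geo.omegaGL (Cfsg.quadFormMinus (d - 1) F a b) ∧ g ^ p = 1 ∧
      (∀ z : F, (g : Matrix ((Fin (d - 1) ⊕ Fin (d - 1)) ⊕ Fin 2)
          ((Fin (d - 1) ⊕ Fin (d - 1)) ⊕ Fin 2) F) ≠
        z • (1 : Matrix ((Fin (d - 1) ⊕ Fin (d - 1)) ⊕ Fin 2)
          ((Fin (d - 1) ⊕ Fin (d - 1)) ⊕ Fin 2) F)) ∧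
      ∀ W : Submodule F ((Fin (d - 1) ⊕ Fin (d - 1)) ⊕ Fin 2 → F), finrank F W = m →
        Cfsg.Geo.IsNondegenerateOn (QuadraticMap.polar (Cfsg.quadFormMinus (d - 1) F a b)) W →
        W.map (Matrix.toLin' (g : Matrix ((Fin (d - 1) ⊕ Fin (d - 1)) ⊕ Fin 2)
          ((Fin (d - 1) ⊕ Fin (d - 1)) ⊕ Fin 2) F)) ≤ W → False := by
  classical
  have hpp : p.Prime := Fact.out
  have h2 : (2 : F) ≠ 0 := sq_two_ne p hp2
  have hp3 : 3 ≤ p := by
    have := hpp.two_le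
    omega
  obtain ⟨e, t, b', hcase⟩ : ∃ e t b' : ℕ,
      (Even d ∧ e = d ∧ t = 0 ∧ b' = 1) ∨ (Odd d ∧ m % 4 = 1 ∧ e + 3 = d ∧ t = 2 ∧ b' = 3) ∨
      (Odd d ∧ m % 4 = 3 ∧ e + 1 = d ∧ t = 2 ∧ b' = 1) := by
    obtain ⟨j, hj⟩ := hm
    rcases Nat.even_or_odd j with ⟨k, hk⟩ | ⟨k, hk⟩
    · exact ⟨d - 3, 2, 3, Or.inr (Or.inl ⟨hdodd, by omega, by omega, rfl, rfl⟩)⟩
    · exact ⟨d - 1, 2, 1, Or.inr (Or.inr ⟨hdodd, by omega, by omega, rfl, rfl⟩)⟩
  have hnotev : ¬ Even d := Nat.not_even_iff_odd.mpr hdodd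
  have heev : Even e := by
    rcases hcase with ⟨h, -, -, -⟩ | ⟨⟨k, hk⟩, -, h, -, -⟩ | ⟨⟨k, hk⟩, -, h, -, -⟩
    · exact absurd h hnotev
    · exact ⟨k - 1, by omega⟩
    · exact ⟨k, by omega⟩
  have he1 : 1 ≤ e := by
    rcases hcase with ⟨-, rfl, -, -⟩ | ⟨-, -, h, -, -⟩ | ⟨-, -, h, -, -⟩ <;> omega
  have hb13 : b' = 1 ∨ b' = 3 := by
    rcases hcase with ⟨-, -, -, rfl⟩ | ⟨-, -, -, -, rfl⟩ | ⟨-, -, -, -, rfl⟩ <;> simp
  have ht2 : t = 2 := by
    rcases hcase with ⟨h, -, -, -⟩ | ⟨-, -, -, rfl, -⟩ | ⟨-, -, -, rfl, -⟩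
    · exact absurd h hnotev
    · rfl
    · rfl
  have hsum2 : 2 * e + t * b' = 2 * d := by
    rcases hcase with ⟨-, rfl, rfl, rfl⟩ | ⟨-, -, h, rfl, rfl⟩ | ⟨-, -, h, rfl, rfl⟩ <;> omega
  obtain ⟨μ, hμ⟩ : ∃ μ : Multiset ℕ, μ = Multiset.replicate e 2 + Multiset.replicate t b' :=
    ⟨_, rfl⟩
  have hμsum : μ.sum = 2 * d := by
    rw [hμ, Multiset.sum_add, Multiset.sum_replicate, Multiset.sum_replicate, smul_eq_mul,
      smul_eq_mul]
    omega
  have hμmem : ∀ a ∈ μ, a = 2 ∨ a = b' := by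
    intro a ha
    rw [hμ] at ha
    rcases Multiset.mem_add.mp ha with h | h
    · exact Or.inl (Multiset.eq_of_mem_replicate h)
    · exact Or.inr (Multiset.eq_of_mem_replicate h)
  have hμparts : ∀ a ∈ μ, 0 < a ∧ a ≤ p := by
    intro a ha
    rcases hμmem a ha with rfl | rfl
    · omega
    · rcases hb13 with rfl | rfl <;> omega
  have hμcount : ∀ a, Even a → Even (μ.count a) := by
    intro a hae
    rw [hμ, Multiset.count_add, Multiset.count_replicate, Multiset.count_replicate]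
    have hba : ¬ (b' = a) := by
      rintro rfl
      rcases hb13 with rfl | rfl <;> exact absurd hae (by decide)
    rw [if_neg hba, add_zero]
    split_ifs
    · exact heev
    · exact Even.zero
  have hb'μ : b' ∈ μ := by
    rw [hμ]
    apply Multiset.mem_add.mpr
    right
    rw [Multiset.mem_replicate]
    exact ⟨by omega, rfl⟩
  have hb'odd : Odd b' := by
    rcases hb13 with rfl | rfl <;> decide
  have hreal : SoRealM F p μ :=
    so_realM_all (F := F) p hp2 μ hμparts hμcount (by rw [hμsum]; exact even_two_mul d) b' hb'μ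
      hb'odd
  obtain ⟨g, hgΩ, hgp, hgker⟩ := so_real_minus p hp2 μ hreal (fun a ha => (hμparts a ha).2)
    (d - 1) (by rw [hμsum]; omega) a b hab
  have h2μ : 2 ∈ μ := by
    rw [hμ]
    apply Multiset.mem_add.mpr
    left
    rw [Multiset.mem_replicate]
    exact ⟨by omega, rfl⟩
  refine ⟨g, hgΩ, hgp, ?_, ?_⟩
  · intro z hz
    have := so_scalar_parts (g : Matrix ((Fin (d - 1) ⊕ Fin (d - 1)) ⊕ Fin 2)
      ((Fin (d - 1) ⊕ Fin (d - 1)) ⊕ Fin 2) F) z hz μ hgker 2 h2μ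
    omega
  intro W hWm hWnd hWinv
  obtain ⟨T, hTdef⟩ : ∃ T : Module.End F ((Fin (d - 1) ⊕ Fin (d - 1)) ⊕ Fin 2 → F),
      T = Matrix.toLin' (g : Matrix ((Fin (d - 1) ⊕ Fin (d - 1)) ⊕ Fin 2)
        ((Fin (d - 1) ⊕ Fin (d - 1)) ⊕ Fin 2) F) := ⟨_, rfl⟩
  obtain ⟨hTp, hQg⟩ := sro_um_setup (minusForm (d - 1) F a b) p g hgΩ hgp
  rw [← hTdef] at hgker hWinv hTp hQg
  obtain ⟨ω₀, hω₀⟩ : ∃ ω₀ : ((Fin (d - 1) ⊕ Fin (d - 1)) ⊕ Fin 2 → F) →ₗ[F]
      ((Fin (d - 1) ⊕ Fin (d - 1)) ⊕ Fin 2 → F) →ₗ[F] F,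
      ω₀ = QuadraticMap.polarBilin (minusForm (d - 1) F a b) := ⟨_, rfl⟩
  have hω₀a : ∀ u v, ω₀ u v = QuadraticMap.polar (minusForm (d - 1) F a b) u v := by
    intro u v
    rw [hω₀, QuadraticMap.polarBilin_apply_apply]
  have hsym₀ : ∀ u v, ω₀ u v = ω₀ v u := by
    intro u v
    rw [hω₀a, hω₀a, QuadraticMap.polar_comm]
  have hnd₀ : ∀ v, (∀ w, ω₀ v w = 0) → v = 0 := by
    intro v hv
    apply forall_of_nondegenerate (minusForm (d - 1) F a b)
      (Cfsg.Agent.Lib.helper42.minusForm_nondegenerate (d - 1) a b hab) v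
    intro w
    rw [← hω₀a]
    exact hv w
  have hiso₀ : ∀ u v, ω₀ (T u) (T v) = ω₀ u v := by
    rw [hω₀]
    exact sr_iso_bilin (minusForm (d - 1) F a b) T hQg
  have hWnd' : SpNd ω₀ W := by
    rw [hω₀]
    exact (sro_ndOn (minusForm (d - 1) F a b) W).mp hWnd
  have hWinv' : ∀ w ∈ W, T w ∈ W := fun w hw => hWinv (Submodule.mem_map_of_mem hw)
  obtain ⟨ν, hν1, hν2, hν3, -⟩ := so_type_sub' ω₀ hsym₀ hnd₀ h2 T hiso₀ p hTp μ
    (fun a ha => (hμparts a ha).1) hgker W hWnd' hWinv'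
  have hν13 : ∀ a ∈ ν, 1 ≤ a ∧ a ≤ 3 := by
    intro a ha
    rcases hμmem a (Multiset.mem_of_le hν1 ha) with rfl | rfl
    · omega
    · rcases hb13 with rfl | rfl <;> omega
  have hsum := so_sum_le3 ν hν13
  rw [hν2, hWm] at hsum
  have hc1 : ν.count 1 ≤ if b' = 1 then t else 0 := by
    have h3 := Multiset.count_le_of_le 1 hν1
    rw [hμ, Multiset.count_add, Multiset.count_replicate, Multiset.count_replicate] at h3
    simpa using h3
  have hc3 : ν.count 3 ≤ if b' = 3 then t else 0 := by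
    have h3 := Multiset.count_le_of_le 3 hν1
    rw [hμ, Multiset.count_add, Multiset.count_replicate, Multiset.count_replicate] at h3
    simpa using h3
  exact sro_unip_arith d m e t b' _ _ _ hm hcase hsum (hν3 2 even_two) hc1 hc3

end minusA

end Cfsg.Agent.Lib.helper24
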