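import Mathlib
import Cfsg.Agent.Lib.helper24.SroDefs
import Cfsg.Agent.Lib.helper24.SroReal
import Cfsg.Agent.Lib.helper79.SroK1
import Cfsg.Agent.Lib.helper79.SroK2
import Cfsg.Agent.Lib.helper99.JordA
import Cfsg.Agent.Lib.helper99.SroUMA

/-! PIECE UNIPM of the S5991 split, part B: generic lemmas for `d` even (Jordan type
`(3, 1, 2^e)`, `e` even). -/

set_option autoImplicit false
set_option linter.unusedSectionVars false
set_option linter.unusedVariables false

namespace Cfsg.Agent.Lib.helper24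

open Module Cfsg.Agent.Lib.helper45 Cfsg.Agent.Lib.helper49

universe u

section umb

variable {F : Type u} [Field F] [Fintype F]

theorem sro_iso_symm {V V₀ : Type u} [AddCommGroup V] [Module F V] [AddCommGroup V₀]
    [Module F V₀] (Q : QuadraticForm F V) (W : Submodule F V) (Q₀ : QuadraticForm F V₀)
    (W₀ : Submodule F V₀) (h : SrIsoTo Q W Q₀ W₀) : SrIsoTo Q₀ W₀ Q W := by
  obtain ⟨e, he⟩ := h
  refine ⟨e.symm, fun w => ?_⟩
  have := he (e.symm w)
  rw [LinearEquiv.apply_symm_apply] at this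
  exact this.symm

theorem sro_iso_trans {V₁ V₂ V₃ : Type u} [AddCommGroup V₁] [Module F V₁] [AddCommGroup V₂]
    [Module F V₂] [AddCommGroup V₃] [Module F V₃] (Q₁ : QuadraticForm F V₁)
    (W₁ : Submodule F V₁) (Q₂ : QuadraticForm F V₂) (W₂ : Submodule F V₂)
    (Q₃ : QuadraticForm F V₃) (W₃ : Submodule F V₃)
    (h1 : SrIsoTo Q₁ W₁ Q₂ W₂) (h2 : SrIsoTo Q₂ W₂ Q₃ W₃) : SrIsoTo Q₁ W₁ Q₃ W₃ := by
  obtain ⟨e, he⟩ := h1
  obtain ⟨f, hf⟩ := h2
  exact ⟨e.trans f, fun w => by rw [LinearEquiv.trans_apply, hf, he]⟩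

theorem sro_iso_map {V : Type u} [AddCommGroup V] [Module F V] (Q : QuadraticForm F V)
    (W : Submodule F V) (g : V ≃ₗ[F] V) (hg : ∀ v, Q (g v) = Q v) :
    SrIsoTo Q W Q (W.map (g : V →ₗ[F] V)) := by
  obtain ⟨f, hf⟩ : ∃ f : W ≃ₗ[F] ↥(W.map (g : V →ₗ[F] V)), ∀ x : W, (f x : V) = g (x : V) :=
    ⟨Submodule.equivMapOfInjective (g : V →ₗ[F] V) g.injective W, fun x => rfl⟩
  exact ⟨f, fun w => by rw [hf, hg]⟩

/-- in even dimension `lam • Q` is isometric to `Q` -/
theorem sro_twist {V : Type u} [AddCommGroup V] [Module F V] [FiniteDimensional F V]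
    (Q : QuadraticForm F V) (hnd : ∀ v, (∀ w, QuadraticMap.polar Q v w = 0) → v = 0) (n : ℕ)
    (hdim : finrank F V = 2 * n) (lam : F) (hlam : lam ≠ 0) :
    ∃ θ : V ≃ₗ[F] V, ∀ v, lam * Q (θ v) = Q v := by
  have hnd2 : ∀ v, (∀ w, QuadraticMap.polar (lam • Q) v w = 0) → v = 0 := by
    intro v hv
    apply hnd v
    intro w
    have h1 := hv w
    have h3 : QuadraticMap.polar (lam • Q) v w = lam * QuadraticMap.polar Q v w := by
      unfold QuadraticMap.polar
      simp only [QuadraticMap.smul_apply, smul_eq_mul]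
      ring
    rw [h3] at h1
    exact (mul_eq_zero.mp h1).resolve_left hlam
  have hu : ∃ s : ℤ, Unif s (fun a : F => Nat.card {v : V // Q v = a}) := by
    rcases witt_class Q hnd n hdim with ⟨h, -⟩ | ⟨h, -⟩
    · exact ⟨_, h⟩
    · exact ⟨_, h⟩
  obtain ⟨s, hs⟩ := hu
  have hs2 : Unif s (fun a : F => Nat.card {v : V // (lam • Q) v = a}) := by
    intro c
    have h1 := hs (c / lam)
    have h3 : Nat.card {v : V // (lam • Q) v = c} = Nat.card {v : V // Q v = c / lam} := by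
      apply Nat.card_congr
      apply Equiv.subtypeEquivRight
      intro v
      rw [QuadraticMap.smul_apply, smul_eq_mul, eq_div_iff hlam, mul_comm]
    show (Fintype.card F : ℤ) * (Nat.card {v : V // (lam • Q) v = c} : ℤ) = _
    rw [h3]
    by_cases hc : c = 0
    · have hc' : c / lam = 0 := by rw [hc, zero_div]
      rw [if_pos hc]
      rw [if_pos hc'] at h1
      exact h1
    · have hc' : ¬ (c / lam = 0) := by
        intro h
        rcases div_eq_zero_iff.mp h with h | h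
        · exact hc h
        · exact hlam h
      rw [if_neg hc]
      rw [if_neg hc'] at h1
      exact h1
  obtain ⟨φ, hφ⟩ := sro_unif_iso Q (lam • Q) hnd hnd2 n hdim hdim s hs hs2
  exact ⟨φ, fun v => by
    have := hφ v
    rwa [QuadraticMap.smul_apply, smul_eq_mul] at this⟩

/-- on an invariant nondegenerate subspace of dimension `≡ 1 (mod 4)` we have `(T-1)² = 0` -/
theorem sro_um_N2 {V : Type u} [AddCommGroup V] [Module F V] [FiniteDimensional F V]
    (Q : QuadraticForm F V) (hnd : ∀ v, (∀ w, QuadraticMap.polar Q v w = 0) → v = 0)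
    (h2 : (2 : F) ≠ 0) (T : Module.End F V) (hT : ∀ v, Q (T v) = Q v)
    (p : ℕ) [Fact p.Prime] [CharP F p] (hTp : T ^ p = 1) (e : ℕ)
    (hker : ∀ j : ℕ, finrank F (LinearMap.ker ((T - 1) ^ j)) =
      ((({3, 1} : Multiset ℕ) + Multiset.replicate e 2).map (fun b => min j b)).sum)
    (W : Submodule F V) (hW : SpNd (QuadraticMap.polarBilin Q) W) (hWinv : ∀ w ∈ W, T w ∈ W)
    (hW1 : finrank F W % 4 = 1) : ∀ w ∈ W, ((T - 1) ^ (2 : ℕ)) w = 0 := by
  obtain ⟨μ, hμ⟩ : ∃ μ : Multiset ℕ, μ = ({3, 1} : Multiset ℕ) + Multiset.replicate e 2 :=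
    ⟨_, rfl⟩
  rw [← hμ] at hker
  have hμmem : ∀ a ∈ μ, a = 3 ∨ a = 1 ∨ a = 2 := by
    intro a ha
    rw [hμ] at ha
    rcases Multiset.mem_add.mp ha with h | h
    · have h' : a = 3 ∨ a = 1 := by simpa using h
      tauto
    · exact Or.inr (Or.inr (Multiset.eq_of_mem_replicate h))
  obtain ⟨ν, hν1, hν2, hν3, hν4⟩ := so_type_sub' (QuadraticMap.polarBilin Q) (sr_sym Q)
    (fun v hv => hnd v (fun w => by
      have := hv w
      rwa [QuadraticMap.polarBilin_apply_apply] at this)) h2 T (sr_iso_bilin Q T hT) p hTp μ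
    (fun a ha => by rcases hμmem a ha with rfl | rfl | rfl <;> omega) hker W hW hWinv
  have hν13 : ∀ a ∈ ν, 1 ≤ a ∧ a ≤ 3 := by
    intro a ha
    rcases hμmem a (Multiset.mem_of_le hν1 ha) with rfl | rfl | rfl <;> omega
  have hsum := so_sum_le3 ν hν13
  have hc1 : ν.count 1 ≤ 1 := by
    have h3 := Multiset.count_le_of_le 1 hν1
    have h4 : Multiset.count 1 ({3, 1} : Multiset ℕ) = 1 := by decide
    rw [hμ, Multiset.count_add, Multiset.count_replicate, h4] at h3
    simpa using h3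
  have hc3 : ν.count 3 ≤ 1 := by
    have h3 := Multiset.count_le_of_le 3 hν1
    have h4 : Multiset.count 3 ({3, 1} : Multiset ℕ) = 1 := by decide
    rw [hμ, Multiset.count_add, Multiset.count_replicate, h4] at h3
    simpa using h3
  obtain ⟨k, hk⟩ := hν3 2 even_two
  have hc30 : ν.count 3 = 0 := by omega
  have hle2 : ∀ a ∈ ν, a ≤ 2 := by
    intro a ha
    rcases hμmem a (Multiset.mem_of_le hν1 ha) with rfl | rfl | rfl
    · have := Multiset.count_pos.mpr ha
      omega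
    · omega
    · omega
  have h4 := hν4 2
  have h5 : (ν.map (fun b => min 2 b)).sum = ν.sum := by
    congr 1
    conv_rhs => rw [← Multiset.map_id ν]
    apply Multiset.map_congr rfl
    intro a ha
    exact min_eq_right (hle2 a ha)
  rw [h5, hν2] at h4
  have hle : LinearMap.ker ((T - 1) ^ (2 : ℕ)) ⊓ W = W :=
    Submodule.eq_of_le_of_finrank_eq inf_le_right h4
  intro w hw
  have h3 : w ∈ LinearMap.ker ((T - 1) ^ (2 : ℕ)) ⊓ W := by
    rw [hle]
    exact hw
  exact LinearMap.mem_ker.mp (Submodule.mem_inf.mp h3).1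

/-- the hypothesis `hstar` of `sro_kind1` from the kernel dimensions -/
theorem sro_um_star {V : Type u} [AddCommGroup V] [Module F V] [FiniteDimensional F V]
    (T : Module.End F V) (e : ℕ) (hker1 : finrank F (LinearMap.ker (T - 1)) = e + 2)
    (hker2 : finrank F (LinearMap.ker ((T - 1) ^ 2)) = 2 * e + 3) :
    finrank F (LinearMap.ker (T - 1)) ≤
      finrank F ↥(LinearMap.ker (T - 1) ⊓ LinearMap.range (T - 1)) + 1 := by
  obtain ⟨N, hN⟩ : ∃ N : Module.End F V, N = T - 1 := ⟨_, rfl⟩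
  rw [← hN] at hker1 hker2 ⊢
  have h1 := Cfsg.Agent.Lib.helper99.Jord.finrank_map_add N (LinearMap.ker (N ^ 2))
  have h3 : (LinearMap.ker (N ^ 2)).map N ≤ LinearMap.ker N ⊓ LinearMap.range N := by
    rintro _ ⟨x, hx, rfl⟩
    refine Submodule.mem_inf.mpr ⟨?_, ⟨x, rfl⟩⟩
    have hx' : (N ^ 2) x = 0 := LinearMap.mem_ker.mp hx
    rw [pow_two, Module.End.mul_apply] at hx'
    exact LinearMap.mem_ker.mpr hx'
  have h4 := Submodule.finrank_mono h3
  have h5 : finrank F ↥(LinearMap.ker (N ^ 2) ⊓ LinearMap.ker N) ≤ finrank F (LinearMap.ker N) :=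
    Submodule.finrank_mono inf_le_right
  omega

/-- all invariant nondegenerate subspaces of a given odd dimension are mutually isometric -/
theorem sro_um_mutual {V : Type u} [AddCommGroup V] [Module F V] [FiniteDimensional F V]
    (Q : QuadraticForm F V) (hnd : ∀ v, (∀ w, QuadraticMap.polar Q v w = 0) → v = 0)
    (h2 : (2 : F) ≠ 0) (T : Module.End F V) (hT : ∀ v, Q (T v) = Q v)
    (p : ℕ) [Fact p.Prime] [CharP F p] (hTp : T ^ p = 1) (e : ℕ) (hee : Even e)
    (hdimV : finrank F V = 2 * e + 4)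
    (hker : ∀ j : ℕ, finrank F (LinearMap.ker ((T - 1) ^ j)) =
      ((({3, 1} : Multiset ℕ) + Multiset.replicate e 2).map (fun b => min j b)).sum)
    (W₁ W₂ : Submodule F V) (hodd : Odd (finrank F W₁)) (hdim : finrank F W₁ = finrank F W₂)
    (hW₁ : SpNd (QuadraticMap.polarBilin Q) W₁) (hW₂ : SpNd (QuadraticMap.polarBilin Q) W₂)
    (hinv₁ : ∀ w ∈ W₁, T w ∈ W₁) (hinv₂ : ∀ w ∈ W₂, T w ∈ W₂) : SrIsoTo Q W₁ Q W₂ := by
  have hpp : p.Prime := Fact.out
  obtain ⟨T', hT'⟩ : ∃ T' : Module.End F V, T' = T ^ (p - 1) := ⟨_, rfl⟩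
  have hTT' : T * T' = 1 := by rw [hT', ← pow_succ', Nat.sub_add_cancel hpp.one_le, hTp]
  have hT'T : T' * T = 1 := by rw [hT', ← pow_succ, Nat.sub_add_cancel hpp.one_le, hTp]
  have hk1 : finrank F (LinearMap.ker (T - 1)) = e + 2 := by
    have h3 := hker 1
    rw [pow_one] at h3
    rw [h3, Multiset.map_add, Multiset.sum_add, Multiset.map_replicate, Multiset.sum_replicate]
    simp
    omega
  have hk2 : finrank F (LinearMap.ker ((T - 1) ^ 2)) = 2 * e + 3 := by
    have h3 := hker 2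
    rw [h3, Multiset.map_add, Multiset.sum_add, Multiset.map_replicate, Multiset.sum_replicate]
    simp
    omega
  have hstar := sro_um_star T e hk1 hk2
  by_cases h41 : finrank F W₁ % 4 = 1
  · exact sro_kind1 Q hnd h2 T T' hT hTT' hT'T hstar W₁ W₂ hW₁ hW₂ hinv₁ hinv₂
      (sro_um_N2 Q hnd h2 T hT p hTp e hker W₁ hW₁ hinv₁ h41)
      (sro_um_N2 Q hnd h2 T hT p hTp e hker W₂ hW₂ hinv₂ (by rw [← hdim]; exact h41)) hdim hodd
  · have h43 : finrank F W₁ % 4 = 3 := by
      obtain ⟨j, hj⟩ := hodd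
      omega
    obtain ⟨ω, hω⟩ : ∃ ω : V →ₗ[F] V →ₗ[F] F, ω = QuadraticMap.polarBilin Q := ⟨_, rfl⟩
    have hsym : ∀ u v, ω u v = ω v u := by
      rw [hω]
      exact sr_sym Q
    have hndtop : SpNd ω ⊤ := by
      intro u _ hu2
      apply hnd u
      intro w
      have := hu2 w Submodule.mem_top
      rwa [hω, QuadraticMap.polarBilin_apply_apply] at this
    rw [← hω] at hW₁ hW₂
    obtain ⟨hU₁nd, -, -, hdim₁⟩ := so_rel ω hsym ⊤ W₁ hndtop hW₁ le_top
    obtain ⟨hU₂nd, -, -, hdim₂⟩ := so_rel ω hsym ⊤ W₂ hndtop hW₂ le_top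
    rw [inf_top_eq] at hU₁nd hdim₁ hU₂nd hdim₂
    rw [finrank_top, hdimV] at hdim₁ hdim₂
    have hperp_inv : ∀ W : Submodule F V, (∀ w ∈ W, T w ∈ W) →
        ∀ u ∈ spPerp ω W, T u ∈ spPerp ω W := by
      intro W hWinv u hu w hw
      have h3 : ω (T (T' w)) (T u) = ω (T' w) u := by
        rw [hω]
        exact sr_iso_bilin Q T hT _ _
      have h4 : T (T' w) = w := by
        rw [← Module.End.mul_apply, hTT']
        rfl
      rw [h4] at h3
      rw [h3]
      apply hu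
      rw [hT']
      exact sr_pow_mem T W hWinv (p - 1) w hw
    obtain ⟨e', he'⟩ := hee
    have hU1 : finrank F ↥(spPerp ω W₁) % 4 = 1 := by omega
    have hU2 : finrank F ↥(spPerp ω W₂) % 4 = 1 := by omega
    have hUiso := sro_kind1 Q hnd h2 T T' hT hTT' hT'T hstar (spPerp ω W₁) (spPerp ω W₂)
      (by rw [← hω]; exact hU₁nd) (by rw [← hω]; exact hU₂nd) (hperp_inv W₁ hinv₁)
      (hperp_inv W₂ hinv₂)
      (sro_um_N2 Q hnd h2 T hT p hTp e hker (spPerp ω W₁) (by rw [← hω]; exact hU₁nd)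
        (hperp_inv W₁ hinv₁) hU1)
      (sro_um_N2 Q hnd h2 T hT p hTp e hker (spPerp ω W₂) (by rw [← hω]; exact hU₂nd)
        (hperp_inv W₂ hinv₂) hU2)
      (by omega) (Nat.odd_iff.mpr (by omega))
    obtain ⟨φ, hφ⟩ := hUiso
    obtain ⟨γ, hγ, hγφ⟩ := Cfsg.Agent.S0750.result Q (nondegenerate_of_forall Q hnd) _ _ φ hφ
    have hdp : spPerp ω (spPerp ω W₂) = W₂ := by
      symm
      apply Submodule.eq_of_le_of_finrank_eq
      · intro x hx u hu
        rw [hsym]
        exact hu x hx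
      · obtain ⟨-, -, -, hd3⟩ := so_rel ω hsym ⊤ (spPerp ω W₂) hndtop hU₂nd le_top
        rw [inf_top_eq, finrank_top, hdimV] at hd3
        omega
    have hpolγ : ∀ x y : V, ω (γ x) (γ y) = ω x y := by
      intro x y
      rw [hω, QuadraticMap.polarBilin_apply_apply, QuadraticMap.polarBilin_apply_apply]
      unfold QuadraticMap.polar
      rw [← map_add, hγ, hγ, hγ]
    have hγW : W₁.map (γ : V →ₗ[F] V) ≤ W₂ := by
      rintro _ ⟨w, hw, rfl⟩
      rw [← hdp]
      intro u hu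
      have h3 := hγφ (φ.symm ⟨u, hu⟩)
      rw [LinearEquiv.apply_symm_apply] at h3
      have h4 : ω (γ ((φ.symm ⟨u, hu⟩ : ↥(spPerp ω W₁)) : V)) (γ w) =
          ω ((φ.symm ⟨u, hu⟩ : ↥(spPerp ω W₁)) : V) w := hpolγ _ _
      show ω u (γ w) = 0
      have h5 : (u : V) = γ ((φ.symm ⟨u, hu⟩ : ↥(spPerp ω W₁)) : V) := h3.symm
      rw [h5, h4, hsym]
      exact (φ.symm ⟨u, hu⟩).2 w hw
    have hγeq : W₁.map (γ : V →ₗ[F] V) = W₂ := by
      apply Submodule.eq_of_le_of_finrank_eq hγW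
      rw [← hdim]
      exact (Submodule.equivMapOfInjective (γ : V →ₗ[F] V) γ.injective W₁).finrank_eq.symm
    have := sro_iso_map Q W₁ γ hγ
    rwa [hγeq] at this

end umb

end Cfsg.Agent.Lib.helper24
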