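import Mathlib
import Cfsg.Agent.Lib.helper24.SroDefs
import Cfsg.Agent.Lib.helper99.SroUMB

/-! PIECE UNIPM of the S5991 split (helper24's skeleton `tools/S5991_Skel.lean.txt`). -/

set_option autoImplicit false
set_option linter.unusedSectionVars false
set_option linter.unusedVariables false

namespace Cfsg.Agent.Lib.helper24

open Module Cfsg.Agent.Lib.helper45 Cfsg.Agent.Lib.helper49

universe u

section minus

variable {F : Type u} [Field F] [Fintype F]

/-- `d` even: either the element `g` of Jordan type `(3, 1, 2^e)` or its twist by a similarity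
with non-square multiplier fixes no member of the class of `W₀`. -/
theorem sro_um_even {ι : Type} [Fintype ι] [DecidableEq ι] (Q : QuadraticForm F (ι → F))
    (hnd : ∀ v, (∀ w, QuadraticMap.polar Q v w = 0) → v = 0) (p : ℕ) [Fact p.Prime] [CharP F p]
    (hp2 : p ≠ 2) (e : ℕ) (hee : Even e) (hι : Fintype.card ι = 2 * e + 4)
    (g : GL ι F) (hgΩ : g ∈ Cfsg.Geo.omegaGL ⇑Q) (hgp : g ^ p = 1)
    (hker0 : ∀ j : ℕ, finrank F (LinearMap.ker ((Matrix.toLin' (g : Matrix ι ι F) - 1) ^ j)) =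
      ((({3, 1} : Multiset ℕ) + Multiset.replicate e 2).map (fun b => min j b)).sum)
    (m : ℕ) (hm : Odd m) (W₀ : Submodule F (ι → F)) :
    ∃ g' : GL ι F, g' ∈ Cfsg.Geo.omegaGL ⇑Q ∧ g' ^ p = 1 ∧
      (∀ z : F, (g' : Matrix ι ι F) ≠ z • (1 : Matrix ι ι F)) ∧
      ∀ W : Submodule F (ι → F), finrank F W = m → SpNd (QuadraticMap.polarBilin Q) W →
        SrIsoTo Q W Q W₀ → (∀ w ∈ W, Matrix.toLin' (g' : Matrix ι ι F) w ∈ W) → False := by
  classical
  have hpp : p.Prime := Fact.out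
  have h2 : (2 : F) ≠ 0 := sq_two_ne p hp2
  obtain ⟨T, hTdef⟩ : ∃ T : Module.End F (ι → F), T = Matrix.toLin' (g : Matrix ι ι F) :=
    ⟨_, rfl⟩
  obtain ⟨hTp, hQg⟩ := sro_um_setup Q p g hgΩ hgp
  have hker := hker0
  rw [← hTdef] at hker hTp hQg
  have hdimV : finrank F (ι → F) = 2 * e + 4 := by
    rw [Module.finrank_fintype_fun_eq_card, hι]
  have hgns : ∀ z : F, (g : Matrix ι ι F) ≠ z • (1 : Matrix ι ι F) := by
    intro z hz
    have h3 := so_scalar_parts (g : Matrix ι ι F) z hz _ hker0 3 (by simp)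
    omega
  by_cases hex : ∃ W : Submodule F (ι → F), finrank F W = m ∧
      SpNd (QuadraticMap.polarBilin Q) W ∧ SrIsoTo Q W Q W₀ ∧ ∀ w ∈ W, T w ∈ W
  swap
  · refine ⟨g, hgΩ, hgp, hgns, ?_⟩
    intro W hWm hWnd hWiso hWinv
    exact hex ⟨W, hWm, hWnd, hWiso, by rw [hTdef]; exact hWinv⟩
  obtain ⟨Wa, hWam, hWand, hWaiso, hWainv⟩ := hex
  have hchar : ringChar F ≠ 2 := by
    rw [ringChar.eq F p]
    exact hp2
  obtain ⟨lam, hlam⟩ := FiniteField.exists_nonsquare (F := F) hchar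
  have hlam0 : lam ≠ 0 := by
    rintro rfl
    exact hlam ⟨0, by simp⟩
  obtain ⟨θ, hθ⟩ := sro_twist Q hnd (e + 2) (by rw [hdimV]; ring) lam hlam0
  obtain ⟨T', hT'⟩ : ∃ T' : Module.End F (ι → F), T' = T ^ (p - 1) := ⟨_, rfl⟩
  have hTT' : T * T' = 1 := by rw [hT', ← pow_succ', Nat.sub_add_cancel hpp.one_le, hTp]
  have hT'T : T' * T = 1 := by rw [hT', ← pow_succ, Nat.sub_add_cancel hpp.one_le, hTp]
  obtain ⟨L, hL⟩ : ∃ L : Module.End F (ι → F),
      L = θ.toLinearMap ∘ₗ T ∘ₗ θ.symm.toLinearMap := ⟨_, rfl⟩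
  obtain ⟨L', hL'⟩ : ∃ L' : Module.End F (ι → F),
      L' = θ.toLinearMap ∘ₗ T' ∘ₗ θ.symm.toLinearMap := ⟨_, rfl⟩
  have hLx : ∀ x, L x = θ (T (θ.symm x)) := fun x => by rw [hL]; rfl
  have hL'x : ∀ x, L' x = θ (T' (θ.symm x)) := fun x => by rw [hL']; rfl
  have hLL' : L * L' = 1 := by
    apply LinearMap.ext
    intro x
    rw [Module.End.mul_apply, hLx, hL'x, LinearEquiv.symm_apply_apply, ← Module.End.mul_apply,
      hTT', Module.End.one_apply, LinearEquiv.apply_symm_apply, Module.End.one_apply]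
  have hL'L : L' * L = 1 := by
    apply LinearMap.ext
    intro x
    rw [Module.End.mul_apply, hLx, hL'x, LinearEquiv.symm_apply_apply, ← Module.End.mul_apply,
      hT'T, Module.End.one_apply, LinearEquiv.apply_symm_apply, Module.End.one_apply]
  obtain ⟨g', hg'⟩ : ∃ g' : GL ι F, (g' : Matrix ι ι F) = LinearMap.toMatrix' L :=
    ⟨⟨LinearMap.toMatrix' L, LinearMap.toMatrix' L',
      by rw [← LinearMap.toMatrix'_mul, hLL', LinearMap.toMatrix'_one],
      by rw [← LinearMap.toMatrix'_mul, hL'L, LinearMap.toMatrix'_one]⟩, rfl⟩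
  have hg'L : Matrix.toLin' (g' : Matrix ι ι F) = L := by
    rw [hg', Matrix.toLin'_toMatrix']
  have hLθ : ∀ v, L (θ v) = θ (T v) := by
    intro v
    rw [hLx, LinearEquiv.symm_apply_apply]
  have hpowL : ∀ (k : ℕ) (v : ι → F), (L ^ k) (θ v) = θ ((T ^ k) v) := by
    intro k
    induction k with
    | zero =>
      intro v
      simp
    | succ k ih =>
      intro v
      rw [pow_succ, Module.End.mul_apply, hLθ, ih, pow_succ, Module.End.mul_apply]
  have hLp : L ^ p = 1 := by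
    apply LinearMap.ext
    intro x
    obtain ⟨v, rfl⟩ := θ.surjective x
    rw [hpowL, hTp]
    rfl
  have hpowM : ∀ k : ℕ, (LinearMap.toMatrix' L) ^ k = LinearMap.toMatrix' (L ^ k) := by
    intro k
    induction k with
    | zero => rw [pow_zero, pow_zero, LinearMap.toMatrix'_one]
    | succ k ih => rw [pow_succ, ih, pow_succ, LinearMap.toMatrix'_mul]
  have hg'p : g' ^ p = 1 := by
    apply Units.ext
    rw [Units.val_pow_eq_pow_val, Units.val_one, hg', hpowM, hLp, LinearMap.toMatrix'_one]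
  have hθQ : ∀ v, Q (θ v) = lam⁻¹ * Q v := by
    intro v
    rw [← hθ v, ← mul_assoc, inv_mul_cancel₀ hlam0, one_mul]
  have key : ∀ x : ι → F, Q ((g' : Matrix ι ι F).mulVec x) = Q x := by
    intro x
    obtain ⟨v, rfl⟩ := θ.surjective x
    have h3 : (g' : Matrix ι ι F).mulVec (θ v) = θ (T v) := by
      rw [← Matrix.toLin'_apply, hg'L, hLθ]
    rw [h3, hθQ, hθQ, hQg]
  have hg'iso : g' ∈ Cfsg.isometryGroup F ⇑Q := fun u _ => key u
  have hι2 : 2 ≤ Fintype.card ι := by omega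
  have hg'Ω := so_omega_of_odd h2 Q (nondegenerate_of_forall Q hnd) hι2 p hpp hp2 g' hg'iso hg'p
  refine ⟨g', hg'Ω, hg'p, ?_, ?_⟩
  · intro z hz
    apply hgns z
    have hL1 : L = z • (1 : Module.End F (ι → F)) := by
      rw [← hg'L, hz, map_smul, Matrix.toLin'_one]
      rfl
    have hTz : T = z • (1 : Module.End F (ι → F)) := by
      apply LinearMap.ext
      intro v
      apply θ.injective
      rw [← hLθ, hL1]
      simp
    have h3 : (g : Matrix ι ι F) = LinearMap.toMatrix' T := by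
      rw [hTdef, LinearMap.toMatrix'_toLin']
    rw [h3, hTz, map_smul]
    congr 1
    exact LinearMap.toMatrix'_one
  · intro W' hW'm hW'nd hW'iso hW'inv
    rw [hg'L] at hW'inv
    obtain ⟨W₁, hW₁⟩ : ∃ W₁ : Submodule F (ι → F),
        W₁ = W'.map (θ.symm : (ι → F) →ₗ[F] (ι → F)) := ⟨_, rfl⟩
    have hmem₁ : ∀ w, w ∈ W₁ ↔ θ w ∈ W' := by
      intro w
      rw [hW₁]
      constructor
      · rintro ⟨x, hx, rfl⟩
        have : θ (θ.symm x) = x := LinearEquiv.apply_symm_apply θ x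
        show θ (θ.symm x) ∈ W'
        rw [this]
        exact hx
      · intro h
        exact ⟨θ w, h, LinearEquiv.symm_apply_apply θ w⟩
    have hW₁inv : ∀ w ∈ W₁, T w ∈ W₁ := by
      intro w hw
      rw [hmem₁] at hw ⊢
      rw [← hLθ]
      exact hW'inv _ hw
    have hmap : W₁.map (θ : (ι → F) →ₗ[F] (ι → F)) = W' := by
      ext x
      constructor
      · rintro ⟨w, hw, rfl⟩
        exact (hmem₁ w).mp hw
      · intro hx
        refine ⟨θ.symm x, (hmem₁ _).mpr ?_, LinearEquiv.apply_symm_apply θ x⟩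
        rw [LinearEquiv.apply_symm_apply]
        exact hx
    obtain ⟨f, hf⟩ : ∃ f : W₁ ≃ₗ[F] W', ∀ x : W₁, (f x : ι → F) = θ (x : ι → F) :=
      ⟨(Submodule.equivMapOfInjective (θ : (ι → F) →ₗ[F] (ι → F)) θ.injective W₁).trans
        (LinearEquiv.ofEq _ _ hmap), fun x => rfl⟩
    have hW₁dim : finrank F W₁ = m := by rw [f.finrank_eq, hW'm]
    have hW₁nd : SpNd (QuadraticMap.polarBilin Q) W₁ := by
      intro u hu hu2
      have h3 : θ u = 0 := by
        apply hW'nd (θ u) ((hmem₁ u).mp hu)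
        intro v hv
        have hv' : θ.symm v ∈ W₁ := by
          rw [hmem₁, LinearEquiv.apply_symm_apply]
          exact hv
        have h4 := hu2 _ hv'
        rw [QuadraticMap.polarBilin_apply_apply] at h4 ⊢
        have h5 : QuadraticMap.polar Q (θ u) (θ (θ.symm v)) =
            lam⁻¹ * QuadraticMap.polar Q u (θ.symm v) := by
          unfold QuadraticMap.polar
          rw [← map_add, hθQ, hθQ, hθQ]
          ring
        rw [LinearEquiv.apply_symm_apply] at h5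
        rw [h5, h4, mul_zero]
      exact θ.map_eq_zero_iff.mp h3
    have hmut := sro_um_mutual Q hnd h2 T hQg p hTp e hee hdimV hker W₁ Wa
      (by rw [hW₁dim]; exact hm) (by rw [hW₁dim, hWam]) hW₁nd hWand hW₁inv hWainv
    have hchain : SrIsoTo Q W' Q W₁ :=
      sro_iso_trans _ _ _ _ _ _ hW'iso
        (sro_iso_trans _ _ _ _ _ _ (sro_iso_symm _ _ _ _ hWaiso) (sro_iso_symm _ _ _ _ hmut))
    obtain ⟨ψ, hψ⟩ := hchain
    have hsq := sro_no_simil Q h2 W₁ hW₁nd (by rw [hW₁dim]; exact hm) lam⁻¹ (f.trans ψ)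
      (fun w => by rw [LinearEquiv.trans_apply, hψ, hf, hθQ])
    apply hlam
    obtain ⟨s, hs⟩ := hsq
    refine ⟨s⁻¹, ?_⟩
    rw [← mul_inv, ← hs, inv_inv]

/-- A unipotent element of order `p` of `Ω⁻_{2d}(q)` fixing no nondegenerate subspace of the odd
dimension `m` isometric to `W₀`. -/
theorem sro_unip_minus (p : ℕ) [Fact p.Prime] [CharP F p] (hp2 : p ≠ 2) (d m : ℕ) (hd : 4 ≤ d)
    (hm : Odd m) (hmd : m < d) (a b : F)
    (hab : ∀ x y : F, x ^ 2 + a * x * y + b * y ^ 2 = 0 → x = 0 ∧ y = 0)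
    (W₀ : Submodule F ((Fin (d - 1) ⊕ Fin (d - 1)) ⊕ Fin 2 → F))
    (hW₀ : finrank F W₀ = m ∧
      Cfsg.Geo.IsNondegenerateOn (QuadraticMap.polar (Cfsg.quadFormMinus (d - 1) F a b)) W₀) :
    ∃ g : GL ((Fin (d - 1) ⊕ Fin (d - 1)) ⊕ Fin 2) F,
      g ∈ Cfsg.Geo.omegaGL (Cfsg.quadFormMinus (d - 1) F a b) ∧ g ^ p = 1 ∧
      (∀ z : F, (g : Matrix ((Fin (d - 1) ⊕ Fin (d - 1)) ⊕ Fin 2)
          ((Fin (d - 1) ⊕ Fin (d - 1)) ⊕ Fin 2) F) ≠
        z • (1 : Matrix ((Fin (d - 1) ⊕ Fin (d - 1)) ⊕ Fin 2)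
          ((Fin (d - 1) ⊕ Fin (d - 1)) ⊕ Fin 2) F)) ∧
      ∀ W : Submodule F ((Fin (d - 1) ⊕ Fin (d - 1)) ⊕ Fin 2 → F), finrank F W = m →
        Cfsg.Geo.IsNondegenerateOn (QuadraticMap.polar (Cfsg.quadFormMinus (d - 1) F a b)) W →
        Cfsg.Geo.AreIsometricFor (Cfsg.quadFormMinus (d - 1) F a b) W W₀ →
        W.map (Matrix.toLin' (g : Matrix ((Fin (d - 1) ⊕ Fin (d - 1)) ⊕ Fin 2)
          ((Fin (d - 1) ⊕ Fin (d - 1)) ⊕ Fin 2) F)) ≤ W → False := by
  classical
  have hpp : p.Prime := Fact.out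
  have hp3 : 3 ≤ p := by
    have := hpp.two_le
    omega
  rcases Nat.even_or_odd d with hde | hdo
  swap
  · obtain ⟨g, hgΩ, hgp, hns, hbad⟩ := sro_um_odd p hp2 d m hd hdo hm a b hab
    exact ⟨g, hgΩ, hgp, hns, fun W hWm hWnd _ hWinv => hbad W hWm hWnd hWinv⟩
  obtain ⟨e, he⟩ : ∃ e, e + 2 = d := ⟨d - 2, by omega⟩
  have hee : Even e := by
    obtain ⟨k, hk⟩ := hde
    exact ⟨k - 1, by omega⟩
  obtain ⟨μ, hμ⟩ : ∃ μ : Multiset ℕ, μ = ({3, 1} : Multiset ℕ) + Multiset.replicate e 2 :=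
    ⟨_, rfl⟩
  have hμsum : μ.sum = 2 * d := by
    rw [hμ, Multiset.sum_add, Multiset.sum_replicate, smul_eq_mul]
    simp
    omega
  have hμmem : ∀ a ∈ μ, a = 3 ∨ a = 1 ∨ a = 2 := by
    intro a ha
    rw [hμ] at ha
    rcases Multiset.mem_add.mp ha with h | h
    · have h' : a = 3 ∨ a = 1 := by simpa using h
      tauto
    · exact Or.inr (Or.inr (Multiset.eq_of_mem_replicate h))
  have hμparts : ∀ a ∈ μ, 0 < a ∧ a ≤ p := by
    intro a ha
    rcases hμmem a ha with rfl | rfl | rfl <;> omega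
  have hμcount : ∀ a, Even a → Even (μ.count a) := by
    intro a hae
    rw [hμ, Multiset.count_add, Multiset.count_replicate]
    have h3 : Multiset.count a ({3, 1} : Multiset ℕ) = 0 := by
      rw [Multiset.count_eq_zero]
      intro h
      have h' : a = 3 ∨ a = 1 := by simpa using h
      rcases h' with rfl | rfl <;> exact absurd hae (by decide)
    rw [h3, zero_add]
    split_ifs
    · exact hee
    · exact Even.zero
  have h3μ : 3 ∈ μ := by
    rw [hμ]
    simp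
  have hreal : SoRealM F p μ :=
    so_realM_all (F := F) p hp2 μ hμparts hμcount (by rw [hμsum]; exact even_two_mul d) 3 h3μ
      (by decide)
  obtain ⟨g, hgΩ, hgp, hgker⟩ := so_real_minus p hp2 μ hreal (fun a ha => (hμparts a ha).2)
    (d - 1) (by rw [hμsum]; omega) a b hab
  rw [hμ] at hgker
  have hnd := forall_of_nondegenerate (minusForm (d - 1) F a b)
    (Cfsg.Agent.Lib.helper42.minusForm_nondegenerate (d - 1) a b hab)
  obtain ⟨g', hg'Ω, hg'p, hns, hbad⟩ := sro_um_even (minusForm (d - 1) F a b) hnd p hp2 e hee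
    (by simp only [Fintype.card_sum, Fintype.card_fin]; omega) g hgΩ hgp hgker m hm W₀
  refine ⟨g', hg'Ω, hg'p, hns, ?_⟩
  intro W hWm hWnd hWiso hWinv
  exact hbad W hWm ((sro_ndOn (minusForm (d - 1) F a b) W).mp hWnd)
    ((sro_areIso (minusForm (d - 1) F a b) W W₀).mp hWiso)
    (fun w hw => hWinv (Submodule.mem_map_of_mem hw))

end minus

end Cfsg.Agent.Lib.helper24
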