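import Mathlib
import Cfsg.Agent.Lib.helper24.SffDefs
import Cfsg.Agent.Lib.helper24.DecMaschke

/-!
S5965 split (architect helper24), racing copy of piece PC by helper99: the centraliser of a
matrix `y` with `y ^ r = 1` (`r` invertible in the finite field `F`) has surjective determinant.
The names are prefixed with `h99_`.
-/

set_option autoImplicit false
set_option linter.unusedSectionVars false
set_option linter.unusedVariables false
set_option linter.style.haveILetI false
set_option linter.deprecated false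

namespace Cfsg.Agent.Lib.helper24

open Polynomial

/-- An operator without proper invariant subspaces has irreducible minimal polynomial and the
space is a copy of `AdjoinRoot (minpoly)`, the operator being multiplication by the root. -/
theorem h99_irr_model {F : Type*} [Field F] {V : Type*} [AddCommGroup V] [Module F V]
    [FiniteDimensional F V] [Nontrivial V] (f : Module.End F V)
    (hmin : ∀ W : Submodule F V, (∀ w ∈ W, f w ∈ W) → W = ⊥ ∨ W = ⊤) :
    Irreducible (minpoly F f) ∧
      ∃ e : AdjoinRoot (minpoly F f) ≃ₗ[F] V, ∀ a : AdjoinRoot (minpoly F f),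
        e (AdjoinRoot.root (minpoly F f) * a) = f (e a) := by
  have hint : IsIntegral F f := Algebra.IsIntegral.isIntegral f
  have hg0 : minpoly F f ≠ 0 := minpoly.ne_zero hint
  have hirr : Irreducible (minpoly F f) := by
    rw [irreducible_iff]
    refine ⟨minpoly.not_isUnit F f, ?_⟩
    intro a b hab
    have hcomm : Polynomial.aeval f a * f = f * Polynomial.aeval f a := by
      have h1 : (Polynomial.aeval f) (a * X) = (Polynomial.aeval f) (X * a) := by rw [mul_comm]
      rw [map_mul, map_mul, Polynomial.aeval_X] at h1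
      exact h1
    have hker : ∀ w ∈ LinearMap.ker (Polynomial.aeval f a),
        f w ∈ LinearMap.ker (Polynomial.aeval f a) := by
      intro w hw
      rw [LinearMap.mem_ker] at hw ⊢
      have h1 := congrArg (fun S : Module.End F V => S w) hcomm
      simp only [Module.End.mul_apply] at h1
      rw [h1, hw, map_zero]
    have hab0 : Polynomial.aeval f a * Polynomial.aeval f b = 0 := by
      rw [← map_mul, ← hab, minpoly.aeval]
    rcases hmin _ hker with h | h
    · left
      have hb : Polynomial.aeval f b = 0 := by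
        apply LinearMap.ext
        intro w
        have h1 := congrArg (fun S : Module.End F V => S w) hab0
        simp only [Module.End.mul_apply, LinearMap.zero_apply] at h1
        have h3 : (Polynomial.aeval f b) w ∈ LinearMap.ker (Polynomial.aeval f a) :=
          LinearMap.mem_ker.mpr h1
        rw [h] at h3
        rw [LinearMap.zero_apply]
        exact (Submodule.mem_bot F).mp h3
      obtain ⟨c, hc⟩ := minpoly.dvd F f hb
      have h5 : minpoly F f * 1 = minpoly F f * (a * c) := by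
        rw [mul_one]
        conv_lhs => rw [hab, hc]
        ring
      have h6 := mul_left_cancel₀ hg0 h5
      exact isUnit_iff_exists_inv.mpr ⟨c, h6.symm⟩
    · right
      have ha : Polynomial.aeval f a = 0 := LinearMap.ker_eq_top.mp h
      obtain ⟨c, hc⟩ := minpoly.dvd F f ha
      have h5 : minpoly F f * 1 = minpoly F f * (c * b) := by
        rw [mul_one]
        conv_lhs => rw [hab, hc]
        ring
      have h6 := mul_left_cancel₀ hg0 h5
      exact isUnit_iff_exists_inv'.mpr ⟨c, h6.symm⟩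
  refine ⟨hirr, ?_⟩
  haveI : Fact (Irreducible (minpoly F f)) := ⟨hirr⟩
  obtain ⟨v, hv⟩ := exists_ne (0 : V)
  have hI : ∀ a : F[X], a ∈ (Ideal.span {minpoly F f} : Ideal F[X]) →
      (Polynomial.aeval f) a = 0 := by
    intro a ha
    obtain ⟨c, rfl⟩ := Ideal.mem_span_singleton.mp ha
    rw [map_mul, minpoly.aeval, zero_mul]
  obtain ⟨L, hLroot⟩ : ∃ L : AdjoinRoot (minpoly F f) →ₐ[F] Module.End F V,
      L (AdjoinRoot.root (minpoly F f)) = f :=
    ⟨Ideal.Quotient.liftₐ (Ideal.span {minpoly F f}) (Polynomial.aeval f) hI,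
      Polynomial.aeval_X f⟩
  obtain ⟨φ, hφ⟩ : ∃ φ : AdjoinRoot (minpoly F f) →ₗ[F] V, ∀ a, φ a = L a v :=
    ⟨(LinearMap.applyₗ v).comp L.toLinearMap, fun a => rfl⟩
  have hφ1 : φ 1 = v := by rw [hφ, map_one, Module.End.one_apply]
  have hφmul : ∀ a b, φ (a * b) = L a (φ b) := by
    intro a b
    rw [hφ, hφ, map_mul, Module.End.mul_apply]
  have hinj : Function.Injective φ := by
    rw [injective_iff_map_eq_zero]
    intro a ha
    by_contra ha0
    have h1 : a⁻¹ * a = 1 := inv_mul_cancel₀ ha0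
    have h3 := hφmul a⁻¹ a
    rw [h1, hφ1, ha, map_zero] at h3
    exact hv h3
  have hsurj : Function.Surjective φ := by
    have hrange : ∀ w ∈ LinearMap.range φ, f w ∈ LinearMap.range φ := by
      rintro _ ⟨a, rfl⟩
      refine ⟨AdjoinRoot.root (minpoly F f) * a, ?_⟩
      rw [hφmul, hLroot]
    rcases hmin _ hrange with h | h
    · exfalso
      have h1 : v ∈ LinearMap.range φ := ⟨1, hφ1⟩
      rw [h] at h1
      exact hv ((Submodule.mem_bot F).mp h1)
    · exact LinearMap.range_eq_top.mp h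
  refine ⟨LinearEquiv.ofBijective φ ⟨hinj, hsurj⟩, ?_⟩
  intro a
  show φ (AdjoinRoot.root (minpoly F f) * a) = f (φ a)
  rw [hφmul, hLroot]

/-- PC (racing copy): the centraliser of `y` with `y ^ r = 1` has surjective determinant. -/
theorem h99_sff_cent_det {F : Type*} [Field F] [Fintype F] {n : ℕ} (hn : 0 < n) (r : ℕ)
    (hrF : (r : F) ≠ 0) (y : Matrix (Fin n) (Fin n) F) (hy : y ^ r = 1) (t : F) (ht : t ≠ 0) :
    ∃ C : Matrix (Fin n) (Fin n) F, C * y = y * C ∧ C.det = t := by
  classical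
  haveI : Nonempty (Fin n) := ⟨⟨0, hn⟩⟩
  obtain ⟨f, hf⟩ : ∃ f : Module.End F (Fin n → F), f = Matrix.toLinAlgEquiv' y := ⟨_, rfl⟩
  have hfr : f ^ r = 1 := by rw [hf, ← map_pow, hy, map_one]
  -- a minimal nonzero invariant subspace
  obtain ⟨W, ⟨hWne, hWinv⟩, hWmin⟩ := wellFounded_lt.has_min
    {W : Submodule F (Fin n → F) | W ≠ ⊥ ∧ ∀ w ∈ W, f w ∈ W}
    ⟨⊤, top_ne_bot, fun _ _ => Submodule.mem_top⟩
  have hWmin' : ∀ U : Submodule F (Fin n → F), U ≤ W → (∀ u ∈ U, f u ∈ U) → U = ⊥ ∨ U = W := by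
    intro U hUW hU
    by_cases hU0 : U = ⊥
    · exact Or.inl hU0
    · right
      by_contra hne
      exact hWmin U ⟨hU0, hU⟩ (lt_of_le_of_ne hUW hne)
  obtain ⟨W', hcompl, hW'inv⟩ := dec_maschke f r 1 one_ne_zero hrF
    (by rw [hfr, one_smul]) W hWinv
  obtain ⟨fW, hfW⟩ : ∃ fW : Module.End F W, ∀ w : W, ((fW w : W) : Fin n → F) = f w :=
    ⟨f.restrict hWinv, fun w => rfl⟩
  obtain ⟨fW', hfW'⟩ : ∃ fW' : Module.End F W', ∀ w : W', ((fW' w : W') : Fin n → F) = f w :=
    ⟨f.restrict hW'inv, fun w => rfl⟩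
  haveI : Nontrivial W := Submodule.nontrivial_iff_ne_bot.mpr hWne
  have hminW : ∀ U : Submodule F W, (∀ u ∈ U, fW u ∈ U) → U = ⊥ ∨ U = ⊤ := by
    intro U hU
    have h1 : ∀ u ∈ U.map W.subtype, f u ∈ U.map W.subtype := by
      rintro _ ⟨u, hu, rfl⟩
      exact ⟨fW u, hU u hu, hfW u⟩
    rcases hWmin' (U.map W.subtype) (Submodule.map_subtype_le W U) h1 with h | h
    · left
      apply Submodule.map_injective_of_injective W.injective_subtype
      rw [h, Submodule.map_bot]
    · right
      apply Submodule.map_injective_of_injective W.injective_subtype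
      rw [h, Submodule.map_subtype_top]
  obtain ⟨hirr, e, he⟩ := h99_irr_model fW hminW
  haveI : Fact (Irreducible (minpoly F fW)) := ⟨hirr⟩
  haveI : Module.Finite F (AdjoinRoot (minpoly F fW)) := Module.Finite.equiv e.symm
  haveI : Finite (AdjoinRoot (minpoly F fW)) := Module.finite_of_finite F
  obtain ⟨α, hα⟩ := FiniteField.norm_surjective F (AdjoinRoot (minpoly F fW)) t
  obtain ⟨CW, hCW⟩ : ∃ CW : Module.End F W, CW = (e : AdjoinRoot (minpoly F fW) →ₗ[F] W) ∘ₗ
      (Algebra.lmul F (AdjoinRoot (minpoly F fW)) α) ∘ₗ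
      (e.symm : W →ₗ[F] AdjoinRoot (minpoly F fW)) := ⟨_, rfl⟩
  have hCWdet : LinearMap.det CW = t := by
    rw [hCW, LinearMap.det_conj, ← Algebra.norm_apply, hα]
  have hCWapp : ∀ w : W, CW w = e (α * e.symm w) := by
    intro w
    rw [hCW]
    rfl
  have hCWcomm : ∀ w : W, CW (fW w) = fW (CW w) := by
    intro w
    obtain ⟨a, rfl⟩ := e.surjective w
    rw [hCWapp, hCWapp, ← he, LinearEquiv.symm_apply_apply, LinearEquiv.symm_apply_apply, ← he]
    congr 1
    ring
  obtain ⟨Φ, hΦ⟩ : ∃ Φ : (W × W') ≃ₗ[F] (Fin n → F), ∀ x : W × W', Φ x = (x.1 : Fin n → F) + x.2 :=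
    ⟨Submodule.prodEquivOfIsCompl W W' hcompl, fun x => Submodule.coe_prodEquivOfIsCompl' W W' hcompl x⟩
  obtain ⟨Cl, hCl⟩ : ∃ Cl : Module.End F (Fin n → F), Cl = (Φ : (W × W') →ₗ[F] (Fin n → F)) ∘ₗ
      (CW.prodMap LinearMap.id) ∘ₗ (Φ.symm : (Fin n → F) →ₗ[F] (W × W')) := ⟨_, rfl⟩
  have hCldet : LinearMap.det Cl = t := by
    rw [hCl, LinearMap.det_conj, LinearMap.det_prodMap, hCWdet, LinearMap.det_id, mul_one]
  have hClΦ : ∀ x : W × W', Cl (Φ x) = Φ (CW x.1, x.2) := by
    intro x
    rw [hCl]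
    simp
  have hfΦ : ∀ x : W × W', f (Φ x) = Φ (fW x.1, fW' x.2) := by
    intro x
    rw [hΦ, hΦ, map_add, hfW, hfW']
  have hcomm : Cl * f = f * Cl := by
    apply LinearMap.ext
    intro x
    obtain ⟨x, rfl⟩ := Φ.surjective x
    rw [Module.End.mul_apply, Module.End.mul_apply, hfΦ, hClΦ, hClΦ, hfΦ]
    simp only [hCWcomm]
  refine ⟨LinearMap.toMatrix' Cl, ?_, ?_⟩
  · have h1 : y = LinearMap.toMatrix' f := by
      rw [hf]
      exact (LinearMap.toMatrix'_toLin' y).symm
    rw [h1, ← LinearMap.toMatrix'_mul, ← LinearMap.toMatrix'_mul, hcomm]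
  · rw [LinearMap.det_toMatrix', hCldet]

end Cfsg.Agent.Lib.helper24
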