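import Mathlib
import Cfsg.Agent.Lib.helper24.SroReal
import Cfsg.Agent.Lib.helper49.SreNEGM

/-! S5988 split, piece PT (hedge copy by helper99): a nondegenerate subspace with a totally
singular subspace of half its dimension has type `+1`, in every characteristic. -/

set_option autoImplicit false
set_option linter.unusedSectionVars false
set_option linter.unusedVariables false

namespace Cfsg.Agent.Lib.helper99

open Module Cfsg.Agent.Lib.helper24 Cfsg.Agent.Lib.helper45 Cfsg.Agent.Lib.helper49

universe u

section generic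

variable {F : Type u} [Field F] [Fintype F]

/-- A nondegenerate plane containing a nonzero singular vector has type `+1`. -/
theorem sre_plane_ty {V : Type u} [AddCommGroup V] [Module F V] [FiniteDimensional F V]
    (Q : QuadraticForm F V) (H : Submodule F V) (hH : SpNd (QuadraticMap.polarBilin Q) H)
    (hdim : finrank F H = 2) (u : V) (hu : u ∈ H) (hu0 : u ≠ 0) (hQu : Q u = 0) :
    SrTy Q H 1 := by
  rcases sr_ty_or Q H hH 1 (by rw [hdim]) with h | h
  · exact h
  · exfalso
    unfold SrTy at h
    have h0 := h 0
    rw [hdim, if_pos rfl] at h0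
    have hq : (Fintype.card F : ℤ) ≠ 0 := by exact_mod_cast Fintype.card_ne_zero
    have h1 : ((srNu Q H 0 : ℕ) : ℤ) = 1 := by
      have h3 : (Fintype.card F : ℤ) * ((srNu Q H 0 : ℕ) : ℤ) = (Fintype.card F : ℤ) * 1 := by
        rw [h0]
        norm_num
        ring
      exact mul_left_cancel₀ hq h3
    have h3 : srNu Q H 0 = 1 := by exact_mod_cast h1
    unfold srNu at h3
    obtain ⟨hsub, -⟩ := Nat.card_eq_one_iff_unique.mp h3
    have h4 : (⟨(0 : H), by rw [map_zero]⟩ : {w : H // (Q.comp H.subtype) w = 0}) =
        ⟨⟨u, hu⟩, by rw [QuadraticMap.comp_apply]; exact hQu⟩ := hsub.elim _ _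
    have h5 := congrArg (fun w : {w : H // (Q.comp H.subtype) w = 0} => ((w : H) : V)) h4
    exact hu0 h5.symm

/-- PT, with an inequality for the totally singular subspace. -/
theorem sre_plus_ty_aux {V : Type u} [AddCommGroup V] [Module F V] [FiniteDimensional F V]
    (Q : QuadraticForm F V) :
    ∀ (e : ℕ) (W U : Submodule F V), SpNd (QuadraticMap.polarBilin Q) W → U ≤ W →
      (∀ u ∈ U, Q u = 0) → e ≤ finrank F U → finrank F W = 2 * e → SrTy Q W 1 := by
  intro e
  induction e with
  | zero =>
    intro W U hW hUW hU hUdim hWdim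
    have hWbot : W = ⊥ := Submodule.finrank_eq_zero.mp (by rw [hWdim])
    rw [hWbot]
    exact h49_sre_ty_bot Q
  | succ e ih =>
    intro W U hW hUW hU hUdim hWdim
    have hpol0 : ∀ a ∈ U, ∀ b ∈ U, QuadraticMap.polar Q a b = 0 := by
      intro a ha b hb
      unfold QuadraticMap.polar
      rw [hU _ (U.add_mem ha hb), hU a ha, hU b hb]
      ring
    have hUne : U ≠ ⊥ := by
      intro h
      rw [h, finrank_bot] at hUdim
      omega
    obtain ⟨u, huU, hu0⟩ := Submodule.exists_mem_ne_zero_of_ne_bot hUne
    have huW : u ∈ W := hUW huU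
    have hQu : Q u = 0 := hU u huU
    obtain ⟨v, hvW, hv⟩ : ∃ v ∈ W, QuadraticMap.polar Q u v ≠ 0 := by
      by_contra hcon
      apply hu0
      apply hW u huW
      intro v hv
      rw [QuadraticMap.polarBilin_apply_apply]
      by_contra hne
      exact hcon ⟨v, hv, hne⟩
    obtain ⟨v₁, hv₁def⟩ : ∃ v₁ : V, v₁ = (QuadraticMap.polar Q u v)⁻¹ • v := ⟨_, rfl⟩
    have hv₁W : v₁ ∈ W := by
      rw [hv₁def]
      exact W.smul_mem _ hvW
    have hpuv₁ : QuadraticMap.polar Q u v₁ = 1 := by
      rw [hv₁def, QuadraticMap.polar_smul_right, smul_eq_mul, inv_mul_cancel₀ hv]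
    have hpuu : QuadraticMap.polar Q u u = 0 := by
      rw [QuadraticMap.polar_self, hQu, smul_zero]
    obtain ⟨v', hv'def⟩ : ∃ v' : V, v' = v₁ - Q v₁ • u := ⟨_, rfl⟩
    have hv'W : v' ∈ W := by
      rw [hv'def]
      exact W.sub_mem hv₁W (W.smul_mem _ huW)
    have hpuv' : QuadraticMap.polar Q u v' = 1 := by
      rw [hv'def, QuadraticMap.polar_sub_right, QuadraticMap.polar_smul_right, hpuu, smul_zero,
        sub_zero, hpuv₁]
    have hQv' : Q v' = 0 := by
      have h1 : Q (v₁ + (-(Q v₁)) • u) = Q v₁ + Q ((-(Q v₁)) • u) +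
          QuadraticMap.polar Q v₁ ((-(Q v₁)) • u) := by
        unfold QuadraticMap.polar
        ring
      have h3 : v' = v₁ + (-(Q v₁)) • u := by
        rw [hv'def, neg_smul, sub_eq_add_neg]
      rw [h3, h1, QuadraticMap.map_smul, hQu, QuadraticMap.polar_smul_right,
        QuadraticMap.polar_comm, hpuv₁]
      simp
    have hpv'v' : QuadraticMap.polar Q v' v' = 0 := by
      rw [QuadraticMap.polar_self, hQv', smul_zero]
    obtain ⟨H, hHdef⟩ : ∃ H : Submodule F V, H = Submodule.span F {u, v'} := ⟨_, rfl⟩
    have huH : u ∈ H := by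
      rw [hHdef]
      exact Submodule.subset_span (by simp)
    have hv'H : v' ∈ H := by
      rw [hHdef]
      exact Submodule.subset_span (by simp)
    have hHW : H ≤ W := by
      rw [hHdef, Submodule.span_le]
      intro x hx
      rcases hx with rfl | rfl
      · exact huW
      · exact hv'W
    have hHmem : ∀ w ∈ H, ∃ a b : F, w = a • u + b • v' := by
      intro w hw
      rw [hHdef, Submodule.mem_span_pair] at hw
      obtain ⟨a, b, rfl⟩ := hw
      exact ⟨a, b, rfl⟩
    have hli : LinearIndependent F ![u, v'] := by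
      rw [LinearIndependent.pair_iff]
      intro s t hst
      have h1 : QuadraticMap.polar Q u (s • u + t • v') = 0 := by
        rw [hst]
        unfold QuadraticMap.polar
        rw [add_zero, map_zero]
        ring
      rw [QuadraticMap.polar_add_right, QuadraticMap.polar_smul_right,
        QuadraticMap.polar_smul_right, hpuu, hpuv', smul_zero, zero_add, smul_eq_mul, mul_one] at h1
      have h3 : QuadraticMap.polar Q v' (s • u + t • v') = 0 := by
        rw [hst]
        unfold QuadraticMap.polar
        rw [add_zero, map_zero]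
        ring
      rw [QuadraticMap.polar_add_right, QuadraticMap.polar_smul_right,
        QuadraticMap.polar_smul_right, hpv'v', QuadraticMap.polar_comm, hpuv', smul_zero, add_zero,
        smul_eq_mul, mul_one] at h3
      exact ⟨h3, h1⟩
    have hHdim : finrank F H = 2 := by
      rw [hHdef]
      have h1 : Set.range ![u, v'] = {u, v'} := by
        ext x
        simp only [Set.mem_range, Fin.exists_fin_two, Matrix.cons_val_zero, Matrix.cons_val_one,
          Set.mem_insert_iff, Set.mem_singleton_iff]
        constructor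
        · rintro (h | h)
          · exact Or.inl h.symm
          · exact Or.inr h.symm
        · rintro (h | h)
          · exact Or.inl h.symm
          · exact Or.inr h.symm
      rw [← h1, finrank_span_eq_card hli]
      simp
    have hHnd : SpNd (QuadraticMap.polarBilin Q) H := by
      intro w hw hw2
      obtain ⟨a, b, rfl⟩ := hHmem w hw
      have h1 := hw2 u huH
      rw [QuadraticMap.polarBilin_apply_apply, QuadraticMap.polar_add_left,
        QuadraticMap.polar_smul_left, QuadraticMap.polar_smul_left, hpuu,
        QuadraticMap.polar_comm _ v' u, hpuv', smul_zero, zero_add, smul_eq_mul, mul_one] at h1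
      have h3 := hw2 v' hv'H
      rw [QuadraticMap.polarBilin_apply_apply, QuadraticMap.polar_add_left,
        QuadraticMap.polar_smul_left, QuadraticMap.polar_smul_left, hpv'v', hpuv', smul_zero,
        add_zero, smul_eq_mul, mul_one] at h3
      rw [h1, h3, zero_smul, zero_smul, add_zero]
    have hHty : SrTy Q H 1 := sre_plane_ty Q H hHnd hHdim u huH hu0 hQu
    obtain ⟨hW'nd, hsup, hinf, hdimsum⟩ := so_rel (QuadraticMap.polarBilin Q) (sr_sym Q) W H hW
      hHnd hHW
    obtain ⟨W', hW'def⟩ : ∃ W' : Submodule F V,
        W' = spPerp (QuadraticMap.polarBilin Q) H ⊓ W := ⟨_, rfl⟩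
    rw [← hW'def] at hW'nd hsup hinf hdimsum
    have hW'dim : finrank F W' = 2 * e := by omega
    have hW'W : W' ≤ W := by
      rw [hW'def]
      exact inf_le_right
    have horth : ∀ h ∈ H, ∀ w ∈ W', QuadraticMap.polar Q h w = 0 := by
      intro h hh w hw
      rw [hW'def] at hw
      have := (Submodule.mem_inf.mp hw).1 h hh
      rwa [QuadraticMap.polarBilin_apply_apply] at this
    -- the totally singular subspace of `W'`
    obtain ⟨φ, hφ⟩ : ∃ φ : U →ₗ[F] F, φ = (QuadraticMap.polarBilin Q v').domRestrict U :=
      ⟨_, rfl⟩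
    have hφa : ∀ x : U, φ x = QuadraticMap.polar Q v' (x : V) := by
      intro x
      rw [hφ, LinearMap.domRestrict_apply, QuadraticMap.polarBilin_apply_apply]
    have hker : (LinearMap.ker φ).map U.subtype ≤ U ⊓ W' := by
      rintro _ ⟨x, hx, rfl⟩
      rw [Submodule.subtype_apply]
      have hx0 : QuadraticMap.polar Q v' (x : V) = 0 := by
        rw [← hφa]
        exact LinearMap.mem_ker.mp hx
      refine Submodule.mem_inf.mpr ⟨x.2, ?_⟩
      rw [hW'def]
      refine Submodule.mem_inf.mpr ⟨?_, hUW x.2⟩
      intro h hh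
      obtain ⟨a, b, rfl⟩ := hHmem h hh
      rw [QuadraticMap.polarBilin_apply_apply, QuadraticMap.polar_add_left,
        QuadraticMap.polar_smul_left, QuadraticMap.polar_smul_left, hpol0 u huU _ x.2, hx0,
        smul_zero, smul_zero, add_zero]
    have hkerdim : e ≤ finrank F ↥(U ⊓ W') := by
      have h1 := LinearMap.finrank_range_add_finrank_ker φ
      have h3 : finrank F (LinearMap.range φ) ≤ 1 := by
        have := Submodule.finrank_le (LinearMap.range φ)
        rwa [finrank_self] at this
      have h4 : finrank F ((LinearMap.ker φ).map U.subtype) = finrank F (LinearMap.ker φ) :=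
        Submodule.finrank_map_subtype_eq _ _
      have h5 := Submodule.finrank_mono hker
      omega
    have hW'ty := ih W' (U ⊓ W') hW'nd inf_le_right (fun x hx => hU x (Submodule.mem_inf.mp hx).1)
      hkerdim hW'dim
    have h9 := sr_ty_sum Q H W' horth hinf 1 1 hHty hW'ty (by rw [hHdim]; exact even_two)
      (by rw [hW'dim]; exact even_two_mul _)
    rw [hsup, one_mul] at h9
    exact h9

/-- PT: a nondegenerate subspace with a totally singular subspace of half its dimension has
type `+1`, in every characteristic. -/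
theorem sre_plus_ty {V : Type u} [AddCommGroup V] [Module F V] [FiniteDimensional F V]
    (Q : QuadraticForm F V) (W : Submodule F V)
    (hW : SpNd (QuadraticMap.polarBilin Q) W) (hpl : SrPlus Q W) : SrTy Q W 1 := by
  obtain ⟨U, hUW, hU, hUdim⟩ := hpl
  exact sre_plus_ty_aux Q (finrank F U) W U hW hUW hU le_rfl hUdim.symm

end generic

end Cfsg.Agent.Lib.helper99
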