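import Mathlib
import Cfsg.Agent.Lib.helper50.SymForm2
import Cfsg.Agent.Lib.helper17.SympBasis

/-!
# Alternating forms on spaces over an extension field `E` of `F`

`ω` is an `F`-bilinear alternating nondegenerate form on an `E`-space `V` for which the scalars of
`E` are self-adjoint and `ω (a v) v = 0`.  We build the `E`-bilinear alternating form `β` with
`ω (c u) v = lam (c * β u v)` and count the `F`-isometries of `ω` commuting with `E`.
-/

set_option autoImplicit false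

namespace Cfsg.Agent.Lib.helper99

open Module
open Cfsg.Agent.Lib.helper17 Cfsg.Agent.Lib.helper50

universe u v w

section fxa
variable {F : Type u} [Field F] {E : Type w} [Field E] [Algebra F E] {V : Type v} [AddCommGroup V]
  [Module F V] [Module E V] [IsScalarTower F E V]

/-- an alternating nondegenerate `F`-form on an `E`-space for which `E` is self-adjoint -/
structure FxS (E : Type w) [Field E] [Algebra F E] [Module E V] [IsScalarTower F E V]
    (ω : V →ₗ[F] V →ₗ[F] F) : Prop where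
  alt : ∀ v, ω v v = 0
  nd : ∀ v, (∀ w, ω v w = 0) → v = 0
  sa : ∀ (a : E) (u v : V), ω (a • u) v = ω u (a • v)
  ealt : ∀ (a : E) (v : V), ω (a • v) v = 0

theorem fx_lam_zero (lam : E →ₗ[F] F) (hlam : lam ≠ 0) (b : E) (h : ∀ c, lam (c * b) = 0) :
    b = 0 := by
  by_contra hb
  apply hlam
  ext c
  have h1 := h (c * b⁻¹)
  rw [mul_assoc, inv_mul_cancel₀ hb, mul_one] at h1
  rw [h1, LinearMap.zero_apply]

theorem fx_lam_surj [FiniteDimensional F E] (lam : E →ₗ[F] F) (hlam : lam ≠ 0)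
    (φ : E →ₗ[F] F) : ∃ b : E, ∀ c, φ c = lam (c * b) := by
  obtain ⟨Ψ, hΨ⟩ : ∃ Ψ : E →ₗ[F] (E →ₗ[F] F), ∀ b c, Ψ b c = lam (b * c) :=
    ⟨(LinearMap.mul F E).compr₂ lam, fun b c => rfl⟩
  have hinj : Function.Injective Ψ := by
    rw [← LinearMap.ker_eq_bot, LinearMap.ker_eq_bot']
    intro b hb
    apply fx_lam_zero lam hlam
    intro c
    rw [mul_comm, ← hΨ, hb, LinearMap.zero_apply]
  have hsurj : Function.Surjective Ψ :=
    (LinearMap.injective_iff_surjective_of_finrank_eq_finrank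
      (Subspace.dual_finrank_eq (K := F) (V := E)).symm).1 hinj
  obtain ⟨b, hb⟩ := hsurj φ
  exact ⟨b, fun c => by rw [← hb, hΨ, mul_comm]⟩

/-- the functional `c ↦ ω (c • u) v` -/
def fxPhi (ω : V →ₗ[F] V →ₗ[F] F) (u v : V) : E →ₗ[F] F where
  toFun c := ω (c • u) v
  map_add' c c' := by rw [add_smul, map_add, LinearMap.add_apply]
  map_smul' t c := by rw [smul_assoc, map_smul, LinearMap.smul_apply, RingHom.id_apply]

/-- the value of the `E`-form -/
noncomputable def fxB [FiniteDimensional F E] (ω : V →ₗ[F] V →ₗ[F] F) (lam : E →ₗ[F] F)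
    (hlam : lam ≠ 0) (u v : V) : E :=
  Classical.choose (fx_lam_surj lam hlam (fxPhi ω u v))

theorem fxB_spec [FiniteDimensional F E] (ω : V →ₗ[F] V →ₗ[F] F) (lam : E →ₗ[F] F)
    (hlam : lam ≠ 0) (u v : V) (c : E) : ω (c • u) v = lam (c * fxB ω lam hlam u v) :=
  Classical.choose_spec (fx_lam_surj lam hlam (fxPhi ω u v)) c

theorem fxB_uniq [FiniteDimensional F E] (ω : V →ₗ[F] V →ₗ[F] F) (lam : E →ₗ[F] F)
    (hlam : lam ≠ 0) (u v : V) (b : E) (h : ∀ c : E, ω (c • u) v = lam (c * b)) :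
    fxB ω lam hlam u v = b := by
  have h1 : fxB ω lam hlam u v - b = 0 := by
    apply fx_lam_zero lam hlam
    intro c
    rw [mul_sub, map_sub, ← fxB_spec, ← h, sub_self]
  exact sub_eq_zero.1 h1

/-- the `E`-bilinear form `β` with `ω (c u) v = lam (c * β u v)` -/
noncomputable def fxBeta [FiniteDimensional F E] (ω : V →ₗ[F] V →ₗ[F] F) (hS : FxS E ω)
    (lam : E →ₗ[F] F) (hlam : lam ≠ 0) : V →ₗ[E] V →ₗ[E] E :=
  LinearMap.mk₂ E (fxB ω lam hlam)
    (fun u u' v => fxB_uniq ω lam hlam _ _ _ (fun c => by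
      rw [smul_add, map_add, LinearMap.add_apply, fxB_spec ω lam hlam, fxB_spec ω lam hlam,
        mul_add, map_add]))
    (fun a u v => fxB_uniq ω lam hlam _ _ _ (fun c => by
      rw [smul_smul, fxB_spec ω lam hlam, smul_eq_mul, mul_assoc]))
    (fun u v v' => fxB_uniq ω lam hlam _ _ _ (fun c => by
      rw [map_add, fxB_spec ω lam hlam, fxB_spec ω lam hlam, mul_add, map_add]))
    (fun a u v => fxB_uniq ω lam hlam _ _ _ (fun c => by
      rw [← hS.sa, smul_smul, fxB_spec ω lam hlam, smul_eq_mul, mul_comm a c, mul_assoc]))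

theorem fx_beta_spec [FiniteDimensional F E] (ω : V →ₗ[F] V →ₗ[F] F) (hS : FxS E ω)
    (lam : E →ₗ[F] F) (hlam : lam ≠ 0) (c : E) (u v : V) :
    ω (c • u) v = lam (c * fxBeta ω hS lam hlam u v) := fxB_spec ω lam hlam u v c

theorem fx_beta_one [FiniteDimensional F E] (ω : V →ₗ[F] V →ₗ[F] F) (hS : FxS E ω)
    (lam : E →ₗ[F] F) (hlam : lam ≠ 0) (u v : V) : ω u v = lam (fxBeta ω hS lam hlam u v) := by
  have h := fx_beta_spec ω hS lam hlam 1 u v
  rwa [one_smul, one_mul] at h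

theorem fx_beta_uniq [FiniteDimensional F E] (ω : V →ₗ[F] V →ₗ[F] F) (hS : FxS E ω)
    (lam : E →ₗ[F] F) (hlam : lam ≠ 0) (u v : V) (b : E)
    (h : ∀ c : E, ω (c • u) v = lam (c * b)) : fxBeta ω hS lam hlam u v = b :=
  fxB_uniq ω lam hlam u v b h

theorem fx_beta_alt [FiniteDimensional F E] (ω : V →ₗ[F] V →ₗ[F] F) (hS : FxS E ω)
    (lam : E →ₗ[F] F) (hlam : lam ≠ 0) (v : V) : fxBeta ω hS lam hlam v v = 0 :=
  fx_beta_uniq ω hS lam hlam v v 0 (fun c => by rw [hS.ealt, mul_zero, map_zero])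

theorem fx_beta_nd [FiniteDimensional F E] (ω : V →ₗ[F] V →ₗ[F] F) (hS : FxS E ω)
    (lam : E →ₗ[F] F) (hlam : lam ≠ 0) (u : V) (h : ∀ v, fxBeta ω hS lam hlam u v = 0) :
    u = 0 :=
  hS.nd u (fun v => by rw [fx_beta_one ω hS lam hlam, h, map_zero])

end fxa

/-- a hyperbolic family is linearly independent -/
theorem fx_frame_li {E : Type w} [Field E] {V : Type v} [AddCommGroup V] [Module E V]
    (β : V →ₗ[E] V →ₗ[E] E) (halt : ∀ v, β v v = 0) {m : ℕ} (e f : Fin m → V)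
    (hee : ∀ a b, β (e a) (e b) = 0) (hff : ∀ a b, β (f a) (f b) = 0)
    (hef : ∀ a b, β (e a) (f b) = if a = b then 1 else 0) :
    LinearIndependent E (Sum.elim e f) := by
  classical
  rw [Fintype.linearIndependent_iff]
  intro g hg
  rw [Fintype.sum_sum_type] at hg
  simp only [Sum.elim_inl, Sum.elim_inr] at hg
  have hfe : ∀ a b, β (f a) (e b) = if a = b then -1 else 0 := by
    intro a b
    rw [skew_of_alt β halt, hef]
    by_cases hab : a = b
    · rw [if_pos hab, if_pos hab.symm]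
    · rw [if_neg hab, if_neg (fun hba => hab hba.symm), neg_zero]
  have h1 : ∀ j, g (Sum.inl j) = 0 := by
    intro j
    have h2 := congrArg (fun x => β x (f j)) hg
    simpa [hef, hff] using h2
  have h2 : ∀ j, g (Sum.inr j) = 0 := by
    intro j
    have h2 := congrArg (fun x => β x (e j)) hg
    simpa [hee, hfe] using h2
  rintro (j | j)
  · exact h1 j
  · exact h2 j

/-- a permutation-like map of prime order on a set of size prime to the order has a fixed point -/
theorem fx_fixed_point {T : Type*} [Fintype T] (r : ℕ) [hr : Fact r.Prime] (f : T → T)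
    (hfr : ∀ x, f^[r] x = x) (hnd : ¬ r ∣ Fintype.card T) : ∃ x, f x = x := by
  classical
  have hinj : Function.Injective f := by
    intro x y hxy
    have h1 : f^[r] x = f^[r] y := by
      obtain ⟨k, hk⟩ : ∃ k, r = k + 1 := ⟨r - 1, by have := hr.out.pos; omega⟩
      rw [hk, Function.iterate_succ_apply, Function.iterate_succ_apply, hxy]
    rwa [hfr, hfr] at h1
  obtain ⟨σ, hσ⟩ : ∃ σ : Equiv.Perm T, ∀ x, σ x = f x :=
    ⟨Equiv.ofBijective f (Finite.injective_iff_bijective.1 hinj), fun x => rfl⟩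
  have hσf : (σ : T → T) = f := funext hσ
  have hσr : σ ^ r ^ 1 = 1 := by
    apply Equiv.Perm.ext
    intro x
    rw [pow_one, ← Equiv.Perm.iterate_eq_pow, hσf, hfr]
    rfl
  obtain ⟨x, hx⟩ := Equiv.Perm.exists_fixed_point_of_prime hnd hσr
  exact ⟨x, by rw [← hσ, hx]⟩

/-- order data for a prime dividing `q ^ (2 (i + 1)) - 1` -/
theorem fx_order_data (q r : ℕ) [hr : Fact r.Prime] (hq : 1 ≤ q) (i : ℕ)
    (h : r ∣ q ^ (2 * (i + 1)) - 1) :
    ∃ o, 1 ≤ o ∧ o ∣ i + 1 ∧ r ∣ q ^ (2 * o) - 1 ∧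
      ∀ n, 1 ≤ n → r ∣ q ^ (2 * n) - 1 → o ≤ n := by
  have hcast : ∀ n : ℕ, r ∣ q ^ (2 * n) - 1 ↔ ((q : ZMod r) ^ 2) ^ n = 1 := by
    intro n
    rw [← ZMod.natCast_eq_zero_iff, Nat.cast_sub (Nat.one_le_pow _ _ hq), Nat.cast_pow,
      Nat.cast_one, sub_eq_zero, pow_mul]
  have h1 := (hcast (i + 1)).1 h
  have hdv : orderOf ((q : ZMod r) ^ 2) ∣ i + 1 := orderOf_dvd_of_pow_eq_one h1
  have hpos : 1 ≤ orderOf ((q : ZMod r) ^ 2) := by
    rcases Nat.eq_zero_or_pos (orderOf ((q : ZMod r) ^ 2)) with h0 | h0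
    · rw [h0] at hdv
      have := Nat.eq_zero_of_zero_dvd hdv
      omega
    · exact h0
  refine ⟨orderOf ((q : ZMod r) ^ 2), hpos, hdv, (hcast _).2 (pow_orderOf_eq_one _), ?_⟩
  intro n hn hrn
  exact Nat.le_of_dvd hn (orderOf_dvd_of_pow_eq_one ((hcast n).1 hrn))

end Cfsg.Agent.Lib.helper99
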