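import Mathlib
import Cfsg.Agent.Lib.helper99.FxA

/-!
# Counting the isometries commuting with `E`, and their commutator spaces
-/

set_option autoImplicit false

namespace Cfsg.Agent.Lib.helper99

open Module
open Cfsg.Agent.Lib.helper17 Cfsg.Agent.Lib.helper50

universe u v w

section fxb
variable {F : Type u} [Field F] {E : Type w} [Field E] [Algebra F E] {V : Type v} [AddCommGroup V]
  [Module F V] [Module E V] [IsScalarTower F E V]

/-- the `F`-isometries of `ω` commuting with `E` -/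
abbrev FxIso (E : Type w) [Field E] [Module E V] (ω : V →ₗ[F] V →ₗ[F] F) : Type v :=
  {g : V →ₗ[F] V // (∀ u v, ω (g u) (g v) = ω u v) ∧ ∀ (a : E) (v : V), g (a • v) = a • g v}

theorem fx_exists_lam [FiniteDimensional F E] : ∃ lam : E →ₗ[F] F, lam ≠ 0 := by
  by_contra hcon
  push Not at hcon
  have h1 : (1 : E) = 0 := by
    rw [← Module.forall_dual_apply_eq_zero_iff F]
    intro φ
    rw [hcon φ, LinearMap.zero_apply]
  exact one_ne_zero h1

set_option maxHeartbeats 1600000 in
theorem fx_card_iso [Fintype F] [Fintype E] [Finite V] (ω : V →ₗ[F] V →ₗ[F] F) (hS : FxS E ω) :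
    ∃ m, finrank E V = 2 * m ∧ Nat.card (FxIso E ω) = Fintype.card E ^ (m ^ 2) *
      ∏ i ∈ Finset.range m, (Fintype.card E ^ (2 * (i + 1)) - 1) := by
  classical
  obtain ⟨lam, hlam⟩ := fx_exists_lam (F := F) (E := E)
  obtain ⟨β, hβ⟩ : ∃ β : V →ₗ[E] V →ₗ[E] E, β = fxBeta ω hS lam hlam := ⟨_, rfl⟩
  have halt : ∀ v, β v v = 0 := fun v => by rw [hβ]; exact fx_beta_alt ω hS lam hlam v
  have hnd : ∀ v, (∀ w, β v w = 0) → v = 0 := fun v hv => by
    apply fx_beta_nd ω hS lam hlam v
    intro w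
    rw [← hβ]
    exact hv w
  have hone : ∀ u v, ω u v = lam (β u v) := fun u v => by
    rw [hβ]
    exact fx_beta_one ω hS lam hlam u v
  have huniq : ∀ (u v : V) (b : E), (∀ c : E, ω (c • u) v = lam (c * b)) → β u v = b :=
    fun u v b h => by
      rw [hβ]
      exact fx_beta_uniq ω hS lam hlam u v b h
  have hspec : ∀ (c : E) (u v : V), ω (c • u) v = lam (c * β u v) := fun c u v => by
    rw [hβ]
    exact fx_beta_spec ω hS lam hlam c u v
  have hskew := skew_of_alt β halt
  obtain ⟨m, hm⟩ := even_finrank_of_alt_nondeg (finrank E V) V β halt hnd rfl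
  have hdim : finrank E V = 2 * m := by omega
  refine ⟨m, hdim, ?_⟩
  obtain ⟨e, f, hee, hff, hef⟩ := exists_symp_basis m β halt hnd hdim
  have hfe : ∀ a b, β (f a) (e b) = if a = b then -1 else 0 := by
    intro a b
    rw [hskew, hef]
    by_cases hab : a = b
    · rw [if_pos hab, if_pos hab.symm]
    · rw [if_neg hab, if_neg (fun hba => hab hba.symm), neg_zero]
  have hli := fx_frame_li β halt e f hee hff hef
  have hspan : Submodule.span E (Set.range (Sum.elim e f)) = ⊤ :=
    hli.span_eq_top_of_card_eq_finrank' (by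
      rw [Fintype.card_sum, Fintype.card_fin, hdim]
      omega)
  obtain ⟨bs, hbs⟩ : ∃ bs : Basis (Fin m ⊕ Fin m) E V, (bs : Fin m ⊕ Fin m → V) = Sum.elim e f :=
    ⟨Basis.mk hli (by rw [hspan]), Basis.coe_mk _ _⟩
  have hbsl : ∀ j, bs (Sum.inl j) = e j := fun j => by rw [hbs]; rfl
  have hbsr : ∀ j, bs (Sum.inr j) = f j := fun j => by rw [hbs]; rfl
  rw [← card_SFrame m V β halt hnd hdim]
  apply Nat.card_congr
  have hiso : ∀ (g : FxIso E ω) (u v : V), β (g.1 u) (g.1 v) = β u v := by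
    intro g u v
    apply huniq
    intro c
    rw [← g.2.2, g.2.1, hspec]
  refine Equiv.ofBijective (fun g => ⟨(fun j => g.1 (f j), fun j => g.1 (e j)), ?_⟩) ⟨?_, ?_⟩
  · intro a b
    refine ⟨?_, ?_, ?_⟩
    · show β (g.1 (f a)) (g.1 (f b)) = 0
      rw [hiso, hff]
    · show β (g.1 (e a)) (g.1 (e b)) = 0
      rw [hiso, hee]
    · show β (g.1 (f a)) (g.1 (e b)) = _
      rw [hiso, hfe]
  · intro g g' hgg
    have h1 : ∀ j, g.1 (f j) = g'.1 (f j) := fun j =>
      congrFun (congrArg Prod.fst (congrArg Subtype.val hgg)) j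
    have h2 : ∀ j, g.1 (e j) = g'.1 (e j) := fun j =>
      congrFun (congrArg Prod.snd (congrArg Subtype.val hgg)) j
    obtain ⟨G, hG⟩ : ∃ G : V →ₗ[E] V, ∀ v, G v = g.1 v :=
      ⟨{ toFun := g.1, map_add' := g.1.map_add, map_smul' := g.2.2 }, fun v => rfl⟩
    obtain ⟨G', hG'⟩ : ∃ G' : V →ₗ[E] V, ∀ v, G' v = g'.1 v :=
      ⟨{ toFun := g'.1, map_add' := g'.1.map_add, map_smul' := g'.2.2 }, fun v => rfl⟩
    have hGG : G = G' := by
      apply bs.ext
      rintro (j | j)
      · rw [hbsl, hG, hG', h2]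
      · rw [hbsr, hG, hG', h1]
    apply Subtype.ext
    apply LinearMap.ext
    intro v
    rw [← hG, ← hG', hGG]
  · rintro ⟨⟨x, y⟩, hxy⟩
    have hxx : ∀ a b, β (x a) (x b) = 0 := fun a b => (hxy a b).1
    have hyy : ∀ a b, β (y a) (y b) = 0 := fun a b => (hxy a b).2.1
    have hxy' : ∀ a b, β (x a) (y b) = if a = b then -1 else 0 := fun a b => (hxy a b).2.2
    have hyx : ∀ a b, β (y a) (x b) = if a = b then 1 else 0 := by
      intro a b
      rw [hskew, hxy']
      by_cases hab : a = b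
      · rw [if_pos hab, if_pos hab.symm, neg_neg]
      · rw [if_neg hab, if_neg (fun hba => hab hba.symm), neg_zero]
    obtain ⟨G, hG⟩ : ∃ G : V →ₗ[E] V, ∀ i, G (bs i) = Sum.elim y x i :=
      ⟨bs.constr E (Sum.elim y x), fun i => bs.constr_basis E _ i⟩
    have hGe : ∀ j, G (e j) = y j := fun j => by rw [← hbsl, hG]; rfl
    have hGf : ∀ j, G (f j) = x j := fun j => by rw [← hbsr, hG]; rfl
    have hGβ : β.compl₁₂ G G = β := by
      apply LinearMap.ext_basis bs bs
      rintro (i | i) (j | j)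
      · rw [LinearMap.compl₁₂_apply, hbsl, hbsl, hGe, hGe, hyy, hee]
      · rw [LinearMap.compl₁₂_apply, hbsl, hbsr, hGe, hGf, hyx, hef]
      · rw [LinearMap.compl₁₂_apply, hbsr, hbsl, hGe, hGf, hxy', hfe]
      · rw [LinearMap.compl₁₂_apply, hbsr, hbsr, hGf, hGf, hxx, hff]
    have hGβ' : ∀ u v, β (G u) (G v) = β u v := fun u v => by
      conv_rhs => rw [← hGβ]
      rw [LinearMap.compl₁₂_apply]
    refine ⟨⟨G.restrictScalars F, ?_, ?_⟩, ?_⟩
    · intro u v
      rw [LinearMap.restrictScalars_apply, LinearMap.restrictScalars_apply, hone, hGβ', ← hone]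
    · intro a v
      rw [LinearMap.restrictScalars_apply, LinearMap.restrictScalars_apply, map_smul]
    · apply Subtype.ext
      apply Prod.ext
      · funext j
        show (G.restrictScalars F) (f j) = x j
        rw [LinearMap.restrictScalars_apply, hGf]
      · funext j
        show (G.restrictScalars F) (e j) = y j
        rw [LinearMap.restrictScalars_apply, hGe]

/-- an `E`-stable `F`-subspace, as an `E`-subspace -/
def fxSub (W : Submodule F V) (hW : ∀ (a : E) (w : V), w ∈ W → a • w ∈ W) : Submodule E V where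
  carrier := W
  add_mem' := W.add_mem
  zero_mem' := W.zero_mem
  smul_mem' := fun a w hw => hW a w hw

theorem fx_finrank_sub (W : Submodule F V) (hW : ∀ (a : E) (w : V), w ∈ W → a • w ∈ W) :
    finrank F W = finrank F E * finrank E (fxSub W hW) := by
  rw [Module.finrank_mul_finrank F E (fxSub W hW)]
  exact LinearEquiv.finrank_eq
    { toFun := fun x => ⟨x.1, x.2⟩
      invFun := fun x => ⟨x.1, x.2⟩
      map_add' := fun _ _ => rfl
      map_smul' := fun _ _ => rfl
      left_inv := fun _ => rfl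
      right_inv := fun _ => rfl }

/-- the commutator space of a map commuting with `E` is an `E`-space -/
theorem fx_range_dvd (Y : V →ₗ[F] V) (hYE : ∀ (a : E) (v : V), Y (a • v) = a • Y v) :
    finrank F E ∣ finrank F (LinearMap.range (Y - 1)) := by
  have hW : ∀ (a : E) (w : V), w ∈ LinearMap.range (Y - 1) → a • w ∈ LinearMap.range (Y - 1) := by
    rintro a w ⟨x, rfl⟩
    refine ⟨a • x, ?_⟩
    rw [LinearMap.sub_apply, LinearMap.sub_apply, Module.End.one_apply, Module.End.one_apply,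
      hYE, smul_sub]
  rw [fx_finrank_sub _ hW]
  exact Dvd.intro _ rfl

/-- the commutator space of a semisimple isometry of prime order commuting with `E` -/
theorem fx_comm_range [Fintype F] [Fintype E] [Finite V] (ω : V →ₗ[F] V →ₗ[F] F) (hS : FxS E ω)
    (Y : V →ₗ[F] V) (hYω : ∀ u v, ω (Y u) (Y v) = ω u v)
    (hYE : ∀ (a : E) (v : V), Y (a • v) = a • Y v)
    (r : ℕ) [hr : Fact r.Prime] (hrF : ((r : ℕ) : F) ≠ 0) (hYr : ∀ x, (Y ^ r) x = x) :
    ∃ m', finrank F (LinearMap.range (Y - 1)) = finrank F E * (2 * m') ∧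
      r ∣ Fintype.card F ^ finrank F (LinearMap.range (Y - 1)) - 1 := by
  classical
  obtain ⟨W, hW⟩ : ∃ W : Submodule F V, W = LinearMap.range (Y - 1) := ⟨_, rfl⟩
  rw [← hW]
  have hWE : ∀ (a : E) (w : V), w ∈ W → a • w ∈ W := by
    intro a w hw
    rw [hW] at hw ⊢
    obtain ⟨x, rfl⟩ := hw
    refine ⟨a • x, ?_⟩
    rw [LinearMap.sub_apply, LinearMap.sub_apply, Module.End.one_apply, Module.End.one_apply,
      hYE, smul_sub]
  have hWy : ∀ w ∈ W, Y w ∈ W := by
    intro w hw
    rw [hW] at hw ⊢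
    obtain ⟨x, rfl⟩ := hw
    refine ⟨Y x, ?_⟩
    rw [LinearMap.sub_apply, LinearMap.sub_apply, Module.End.one_apply, Module.End.one_apply,
      map_sub]
  have hpow : ∀ (k : ℕ) (x : V), (Y - 1) ((Y - 1) x) = 0 →
      (Y ^ k) x = x + (k : F) • (Y - 1) x := by
    intro k x hx
    induction k with
    | zero => simp
    | succ k ih =>
      have h1 : Y ((Y - 1) x) = (Y - 1) x := by
        have h3 := hx
        rw [LinearMap.sub_apply Y 1 ((Y - 1) x), Module.End.one_apply, sub_eq_zero] at h3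
        exact h3
      have h2 : Y x = x + (Y - 1) x := by
        rw [LinearMap.sub_apply, Module.End.one_apply]
        abel
      rw [pow_succ', Module.End.mul_apply, ih, map_add, map_smul, h1, h2]
      push_cast
      module
  have hss : ∀ w ∈ W, Y w = w → w = 0 := by
    intro w hw hfix
    rw [hW] at hw
    obtain ⟨x, rfl⟩ := hw
    have h1 : (Y - 1) ((Y - 1) x) = 0 := by
      rw [LinearMap.sub_apply Y 1 ((Y - 1) x), Module.End.one_apply, hfix, sub_self]
    have h2 := hpow r x h1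
    rw [hYr] at h2
    have h3 : ((r : ℕ) : F) • (Y - 1) x = 0 := by
      have h4 : x + ((r : ℕ) : F) • (Y - 1) x = x + 0 := by rw [add_zero, ← h2]
      exact add_left_cancel h4
    exact (smul_eq_zero.1 h3).resolve_left hrF
  obtain ⟨k, hk⟩ : ∃ k, r = k + 1 := ⟨r - 1, by have := hr.out.pos; omega⟩
  have hYsurj : ∀ x' : V, ∃ x, Y x = x' := by
    intro x'
    refine ⟨(Y ^ k) x', ?_⟩
    rw [← Module.End.mul_apply, ← pow_succ', ← hk, hYr]
  have hYinj : ∀ x : V, Y x = 0 → x = 0 := by
    intro x hx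
    have h1 := hYr x
    rw [hk, pow_succ, Module.End.mul_apply, hx, map_zero] at h1
    exact h1.symm
  have hnd : ∀ w ∈ W, (∀ w' ∈ W, ω w w' = 0) → w = 0 := by
    intro w hwW hw
    apply hss w hwW
    by_contra hne'
    have hne2 : Y w - w ≠ 0 := fun h0 => hne' (sub_eq_zero.1 h0)
    apply hne2
    apply hS.nd
    intro x'
    obtain ⟨x, hx⟩ := hYsurj x'
    have h5 : ω w ((Y - 1) x) = 0 := hw _ (by rw [hW]; exact ⟨x, rfl⟩)
    rw [LinearMap.sub_apply, Module.End.one_apply, map_sub] at h5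
    rw [← hx, map_sub, LinearMap.sub_apply, hYω]
    linear_combination -h5
  -- the `E`-structure
  obtain ⟨lam, hlam⟩ := fx_exists_lam (F := F) (E := E)
  obtain ⟨β, hβ⟩ : ∃ β : V →ₗ[E] V →ₗ[E] E, β = fxBeta ω hS lam hlam := ⟨_, rfl⟩
  have halt : ∀ v, β v v = 0 := fun v => by rw [hβ]; exact fx_beta_alt ω hS lam hlam v
  have hone : ∀ u v, ω u v = lam (β u v) := fun u v => by
    rw [hβ]
    exact fx_beta_one ω hS lam hlam u v
  obtain ⟨m', hm'⟩ := even_finrank_of_alt_nondeg (finrank E (fxSub W hWE)) (fxSub W hWE)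
    (β.domRestrict₁₂ (fxSub W hWE) (fxSub W hWE))
    (fun v => by rw [LinearMap.domRestrict₁₂_apply]; exact halt _)
    (fun v hv => by
      apply Subtype.ext
      apply hnd v.1 v.2
      intro w' hw'
      have h1 := hv ⟨w', hw'⟩
      rw [LinearMap.domRestrict₁₂_apply] at h1
      rw [hone, h1, map_zero]) rfl
  refine ⟨m', ?_, ?_⟩
  · rw [fx_finrank_sub W hWE, hm']
    congr 1
    omega
  · by_contra hndvd
    have : Fintype {x : W // x ≠ 0} := Fintype.ofFinite _
    have hcard : Fintype.card {x : W // x ≠ 0} = Fintype.card F ^ finrank F W - 1 := by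
      rw [← Nat.card_eq_fintype_card, card_ne_zero_subtype (F := F)]
    obtain ⟨f, hf⟩ : ∃ f : {x : W // x ≠ 0} → {x : W // x ≠ 0}, ∀ x, ((f x).1 : V) = Y x.1.1 :=
      ⟨fun x => ⟨⟨Y x.1.1, hWy _ x.1.2⟩, fun h0 => x.2 (Subtype.ext
        (hYinj _ (congrArg Subtype.val h0)))⟩, fun x => rfl⟩
    have hiter : ∀ (n : ℕ) (x : {x : W // x ≠ 0}), ((f^[n] x).1 : V) = (Y ^ n) x.1.1 := by
      intro n
      induction n with
      | zero =>
        intro x
        rw [Function.iterate_zero, id_eq, pow_zero, Module.End.one_apply]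
      | succ n ih =>
        intro x
        rw [Function.iterate_succ_apply, ih, hf, pow_succ, Module.End.mul_apply]
    have hfr : ∀ x, f^[r] x = x := fun x => Subtype.ext (Subtype.ext (by rw [hiter, hYr]))
    obtain ⟨x, hx⟩ := fx_fixed_point r f hfr (by rw [hcard]; exact hndvd)
    have h1 : Y x.1.1 = x.1.1 := by rw [← hf, hx]
    exact x.2 (Subtype.ext (hss x.1.1 x.1.2 h1))

end fxb

end Cfsg.Agent.Lib.helper99
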