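import Mathlib
import Cfsg.Agent.Lib.helper50.SympCount
import Cfsg.Agent.Lib.helper24.QuadExt2

/-!
# Alternating spaces with a skew-adjoint square root of a non-square (unitary geometry over the
base field): orthonormal frames and coordinates
-/

set_option autoImplicit false

namespace Cfsg.Agent.Lib.helper99

open Module Cfsg.Agent.Lib.helper50 Cfsg.Agent.Lib.helper24

universe u v

/-- an alternating non-degenerate form `B` with a skew-adjoint map `κ` of square `δ` -/
structure FuKS {F : Type u} [Field F] {V : Type v} [AddCommGroup V] [Module F V]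
    (B : V →ₗ[F] V →ₗ[F] F) (κ : V →ₗ[F] V) (δ : F) : Prop where
  alt : ∀ v, B v v = 0
  nd : ∀ v, (∀ w, B v w = 0) → v = 0
  sq : ∀ v, κ (κ v) = δ • v
  skew : ∀ u v, B (κ u) v = - B u (κ v)

/-- orthonormal frames -/
abbrev FuFrame {F : Type u} [Field F] {V : Type v} [AddCommGroup V] [Module F V]
    (B : V →ₗ[F] V →ₗ[F] F) (κ : V →ₗ[F] V) (n : ℕ) : Type v :=
  {s : Fin n → V // ∀ a b, B (s a) (s b) = 0 ∧ B (s a) (κ (s b)) = if a = b then 1 else 0}

section
variable {F : Type u} [Field F] {V : Type v} [AddCommGroup V] [Module F V]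
  {B : V →ₗ[F] V →ₗ[F] F} {κ : V →ₗ[F] V} {δ : F}

theorem FuKS.symm (h : FuKS B κ δ) (x y : V) : B x (κ y) = B y (κ x) := by
  have h1 := h.skew x y
  have h2 := skew_of_alt B h.alt (κ x) y
  rw [h1] at h2
  linear_combination -h2

theorem FuKS.kk (h : FuKS B κ δ) (x y : V) : B (κ x) (κ y) = - (δ * B x y) := by
  rw [h.skew, h.sq, map_smul, smul_eq_mul]

theorem FuKS.q_comb (h : FuKS B κ δ) (a b : F) (x : V) :
    B (a • x + b • κ x) (κ (a • x + b • κ x)) = (a * a - δ * (b * b)) * B x (κ x) := by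
  have h1 : B (κ x) x = - B x (κ x) := h.skew x x
  simp only [map_add, map_smul, LinearMap.add_apply, LinearMap.smul_apply, smul_eq_mul, h.sq,
    h.alt, h1]
  ring

theorem FuKS.exists_q_ne (h : FuKS B κ δ) (h2 : (2 : F) ≠ 0) (hδ : δ ≠ 0) [Nontrivial V] :
    ∃ x, B x (κ x) ≠ 0 := by
  obtain ⟨y, hy⟩ := exists_ne (0 : V)
  obtain ⟨w, hw⟩ : ∃ w, B y w ≠ 0 := by
    by_contra hcon
    push Not at hcon
    exact hy (h.nd y hcon)
  obtain ⟨w', hw'⟩ : ∃ w', B y (κ w') ≠ 0 := by
    refine ⟨δ⁻¹ • κ w, ?_⟩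
    rw [map_smul, h.sq, smul_smul, inv_mul_cancel₀ hδ, one_smul]
    exact hw
  by_contra hcon
  push Not at hcon
  have h1 := hcon (y + w')
  rw [map_add, map_add, LinearMap.add_apply, map_add, map_add, hcon y, hcon w', h.symm w' y] at h1
  apply hw'
  have h3 : (2 : F) * B y (κ w') = 0 := by linear_combination h1
  exact (mul_eq_zero.1 h3).resolve_left h2

theorem FuKS.exists_unit [Fintype F] (h : FuKS B κ δ) (hodd : Odd (Fintype.card F))
    (hδ : δ ≠ 0) [Nontrivial V] (t : F) : ∃ x, B x (κ x) = t := by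
  have h2 : (2 : F) ≠ 0 := qe_two_ne_zero_iff_odd.2 hodd
  obtain ⟨x, hx⟩ := h.exists_q_ne h2 hδ
  obtain ⟨a, b, hab⟩ := qe_norm_surj (Nat.odd_iff.1 hodd) δ (t / B x (κ x)) hδ
  refine ⟨a • x + b • κ x, ?_⟩
  rw [h.q_comb, hab, div_mul_cancel₀ _ hx]

theorem FuKS.perp_stable (h : FuKS B κ δ) (e : V) :
    ∀ x ∈ perp2 B e (κ e), κ x ∈ perp2 B e (κ e) := by
  intro x hx
  rw [mem_perp2] at hx ⊢
  constructor
  · have h1 := h.skew e x
    rw [hx.2] at h1
    exact neg_eq_zero.1 h1.symm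
  · rw [h.kk, hx.1, mul_zero, neg_zero]

theorem FuKS.perp (h : FuKS B κ δ) (e : V) (he : B e (κ e) ≠ 0) :
    FuKS (B.domRestrict₁₂ (perp2 B e (κ e)) (perp2 B e (κ e)))
      (κ.restrict (h.perp_stable e)) δ where
  alt := fun x => by
    rw [LinearMap.domRestrict₁₂_apply]
    exact h.alt _
  nd := nondeg_perp2 B h.alt h.nd e (κ e) he
  sq := fun x => Subtype.ext (h.sq x)
  skew := fun x y => by
    rw [LinearMap.domRestrict₁₂_apply, LinearMap.domRestrict₁₂_apply]
    exact h.skew _ _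

/-- frames starting with `e` correspond to frames of the orthogonal complement -/
def fuFiberEquiv (h : FuKS B κ δ) (n : ℕ) (e : V) (he : B e (κ e) = 1) :
    {s : FuFrame B κ (n + 1) // s.1 0 = e} ≃
      FuFrame (B.domRestrict₁₂ (perp2 B e (κ e)) (perp2 B e (κ e)))
        (κ.restrict (h.perp_stable e)) n where
  toFun s := ⟨fun a => ⟨s.1.1 a.succ, by
      obtain ⟨⟨x, hx⟩, rfl⟩ := s
      rw [mem_perp2]
      refine ⟨(hx 0 a.succ).1, ?_⟩
      have h1 := h.skew (x 0) (x a.succ)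
      rw [(hx 0 a.succ).2, if_neg (Fin.succ_ne_zero a).symm] at h1
      rw [h1, neg_zero]⟩, by
      obtain ⟨⟨x, hx⟩, rfl⟩ := s
      intro a b
      simp only [LinearMap.domRestrict₁₂_apply, LinearMap.coe_restrict_apply]
      have := hx a.succ b.succ
      simpa only [Fin.succ_inj] using this⟩
  invFun t := ⟨⟨Fin.cons e (fun a => (t.1 a).1), by
      obtain ⟨x', hx'⟩ := t
      have hm : ∀ a, B e (x' a).1 = 0 ∧ B (κ e) (x' a).1 = 0 :=
        fun a => (mem_perp2 B e (κ e) _).1 (x' a).2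
      intro a b
      refine Fin.cases ?_ (fun a' => ?_) a <;> refine Fin.cases ?_ (fun b' => ?_) b
      · simp [h.alt, he]
      · simp only [Fin.cons_zero, Fin.cons_succ]
        refine ⟨(hm b').1, ?_⟩
        have h1 := h.skew e (x' b').1
        rw [(hm b').2] at h1
        rw [if_neg (Fin.succ_ne_zero b').symm]
        exact neg_eq_zero.1 h1.symm
      · simp only [Fin.cons_zero, Fin.cons_succ]
        refine ⟨?_, ?_⟩
        · rw [skew_of_alt B h.alt, (hm a').1, neg_zero]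
        · rw [skew_of_alt B h.alt, (hm a').2, neg_zero, if_neg (Fin.succ_ne_zero a')]
      · simp only [Fin.cons_succ]
        have := hx' a' b'
        simp only [LinearMap.domRestrict₁₂_apply, LinearMap.coe_restrict_apply] at this
        simpa only [Fin.succ_inj] using this⟩, by simp⟩
  left_inv := by
    rintro ⟨⟨x, hx⟩, rfl⟩
    apply Subtype.ext
    apply Subtype.ext
    funext a
    refine Fin.cases ?_ (fun a' => ?_) a <;> simp
  right_inv := by
    rintro ⟨x', hx'⟩
    apply Subtype.ext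
    funext a
    apply Subtype.ext
    simp

/-- the coordinate map of a frame -/
def fuPhi (κ : V →ₗ[F] V) {n : ℕ} (s : Fin n → V) (c : Fin n → F × F) : V :=
  ∑ i, ((c i).1 • s i + (c i).2 • κ (s i))

theorem fu_phi_left (_h : FuKS B κ δ) {n : ℕ} (s : FuFrame B κ n) (c : Fin n → F × F)
    (j : Fin n) : B (s.1 j) (fuPhi κ s.1 c) = (c j).2 := by
  classical
  unfold fuPhi
  rw [map_sum]
  have h1 : ∀ i, B (s.1 j) ((c i).1 • s.1 i + (c i).2 • κ (s.1 i)) =
      if j = i then (c i).2 else 0 := by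
    intro i
    rw [map_add, map_smul, map_smul, (s.2 j i).1, (s.2 j i).2]
    by_cases hji : j = i
    · rw [if_pos hji, if_pos hji]
      simp
    · rw [if_neg hji, if_neg hji]
      simp
  rw [Finset.sum_congr rfl (fun i _ => h1 i), Finset.sum_ite_eq]
  simp

theorem fu_phi_kappa (h : FuKS B κ δ) {n : ℕ} (s : Fin n → V) (c : Fin n → F × F) :
    κ (fuPhi κ s c) = fuPhi κ s (fun i => (δ * (c i).2, (c i).1)) := by
  unfold fuPhi
  rw [map_sum]
  apply Finset.sum_congr rfl
  intro i _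
  rw [map_add, map_smul, map_smul, h.sq, smul_smul, add_comm, mul_comm]

theorem fu_phi_right (h : FuKS B κ δ) {n : ℕ} (s : FuFrame B κ n) (c : Fin n → F × F)
    (j : Fin n) : B (s.1 j) (κ (fuPhi κ s.1 c)) = (c j).1 := by
  rw [fu_phi_kappa h, fu_phi_left h]

theorem fu_phi_q (h : FuKS B κ δ) {n : ℕ} (s : FuFrame B κ n) (c : Fin n → F × F) :
    B (fuPhi κ s.1 c) (κ (fuPhi κ s.1 c)) =
      ∑ i, ((c i).1 * (c i).1 - δ * ((c i).2 * (c i).2)) := by
  have h1 : ∀ j, B (κ (s.1 j)) (κ (fuPhi κ s.1 c)) = - (δ * (c j).2) := by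
    intro j
    rw [h.kk, fu_phi_left h]
  have h2 : ∀ j, B (s.1 j) (κ (fuPhi κ s.1 c)) = (c j).1 := fun j => fu_phi_right h s c j
  obtain ⟨w, hw⟩ : ∃ w, w = κ (fuPhi κ s.1 c) := ⟨_, rfl⟩
  rw [← hw] at h1 h2 ⊢
  unfold fuPhi
  rw [map_sum, LinearMap.sum_apply]
  apply Finset.sum_congr rfl
  intro j _
  rw [map_add, map_smul, map_smul, LinearMap.add_apply, LinearMap.smul_apply,
    LinearMap.smul_apply, h1, h2, smul_eq_mul, smul_eq_mul]
  ring

theorem fu_phi_inj (h : FuKS B κ δ) {n : ℕ} (s : FuFrame B κ n) :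
    Function.Injective (fuPhi κ s.1) := by
  intro c c' hcc
  funext j
  apply Prod.ext
  · rw [← fu_phi_right h s c j, ← fu_phi_right h s c' j, hcc]
  · rw [← fu_phi_left h s c j, ← fu_phi_left h s c' j, hcc]

theorem fu_phi_bij [Fintype F] [Finite V] (h : FuKS B κ δ) {n : ℕ} (hdim : finrank F V = 2 * n)
    (s : FuFrame B κ n) : Function.Bijective (fuPhi κ s.1) := by
  apply (fu_phi_inj h s).bijective_of_nat_card_le
  rw [Module.natCard_eq_pow_finrank (K := F), hdim, Nat.card_fun, Nat.card_prod, Nat.card_fin,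
    pow_mul, sq]

end

/-- existence of orthonormal frames; the dimension is even -/
theorem fu_frame_exists {F : Type u} [Field F] [Fintype F] (hodd : Odd (Fintype.card F)) (δ : F)
    (hδ : δ ≠ 0) (N : ℕ) :
    ∀ (V : Type v) [AddCommGroup V] [Module F V] [Finite V] (B : V →ₗ[F] V →ₗ[F] F)
      (κ : V →ₗ[F] V), FuKS B κ δ → finrank F V ≤ 2 * N →
      ∃ n, finrank F V = 2 * n ∧ Nonempty (FuFrame B κ n) := by
  induction N with
  | zero =>
    intro V _ _ _ B κ h hdim
    exact ⟨0, by omega, ⟨⟨fun i => i.elim0, fun a => a.elim0⟩⟩⟩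
  | succ N ih =>
    intro V _ _ _ B κ h hdim
    by_cases h0 : finrank F V = 0
    · exact ⟨0, by omega, ⟨⟨fun i => i.elim0, fun a => a.elim0⟩⟩⟩
    · have : Nontrivial V := Module.nontrivial_of_finrank_pos (R := F) (by omega)
      obtain ⟨e, he⟩ := h.exists_unit hodd hδ 1
      have hne : B e (κ e) ≠ 0 := by
        rw [he]
        exact one_ne_zero
      have hfr := finrank_perp2 B h.alt e (κ e) hne
      obtain ⟨n, hn, ⟨t⟩⟩ := ih (perp2 B e (κ e)) _ _ (h.perp e hne) (by omega)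
      exact ⟨n + 1, by omega, ⟨((fuFiberEquiv h n e he).symm t).1⟩⟩

end Cfsg.Agent.Lib.helper99
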