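import Mathlib
import Cfsg.Agent.Lib.helper24.QuadExt2

/-!
# Counting representations by an orthogonal sum of norm forms of the quadratic extension
-/

set_option autoImplicit false

namespace Cfsg.Agent.Lib.helper99

open Cfsg.Agent.Lib.helper24

variable {F : Type*} [Field F]

/-- the norm form of `F[√δ]` -/
def fuN (δ : F) (p : F × F) : F := p.1 * p.1 - δ * (p.2 * p.2)

theorem fu_norm_zero (δ : F) (hns : ∀ c : F, c * c ≠ δ) (p : F × F) (hp : fuN δ p = 0) :
    p = 0 := by
  unfold fuN at hp
  have h2 : p.2 = 0 := by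
    by_contra h2
    apply hns (p.1 / p.2)
    field_simp
    linear_combination hp
  have h1 : p.1 = 0 := by
    rw [h2] at hp
    have h3 : p.1 * p.1 = 0 := by linear_combination hp
    exact mul_self_eq_zero.1 h3
  exact Prod.ext h1 h2

/-- scaling the fibres of the norm form -/
def fuFibEquiv (δ : F) (c d t : F) (ht : t ≠ 0) (hcd : c * c - δ * (d * d) = t) :
    {p : F × F // fuN δ p = 1} ≃ {p : F × F // fuN δ p = t} where
  toFun p := ⟨(c * p.1.1 + δ * d * p.1.2, c * p.1.2 + d * p.1.1), by
    have h1 := p.2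
    unfold fuN at h1 ⊢
    linear_combination (c * c - δ * (d * d)) * h1 + hcd⟩
  invFun p := ⟨((c * p.1.1 - δ * d * p.1.2) / t, (c * p.1.2 - d * p.1.1) / t), by
    have h1 := p.2
    unfold fuN at h1 ⊢
    field_simp
    linear_combination (c * c - δ * (d * d)) * h1 + t * hcd⟩
  left_inv := by
    rintro ⟨⟨p1, p2⟩, hp⟩
    apply Subtype.ext
    apply Prod.ext
    · show (c * (c * p1 + δ * d * p2) - δ * d * (c * p2 + d * p1)) / t = p1
      field_simp
      linear_combination p1 * hcd
    · show (c * (c * p2 + d * p1) - d * (c * p1 + δ * d * p2)) / t = p2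
      field_simp
      linear_combination p2 * hcd
  right_inv := by
    rintro ⟨⟨p1, p2⟩, hp⟩
    apply Subtype.ext
    apply Prod.ext
    · show c * ((c * p1 - δ * d * p2) / t) + δ * d * ((c * p2 - d * p1) / t) = p1
      field_simp
      linear_combination p1 * hcd
    · show c * ((c * p2 - d * p1) / t) + d * ((c * p1 - δ * d * p2) / t) = p2
      field_simp
      linear_combination p2 * hcd

theorem fu_norm_fiber [Fintype F] [DecidableEq F] (δ : F) (hδ : δ ≠ 0) (hns : ∀ c : F, c * c ≠ δ)
    (hodd : Odd (Fintype.card F)) (s : F) :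
    Nat.card {p : F × F // fuN δ p = s} = if s = 0 then 1 else Fintype.card F + 1 := by
  have h0 : Nat.card {p : F × F // fuN δ p = 0} = 1 := by
    have : Unique {p : F × F // fuN δ p = 0} :=
      { default := ⟨0, by simp [fuN]⟩
        uniq := fun p => Subtype.ext (fu_norm_zero δ hns p.1 p.2) }
    exact Nat.card_unique
  have h1 : ∀ t : F, t ≠ 0 →
      Nat.card {p : F × F // fuN δ p = t} = Nat.card {p : F × F // fuN δ p = 1} := by
    intro t ht
    obtain ⟨c, d, hcd⟩ := qe_norm_surj (Nat.odd_iff.1 hodd) δ t hδ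
    exact (Nat.card_congr (fuFibEquiv δ c d t ht hcd)).symm
  have hsum : ∑ t : F, Nat.card {p : F × F // fuN δ p = t} =
      Fintype.card F * Fintype.card F := by
    rw [← Nat.card_sigma, Nat.card_congr (Equiv.sigmaFiberEquiv (fuN δ)), Nat.card_prod,
      Nat.card_eq_fintype_card]
  rw [← Finset.add_sum_erase Finset.univ _ (Finset.mem_univ (0 : F)), h0,
    Finset.sum_congr rfl (fun t ht => h1 t (Finset.ne_of_mem_erase ht)), Finset.sum_const,
    Finset.card_erase_of_mem (Finset.mem_univ _), Finset.card_univ, smul_eq_mul] at hsum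
  by_cases hs : s = 0
  · rw [if_pos hs, hs, h0]
  · rw [if_neg hs, h1 s hs]
    have hq : 1 < Fintype.card F := Fintype.one_lt_card
    obtain ⟨k, hk⟩ : ∃ k, Fintype.card F = k + 1 := ⟨Fintype.card F - 1, by omega⟩
    rw [hk] at hsum ⊢
    simp only [Nat.add_sub_cancel] at hsum
    have hk0 : 0 < k := by omega
    have h5 : k * Nat.card {p : F × F // fuN δ p = 1} = k * (k + 1 + 1) := by nlinarith
    exact Nat.eq_of_mul_eq_mul_left hk0 h5

/-- the number of representations of a non-zero `t` by the sum of `n` norm forms -/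
theorem fu_count [Fintype F] (δ : F) (hδ : δ ≠ 0) (hns : ∀ c : F, c * c ≠ δ)
    (hodd : Odd (Fintype.card F)) (n : ℕ) (t : F) (ht : t ≠ 0) :
    (Nat.card {c : Fin n → F × F // ∑ i, fuN δ (c i) = t} : ℤ) * (Fintype.card F : ℤ) =
      (Fintype.card F : ℤ) ^ n * ((Fintype.card F : ℤ) ^ n - (-1) ^ n) := by
  classical
  induction n with
  | zero =>
    have : IsEmpty {c : Fin 0 → F × F // ∑ i, fuN δ (c i) = t} :=
      ⟨fun c => ht (by
        have := c.2
        simpa using this.symm)⟩
    rw [Nat.card_of_isEmpty]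
    simp
  | succ n ih =>
    have e : {c : Fin (n + 1) → F × F // ∑ i, fuN δ (c i) = t} ≃
        Σ c' : Fin n → F × F, {p : F × F // fuN δ p = t - ∑ i, fuN δ (c' i)} :=
      { toFun := fun c => ⟨Fin.tail c.1, ⟨c.1 0, by
          have h1 := c.2
          rw [Fin.sum_univ_succ] at h1
          unfold Fin.tail
          linear_combination h1⟩⟩
        invFun := fun x => ⟨Fin.cons x.2.1 x.1, by
          rw [Fin.sum_univ_succ]
          simp only [Fin.cons_zero, Fin.cons_succ]
          linear_combination x.2.2⟩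
        left_inv := fun c => Subtype.ext (Fin.cons_self_tail _)
        right_inv := by
          rintro ⟨c', ⟨p, hp⟩⟩
          rfl }
    rw [Nat.card_congr e, Nat.card_sigma]
    have hf : ∀ c' : Fin n → F × F,
        Nat.card {p : F × F // fuN δ p = t - ∑ i, fuN δ (c' i)} =
          if ∑ i, fuN δ (c' i) = t then 1 else Fintype.card F + 1 := by
      intro c'
      rw [fu_norm_fiber δ hδ hns hodd]
      by_cases h : ∑ i, fuN δ (c' i) = t
      · rw [if_pos h, if_pos (show t - ∑ i, fuN δ (c' i) = 0 by rw [h, sub_self])]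
      · rw [if_neg h, if_neg (fun h' => h (sub_eq_zero.1 h').symm)]
    rw [Finset.sum_congr rfl (fun c' _ => hf c'), Finset.sum_ite, Finset.sum_const,
      Finset.sum_const, smul_eq_mul, smul_eq_mul, mul_one]
    have hA : Nat.card {c : Fin n → F × F // ∑ i, fuN δ (c i) = t} =
        (Finset.univ.filter (fun c : Fin n → F × F => ∑ i, fuN δ (c i) = t)).card := by
      rw [Nat.card_eq_fintype_card, Fintype.card_subtype]
    have hAB := Finset.card_filter_add_card_filter_not
      (s := (Finset.univ : Finset (Fin n → F × F))) (fun c => ∑ i, fuN δ (c i) = t)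
    rw [Finset.card_univ, Fintype.card_fun, Fintype.card_prod, Fintype.card_fin] at hAB
    rw [hA] at ih
    have hAB' : (((Finset.univ.filter (fun c : Fin n → F × F => ∑ i, fuN δ (c i) = t)).card : ℕ) : ℤ)
        + (((Finset.univ.filter (fun c : Fin n → F × F => ¬ ∑ i, fuN δ (c i) = t)).card : ℕ) : ℤ)
        = ((Fintype.card F : ℤ) * (Fintype.card F : ℤ)) ^ n := by
      exact_mod_cast hAB
    push_cast
    linear_combination ((Fintype.card F : ℤ) + 1) * (Fintype.card F : ℤ) * hAB'
      - (Fintype.card F : ℤ) * ih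

end Cfsg.Agent.Lib.helper99
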