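import Mathlib
import Cfsg.Agent.Lib.helper99.FuA
import Cfsg.Agent.Lib.helper99.FuB

/-!
# Counting unit vectors and orthonormal frames
-/

set_option autoImplicit false

namespace Cfsg.Agent.Lib.helper99

open Module Cfsg.Agent.Lib.helper50 Cfsg.Agent.Lib.helper24

universe u v

/-- the number of vectors of a given non-zero norm -/
theorem fu_card_unit {F : Type u} [Field F] [Fintype F] (hodd : Odd (Fintype.card F)) (δ : F)
    (hδ : δ ≠ 0) (hns : ∀ c : F, c * c ≠ δ) {V : Type v} [AddCommGroup V] [Module F V]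
    [Finite V] (B : V →ₗ[F] V →ₗ[F] F) (κ : V →ₗ[F] V) (h : FuKS B κ δ) (n : ℕ)
    (hdim : finrank F V = 2 * n) (t : F) (ht : t ≠ 0) :
    (Nat.card {x : V // B x (κ x) = t} : ℤ) * (Fintype.card F : ℤ) =
      (Fintype.card F : ℤ) ^ n * ((Fintype.card F : ℤ) ^ n - (-1) ^ n) := by
  obtain ⟨n', hn', ⟨s⟩⟩ := fu_frame_exists hodd δ hδ n V B κ h (by omega)
  obtain rfl : n' = n := by omega
  rw [← fu_count δ hδ hns hodd n' t ht]
  congr 2
  apply Nat.card_congr
  exact ((Equiv.ofBijective (fuPhi κ s.1) (fu_phi_bij h hdim s)).subtypeEquiv (fun c => by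
    rw [Equiv.ofBijective_apply, fu_phi_q h s c]
    rfl)).symm

/-- the number of orthonormal frames -/
theorem fu_card_frame {F : Type u} [Field F] [Fintype F] (hodd : Odd (Fintype.card F)) (δ : F)
    (hδ : δ ≠ 0) (hns : ∀ c : F, c * c ≠ δ) (n : ℕ) :
    ∀ (V : Type v) [AddCommGroup V] [Module F V] [Finite V] (B : V →ₗ[F] V →ₗ[F] F)
      (κ : V →ₗ[F] V), FuKS B κ δ → finrank F V = 2 * n →
      (Nat.card (FuFrame B κ n) : ℤ) * (Fintype.card F : ℤ) ^ n =
        ∏ i ∈ Finset.range n, ((Fintype.card F : ℤ) ^ (i + 1) *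
          ((Fintype.card F : ℤ) ^ (i + 1) - (-1) ^ (i + 1))) := by
  induction n with
  | zero =>
    intro V _ _ _ B κ _ _
    have : Unique (FuFrame B κ 0) :=
      { default := ⟨Fin.elim0, fun a => a.elim0⟩
        uniq := by
          rintro ⟨x, hx⟩
          apply Subtype.ext
          funext a
          exact a.elim0 }
    simp
  | succ n ih =>
    intro V _ _ _ B κ h hdim
    classical
    let P := {e : V // B e (κ e) = (1 : F)}
    let π : FuFrame B κ (n + 1) → P := fun s =>
      ⟨s.1 0, by have := (s.2 0 0).2; simpa using this⟩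
    have hfib : ∀ p : P, (Nat.card {s : FuFrame B κ (n + 1) // π s = p} : ℤ) *
        (Fintype.card F : ℤ) ^ n = ∏ i ∈ Finset.range n, ((Fintype.card F : ℤ) ^ (i + 1) *
          ((Fintype.card F : ℤ) ^ (i + 1) - (-1) ^ (i + 1))) := by
      rintro ⟨e, he⟩
      have e1 : {s : FuFrame B κ (n + 1) // π s = ⟨e, he⟩} ≃
          {s : FuFrame B κ (n + 1) // s.1 0 = e} :=
        Equiv.subtypeEquivRight (fun s => Subtype.ext_iff)
      rw [Nat.card_congr (e1.trans (fuFiberEquiv h n e he))]
      have hne : B e (κ e) ≠ 0 := by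
        rw [he]
        exact one_ne_zero
      apply ih
      · exact h.perp e hne
      · have := finrank_perp2 B h.alt e (κ e) hne
        omega
    have h1 : Nat.card (FuFrame B κ (n + 1))
        = Nat.card (Σ p : P, {s : FuFrame B κ (n + 1) // π s = p}) :=
      Nat.card_congr (Equiv.sigmaFiberEquiv π).symm
    have : Fintype P := Fintype.ofFinite _
    have hP := fu_card_unit hodd δ hδ hns B κ h (n + 1) hdim 1 one_ne_zero
    rw [h1, Nat.card_sigma, Finset.prod_range_succ, ← hP, Nat.cast_sum, pow_succ, ← mul_assoc,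
      Finset.sum_mul, Finset.sum_congr rfl (fun p _ => hfib p), Finset.sum_const,
      Finset.card_univ, nsmul_eq_mul, ← Nat.card_eq_fintype_card]
    ring

end Cfsg.Agent.Lib.helper99
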