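import Mathlib
import Cfsg.Agent.Lib.helper99.FuC
import Cfsg.Agent.Lib.helper95.SpUnit6
import Cfsg.Agent.Lib.helper17.SympBasis

/-!
# The centraliser in `Sp` of a skew-adjoint square root of a non-square: frames and order
-/

set_option autoImplicit false

namespace Cfsg.Agent.Lib.helper99

open Module Matrix Cfsg Cfsg.Geo
open Cfsg.Agent.Lib.helper17 Cfsg.Agent.Lib.helper95 Cfsg.Agent.Lib.helper24

variable {F : Type*} [Field F]

theorem fu_ks_of_skewK {d : ℕ} {κ : Matrix (Fin d ⊕ Fin d) (Fin d ⊕ Fin d) F} {δ : F}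
    (h : SkewK d κ δ) : FuKS (sympBilin d (F := F)) (Matrix.toLin' κ) δ where
  alt := sympBilin_alt d
  nd := fun x hx => by
    by_contra hne
    obtain ⟨w, hw⟩ := exists_sympForm_ne_zero d x hne
    exact hw (hx w)
  sq := fun x => by
    rw [Matrix.toLin'_apply, Matrix.toLin'_apply]
    exact h.kk x
  skew := fun x y => by
    rw [Matrix.toLin'_apply, Matrix.toLin'_apply]
    exact h.skew x y

theorem fu_finrank (d : ℕ) : finrank F (Fin d ⊕ Fin d → F) = 2 * d := by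
  rw [Module.finrank_fintype_fun_eq_card, Fintype.card_sum, Fintype.card_fin]
  ring

/-- Witt's lemma for hyperbolic families -/
theorem fu_hyp_witt {d n : ℕ} (e f e' f' : Fin n → (Fin d ⊕ Fin d → F))
    (hee : ∀ a b, sympForm d F (e a) (e b) = 0) (hff : ∀ a b, sympForm d F (f a) (f b) = 0)
    (hef : ∀ a b, sympForm d F (e a) (f b) = if a = b then 1 else 0)
    (hee' : ∀ a b, sympForm d F (e' a) (e' b) = 0)
    (hff' : ∀ a b, sympForm d F (f' a) (f' b) = 0)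
    (hef' : ∀ a b, sympForm d F (e' a) (f' b) = if a = b then 1 else 0) :
    ∃ g : GL (Fin d ⊕ Fin d) F, g ∈ spGL d F ∧
      ∀ j, (g : Matrix (Fin d ⊕ Fin d) (Fin d ⊕ Fin d) F) *ᵥ e j = e' j ∧
        (g : Matrix (Fin d ⊕ Fin d) (Fin d ⊕ Fin d) F) *ᵥ f j = f' j := by
  classical
  have hLI : ∀ (e f : Fin n → (Fin d ⊕ Fin d → F)),
      (∀ a b, sympForm d F (e a) (e b) = 0) → (∀ a b, sympForm d F (f a) (f b) = 0) →
      (∀ a b, sympForm d F (e a) (f b) = if a = b then 1 else 0) →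
      LinearIndependent F (Sum.elim e f) := by
    intro e f hee hff hef
    apply linearIndependent_of_dual d (Sum.elim e f) Sum.swap
    · rintro (a | a)
      · simp only [Sum.elim_inl, Sum.swap_inl, Sum.elim_inr]
        rw [hef, if_pos rfl]
        exact one_ne_zero
      · simp only [Sum.elim_inl, Sum.swap_inr, Sum.elim_inr]
        rw [sympForm_swap, hef, if_pos rfl]
        exact neg_ne_zero.2 one_ne_zero
    · rintro (a | a) (b | b) hba
      · simp only [Sum.elim_inl, Sum.swap_inl, Sum.elim_inr]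
        rw [hef, if_neg (fun hab => hba (by rw [hab]))]
      · simp only [Sum.elim_inr, Sum.swap_inl]
        exact hff _ _
      · simp only [Sum.elim_inl, Sum.swap_inr]
        exact hee _ _
      · simp only [Sum.elim_inl, Sum.swap_inr, Sum.elim_inr]
        rw [sympForm_swap, hef, if_neg (fun hab => hba (by rw [hab])), neg_zero]
  obtain ⟨A, hA⟩ := sp_witt_family' d (Sum.elim e f) (Sum.elim e' f') (hLI e f hee hff hef)
    (hLI e' f' hee' hff' hef') (by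
      rintro (a | a) (b | b)
      · simp only [Sum.elim_inl]
        rw [hee, hee']
      · simp only [Sum.elim_inl, Sum.elim_inr]
        rw [hef, hef']
      · simp only [Sum.elim_inl, Sum.elim_inr]
        rw [sympForm_swap d (e b) (f a), sympForm_swap d (e' b) (f' a), hef, hef']
      · simp only [Sum.elim_inr]
        rw [hff, hff'])
  obtain ⟨g, hg⟩ := exists_spGL d A.2
  refine ⟨g.1, g.2, fun j => ⟨?_, ?_⟩⟩
  · rw [hg]
    exact hA (Sum.inl j)
  · rw [hg]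
    exact hA (Sum.inr j)

section frames
variable {d : ℕ} {κ : Matrix (Fin d ⊕ Fin d) (Fin d ⊕ Fin d) F} {δ : F}

/-- two matrices agreeing on a frame and its `κ`-image are equal -/
theorem fu_mat_ext [Fintype F] (h : SkewK d κ δ)
    (s : FuFrame (sympBilin d (F := F)) (Matrix.toLin' κ) d)
    (M₁ M₂ : Matrix (Fin d ⊕ Fin d) (Fin d ⊕ Fin d) F)
    (h1 : ∀ j, M₁ *ᵥ s.1 j = M₂ *ᵥ s.1 j)
    (h2 : ∀ j, M₁ *ᵥ (κ *ᵥ s.1 j) = M₂ *ᵥ (κ *ᵥ s.1 j)) : M₁ = M₂ := by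
  apply mat_ext_mulVec
  intro x
  obtain ⟨c, rfl⟩ := (fu_phi_bij (fu_ks_of_skewK h) (fu_finrank d) s).2 x
  unfold fuPhi
  rw [Matrix.mulVec_sum, Matrix.mulVec_sum]
  apply Finset.sum_congr rfl
  intro i _
  rw [Matrix.mulVec_add, Matrix.mulVec_add, Matrix.mulVec_smul, Matrix.mulVec_smul,
    Matrix.mulVec_smul, Matrix.mulVec_smul, Matrix.toLin'_apply, h1, h2]

theorem fu_fr_ee (s : FuFrame (sympBilin d (F := F)) (Matrix.toLin' κ) d) (a b : Fin d) :
    sympForm d F (s.1 a) (s.1 b) = 0 := (s.2 a b).1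

theorem fu_fr_ef (s : FuFrame (sympBilin d (F := F)) (Matrix.toLin' κ) d) (a b : Fin d) :
    sympForm d F (s.1 a) (κ *ᵥ s.1 b) = if a = b then 1 else 0 := (s.2 a b).2

theorem fu_fr_ff (h : SkewK d κ δ) (s : FuFrame (sympBilin d (F := F)) (Matrix.toLin' κ) d)
    (a b : Fin d) : sympForm d F (κ *ᵥ s.1 a) (κ *ᵥ s.1 b) = 0 := by
  rw [h.form_kk, fu_fr_ee, mul_zero, neg_zero]

/-- the centraliser of `κ` in the symplectic group -/
def fuCent (d : ℕ) (κ : Matrix (Fin d ⊕ Fin d) (Fin d ⊕ Fin d) F) :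
    Subgroup (GL (Fin d ⊕ Fin d) F) where
  carrier := {g | g ∈ spGL d F ∧ (g : Matrix (Fin d ⊕ Fin d) (Fin d ⊕ Fin d) F) * κ =
    κ * (g : Matrix (Fin d ⊕ Fin d) (Fin d ⊕ Fin d) F)}
  mul_mem' := by
    rintro a b ⟨ha, ha'⟩ ⟨hb, hb'⟩
    refine ⟨Subgroup.mul_mem _ ha hb, ?_⟩
    rw [Units.val_mul, mul_assoc, hb', ← mul_assoc, ha', mul_assoc]
  one_mem' := ⟨Subgroup.one_mem _, by rw [Units.val_one, one_mul, mul_one]⟩
  inv_mem' := by
    rintro a ⟨ha, ha'⟩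
    refine ⟨Subgroup.inv_mem _ ha, ?_⟩
    calc ((a⁻¹ : GL (Fin d ⊕ Fin d) F) : Matrix (Fin d ⊕ Fin d) (Fin d ⊕ Fin d) F) * κ
        = ((a⁻¹ : GL (Fin d ⊕ Fin d) F) : Matrix (Fin d ⊕ Fin d) (Fin d ⊕ Fin d) F) * (κ *
          (a : Matrix (Fin d ⊕ Fin d) (Fin d ⊕ Fin d) F)) *
          ((a⁻¹ : GL (Fin d ⊕ Fin d) F) : Matrix (Fin d ⊕ Fin d) (Fin d ⊕ Fin d) F) := by
          rw [mul_assoc, mul_assoc, Units.mul_inv, mul_one]
      _ = κ * ((a⁻¹ : GL (Fin d ⊕ Fin d) F) : Matrix (Fin d ⊕ Fin d) (Fin d ⊕ Fin d) F) := by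
          rw [← ha', ← mul_assoc, Units.inv_mul, one_mul]

theorem mem_fuCent (g : GL (Fin d ⊕ Fin d) F) :
    g ∈ fuCent d κ ↔ g ∈ spGL d F ∧ (g : Matrix (Fin d ⊕ Fin d) (Fin d ⊕ Fin d) F) * κ =
      κ * (g : Matrix (Fin d ⊕ Fin d) (Fin d ⊕ Fin d) F) := Iff.rfl

theorem fu_exists_frame [Fintype F] (hodd : Odd (Fintype.card F)) (h : SkewK d κ δ) :
    Nonempty (FuFrame (sympBilin d (F := F)) (Matrix.toLin' κ) d) := by
  obtain ⟨n, hn, hs⟩ := fu_frame_exists hodd δ h.delta_ne d _ _ _ (fu_ks_of_skewK h)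
    (le_of_eq (fu_finrank d))
  have hnd : n = d := by
    have := fu_finrank (F := F) d
    omega
  rw [hnd] at hs
  exact hs

/-- the centraliser acts simply transitively on orthonormal frames -/
theorem fu_card_cent [Fintype F] (hodd : Odd (Fintype.card F)) (h : SkewK d κ δ) :
    Nat.card (fuCent d κ) = Nat.card (FuFrame (sympBilin d (F := F)) (Matrix.toLin' κ) d) := by
  obtain ⟨s₀⟩ := fu_exists_frame hodd h
  apply Nat.card_congr
  refine Equiv.ofBijective (fun g => ⟨fun j =>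
    ((g : GL (Fin d ⊕ Fin d) F) : Matrix (Fin d ⊕ Fin d) (Fin d ⊕ Fin d) F) *ᵥ s₀.1 j, ?_⟩)
    ⟨?_, ?_⟩
  · intro a b
    have hg := (mem_spGL_iff d g.1).mp g.2.1
    constructor
    · show sympForm d F _ _ = 0
      rw [hg]
      exact fu_fr_ee s₀ a b
    · show sympForm d F _ (κ *ᵥ _) = _
      rw [Matrix.mulVec_mulVec, ← g.2.2, ← Matrix.mulVec_mulVec, hg]
      exact fu_fr_ef s₀ a b
  · intro g g' hgg
    have h1 : ∀ j, ((g : GL (Fin d ⊕ Fin d) F) : Matrix (Fin d ⊕ Fin d) (Fin d ⊕ Fin d) F) *ᵥ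
        s₀.1 j = ((g' : GL (Fin d ⊕ Fin d) F) : Matrix (Fin d ⊕ Fin d) (Fin d ⊕ Fin d) F) *ᵥ
        s₀.1 j := fun j => congrFun (congrArg Subtype.val hgg) j
    apply Subtype.ext
    apply Units.ext
    apply fu_mat_ext h s₀ _ _ h1
    intro j
    rw [Matrix.mulVec_mulVec, g.2.2, Matrix.mulVec_mulVec, g'.2.2, ← Matrix.mulVec_mulVec,
      ← Matrix.mulVec_mulVec, h1]
  · intro s
    obtain ⟨g, hg, hgs⟩ := fu_hyp_witt s₀.1 (fun j => κ *ᵥ s₀.1 j) s.1 (fun j => κ *ᵥ s.1 j)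
      (fu_fr_ee s₀) (fu_fr_ff h s₀) (fu_fr_ef s₀) (fu_fr_ee s) (fu_fr_ff h s) (fu_fr_ef s)
    refine ⟨⟨g, hg, ?_⟩, Subtype.ext (funext fun j => (hgs j).1)⟩
    apply fu_mat_ext h s₀
    · intro j
      rw [← Matrix.mulVec_mulVec, ← Matrix.mulVec_mulVec, (hgs j).2, (hgs j).1]
    · intro j
      rw [← Matrix.mulVec_mulVec, ← Matrix.mulVec_mulVec, h.kk, Matrix.mulVec_smul, (hgs j).1,
        (hgs j).2, h.kk]

end frames

end Cfsg.Agent.Lib.helper99
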