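import Mathlib
import Cfsg.Prelude.Def_GeometricClasses

set_option autoImplicit false

/-!
# Symplectic similarity groups in matrix form (helper99)

Gram matrix of a symplectic form given as a function, similarities as a matrix identity, and the
reduction of "no conjugate lies in the similarity group" to a statement about all Gram matrices.
-/

namespace Cfsg.Agent.Lib.helper99.SpDer

open Matrix Cfsg Cfsg.Geo
open scoped MatrixGroups

variable {F : Type*} [Field F] {n : ℕ}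

/-- the bilinear map of a bilinear form given as a function -/
noncomputable def fLin (f : (Fin n → F) → (Fin n → F) → F) (hf : IsBilinearForm f) :
    (Fin n → F) →ₗ[F] (Fin n → F) →ₗ[F] F :=
  LinearMap.mk₂ F f hf.add_left hf.smul_left hf.add_right hf.smul_right

/-- the Gram matrix of a symplectic form -/
theorem exists_gram (f : (Fin n → F) → (Fin n → F) → F) (hf : IsSymplecticForm f) :
    ∃ Γ : Matrix (Fin n) (Fin n) F, Γ.det ≠ 0 ∧ (∀ u, u ⬝ᵥ Γ *ᵥ u = 0) ∧ Γᵀ = -Γ ∧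
      ∀ u v, f u v = u ⬝ᵥ Γ *ᵥ v := by
  classical
  obtain ⟨Γ, hΓ⟩ : ∃ Γ : Matrix (Fin n) (Fin n) F,
      Γ = LinearMap.BilinForm.toMatrix' (fLin f hf.bilinear) := ⟨_, rfl⟩
  have hrep : ∀ u v, f u v = u ⬝ᵥ Γ *ᵥ v := by
    intro u v
    rw [← Matrix.toBilin'_apply', hΓ, Matrix.toBilin'_toMatrix']
    rfl
  refine ⟨Γ, ?_, ?_, ?_, hrep⟩
  · intro hdet
    obtain ⟨v, hv, hv0⟩ := Matrix.exists_mulVec_eq_zero_iff.mpr hdet
    obtain ⟨x, hx⟩ := (hf.nondegenerate v hv).1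
    apply hx
    rw [hrep, hv0, dotProduct_zero]
  · intro u
    rw [← hrep]
    exact hf.alternating u
  · ext i j
    rw [Matrix.transpose_apply, Matrix.neg_apply, hΓ, LinearMap.BilinForm.toMatrix'_apply,
      LinearMap.BilinForm.toMatrix'_apply]
    exact hf.skew _ _

theorem dot_conj {ι : Type*} [Fintype ι] [DecidableEq ι] (g Γ : Matrix ι ι F) (u v : ι → F) :
    (g *ᵥ u) ⬝ᵥ Γ *ᵥ (g *ᵥ v) = u ⬝ᵥ (gᵀ * Γ * g) *ᵥ v := by
  rw [Matrix.mul_assoc, ← Matrix.mulVec_mulVec, ← Matrix.mulVec_mulVec,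
    Matrix.dotProduct_mulVec u gᵀ, Matrix.vecMul_transpose]

/-- similarities in matrix form -/
theorem sim_gram (f : (Fin n → F) → (Fin n → F) → F) (Γ : Matrix (Fin n) (Fin n) F)
    (hrep : ∀ u v, f u v = u ⬝ᵥ Γ *ᵥ v) (g : GL (Fin n) F) (hg : g ∈ similarityGroup f) :
    ∃ c : F, c ≠ 0 ∧ (g : Matrix (Fin n) (Fin n) F)ᵀ * Γ * (g : Matrix (Fin n) (Fin n) F)
      = c • Γ := by
  classical
  obtain ⟨c, hc⟩ := hg
  refine ⟨c, c.ne_zero, ?_⟩
  apply (Matrix.toBilin' (R₁ := F) (n := Fin n)).injective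
  apply LinearMap.ext₂
  intro u v
  rw [Matrix.toBilin'_apply', Matrix.toBilin'_apply']
  have h1 := hc u v
  rw [hrep, hrep, dot_conj] at h1
  rw [h1, Matrix.smul_mulVec, dotProduct_smul, smul_eq_mul]

/-- isometries are similarities -/
theorem mem_sim_of_gram (f : (Fin n → F) → (Fin n → F) → F) (Γ : Matrix (Fin n) (Fin n) F)
    (hrep : ∀ u v, f u v = u ⬝ᵥ Γ *ᵥ v) (g : GL (Fin n) F)
    (hg : (g : Matrix (Fin n) (Fin n) F)ᵀ * Γ * (g : Matrix (Fin n) (Fin n) F) = Γ) :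
    g ∈ similarityGroup f := by
  refine ⟨1, fun u v => ?_⟩
  rw [hrep, hrep, dot_conj, hg, Units.val_one, one_mul]

theorem sim_pow {ι : Type*} [Fintype ι] [DecidableEq ι] (x Γ : Matrix ι ι F) (c : F)
    (h : xᵀ * Γ * x = c • Γ) (k : ℕ) : (x ^ k)ᵀ * Γ * x ^ k = c ^ k • Γ := by
  induction k with
  | zero => simp
  | succ k ih =>
    rw [pow_succ, Matrix.transpose_mul]
    calc xᵀ * (x ^ k)ᵀ * Γ * (x ^ k * x) = xᵀ * ((x ^ k)ᵀ * Γ * x ^ k) * x := by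
          simp only [Matrix.mul_assoc]
      _ = c ^ k • (xᵀ * Γ * x) := by
          rw [ih]
          simp only [Matrix.mul_smul, Matrix.smul_mul]
      _ = c ^ (k + 1) • Γ := by rw [h, smul_smul, pow_succ]

/-- reduction: to show that no conjugate of `x` is a similarity of a symplectic form, it is enough
to show that `x` is not a similarity of any invertible alternating Gram matrix -/
theorem core_reduce (f : (Fin n → F) → (Fin n → F) → F) (hf : IsSymplecticForm f)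
    (x : Matrix.SpecialLinearGroup (Fin n) F)
    (hcore : ∀ Γ : Matrix (Fin n) (Fin n) F, Γ.det ≠ 0 → (∀ u, u ⬝ᵥ Γ *ᵥ u = 0) → Γᵀ = -Γ →
      ∀ c : F, c ≠ 0 → (x : Matrix (Fin n) (Fin n) F)ᵀ * Γ * (x : Matrix (Fin n) (Fin n) F)
        ≠ c • Γ)
    (P : Matrix.SpecialLinearGroup (Fin n) F) :
    P⁻¹ * x * P ∉ (similarityGroup f).comap
      (Matrix.SpecialLinearGroup.toGL : Matrix.SpecialLinearGroup (Fin n) F →* GL (Fin n) F) := by
  classical
  intro hmem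
  rw [Subgroup.mem_comap] at hmem
  obtain ⟨Γ, hdet, halt, hskew, hrep⟩ := exists_gram f hf
  obtain ⟨c, hc0, hc⟩ := sim_gram f Γ hrep _ hmem
  obtain ⟨Q, hQ⟩ : ∃ Q : Matrix (Fin n) (Fin n) F, Q = (P : Matrix (Fin n) (Fin n) F) := ⟨_, rfl⟩
  obtain ⟨X, hX⟩ : ∃ X : Matrix (Fin n) (Fin n) F, X = (x : Matrix (Fin n) (Fin n) F) := ⟨_, rfl⟩
  have hQdet : Q.det = 1 := by rw [hQ]; exact P.det_coe
  have hQu : IsUnit Q.det := by rw [hQdet]; exact isUnit_one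
  have e1 : ((Matrix.SpecialLinearGroup.toGL (P⁻¹ * x * P) : GL (Fin n) F) :
      Matrix (Fin n) (Fin n) F) = Q⁻¹ * X * Q := by
    rw [Matrix.SpecialLinearGroup.coe_GL_coe_matrix, Matrix.SpecialLinearGroup.coe_mul,
      Matrix.SpecialLinearGroup.coe_mul, Matrix.SpecialLinearGroup.coe_inv,
      Matrix.inv_def, ← hQ, ← hX, hQdet]
    simp
  rw [e1] at hc
  rw [← hX] at hcore
  have hQQ : Q * Q⁻¹ = 1 := Matrix.mul_nonsing_inv _ hQu
  have hQQ' : Q⁻¹ * Q = 1 := Matrix.nonsing_inv_mul _ hQu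
  have hQT : Qᵀ * (Q⁻¹)ᵀ = 1 := by rw [← Matrix.transpose_mul, hQQ', Matrix.transpose_one]
  have hQT' : (Q⁻¹)ᵀ * Qᵀ = 1 := by rw [← Matrix.transpose_mul, hQQ, Matrix.transpose_one]
  refine hcore ((Q⁻¹)ᵀ * Γ * Q⁻¹) ?_ ?_ ?_ c hc0 ?_
  · rw [Matrix.det_mul, Matrix.det_mul, Matrix.det_transpose]
    have : Q⁻¹.det ≠ 0 := by
      intro h0
      have := congrArg Matrix.det hQQ
      rw [Matrix.det_mul, h0, mul_zero, Matrix.det_one] at this
      exact zero_ne_one this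
    exact mul_ne_zero (mul_ne_zero this hdet) this
  · intro u
    rw [← dot_conj]
    exact halt _
  · rw [Matrix.transpose_mul, Matrix.transpose_mul, Matrix.transpose_transpose, hskew]
    simp only [Matrix.mul_neg, Matrix.neg_mul, Matrix.mul_assoc]
  · have h2 : (Q⁻¹ * X * Q)ᵀ = Qᵀ * Xᵀ * (Q⁻¹)ᵀ := by
      rw [Matrix.transpose_mul, Matrix.transpose_mul, Matrix.mul_assoc]
    rw [h2] at hc
    calc Xᵀ * ((Q⁻¹)ᵀ * Γ * Q⁻¹) * X
        = ((Q⁻¹)ᵀ * Qᵀ) * Xᵀ * ((Q⁻¹)ᵀ * Γ * Q⁻¹) * X * (Q * Q⁻¹) := by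
          rw [hQQ, hQT', Matrix.one_mul, Matrix.mul_one]
      _ = (Q⁻¹)ᵀ * (Qᵀ * Xᵀ * (Q⁻¹)ᵀ * Γ * (Q⁻¹ * X * Q)) * Q⁻¹ := by
          simp only [Matrix.mul_assoc]
      _ = c • ((Q⁻¹)ᵀ * Γ * Q⁻¹) := by
          rw [hc]
          simp only [Matrix.mul_smul, Matrix.smul_mul]

end Cfsg.Agent.Lib.helper99.SpDer
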