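import Mathlib
import Cfsg.Prelude.Def_GeometricClasses
import Cfsg.Prelude.Def_ClassicalGeometry
import Cfsg.Agent.Lib.helper99.TsB
import Cfsg.Agent.Lib.helper99.SpDerA
import Cfsg.Agent.Lib.helper95.SpMax

/-!
# Conjugates in tensor product subgroups: shape, ranks, and the form relation
-/

set_option autoImplicit false

namespace Cfsg.Agent.Lib.helper99

open Module Matrix Cfsg Cfsg.Geo
open scoped Kronecker
open Cfsg.Agent.Lib.helper24

variable {F : Type*} [Field F]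

theorem ts_submatrix_pow {ι κ : Type*} [Fintype ι] [DecidableEq ι] [Fintype κ] [DecidableEq κ]
    (e : ι ≃ κ) (M : Matrix κ κ F) (j : ℕ) : (M.submatrix e e) ^ j = (M ^ j).submatrix e e := by
  induction j with
  | zero => simp
  | succ j ih => rw [pow_succ, ih, Matrix.submatrix_mul_equiv, pow_succ]

theorem ts_conj_pow {ι : Type*} [Fintype ι] [DecidableEq ι] (Q Q' k : Matrix ι ι F)
    (h1 : Q * Q' = 1) (h2 : Q' * Q = 1) (m : ℕ) : (Q * k * Q') ^ m = Q * k ^ m * Q' := by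
  induction m with
  | zero => rw [pow_zero, pow_zero, Matrix.mul_one, h1]
  | succ m ih =>
    rw [pow_succ, ih, pow_succ]
    calc Q * k ^ m * Q' * (Q * k * Q') = Q * k ^ m * (Q' * Q) * k * Q' := by
          simp only [Matrix.mul_assoc]
      _ = Q * (k ^ m * k) * Q' := by rw [h2, Matrix.mul_one]; simp only [Matrix.mul_assoc]

/-- shape of an element of the tensor product subgroup -/
theorem ts_conj_shape {ι : Type} [Fintype ι] [DecidableEq ι] {a b : ℕ} (e : ι ≃ Fin a × Fin b)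
    (P y : GL ι F) (h : y ∈ tensorProductSubgroup a b e P) :
    ∃ (g₁ : GL (Fin a) F) (g₂ : GL (Fin b) F),
      (y : Matrix ι ι F) = (P : Matrix ι ι F) *
        ((g₁ : Matrix (Fin a) (Fin a) F) ⊗ₖ (g₂ : Matrix (Fin b) (Fin b) F)).submatrix e e *
          ((P⁻¹ : GL ι F) : Matrix ι ι F) := by
  classical
  unfold tensorProductSubgroup at h
  rw [Subgroup.mem_map] at h
  obtain ⟨y', hy', hyx⟩ := h
  rw [Subgroup.mem_map] at hy'
  obtain ⟨k, hk, hky⟩ := hy'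
  obtain ⟨g₁, g₂, hk⟩ := hk
  refine ⟨g₁, g₂, ?_⟩
  have h1 : P * y' * P⁻¹ = y := hyx
  have h2 : glReindex e.symm k = y' := hky
  rw [← h1, ← h2, Units.val_mul, Units.val_mul]
  congr 2
  show Matrix.reindexAlgEquiv F F e.symm (k : Matrix (Fin a × Fin b) (Fin a × Fin b) F) = _
  rw [Matrix.coe_reindexAlgEquiv, hk]
  rfl

/-- rank data of a conjugate of a given shape -/
theorem ts_conj_rank {ι : Type} [Fintype ι] [DecidableEq ι] {a b : ℕ} (e : ι ≃ Fin a × Fin b)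
    (P x g : GL ι F) (g₁ : Matrix (Fin a) (Fin a) F) (g₂ : Matrix (Fin b) (Fin b) F)
    (h : ((g⁻¹ * x * g : GL ι F) : Matrix ι ι F) = (P : Matrix ι ι F) *
        (g₁ ⊗ₖ g₂).submatrix e e * ((P⁻¹ : GL ι F) : Matrix ι ι F)) (m : ℕ) (ν : F) :
    (((x ^ m : GL ι F) : Matrix ι ι F) - ν • 1).rank =
      ((g₁ ^ m) ⊗ₖ (g₂ ^ m) - ν • (1 : Matrix (Fin a × Fin b) (Fin a × Fin b) F)).rank := by
  classical
  obtain ⟨Q, hQ⟩ : ∃ Q : Matrix ι ι F, Q = ((g * P : GL ι F) : Matrix ι ι F) := ⟨_, rfl⟩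
  obtain ⟨Q', hQ'⟩ : ∃ Q' : Matrix ι ι F, Q' = (((g * P)⁻¹ : GL ι F) : Matrix ι ι F) :=
    ⟨_, rfl⟩
  have hQQ' : Q * Q' = 1 := by
    rw [hQ, hQ', ← Units.val_mul, mul_inv_cancel, Units.val_one]
  have hQ'Q : Q' * Q = 1 := by
    rw [hQ, hQ', ← Units.val_mul, inv_mul_cancel, Units.val_one]
  have hx : (x : Matrix ι ι F) = Q * (g₁ ⊗ₖ g₂).submatrix e e * Q' := by
    have h3 : x = g * (g⁻¹ * x * g) * g⁻¹ := by group
    have h4 : (x : Matrix ι ι F) = (g : Matrix ι ι F) * ((g⁻¹ * x * g : GL ι F) : Matrix ι ι F)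
        * ((g⁻¹ : GL ι F) : Matrix ι ι F) := by
      conv_lhs => rw [h3]
      rw [Units.val_mul, Units.val_mul]
    rw [h4, h, hQ, hQ', _root_.mul_inv_rev, Units.val_mul, Units.val_mul]
    simp only [Matrix.mul_assoc]
  have hxm : ((x ^ m : GL ι F) : Matrix ι ι F) = Q * ((g₁ ^ m) ⊗ₖ (g₂ ^ m)).submatrix e e * Q' := by
    rw [Units.val_pow_eq_pow_val, hx, ts_conj_pow _ _ _ hQQ' hQ'Q, ts_submatrix_pow, tens_kron_pow]
  obtain ⟨K, hK⟩ : ∃ K : Matrix (Fin a × Fin b) (Fin a × Fin b) F,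
      K = (g₁ ^ m) ⊗ₖ (g₂ ^ m) := ⟨_, rfl⟩
  rw [← hK] at hxm ⊢
  have hsub : (K - ν • (1 : Matrix (Fin a × Fin b) (Fin a × Fin b) F)).submatrix e e =
      K.submatrix e e - ν • (1 : Matrix ι ι F) := by
    ext i j
    rw [Matrix.submatrix_apply, Matrix.sub_apply, Matrix.sub_apply, Matrix.smul_apply,
      Matrix.smul_apply, Matrix.submatrix_apply, Matrix.one_apply, Matrix.one_apply]
    simp [e.injective.eq_iff]
  have hmat : ((x ^ m : GL ι F) : Matrix ι ι F) - ν • 1 =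
      Q * (K - ν • (1 : Matrix (Fin a × Fin b) (Fin a × Fin b) F)).submatrix e e * Q' := by
    rw [hxm, hsub, Matrix.mul_sub, Matrix.sub_mul, Matrix.mul_smul, Matrix.smul_mul,
      Matrix.mul_one, hQQ']
  have hQdet : IsUnit Q.det := Matrix.isUnit_det_of_right_inverse hQQ'
  have hQ'det : IsUnit Q'.det := Matrix.isUnit_det_of_left_inverse hQQ'
  rw [hmat, Matrix.rank_mul_eq_left_of_isUnit_det _ _ hQ'det,
    Matrix.rank_mul_eq_right_of_isUnit_det _ _ hQdet, Matrix.rank_submatrix]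

theorem ts_formOfGram {κ : Type} [Fintype κ] (Γ : Matrix κ κ F) (x y : κ → F) :
    formOfGram id Γ x y = x ⬝ᵥ Γ *ᵥ y := by
  unfold formOfGram
  simp only [dotProduct, Matrix.mulVec, id, Finset.mul_sum, mul_assoc]

/-- the form relation for an isometry of the given shape -/
theorem ts_form_rel {d a b : ℕ} (e : (Fin d ⊕ Fin d) ≃ Fin a × Fin b) (P : GL (Fin d ⊕ Fin d) F)
    (Γ : Matrix (Fin a × Fin b) (Fin a × Fin b) F) (c : F) (hc : c ≠ 0)
    (hS : ∀ x y : Fin a × Fin b → F,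
      sympForm d F ((P : Matrix (Fin d ⊕ Fin d) (Fin d ⊕ Fin d) F) *ᵥ (x ∘ e))
        ((P : Matrix (Fin d ⊕ Fin d) (Fin d ⊕ Fin d) F) *ᵥ (y ∘ e)) = c * formOfGram id Γ x y)
    (y : GL (Fin d ⊕ Fin d) F) (hy : y ∈ spGL d F)
    (K : Matrix (Fin a × Fin b) (Fin a × Fin b) F)
    (h : (y : Matrix (Fin d ⊕ Fin d) (Fin d ⊕ Fin d) F) =
      (P : Matrix (Fin d ⊕ Fin d) (Fin d ⊕ Fin d) F) * K.submatrix e e *
        ((P⁻¹ : GL (Fin d ⊕ Fin d) F) : Matrix (Fin d ⊕ Fin d) (Fin d ⊕ Fin d) F)) :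
    Kᵀ * Γ * K = Γ := by
  classical
  have hyP : ∀ x : Fin a × Fin b → F,
      (y : Matrix (Fin d ⊕ Fin d) (Fin d ⊕ Fin d) F) *ᵥ
        ((P : Matrix (Fin d ⊕ Fin d) (Fin d ⊕ Fin d) F) *ᵥ (x ∘ e)) =
      (P : Matrix (Fin d ⊕ Fin d) (Fin d ⊕ Fin d) F) *ᵥ ((K *ᵥ x) ∘ e) := by
    intro x
    rw [h, Matrix.mulVec_mulVec, Matrix.mul_assoc, Matrix.mul_assoc, ← Units.val_mul,
      inv_mul_cancel, Units.val_one, Matrix.mul_one, ← Matrix.mulVec_mulVec,
      Matrix.submatrix_mulVec_equiv]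
    congr 2
    rw [Function.comp_assoc, Equiv.self_comp_symm, Function.comp_id]
  have hrel : ∀ u v : Fin a × Fin b → F, u ⬝ᵥ (Kᵀ * Γ * K) *ᵥ v = u ⬝ᵥ Γ *ᵥ v := by
    intro u v
    have h1 := (Cfsg.Agent.Lib.helper95.mem_spGL_iff d y).1 hy
      ((P : Matrix (Fin d ⊕ Fin d) (Fin d ⊕ Fin d) F) *ᵥ (u ∘ e))
      ((P : Matrix (Fin d ⊕ Fin d) (Fin d ⊕ Fin d) F) *ᵥ (v ∘ e))
    rw [hyP, hyP, hS, hS, ts_formOfGram, ts_formOfGram, SpDer.dot_conj] at h1
    exact mul_left_cancel₀ hc h1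
  apply (Matrix.toBilin' (R₁ := F) (n := Fin a × Fin b)).injective
  apply LinearMap.ext₂
  intro u v
  rw [Matrix.toBilin'_apply', Matrix.toBilin'_apply']
  exact hrel u v

/-- representation of a bilinear form by its Gram matrix -/
theorem ts_gram_rep {n : ℕ} (f : (Fin n → F) → (Fin n → F) → F) (hf : IsBilinearForm f)
    (u v : Fin n → F) : f u v = u ⬝ᵥ gramMatrix f *ᵥ v := by
  classical
  have h1 : gramMatrix f = LinearMap.BilinForm.toMatrix' (SpDer.fLin f hf) := by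
    ext i j
    rw [LinearMap.BilinForm.toMatrix'_apply]
    rfl
  rw [← Matrix.toBilin'_apply', h1, Matrix.toBilin'_toMatrix']
  rfl

theorem ts_gram_det {n : ℕ} (f : (Fin n → F) → (Fin n → F) → F) (hf : IsBilinearForm f)
    (hnd : IsNondegenerateForm f) : (gramMatrix f).det ≠ 0 := by
  classical
  intro hdet
  obtain ⟨v, hv, hv0⟩ := Matrix.exists_mulVec_eq_zero_iff.mpr hdet
  obtain ⟨x, hx⟩ := (hnd v hv).1
  apply hx
  rw [ts_gram_rep f hf, hv0, dotProduct_zero]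

end Cfsg.Agent.Lib.helper99
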