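import Mathlib
import Cfsg.Agent.Lib.helper99.TsC

/-!
# Kronecker products of small support: the contradiction lemmas
-/

set_option autoImplicit false

namespace Cfsg.Agent.Lib.helper99

open Module Matrix Cfsg Cfsg.Geo
open scoped Kronecker
open Cfsg.Agent.Lib.helper24

variable {F : Type*} [Field F]

theorem ts_kron_one_inj {a b : ℕ} (hb : 0 < b) (N N' : Matrix (Fin a) (Fin a) F)
    (h : N ⊗ₖ (1 : Matrix (Fin b) (Fin b) F) = N' ⊗ₖ (1 : Matrix (Fin b) (Fin b) F)) : N = N' := by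
  ext i i'
  have h2 := congrFun (congrFun h (i, ⟨0, hb⟩)) (i', ⟨0, hb⟩)
  rw [Matrix.kroneckerMap_apply, Matrix.kroneckerMap_apply, Matrix.one_apply_eq, mul_one,
    mul_one] at h2
  exact h2

/-- a Kronecker product `g₁ ⊗ g₂ ≠ 1` cannot differ from `1` by rank `≤ t` if `t < a, b` -/
theorem ts_small_contra {a b : ℕ} (g₁ : GL (Fin a) F) (g₂ : GL (Fin b) F) (t : ℕ) (htb : t < b)
    (hta : t < a)
    (hpos : ((g₁ : Matrix (Fin a) (Fin a) F) ⊗ₖ (g₂ : Matrix (Fin b) (Fin b) F) -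
      (1 : F) • (1 : Matrix (Fin a × Fin b) (Fin a × Fin b) F)).rank ≠ 0)
    (hle : ((g₁ : Matrix (Fin a) (Fin a) F) ⊗ₖ (g₂ : Matrix (Fin b) (Fin b) F) -
      (1 : F) • (1 : Matrix (Fin a × Fin b) (Fin a × Fin b) F)).rank ≤ t) : False := by
  classical
  by_cases hsc : ∃ c : F, (g₁ : Matrix (Fin a) (Fin a) F) = c • 1
  · obtain ⟨c, hc⟩ := hsc
    rw [hc, tens_scalar_kron_sub, tens_rank_one_kron] at hpos hle
    have h1 : (c • (g₂ : Matrix (Fin b) (Fin b) F) - (1 : F) • 1).rank ≠ 0 :=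
      fun h => hpos (by rw [h, mul_zero])
    have h3 := Nat.pos_of_ne_zero h1
    nlinarith
  · have hns : ∀ c : F, (g₁ : Matrix (Fin a) (Fin a) F) ≠ c • 1 := fun c hc => hsc ⟨c, hc⟩
    have h3 := tens_rank_ge (g₁ : Matrix (Fin a) (Fin a) F) (g₂ : Matrix (Fin b) (Fin b) F) hns
      (tens_gl_inj g₂) 1
    omega

/-- the main contradiction for elements of odd prime order `r ≠ p` -/
theorem ts_odd_contra [Fintype F] (h2 : (2 : F) ≠ 0) (r : ℕ) [hr : Fact r.Prime] (hrodd : Odd r)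
    (hrq : ¬ r ∣ Fintype.card F) (s : ℕ)
    (hs_even : Even (orderOf ((Fintype.card F : ℕ) : ZMod r)) →
      s = orderOf ((Fintype.card F : ℕ) : ZMod r))
    (hs_odd : Odd (orderOf ((Fintype.card F : ℕ) : ZMod r)) →
      s = 2 * orderOf ((Fintype.card F : ℕ) : ZMod r))
    {a b : ℕ} (ha : Even a) (ha2 : 2 ≤ a) (hb : 3 ≤ b)
    (J₁ : Matrix (Fin a) (Fin a) F) (hJ : J₁ ≠ 0) (S₂ : Matrix (Fin b) (Fin b) F)
    (hS : S₂ᵀ = S₂) (hSdet : S₂.det ≠ 0)
    (g₁ : GL (Fin a) F) (g₂ : GL (Fin b) F)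
    (hform : ((g₁ : Matrix (Fin a) (Fin a) F) ⊗ₖ (g₂ : Matrix (Fin b) (Fin b) F))ᵀ * (J₁ ⊗ₖ S₂) *
      ((g₁ : Matrix (Fin a) (Fin a) F) ⊗ₖ (g₂ : Matrix (Fin b) (Fin b) F)) = J₁ ⊗ₖ S₂)
    (hk1 : (((g₁ : Matrix (Fin a) (Fin a) F) ^ r) ⊗ₖ ((g₂ : Matrix (Fin b) (Fin b) F) ^ r) -
      (1 : F) • (1 : Matrix (Fin a × Fin b) (Fin a × Fin b) F)).rank = 0)
    (hkrank : ((g₁ : Matrix (Fin a) (Fin a) F) ⊗ₖ (g₂ : Matrix (Fin b) (Fin b) F) -
      (1 : F) • (1 : Matrix (Fin a × Fin b) (Fin a × Fin b) F)).rank ≤ s)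
    (hkne : ((g₁ : Matrix (Fin a) (Fin a) F) ⊗ₖ (g₂ : Matrix (Fin b) (Fin b) F) -
      (1 : F) • (1 : Matrix (Fin a × Fin b) (Fin a × Fin b) F)).rank ≠ 0) : False := by
  classical
  obtain ⟨ev, hev⟩ : ∃ ev : ℕ, ev = orderOf ((Fintype.card F : ℕ) : ZMod r) := ⟨_, rfl⟩
  rw [← hev] at hs_even hs_odd
  obtain ⟨M₁, hM₁⟩ : ∃ M₁ : Matrix (Fin a) (Fin a) F, M₁ = (g₁ : Matrix (Fin a) (Fin a) F) :=
    ⟨_, rfl⟩
  obtain ⟨M₂, hM₂⟩ : ∃ M₂ : Matrix (Fin b) (Fin b) F, M₂ = (g₂ : Matrix (Fin b) (Fin b) F) :=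
    ⟨_, rfl⟩
  rw [← hM₁, ← hM₂] at hform hk1 hkrank hkne
  have hM₂inj : ∀ w, M₂ *ᵥ w = 0 → w = 0 := by
    rw [hM₂]
    exact tens_gl_inj g₂
  have hM₁inj : ∀ w, M₁ *ᵥ w = 0 → w = 0 := by
    rw [hM₁]
    exact tens_gl_inj g₁
  have hkr : (M₁ ^ r) ⊗ₖ (M₂ ^ r) = 1 := by
    have h0 := tens_eq_zero_of_rank_eq_zero _ hk1
    rw [one_smul, sub_eq_zero] at h0
    exact h0
  have hdvd : ∀ (n : ℕ) (G : Matrix (Fin n) (Fin n) F), G ^ r = 1 → ev ∣ (G - 1).rank := by
    intro n G hG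
    rw [hev]
    exact orderOf_dvd_of_pow_eq_one (tens_pow_rank_eq_one r G hG hrq)
  by_cases hsc : ∃ c : F, M₁ = c • 1
  · -- `g₁` scalar
    obtain ⟨c, hc⟩ := hsc
    obtain ⟨G, hG⟩ : ∃ G : Matrix (Fin b) (Fin b) F, G = c • M₂ := ⟨_, rfl⟩
    have hK : M₁ ⊗ₖ M₂ = (1 : Matrix (Fin a) (Fin a) F) ⊗ₖ G := by
      rw [hc, hG, Matrix.smul_kronecker, Matrix.kronecker_smul]
    have hGr : G ^ r = 1 := by
      apply tens_one_kron_inj (a := a) (by omega)
      calc (1 : Matrix (Fin a) (Fin a) F) ⊗ₖ (G ^ r)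
          = ((1 : Matrix (Fin a) (Fin a) F) ⊗ₖ G) ^ r := by rw [tens_kron_pow, one_pow]
        _ = (M₁ ⊗ₖ M₂) ^ r := by rw [hK]
        _ = (M₁ ^ r) ⊗ₖ (M₂ ^ r) := tens_kron_pow _ _ _
        _ = 1 := hkr
        _ = (1 : Matrix (Fin a) (Fin a) F) ⊗ₖ (1 : Matrix (Fin b) (Fin b) F) :=
            Matrix.one_kronecker_one.symm
    have hsub : M₁ ⊗ₖ M₂ - (1 : F) • (1 : Matrix (Fin a × Fin b) (Fin a × Fin b) F) =
        (1 : Matrix (Fin a) (Fin a) F) ⊗ₖ (G - 1) := by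
      rw [hK, tens_kron_sub, Matrix.one_kronecker_one, one_smul]
    rw [hsub, tens_rank_one_kron] at hkrank hkne
    have hρ0 : (G - 1).rank ≠ 0 := by
      intro h0
      apply hkne
      rw [h0, mul_zero]
    have hdiv := hdvd b G hGr
    have hge : ev ≤ (G - 1).rank := Nat.le_of_dvd (Nat.pos_of_ne_zero hρ0) hdiv
    rcases Nat.even_or_odd ev with he | ho
    · have h5 := hs_even he
      have h6 := Nat.pos_of_ne_zero hρ0
      nlinarith
    · have hs := hs_odd ho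
      have hGiso : Gᵀ * S₂ * G = S₂ := by
        obtain ⟨i, i', hii⟩ : ∃ i i', J₁ i i' ≠ 0 := by
          by_contra hcon
          push Not at hcon
          apply hJ
          ext i i'
          exact hcon i i'
        rw [hK] at hform
        have h5 : ((1 : Matrix (Fin a) (Fin a) F) ⊗ₖ G)ᵀ * (J₁ ⊗ₖ S₂) *
            ((1 : Matrix (Fin a) (Fin a) F) ⊗ₖ G) = J₁ ⊗ₖ (Gᵀ * S₂ * G) := by
          rw [← Matrix.kroneckerMap_transpose, ← Matrix.mul_kronecker_mul,
            ← Matrix.mul_kronecker_mul, Matrix.transpose_one, Matrix.one_mul, Matrix.mul_one]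
        rw [h5] at hform
        ext j j'
        have h6 := congrFun (congrFun hform (i, j)) (i', j')
        rw [Matrix.kroneckerMap_apply, Matrix.kroneckerMap_apply] at h6
        exact mul_left_cancel₀ hii h6
      have heven := ts_even_rank_isom h2 S₂ G hS hSdet hGiso r hrodd hGr
      obtain ⟨t, ht⟩ := hdiv
      have ht0 : t ≠ 0 := by
        rintro rfl
        rw [mul_zero] at ht
        exact hρ0 ht
      have hev0 : 0 < ev := by
        rcases Nat.eq_zero_or_pos ev with h | h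
        · rw [h, zero_mul] at ht
          exact absurd ht hρ0
        · exact h
      rw [ht, hs] at hkrank
      have ht1 : t = 1 := by
        by_contra hne
        have h7 : 2 ≤ t := by omega
        nlinarith
      rw [ht1, mul_one] at ht
      rw [ht] at heven
      exact (Nat.not_even_iff_odd.2 ho) heven
  · -- `g₁` not scalar
    have hns : ∀ c : F, M₁ ≠ c • 1 := fun c hc => hsc ⟨c, hc⟩
    have hb_le := tens_rank_ge M₁ M₂ hns hM₂inj 1
    by_cases hsc2 : ∃ c : F, M₂ = c • 1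
    · obtain ⟨c, hc⟩ := hsc2
      obtain ⟨G, hG⟩ : ∃ G : Matrix (Fin a) (Fin a) F, G = c • M₁ := ⟨_, rfl⟩
      have hK : M₁ ⊗ₖ M₂ = G ⊗ₖ (1 : Matrix (Fin b) (Fin b) F) := by
        rw [hc, hG, Matrix.smul_kronecker, Matrix.kronecker_smul]
      have hGr : G ^ r = 1 := by
        apply ts_kron_one_inj (b := b) (by omega)
        calc (G ^ r) ⊗ₖ (1 : Matrix (Fin b) (Fin b) F)
            = (G ⊗ₖ (1 : Matrix (Fin b) (Fin b) F)) ^ r := by rw [tens_kron_pow, one_pow]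
          _ = (M₁ ⊗ₖ M₂) ^ r := by rw [hK]
          _ = (M₁ ^ r) ⊗ₖ (M₂ ^ r) := tens_kron_pow _ _ _
          _ = 1 := hkr
          _ = (1 : Matrix (Fin a) (Fin a) F) ⊗ₖ (1 : Matrix (Fin b) (Fin b) F) :=
              Matrix.one_kronecker_one.symm
      have hrk : (M₁ ⊗ₖ M₂ - (1 : F) • (1 : Matrix (Fin a × Fin b) (Fin a × Fin b) F)).rank
          = b * (G - 1).rank := by
        rw [hK, ts_rank_swap, ← tens_rank_one_kron (a := b) (G - 1), tens_kron_sub,
          Matrix.one_kronecker_one, one_smul]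
      rw [hrk] at hkrank hkne
      have hρ0 : (G - 1).rank ≠ 0 := by
        intro h0
        apply hkne
        rw [h0, mul_zero]
      have hdiv := hdvd a G hGr
      have hge : ev ≤ (G - 1).rank := Nat.le_of_dvd (Nat.pos_of_ne_zero hρ0) hdiv
      have hev0 : 0 < ev := by
        rcases Nat.eq_zero_or_pos ev with h | h
        · rw [h] at hdiv
          exact absurd (zero_dvd_iff.1 hdiv) hρ0
        · exact h
      have hs2 : s ≤ 2 * ev := by
        rcases Nat.even_or_odd ev with he | ho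
        · have := hs_even he
          omega
        · have := hs_odd ho
          omega
      nlinarith
    · have hns2 : ∀ c : F, M₂ ≠ c • 1 := fun c hc => hsc2 ⟨c, hc⟩
      have hev3 : 3 ≤ ev := by
        rcases Nat.even_or_odd ev with he | ho
        · have := hs_even he
          omega
        · have := hs_odd ho
          obtain ⟨k, hk⟩ := ho
          omega
      have hr1 : ¬ r ∣ Fintype.card F - 1 := by
        intro h
        have h3 : ((Fintype.card F : ℕ) : ZMod r) = 1 := by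
          have h4 := (ZMod.natCast_eq_zero_iff _ _).2 h
          rw [Nat.cast_sub Fintype.card_pos, Nat.cast_one, sub_eq_zero] at h4
          exact h4
        have h5 : ev = 1 := by rw [hev, h3, orderOf_one]
        omega
      obtain ⟨c, hc0, hc⟩ := tens_kron_eq_one (by omega) _ _ hkr
      obtain ⟨dd, hd0, hd⟩ := tens_exists_root r hr1 c hc0
      obtain ⟨G₁, hG₁⟩ : ∃ G₁ : Matrix (Fin a) (Fin a) F, G₁ = dd⁻¹ • M₁ := ⟨_, rfl⟩
      obtain ⟨G₂, hG₂⟩ : ∃ G₂ : Matrix (Fin b) (Fin b) F, G₂ = dd • M₂ := ⟨_, rfl⟩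
      have hG : G₁ ⊗ₖ G₂ = M₁ ⊗ₖ M₂ := by
        rw [hG₁, hG₂, Matrix.smul_kronecker, Matrix.kronecker_smul, smul_smul,
          inv_mul_cancel₀ hd0, one_smul]
      have hG₁r : G₁ ^ r = 1 := by
        rw [hG₁, smul_pow, hc, smul_smul, inv_pow, hd, inv_mul_cancel₀ hc0, one_smul]
      have hG₂r : G₂ ^ r = 1 := by
        apply tens_one_kron_inj (a := a) (by omega)
        calc (1 : Matrix (Fin a) (Fin a) F) ⊗ₖ (G₂ ^ r)
            = (c • (1 : Matrix (Fin a) (Fin a) F)) ⊗ₖ (M₂ ^ r) := by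
              rw [hG₂, smul_pow, hd, Matrix.kronecker_smul, Matrix.smul_kronecker]
          _ = (M₁ ^ r) ⊗ₖ (M₂ ^ r) := by rw [hc]
          _ = 1 := hkr
          _ = (1 : Matrix (Fin a) (Fin a) F) ⊗ₖ (1 : Matrix (Fin b) (Fin b) F) :=
              Matrix.one_kronecker_one.symm
      have hG₁1 : G₁ ≠ 1 := by
        intro h
        apply hns dd
        rw [hG₁] at h
        have h5 := congrArg (fun X => dd • X) h
        simp only [smul_smul, mul_inv_cancel₀ hd0, one_smul] at h5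
        exact h5
      have hG₂1 : G₂ ≠ 1 := by
        intro h
        apply hns2 dd⁻¹
        rw [hG₂] at h
        have h5 := congrArg (fun X => dd⁻¹ • X) h
        simp only [smul_smul, inv_mul_cancel₀ hd0, one_smul] at h5
        exact h5
      have hcyc : ∀ ρ : ℕ, ρ ≠ 0 → ((Fintype.card F : ℕ) : ZMod r) ^ ρ = 1 → 3 ≤ ρ := by
        intro ρ hρ h
        have h5 := Nat.le_of_dvd (Nat.pos_of_ne_zero hρ) (orderOf_dvd_of_pow_eq_one h)
        rw [← hev] at h5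
        omega
      obtain ⟨u, hu1, hu2⟩ := ts_exists_cyc r hrq hcyc G₁ hG₁r hG₁1
      have h2b := ts_rank_ge_two G₁ G₂ u hu1 hu2 1 one_ne_zero
      rw [hG] at h2b
      obtain ⟨u', hu'1, hu'2⟩ := ts_exists_cyc r hrq hcyc G₂ hG₂r hG₂1
      have h2a := ts_rank_ge_two G₂ G₁ u' hu'1 hu'2 1 one_ne_zero
      rw [ts_rank_swap G₂ G₁, hG] at h2a
      have hρ₁ : ev ≤ a := by
        have h0 : (G₁ - 1).rank ≠ 0 :=
          fun h0 => hG₁1 (sub_eq_zero.1 (tens_eq_zero_of_rank_eq_zero _ h0))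
        have h5 := Nat.le_of_dvd (Nat.pos_of_ne_zero h0) (hdvd a G₁ hG₁r)
        have hle : (G₁ - 1).rank ≤ a := Matrix.rank_le_width _
        omega
      have hρ₂ : ev ≤ b := by
        have h0 : (G₂ - 1).rank ≠ 0 :=
          fun h0 => hG₂1 (sub_eq_zero.1 (tens_eq_zero_of_rank_eq_zero _ h0))
        have h5 := Nat.le_of_dvd (Nat.pos_of_ne_zero h0) (hdvd b G₂ hG₂r)
        have hle : (G₂ - 1).rank ≤ b := Matrix.rank_le_width _
        omega
      rcases Nat.even_or_odd ev with he | ho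
      · have := hs_even he
        omega
      · have := hs_odd ho
        have hae : a = ev := by omega
        rw [hae] at ha
        exact (Nat.not_even_iff_odd.2 ho) ha

end Cfsg.Agent.Lib.helper99
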