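import Mathlib
import Cfsg.Agent.Lib.helper99.TsD
import Cfsg.Agent.Lib.helper17.SympStab
import Cfsg.Agent.Lib.helper17.SympPrim

/-!
# Elements of `Sp` of small support and the forward direction for tensor product subgroups
-/

set_option autoImplicit false

namespace Cfsg.Agent.Lib.helper99

open Module Matrix Cfsg Cfsg.Geo
open scoped Kronecker
open Cfsg.Agent.Lib.helper24

variable {F : Type*} [Field F]

theorem ts_card_spGL [Fintype F] (d : ℕ) :
    Nat.card (spGL d F) = Nat.card (Matrix.symplecticGroup (Fin d) F) := by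
  classical
  apply Nat.card_congr
  refine Equiv.ofBijective (fun g => ⟨((g : GL (Fin d ⊕ Fin d) F) :
      Matrix (Fin d ⊕ Fin d) (Fin d ⊕ Fin d) F),
    Cfsg.Agent.Lib.helper17.mem_symplectic_of_preserves d _
      ((Cfsg.Agent.Lib.helper95.mem_spGL_iff d g.1).mp g.2)⟩) ⟨?_, ?_⟩
  · intro g h hgh
    apply Subtype.ext
    apply Units.ext
    exact congrArg Subtype.val hgh
  · intro A
    obtain ⟨g, hg⟩ := Cfsg.Agent.Lib.helper17.exists_spGL d A.2
    exact ⟨g, Subtype.ext hg⟩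

theorem ts_prime_cases [Fintype F] {p : ℕ} [hp : Fact p.Prime] [CharP F p] (d : ℕ) (r : ℕ)
    [hr : Fact r.Prime] (H : Subgroup (GL (Fin d ⊕ Fin d) F))
    (h : r ∣ H.relIndex (spGL d F)) :
    r = p ∨ (¬ r ∣ Fintype.card F ∧
      ∃ i, i < d ∧ r ∣ Fintype.card F ^ (2 * (i + 1)) - 1) := by
  classical
  have h1 : r ∣ Nat.card (spGL d F) := dvd_trans h (Subgroup.relIndex_dvd_card _ _)
  rw [ts_card_spGL, Cfsg.Agent.S0245.result rfl d] at h1
  by_cases hrp : r = p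
  · exact Or.inl hrp
  · right
    have hrq : ¬ r ∣ Fintype.card F := by
      obtain ⟨n, hpp, hn⟩ := FiniteField.card F p
      rw [hn]
      intro h
      exact hrp ((Nat.prime_dvd_prime_iff_eq hr.out hpp).1 (hr.out.dvd_of_dvd_pow h))
    refine ⟨hrq, ?_⟩
    rcases (Nat.Prime.dvd_mul hr.out).1 h1 with h3 | h3
    · exact absurd (hr.out.dvd_of_dvd_pow h3) hrq
    · obtain ⟨i, hi, hi2⟩ := (Prime.dvd_finsetProd_iff (Nat.Prime.prime hr.out) _).1 h3
      exact ⟨i, Finset.mem_range.1 hi, hi2⟩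

theorem ts_order_data (q r : ℕ) [hr : Fact r.Prime] (hq : 1 ≤ q) (d i : ℕ) (hi : i < d)
    (h : r ∣ q ^ (2 * (i + 1)) - 1) :
    ∃ e', 1 ≤ e' ∧ e' ≤ d ∧ r ∣ q ^ (2 * e') - 1 ∧
      (Even (orderOf ((q : ℕ) : ZMod r)) → 2 * e' = orderOf ((q : ℕ) : ZMod r)) ∧
      (Odd (orderOf ((q : ℕ) : ZMod r)) → 2 * e' = 2 * orderOf ((q : ℕ) : ZMod r)) := by
  have hcast : ∀ j, r ∣ q ^ j - 1 ↔ ((q : ℕ) : ZMod r) ^ j = 1 := by
    intro j
    rw [← ZMod.natCast_eq_zero_iff, Nat.cast_sub (Nat.one_le_pow _ _ hq), Nat.cast_pow,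
      Nat.cast_one, sub_eq_zero]
  have h1 := (hcast _).1 h
  obtain ⟨ev, hev⟩ : ∃ ev, ev = orderOf ((q : ℕ) : ZMod r) := ⟨_, rfl⟩
  rw [← hev]
  have hdvd : ev ∣ 2 * (i + 1) := by
    rw [hev]
    exact orderOf_dvd_of_pow_eq_one h1
  have hpos : 0 < ev := Nat.pos_of_dvd_of_pos hdvd (by omega)
  have hpow : ((q : ℕ) : ZMod r) ^ ev = 1 := by
    rw [hev]
    exact pow_orderOf_eq_one _
  rcases Nat.even_or_odd ev with he | ho
  · obtain ⟨k, hk⟩ := he
    refine ⟨k, by omega, ?_, ?_, fun _ => by omega,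
      fun ho => absurd ⟨k, hk⟩ (Nat.not_even_iff_odd.2 ho)⟩
    · have h5 := Nat.le_of_dvd (by omega) hdvd
      omega
    · rw [hcast, show 2 * k = ev by omega]
      exact hpow
  · refine ⟨ev, hpos, ?_, ?_, fun he => absurd he (Nat.not_even_iff_odd.2 ho), fun _ => rfl⟩
    · have hcop : Nat.Coprime ev 2 := Nat.coprime_two_right.2 ho
      have h5 : ev ∣ i + 1 := hcop.dvd_of_dvd_mul_left hdvd
      have h6 := Nat.le_of_dvd (by omega) h5
      omega
    · rw [hcast, mul_comm, pow_mul, hpow, one_pow]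

theorem ts_rank_sub_one {ι : Type} [Fintype ι] [DecidableEq ι] (X : Matrix ι ι F) :
    (X - (1 : F) • (1 : Matrix ι ι F)).rank =
      finrank F (LinearMap.range (Matrix.toLin' X - 1)) := by
  rw [one_smul]
  have h : (X - 1).mulVecLin = Matrix.toLin' X - 1 := by
    apply LinearMap.ext
    intro v
    rw [Matrix.mulVecLin_apply, LinearMap.sub_apply, Matrix.toLin'_apply, Matrix.sub_mulVec,
      Matrix.one_mulVec]
    rfl
  show finrank F (LinearMap.range (X - 1).mulVecLin) = _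
  rw [h]

/-- a symplectic transvection as an element of order `p` -/
theorem ts_exists_transv {p : ℕ} [CharP F p] (d : ℕ) (hd : 1 ≤ d) :
    ∃ x : GL (Fin d ⊕ Fin d) F, x ∈ spGL d F ∧
      ((x ^ p : GL (Fin d ⊕ Fin d) F) : Matrix (Fin d ⊕ Fin d) (Fin d ⊕ Fin d) F) = 1 ∧
      (∀ z : F, (x : Matrix (Fin d ⊕ Fin d) (Fin d ⊕ Fin d) F) ≠ z • 1) ∧
      ((x : Matrix (Fin d ⊕ Fin d) (Fin d ⊕ Fin d) F) - (1 : F) • 1).rank ≤ 1 ∧
      ((x : Matrix (Fin d ⊕ Fin d) (Fin d ⊕ Fin d) F) - (1 : F) • 1).rank ≠ 0 := by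
  classical
  obtain ⟨w, hwdef⟩ : ∃ w : Fin d ⊕ Fin d → F, w = Pi.single (Sum.inl ⟨0, hd⟩) 1 := ⟨_, rfl⟩
  have hw : w ≠ 0 := by
    intro h1
    have h2 := congrFun h1 (Sum.inl ⟨0, hd⟩)
    rw [hwdef, Pi.single_eq_same] at h2
    exact one_ne_zero h2
  obtain ⟨x, hxdef⟩ : ∃ x : GL (Fin d ⊕ Fin d) F, x = Cfsg.Agent.Lib.helper95.spT d w 1 :=
    ⟨_, rfl⟩
  have hx : x ∈ spGL d F := by
    rw [hxdef]
    exact Cfsg.Agent.Lib.helper95.spT_mem d w 1
  have hmv : ∀ v, (x : Matrix (Fin d ⊕ Fin d) (Fin d ⊕ Fin d) F) *ᵥ v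
      = v + (sympForm d F v w) • w := by
    intro v
    rw [hxdef, Cfsg.Agent.Lib.helper95.spT_mulVec, one_mul]
  have hpow : ∀ (k : ℕ) (v : Fin d ⊕ Fin d → F),
      ((x ^ k : GL (Fin d ⊕ Fin d) F) : Matrix (Fin d ⊕ Fin d) (Fin d ⊕ Fin d) F) *ᵥ v
        = v + ((k : F) * sympForm d F v w) • w := by
    intro k
    induction k with
    | zero =>
      intro v
      rw [pow_zero, Units.val_one, Matrix.one_mulVec, Nat.cast_zero, zero_mul, zero_smul, add_zero]
    | succ k ih =>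
      intro v
      rw [pow_succ, Units.val_mul, ← Matrix.mulVec_mulVec, hmv, ih,
        Cfsg.Agent.Lib.helper17.sympForm_add_left, Cfsg.Agent.Lib.helper17.sympForm_smul_left,
        Cfsg.Agent.Lib.helper17.sympForm_self, mul_zero, add_zero, add_assoc, ← add_smul]
      congr 2
      push_cast
      ring
  have hxns : ∀ z : F, (x : Matrix (Fin d ⊕ Fin d) (Fin d ⊕ Fin d) F) ≠ z • 1 := by
    intro z hz
    have h1 := hmv w
    rw [hz, Matrix.smul_mulVec, Matrix.one_mulVec, Cfsg.Agent.Lib.helper17.sympForm_self,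
      zero_smul, add_zero] at h1
    have hz1 : z = 1 := by
      have h3 : (z - 1) • w = 0 := by rw [sub_smul, h1, one_smul, sub_self]
      rcases smul_eq_zero.1 h3 with h4 | h4
      · exact sub_eq_zero.1 h4
      · exact absurd h4 hw
    obtain ⟨w', hw'⟩ := Cfsg.Agent.Lib.helper17.exists_sympForm_ne_zero d w hw
    have h5 := hmv w'
    rw [hz, hz1, one_smul, Matrix.one_mulVec] at h5
    have h6 : sympForm d F w' w • w = 0 := by
      have h7 : w' + sympForm d F w' w • w = w' + 0 := by rw [← h5, add_zero]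
      exact add_left_cancel h7
    rcases smul_eq_zero.1 h6 with h7 | h7
    · apply hw'
      rw [Cfsg.Agent.Lib.helper17.sympForm_swap d w' w, h7, neg_zero]
    · exact hw h7
  refine ⟨x, hx, ?_, hxns, ?_, ?_⟩
  · apply Matrix.toLin'.injective
    apply LinearMap.ext
    intro v
    rw [Matrix.toLin'_apply, hpow, CharP.cast_eq_zero F p, zero_mul, zero_smul, add_zero,
      Matrix.toLin'_one, LinearMap.id_apply]
  · rw [ts_rank_sub_one]
    have h1 : LinearMap.range (Matrix.toLin' (x : Matrix (Fin d ⊕ Fin d) (Fin d ⊕ Fin d) F) - 1)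
        ≤ Submodule.span F {w} := by
      rintro _ ⟨v, rfl⟩
      rw [LinearMap.sub_apply, Matrix.toLin'_apply, hmv, Module.End.one_apply, add_sub_cancel_left]
      exact Submodule.smul_mem _ _ (Submodule.mem_span_singleton_self w)
    have h3 := Submodule.finrank_mono h1
    rw [finrank_span_singleton hw] at h3
    exact h3
  · intro h0
    have h3 := tens_eq_zero_of_rank_eq_zero _ h0
    exact hxns 1 (sub_eq_zero.1 h3)

/-- block-diagonal elements `A ⊕ 1` of `Sp` -/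
theorem ts_exists_block (k d' : ℕ) (hk : 1 ≤ k) (A : Matrix.symplecticGroup (Fin k) F)
    (hA : A ≠ 1) :
    ∃ x : GL (Fin (k + d') ⊕ Fin (k + d')) F, x ∈ spGL (k + d') F ∧
      (∀ m : ℕ, A ^ m = 1 → ((x ^ m : GL (Fin (k + d') ⊕ Fin (k + d')) F) :
        Matrix (Fin (k + d') ⊕ Fin (k + d')) (Fin (k + d') ⊕ Fin (k + d')) F) = 1) ∧
      (1 ≤ d' → ∀ z : F,
        (x : Matrix (Fin (k + d') ⊕ Fin (k + d')) (Fin (k + d') ⊕ Fin (k + d')) F) ≠ z • 1) ∧
      (∀ r : ℕ, Odd r → A ^ r = 1 → ∀ z : F,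
        (x : Matrix (Fin (k + d') ⊕ Fin (k + d')) (Fin (k + d') ⊕ Fin (k + d')) F) ≠ z • 1) ∧
      ((x : Matrix (Fin (k + d') ⊕ Fin (k + d')) (Fin (k + d') ⊕ Fin (k + d')) F)
        - (1 : F) • 1).rank ≤ 2 * k ∧
      ((x : Matrix (Fin (k + d') ⊕ Fin (k + d')) (Fin (k + d') ⊕ Fin (k + d')) F)
        - (1 : F) • 1).rank ≠ 0 := by
  classical
  obtain ⟨X, hXdef⟩ : ∃ X : Matrix.symplecticGroup (Fin (k + d')) F,
      X = Cfsg.Agent.Lib.helper17.blockSp k d' (A, 1) := ⟨_, rfl⟩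
  obtain ⟨g, hg⟩ := Cfsg.Agent.Lib.helper17.exists_spGL (k + d') X.2
  have hX1 : X ≠ 1 := by
    intro h
    rw [hXdef, ← map_one (Cfsg.Agent.Lib.helper17.blockSp (F := F) k d')] at h
    have h1 := Cfsg.Agent.Lib.helper17.blockSp_injective k d' h
    exact hA (congrArg Prod.fst h1)
  have hXpow : ∀ m : ℕ, A ^ m = 1 → X ^ m = 1 := by
    intro m hm
    rw [hXdef, ← map_pow, Prod.pow_mk, one_pow, hm]
    exact map_one _
  have hXm1 : (X : Matrix (Fin (k + d') ⊕ Fin (k + d')) (Fin (k + d') ⊕ Fin (k + d')) F) ≠ 1 := by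
    intro h
    exact hX1 (Subtype.ext h)
  refine ⟨g.1, g.2, ?_, ?_, ?_, ?_, ?_⟩
  · intro m hm
    rw [Units.val_pow_eq_pow_val, hg, ← SubmonoidClass.coe_pow, hXpow m hm]
    rfl
  · intro hd' z hz
    rw [hg] at hz
    obtain ⟨t, ht⟩ : ∃ t : Fin d' ⊕ Fin d', t = Sum.inl ⟨0, hd'⟩ := ⟨_, rfl⟩
    have h1 := lag_block_fix k d' A
      (Pi.single (Cfsg.Agent.Lib.helper17.rho k d' (Sum.inr t)) 1) t
    rw [← hXdef, hz, Matrix.smul_mulVec, Matrix.one_mulVec, Pi.smul_apply, Pi.single_eq_same,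
      smul_eq_mul, mul_one] at h1
    rw [h1, one_smul] at hz
    exact hXm1 hz
  · intro r hr hAr z hz
    rw [hg] at hz
    exact lag_not_scalar (k + d') r (by omega) hr X (hXpow r hAr) hX1 z hz
  · rw [ts_rank_sub_one, hg, hXdef]
    exact lag_block_range k d' A
  · intro h0
    have h3 := tens_eq_zero_of_rank_eq_zero _ h0
    rw [one_smul, sub_eq_zero, hg] at h3
    exact hXm1 h3

end Cfsg.Agent.Lib.helper99
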