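import Mathlib
import Cfsg.Agent.Lib.helper99.FuD
import Cfsg.Agent.Lib.helper99.TsE

/-!
# The normaliser of `F[κ]`, the index of the centraliser of `κ` in `Sp`, and order data
-/

set_option autoImplicit false

namespace Cfsg.Agent.Lib.helper99

open Module Matrix Cfsg Cfsg.Geo
open Cfsg.Agent.Lib.helper17 Cfsg.Agent.Lib.helper95 Cfsg.Agent.Lib.helper24

variable {F : Type*} [Field F] {d : ℕ} {κ : Matrix (Fin d ⊕ Fin d) (Fin d ⊕ Fin d) F} {δ : F}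

/-- an element conjugating `κ` to `±κ` normalises `F[κ]` -/
theorem fu_mem_norm (K : Subalgebra F (Matrix (Fin d ⊕ Fin d) (Fin d ⊕ Fin d) F)) (hκK : κ ∈ K)
    (hspan : ∀ k ∈ K, ∃ a b : F,
      k = a • (1 : Matrix (Fin d ⊕ Fin d) (Fin d ⊕ Fin d) F) + b • κ)
    (g : GL (Fin d ⊕ Fin d) F) (ε : F) (hε : ε * ε = 1)
    (hg : (g : Matrix (Fin d ⊕ Fin d) (Fin d ⊕ Fin d) F) * κ =
      ε • (κ * (g : Matrix (Fin d ⊕ Fin d) (Fin d ⊕ Fin d) F))) :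
    g ∈ subalgebraNormalizer K := by
  have h1 : (g : Matrix (Fin d ⊕ Fin d) (Fin d ⊕ Fin d) F) * κ *
      ((g⁻¹ : GL (Fin d ⊕ Fin d) F) : Matrix (Fin d ⊕ Fin d) (Fin d ⊕ Fin d) F) = ε • κ := by
    rw [hg, Matrix.smul_mul, mul_assoc, Units.mul_inv, mul_one]
  have hg' : κ * (g : Matrix (Fin d ⊕ Fin d) (Fin d ⊕ Fin d) F) =
      ε • ((g : Matrix (Fin d ⊕ Fin d) (Fin d ⊕ Fin d) F) * κ) := by
    rw [hg, smul_smul, hε, one_smul]
  have h2 : ((g⁻¹ : GL (Fin d ⊕ Fin d) F) : Matrix (Fin d ⊕ Fin d) (Fin d ⊕ Fin d) F) * κ *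
      (g : Matrix (Fin d ⊕ Fin d) (Fin d ⊕ Fin d) F) = ε • κ := by
    rw [mul_assoc, hg', Matrix.mul_smul, ← mul_assoc, Units.inv_mul, one_mul]
  apply mem_subalgNormalizer_of_conj
  · intro k hk
    obtain ⟨a, b, rfl⟩ := hspan k hk
    have e : (g : Matrix (Fin d ⊕ Fin d) (Fin d ⊕ Fin d) F) *
        (a • (1 : Matrix (Fin d ⊕ Fin d) (Fin d ⊕ Fin d) F) + b • κ) *
        ((g⁻¹ : GL (Fin d ⊕ Fin d) F) : Matrix (Fin d ⊕ Fin d) (Fin d ⊕ Fin d) F) =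
        a • (1 : Matrix (Fin d ⊕ Fin d) (Fin d ⊕ Fin d) F) + (b * ε) • κ := by
      rw [mul_add, add_mul, Matrix.mul_smul, Matrix.mul_smul, Matrix.smul_mul, Matrix.smul_mul,
        mul_one, Units.mul_inv, h1, smul_smul]
    rw [e]
    exact K.add_mem (K.smul_mem K.one_mem a) (K.smul_mem hκK _)
  · intro k hk
    obtain ⟨a, b, rfl⟩ := hspan k hk
    have e : ((g⁻¹ : GL (Fin d ⊕ Fin d) F) : Matrix (Fin d ⊕ Fin d) (Fin d ⊕ Fin d) F) *
        (a • (1 : Matrix (Fin d ⊕ Fin d) (Fin d ⊕ Fin d) F) + b • κ) *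
        (g : Matrix (Fin d ⊕ Fin d) (Fin d ⊕ Fin d) F) =
        a • (1 : Matrix (Fin d ⊕ Fin d) (Fin d ⊕ Fin d) F) + (b * ε) • κ := by
      rw [mul_add, add_mul, Matrix.mul_smul, Matrix.mul_smul, Matrix.smul_mul, Matrix.smul_mul,
        mul_one, Units.inv_mul, h2, smul_smul]
    rw [e]
    exact K.add_mem (K.smul_mem K.one_mem a) (K.smul_mem hκK _)

/-- an element normalising `F[κ]` conjugates `κ` to `±κ` -/
theorem fu_norm_pm (h : SkewK d κ δ) (hd : 1 ≤ d)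
    (K : Subalgebra F (Matrix (Fin d ⊕ Fin d) (Fin d ⊕ Fin d) F)) (hκK : κ ∈ K)
    (hspan : ∀ k ∈ K, ∃ a b : F,
      k = a • (1 : Matrix (Fin d ⊕ Fin d) (Fin d ⊕ Fin d) F) + b • κ)
    (g : GL (Fin d ⊕ Fin d) F) (hg : g ∈ subalgebraNormalizer K) :
    ∃ ε : F, ε * ε = 1 ∧ (g : Matrix (Fin d ⊕ Fin d) (Fin d ⊕ Fin d) F) * κ =
      ε • (κ * (g : Matrix (Fin d ⊕ Fin d) (Fin d ⊕ Fin d) F)) := by
  classical
  obtain ⟨a, b, hab⟩ := hspan _ ((hg κ).1 hκK)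
  have hM2 : (a • (1 : Matrix (Fin d ⊕ Fin d) (Fin d ⊕ Fin d) F) + b • κ) *
      (a • (1 : Matrix (Fin d ⊕ Fin d) (Fin d ⊕ Fin d) F) + b • κ) =
      δ • (1 : Matrix (Fin d ⊕ Fin d) (Fin d ⊕ Fin d) F) := by
    rw [← hab]
    calc (g : Matrix (Fin d ⊕ Fin d) (Fin d ⊕ Fin d) F) * κ *
        ((g⁻¹ : GL (Fin d ⊕ Fin d) F) : Matrix (Fin d ⊕ Fin d) (Fin d ⊕ Fin d) F) *
        ((g : Matrix (Fin d ⊕ Fin d) (Fin d ⊕ Fin d) F) * κ *
        ((g⁻¹ : GL (Fin d ⊕ Fin d) F) : Matrix (Fin d ⊕ Fin d) (Fin d ⊕ Fin d) F))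
        = (g : Matrix (Fin d ⊕ Fin d) (Fin d ⊕ Fin d) F) * (κ *
          (((g⁻¹ : GL (Fin d ⊕ Fin d) F) : Matrix (Fin d ⊕ Fin d) (Fin d ⊕ Fin d) F) *
          (g : Matrix (Fin d ⊕ Fin d) (Fin d ⊕ Fin d) F)) * κ) *
          ((g⁻¹ : GL (Fin d ⊕ Fin d) F) : Matrix (Fin d ⊕ Fin d) (Fin d ⊕ Fin d) F) := by
          simp only [mul_assoc]
      _ = δ • (1 : Matrix (Fin d ⊕ Fin d) (Fin d ⊕ Fin d) F) := by
          rw [Units.inv_mul, mul_one, h.sq, Matrix.mul_smul, Matrix.smul_mul, mul_one,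
            Units.mul_inv]
  obtain ⟨x, hx⟩ : ∃ x : Fin d ⊕ Fin d → F, x ≠ 0 := by
    refine ⟨Pi.single (Sum.inl ⟨0, hd⟩) 1, ?_⟩
    intro h0
    have h1 := congrFun h0 (Sum.inl ⟨0, hd⟩)
    rw [Pi.single_eq_same] at h1
    exact one_ne_zero h1
  have h3 : ((a • (1 : Matrix (Fin d ⊕ Fin d) (Fin d ⊕ Fin d) F) + b • κ) *
      (a • (1 : Matrix (Fin d ⊕ Fin d) (Fin d ⊕ Fin d) F) + b • κ)) *ᵥ x = δ • x := by
    rw [hM2, Matrix.smul_mulVec, Matrix.one_mulVec]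
  rw [← Matrix.mulVec_mulVec] at h3
  simp only [Matrix.add_mulVec, Matrix.smul_mulVec, Matrix.one_mulVec, Matrix.mulVec_add,
    Matrix.mulVec_smul, h.kk] at h3
  have key : (a * a + b * b * δ - δ) • x + (2 * a * b) • κ *ᵥ x = 0 := by
    have h4 : (a * a + b * b * δ - δ) • x + (2 * a * b) • κ *ᵥ x =
        (a • (a • x + b • κ *ᵥ x) + b • (a • κ *ᵥ x + b • δ • x)) - δ • x := by module
    rw [h4, h3, sub_self]
  obtain ⟨k1, k2⟩ := h.kappa_indep hx key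
  have hab0 : a * b = 0 := by
    have h5 : (2 : F) * (a * b) = 0 := by linear_combination k2
    exact (mul_eq_zero.1 h5).resolve_left h.two
  have ha : a = 0 := by
    rcases mul_eq_zero.1 hab0 with ha | hb
    · exact ha
    · exfalso
      rw [hb] at k1
      exact h.nsq a (by linear_combination k1)
  have hb : b * b = 1 := by
    rw [ha] at k1
    have h5 : δ * (b * b - 1) = 0 := by linear_combination k1
    have h6 := (mul_eq_zero.1 h5).resolve_left h.delta_ne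
    linear_combination h6
  refine ⟨b, hb, ?_⟩
  rw [ha, zero_smul, zero_add] at hab
  calc (g : Matrix (Fin d ⊕ Fin d) (Fin d ⊕ Fin d) F) * κ
      = (g : Matrix (Fin d ⊕ Fin d) (Fin d ⊕ Fin d) F) * κ *
        (((g⁻¹ : GL (Fin d ⊕ Fin d) F) : Matrix (Fin d ⊕ Fin d) (Fin d ⊕ Fin d) F) *
          (g : Matrix (Fin d ⊕ Fin d) (Fin d ⊕ Fin d) F)) := by
        rw [Units.inv_mul, mul_one]
    _ = b • (κ * (g : Matrix (Fin d ⊕ Fin d) (Fin d ⊕ Fin d) F)) := by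
        rw [← mul_assoc, hab, Matrix.smul_mul]

/-- the primes dividing the index of the normaliser of `F[κ]` in `Sp` -/
theorem fu_index_cases [Fintype F] (hodd : Odd (Fintype.card F)) (h : SkewK d κ δ)
    (K : Subalgebra F (Matrix (Fin d ⊕ Fin d) (Fin d ⊕ Fin d) F)) (hκK : κ ∈ K)
    (hspan : ∀ k ∈ K, ∃ a b : F,
      k = a • (1 : Matrix (Fin d ⊕ Fin d) (Fin d ⊕ Fin d) F) + b • κ)
    (r : ℕ) [hr : Fact r.Prime]
    (hΩ : r ∣ (subalgebraNormalizer K).relIndex (spGL d F)) :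
    r ∣ Fintype.card F ∨
      ∃ i, i < d ∧ (r : ℤ) ∣ (Fintype.card F : ℤ) ^ (i + 1) + (-1) ^ (i + 1) := by
  classical
  have hCN : fuCent d κ ≤ subalgebraNormalizer K := fun g hg =>
    fu_mem_norm K hκK hspan g 1 (by ring) (by rw [one_smul]; exact hg.2)
  have hCS : fuCent d κ ≤ spGL d F := fun g hg => hg.1
  have h1 : r ∣ (fuCent d κ).relIndex (spGL d F) :=
    dvd_trans hΩ (Subgroup.relIndex_dvd_of_le_left _ hCN)
  have h2 : Nat.card (fuCent d κ) * (fuCent d κ).relIndex (spGL d F) = Nat.card (spGL d F) := by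
    have := Subgroup.relIndex_mul_relIndex ⊥ (fuCent d κ) (spGL d F) bot_le hCS
    rwa [Subgroup.relIndex_bot_left, Subgroup.relIndex_bot_left] at this
  rw [ts_card_spGL, Cfsg.Agent.S0245.result rfl d, fu_card_cent hodd h] at h2
  have h3 := fu_card_frame hodd δ h.delta_ne h.nsq d _ (sympBilin d (F := F)) (Matrix.toLin' κ)
    (fu_ks_of_skewK h) (fu_finrank d)
  obtain ⟨I, hI⟩ : ∃ I, I = (fuCent d κ).relIndex (spGL d F) := ⟨_, rfl⟩
  rw [← hI] at h1 h2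
  obtain ⟨c, hc⟩ : ∃ c : ℕ, c = Nat.card (FuFrame (sympBilin d (F := F)) (Matrix.toLin' κ) d) :=
    ⟨_, rfl⟩
  rw [← hc] at h2 h3
  obtain ⟨q, hq⟩ : ∃ q : ℕ, q = Fintype.card F := ⟨_, rfl⟩
  rw [← hq] at h2 h3 ⊢
  have hq1 : 1 ≤ q := by
    rw [hq]
    exact Fintype.card_pos
  have hq2 : (2 : ℤ) ≤ (q : ℤ) := by
    have : 1 < q := by
      rw [hq]
      exact Fintype.one_lt_card
    exact_mod_cast this
  have h4 : (c : ℤ) * (I : ℤ) = (q : ℤ) ^ (d ^ 2) *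
      ∏ i ∈ Finset.range d, ((q : ℤ) ^ (2 * (i + 1)) - 1) := by
    have h5 := congrArg (Nat.cast : ℕ → ℤ) h2
    rw [Nat.cast_mul, Nat.cast_mul, Nat.cast_pow, Nat.cast_prod] at h5
    rw [h5]
    congr 1
    apply Finset.prod_congr rfl
    intro i _
    rw [Nat.cast_sub (Nat.one_le_pow _ _ hq1), Nat.cast_pow, Nat.cast_one]
  have h6 : ∏ i ∈ Finset.range d, ((q : ℤ) ^ (2 * (i + 1)) - 1) =
      (∏ i ∈ Finset.range d, ((q : ℤ) ^ (i + 1) - (-1) ^ (i + 1))) *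
        ∏ i ∈ Finset.range d, ((q : ℤ) ^ (i + 1) + (-1) ^ (i + 1)) := by
    rw [← Finset.prod_mul_distrib]
    apply Finset.prod_congr rfl
    intro i _
    have h7 : ((-1 : ℤ) ^ (i + 1)) * ((-1 : ℤ) ^ (i + 1)) = 1 := by
      rw [← mul_pow]
      simp
    have h8 : (q : ℤ) ^ (2 * (i + 1)) = (q : ℤ) ^ (i + 1) * (q : ℤ) ^ (i + 1) := by
      rw [two_mul, pow_add]
    rw [h8]
    linear_combination h7
  rw [Finset.prod_mul_distrib] at h3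
  rw [h6] at h4
  have hP : ∏ i ∈ Finset.range d, ((q : ℤ) ^ (i + 1) - (-1) ^ (i + 1)) ≠ 0 := by
    rw [Finset.prod_ne_zero_iff]
    intro i _
    have h9 : (q : ℤ) ≤ (q : ℤ) ^ (i + 1) := le_self_pow₀ (by omega) (by omega)
    rcases neg_one_pow_eq_or ℤ (i + 1) with h10 | h10 <;> rw [h10] <;> omega
  have h7 : (∏ i ∈ Finset.range d, (q : ℤ) ^ (i + 1)) * (I : ℤ) =
      (q : ℤ) ^ d * (q : ℤ) ^ (d ^ 2) *
        ∏ i ∈ Finset.range d, ((q : ℤ) ^ (i + 1) + (-1) ^ (i + 1)) := by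
    apply mul_left_cancel₀ hP
    linear_combination (-(I : ℤ)) * h3 + (q : ℤ) ^ d * h4
  have hrI : (r : ℤ) ∣ (I : ℤ) := Int.natCast_dvd_natCast.2 h1
  have hrP := Nat.prime_iff_prime_int.1 hr.out
  have h8 : (r : ℤ) ∣ (q : ℤ) ^ d * (q : ℤ) ^ (d ^ 2) *
      ∏ i ∈ Finset.range d, ((q : ℤ) ^ (i + 1) + (-1) ^ (i + 1)) := by
    rw [← h7]
    exact Dvd.dvd.mul_left hrI _
  rcases hrP.dvd_or_dvd h8 with h9 | h9
  · left
    rcases hrP.dvd_or_dvd h9 with h10 | h10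
    · exact Int.natCast_dvd_natCast.1 (hrP.dvd_of_dvd_pow h10)
    · exact Int.natCast_dvd_natCast.1 (hrP.dvd_of_dvd_pow h10)
  · right
    obtain ⟨i, hi, hi2⟩ := (Prime.dvd_finsetProd_iff hrP _).1 h9
    exact ⟨i, Finset.mem_range.1 hi, hi2⟩

/-- order data for a prime dividing `q ^ j + (-1) ^ j` -/
theorem fu_order_data (q r : ℕ) [hr : Fact r.Prime] (hr2 : r ≠ 2) (hq : 1 ≤ q) (d i : ℕ)
    (hi : i < d) (h : (r : ℤ) ∣ (q : ℤ) ^ (i + 1) + (-1) ^ (i + 1)) :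
    ∃ o, 1 ≤ o ∧ o ≤ d ∧ r ∣ q ^ (2 * o) - 1 ∧
      ∀ m, 1 ≤ m → m ≤ o → ¬ (r : ℤ) ∣ (q : ℤ) ^ m - (-1) ^ m := by
  classical
  have : NeZero r := ⟨hr.out.ne_zero⟩
  obtain ⟨a, ha⟩ : ∃ a : ZMod r, a = -(q : ZMod r) := ⟨_, rfl⟩
  have hsq : ∀ j : ℕ, ((-1 : ZMod r) ^ j) * ((-1 : ZMod r) ^ j) = 1 := by
    intro j
    rw [← mul_pow]
    simp
  have hcastP : ∀ j : ℕ, ((r : ℤ) ∣ (q : ℤ) ^ j + (-1) ^ j) ↔ a ^ j = -1 := by
    intro j
    rw [← ZMod.intCast_zmod_eq_zero_iff_dvd]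
    push_cast
    rw [ha, neg_pow]
    constructor
    · intro h1
      linear_combination ((-1 : ZMod r) ^ j) * h1 - hsq j
    · intro h1
      linear_combination ((-1 : ZMod r) ^ j) * h1 - (q : ZMod r) ^ j * hsq j
  have hcastM : ∀ j : ℕ, ((r : ℤ) ∣ (q : ℤ) ^ j - (-1) ^ j) ↔ a ^ j = 1 := by
    intro j
    rw [← ZMod.intCast_zmod_eq_zero_iff_dvd]
    push_cast
    rw [ha, neg_pow]
    constructor
    · intro h1
      linear_combination ((-1 : ZMod r) ^ j) * h1 + hsq j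
    · intro h1
      linear_combination ((-1 : ZMod r) ^ j) * h1 - (q : ZMod r) ^ j * hsq j
  have hex : ∃ j, 1 ≤ j ∧ a ^ j = -1 := ⟨i + 1, by omega, (hcastP _).1 h⟩
  obtain ⟨o, ho⟩ : ∃ o, o = Nat.find hex := ⟨_, rfl⟩
  have ho1 : 1 ≤ o ∧ a ^ o = -1 := by
    rw [ho]
    exact Nat.find_spec hex
  have hod : o ≤ d := by
    have h1 := Nat.find_min' hex
      (show 1 ≤ i + 1 ∧ a ^ (i + 1) = -1 from ⟨by omega, (hcastP _).1 h⟩)
    omega
  have hne : (-1 : ZMod r) ≠ 1 := by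
    intro h1
    have h2 : ((2 : ℕ) : ZMod r) = 0 := by
      push_cast
      linear_combination -h1
    rw [ZMod.natCast_eq_zero_iff] at h2
    exact hr2 ((Nat.prime_dvd_prime_iff_eq hr.out Nat.prime_two).1 h2)
  refine ⟨o, ho1.1, hod, ?_, ?_⟩
  · rw [← ZMod.natCast_eq_zero_iff, Nat.cast_sub (Nat.one_le_pow _ _ hq), Nat.cast_pow,
      Nat.cast_one, sub_eq_zero]
    have h1 : a ^ (2 * o) = 1 := by
      rw [mul_comm, pow_mul, ho1.2]
      ring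
    rw [ha, neg_pow, pow_mul (-1 : ZMod r) 2 o] at h1
    simpa using h1
  · intro m hm1 hmo hdiv
    have h1 := (hcastM m).1 hdiv
    have hmne : m ≠ o := by
      rintro rfl
      rw [ho1.2] at h1
      exact hne h1
    have hlt : m < o := lt_of_le_of_ne hmo hmne
    have h2 : a ^ (o - m) = -1 := by
      have h3 : a ^ (o - m) * a ^ m = a ^ o := by rw [← pow_add, Nat.sub_add_cancel hmo]
      rw [h1, mul_one, ho1.2] at h3
      exact h3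
    have h4 := Nat.find_min hex (m := o - m) (by rw [← ho]; omega)
    exact h4 ⟨by omega, h2⟩

end Cfsg.Agent.Lib.helper99
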