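import Mathlib
import Cfsg.Agent.Lib.helper99.FxB
import Cfsg.Agent.Lib.helper99.FuE

/-!
# The centraliser in `Sp` of a field of self-adjoint matrices
-/

set_option autoImplicit false

namespace Cfsg.Agent.Lib.helper99

open Module Matrix Cfsg Cfsg.Geo
open Cfsg.Agent.Lib.helper17 Cfsg.Agent.Lib.helper95 Cfsg.Agent.Lib.helper24
open Cfsg.Agent.Lib.helper50

section fxc
variable {F : Type*} [Field F] {E : Type*} [Field E] [Algebra F E]

/-- the `E`-module structure on `F^n` given by an algebra map into the matrices -/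
@[reducible] def fxMod {n : Type*} [Fintype n] [DecidableEq n] (φ : E →ₐ[F] Matrix n n F) :
    Module E (n → F) where
  smul a v := φ a *ᵥ v
  one_smul v := by
    show φ 1 *ᵥ v = v
    rw [map_one, Matrix.one_mulVec]
  mul_smul a b v := by
    show φ (a * b) *ᵥ v = φ a *ᵥ (φ b *ᵥ v)
    rw [map_mul, Matrix.mulVec_mulVec]
  smul_zero a := Matrix.mulVec_zero _
  smul_add a u v := Matrix.mulVec_add _ u v
  add_smul a b v := by
    show φ (a + b) *ᵥ v = φ a *ᵥ v + φ b *ᵥ v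
    rw [map_add, Matrix.add_mulVec]
  zero_smul v := by
    show φ 0 *ᵥ v = 0
    rw [map_zero, Matrix.zero_mulVec]

theorem fx_tower {n : Type*} [Fintype n] [DecidableEq n] (φ : E →ₐ[F] Matrix n n F) :
    letI := fxMod φ
    IsScalarTower F E (n → F) := by
  letI := fxMod φ
  exact ⟨fun c a v => by
    show φ (c • a) *ᵥ v = c • (φ a *ᵥ v)
    rw [map_smul, Matrix.smul_mulVec]⟩

variable {d : ℕ}

theorem fx_S (φ : E →ₐ[F] Matrix (Fin d ⊕ Fin d) (Fin d ⊕ Fin d) F)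
    (hsa : ∀ a u v, sympForm d F (φ a *ᵥ u) v = sympForm d F u (φ a *ᵥ v))
    (halt : ∀ a v, sympForm d F (φ a *ᵥ v) v = 0) :
    letI := fxMod φ
    haveI := fx_tower φ
    FxS E (sympBilin d (F := F)) := by
  letI := fxMod φ
  haveI := fx_tower φ
  exact
    { alt := sympBilin_alt d
      nd := fun x hx => by
        by_contra hne
        obtain ⟨w, hw⟩ := exists_sympForm_ne_zero d x hne
        exact hw (hx w)
      sa := fun a u v => hsa a u v
      ealt := fun a v => halt a v }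

/-- the centraliser of the image of `φ` in the symplectic group -/
def fxCent (φ : E →ₐ[F] Matrix (Fin d ⊕ Fin d) (Fin d ⊕ Fin d) F) :
    Subgroup (GL (Fin d ⊕ Fin d) F) where
  carrier := {g | g ∈ spGL d F ∧ ∀ a : E, (g : Matrix (Fin d ⊕ Fin d) (Fin d ⊕ Fin d) F) * φ a =
    φ a * (g : Matrix (Fin d ⊕ Fin d) (Fin d ⊕ Fin d) F)}
  mul_mem' := by
    rintro a b ⟨ha, ha'⟩ ⟨hb, hb'⟩
    refine ⟨Subgroup.mul_mem _ ha hb, fun c => ?_⟩
    rw [Units.val_mul, mul_assoc, hb', ← mul_assoc, ha', mul_assoc]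
  one_mem' := ⟨Subgroup.one_mem _, fun c => by rw [Units.val_one, one_mul, mul_one]⟩
  inv_mem' := by
    rintro a ⟨ha, ha'⟩
    refine ⟨Subgroup.inv_mem _ ha, fun c => ?_⟩
    calc ((a⁻¹ : GL (Fin d ⊕ Fin d) F) : Matrix (Fin d ⊕ Fin d) (Fin d ⊕ Fin d) F) * φ c
        = ((a⁻¹ : GL (Fin d ⊕ Fin d) F) : Matrix (Fin d ⊕ Fin d) (Fin d ⊕ Fin d) F) * (φ c *
          (a : Matrix (Fin d ⊕ Fin d) (Fin d ⊕ Fin d) F)) *
          ((a⁻¹ : GL (Fin d ⊕ Fin d) F) : Matrix (Fin d ⊕ Fin d) (Fin d ⊕ Fin d) F) := by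
          rw [mul_assoc, mul_assoc, Units.mul_inv, mul_one]
      _ = φ c * ((a⁻¹ : GL (Fin d ⊕ Fin d) F) : Matrix (Fin d ⊕ Fin d) (Fin d ⊕ Fin d) F) := by
          rw [← ha', ← mul_assoc, Units.inv_mul, one_mul]

theorem mem_fxCent (φ : E →ₐ[F] Matrix (Fin d ⊕ Fin d) (Fin d ⊕ Fin d) F)
    (g : GL (Fin d ⊕ Fin d) F) :
    g ∈ fxCent φ ↔ g ∈ spGL d F ∧ ∀ a : E, (g : Matrix (Fin d ⊕ Fin d) (Fin d ⊕ Fin d) F) * φ a =
      φ a * (g : Matrix (Fin d ⊕ Fin d) (Fin d ⊕ Fin d) F) := Iff.rfl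

/-- the order of the centraliser -/
theorem fx_card_cent [Fintype F] [Fintype E]
    (φ : E →ₐ[F] Matrix (Fin d ⊕ Fin d) (Fin d ⊕ Fin d) F)
    (hsa : ∀ a u v, sympForm d F (φ a *ᵥ u) v = sympForm d F u (φ a *ᵥ v))
    (halt : ∀ a v, sympForm d F (φ a *ᵥ v) v = 0) :
    ∃ m, finrank F E * m = d ∧ Nat.card (fxCent φ) = Fintype.card E ^ (m ^ 2) *
      ∏ i ∈ Finset.range m, (Fintype.card E ^ (2 * (i + 1)) - 1) := by
  classical
  letI := fxMod φ
  haveI := fx_tower φ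
  have hS := fx_S φ hsa halt
  obtain ⟨m, hm, hcard⟩ := fx_card_iso (E := E) (sympBilin d (F := F)) hS
  refine ⟨m, ?_, ?_⟩
  · have h1 := Module.finrank_mul_finrank F E (Fin d ⊕ Fin d → F)
    rw [hm, fu_finrank] at h1
    have h2 : 2 * (finrank F E * m) = 2 * d := by rw [← h1]; ring
    omega
  · rw [← hcard]
    apply Nat.card_congr
    have hsmul : ∀ (a : E) (v : Fin d ⊕ Fin d → F), a • v = φ a *ᵥ v := fun a v => rfl
    refine Equiv.ofBijective (fun g => ⟨Matrix.toLin'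
      ((g : GL (Fin d ⊕ Fin d) F) : Matrix (Fin d ⊕ Fin d) (Fin d ⊕ Fin d) F), ?_, ?_⟩) ⟨?_, ?_⟩
    · intro u v
      rw [Matrix.toLin'_apply, Matrix.toLin'_apply, sympBilin_apply, sympBilin_apply]
      exact (mem_spGL_iff d g.1).mp g.2.1 u v
    · intro a v
      rw [Matrix.toLin'_apply, Matrix.toLin'_apply, hsmul, hsmul, Matrix.mulVec_mulVec, g.2.2 a,
        Matrix.mulVec_mulVec]
    · intro g g' hgg
      apply Subtype.ext
      apply Units.ext
      exact Matrix.toLin'.injective (congrArg Subtype.val hgg)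
    · rintro ⟨G, hG1, hG2⟩
      obtain ⟨M, hM⟩ : ∃ M : Matrix (Fin d ⊕ Fin d) (Fin d ⊕ Fin d) F, M = LinearMap.toMatrix' G :=
        ⟨_, rfl⟩
      have hMG : ∀ v, M *ᵥ v = G v := fun v => by
        rw [hM, ← Matrix.toLin'_apply, Matrix.toLin'_toMatrix']
      have hinj : Function.Injective M.mulVec := by
        intro u u' huu
        have h1 : G (u - u') = 0 := by
          rw [map_sub, ← hMG, ← hMG]
          exact sub_eq_zero.2 huu
        have h2 : u - u' = 0 := by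
          apply hS.nd
          intro w
          rw [← hG1, h1, LinearMap.map_zero, LinearMap.zero_apply]
        exact sub_eq_zero.1 h2
      have hMu : IsUnit M := Matrix.mulVec_injective_iff_isUnit.1 hinj
      obtain ⟨g, hg⟩ : ∃ g : GL (Fin d ⊕ Fin d) F,
          (g : Matrix (Fin d ⊕ Fin d) (Fin d ⊕ Fin d) F) = M := ⟨hMu.unit, rfl⟩
      have hgsp : g ∈ spGL d F := by
        rw [mem_spGL_iff]
        intro u v
        rw [hg, hMG, hMG]
        exact hG1 u v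
      have hgc : ∀ a : E, (g : Matrix (Fin d ⊕ Fin d) (Fin d ⊕ Fin d) F) * φ a =
          φ a * (g : Matrix (Fin d ⊕ Fin d) (Fin d ⊕ Fin d) F) := by
        intro a
        apply mat_ext_mulVec
        intro x
        rw [hg, ← Matrix.mulVec_mulVec, ← Matrix.mulVec_mulVec, hMG, hMG, ← hsmul, ← hsmul, hG2]
      refine ⟨⟨g, hgsp, hgc⟩, ?_⟩
      apply Subtype.ext
      show Matrix.toLin' (g : Matrix (Fin d ⊕ Fin d) (Fin d ⊕ Fin d) F) = G
      rw [hg, hM, Matrix.toLin'_toMatrix']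

end fxc

end Cfsg.Agent.Lib.helper99
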