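import Mathlib
import Cfsg.Prelude.Def_Classical
import Cfsg.Prelude.Def_GeometricClasses
import Cfsg.Agent.Lib.helper24.SfoDefs
import Cfsg.Agent.Lib.helper61.SfoCNTE
import Cfsg.Agent.Lib.helper27.HciCOUNT

/-!
# S5977/S5978, leaf HCI, piece COUNT1: the vectors of norm one of `lam ∘ QE`
(adapted from helper27's proof of the piece COUNT)
-/

set_option autoImplicit false

namespace Cfsg.Agent.Lib.helper99.HCI

open Matrix Cfsg.Geo Cfsg.Agent.Lib.helper24

/-- COUNT1 -/
theorem hci_count_one {F : Type*} [Field F] [Fintype F] {ι : Type} [Fintype ι] [DecidableEq ι]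
    {E : Type*} [Field E] [Fintype E] [Algebra F E] (hE : Module.finrank F E = 2) (h2 : (2 : E) ≠ 0)
    (Q : (ι → F) → F) (lam : E →ₗ[F] F) (hlam : lam ≠ 0) (d k : ℕ) (hdk : d = 2 * k)
    (QE : (Fin d → E) → E) (hQE : IsNondegenerateQuadraticForm QE)
    (Ψ : (Fin d → E) ≃ (ι → F)) (hQ : ∀ w, Q (Ψ w) = lam (QE w)) :
    Nat.card {v : ι → F // Q v = 1} = Fintype.card F * sfoCount QE 1 := by
  classical
  have hker := h27_hci_ker_card hE lam hlam
  have hqpos : 0 < Fintype.card F := Fintype.card_pos
  obtain ⟨ε, -, hε⟩ := sfo_count_even (F := E) h2 d k hdk QE hQE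
  have hN : ∀ c : E, c ≠ 0 → sfoCount QE c = sfoCount QE 1 := by
    intro c hc
    have h1 := hε c hc
    have h2' := hε 1 one_ne_zero
    exact_mod_cast h1.trans h2'.symm
  have hNc : ∀ c : E, (Finset.univ.filter (fun w : Fin d → E => QE w = c)).card = sfoCount QE c := by
    intro c
    rw [sfoCount, Nat.card_eq_fintype_card, Fintype.card_subtype]
  have hQ1 : Nat.card {v : ι → F // Q v = 1} =
      (Finset.univ.filter (fun w : Fin d → E => lam (QE w) = 1)).card := by
    rw [← Fintype.card_subtype, ← Nat.card_eq_fintype_card]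
    apply Nat.card_congr
    exact (Ψ.subtypeEquiv (fun w => by rw [hQ])).symm
  have hB : (Finset.univ.filter (fun w : Fin d → E => lam (QE w) = 1)).card =
      (Finset.univ.filter (fun c : E => lam c = 1)).card * sfoCount QE 1 := by
    rw [Finset.card_eq_sum_card_fiberwise (f := QE)
      (t := Finset.univ.filter (fun c : E => lam c = 1))
      (fun w hw => by
        simp only [Finset.coe_filter, Finset.mem_univ, true_and, Set.mem_setOf_eq] at hw ⊢
        exact hw)]
    rw [Finset.sum_congr rfl (g := fun _ => sfoCount QE 1), Finset.sum_const, smul_eq_mul]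
    intro c hc
    simp only [Finset.mem_filter, Finset.mem_univ, true_and] at hc
    have hc0 : c ≠ 0 := by
      rintro rfl
      rw [map_zero] at hc
      exact zero_ne_one hc
    rw [← hN c hc0, ← hNc c]
    congr 1
    ext w
    simp only [Finset.mem_filter, Finset.mem_univ, true_and]
    constructor
    · rintro ⟨_, h⟩; exact h
    · intro h; exact ⟨by rw [h]; exact hc, h⟩
  obtain ⟨e, he⟩ : ∃ e, lam e ≠ 0 := by
    by_contra h
    push Not at h
    exact hlam (LinearMap.ext h)
  obtain ⟨e1, he1⟩ : ∃ e1 : E, lam e1 = 1 :=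
    ⟨(lam e)⁻¹ • e, by rw [map_smul, smul_eq_mul, inv_mul_cancel₀ he]⟩
  have h1 : (Finset.univ.filter (fun c : E => lam c = 1)).card =
      Nat.card {c : E // lam c = 0} := by
    rw [← Fintype.card_subtype, ← Nat.card_eq_fintype_card]
    apply Nat.card_congr
    exact
      { toFun := fun c => ⟨c.1 - e1, by rw [map_sub, c.2, he1, sub_self]⟩
        invFun := fun c => ⟨c.1 + e1, by rw [map_add, c.2, he1, zero_add]⟩
        left_inv := fun c => Subtype.ext (by simp)
        right_inv := fun c => Subtype.ext (by simp) }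
  have hKq : Nat.card {c : E // lam c = 0} = Fintype.card F := by
    have : Fintype.card F * Nat.card {c : E // lam c = 0} = Fintype.card F * Fintype.card F := by
      rw [hker, pow_two]
    exact Nat.eq_of_mul_eq_mul_left hqpos this
  rw [hQ1, hB, h1, hKq]

end Cfsg.Agent.Lib.helper99.HCI
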