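import Mathlib
import Cfsg.Agent.Lib.helper99.FxA

/-!
# S5977 / S5978, leaf HCI, piece FORM: the `E`-bilinear symmetric form behind an `F`-bilinear
symmetric form for which the scalars of `E` are self-adjoint.
-/

set_option autoImplicit false

namespace Cfsg.Agent.Lib.helper99.HCI

open Module Cfsg.Agent.Lib.helper99

/-- FORM -/
theorem hci_form {F : Type*} [Field F] {E : Type*} [Field E] [Algebra F E] [FiniteDimensional F E]
    {V : Type*} [AddCommGroup V] [Module F V] [Module E V] [IsScalarTower F E V]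
    (B : V →ₗ[F] V →ₗ[F] F) (hsymm : ∀ u v, B u v = B v u)
    (hnd : ∀ u, (∀ v, B u v = 0) → u = 0) (hsa : ∀ (a : E) (u v : V), B (a • u) v = B u (a • v))
    (lam : E →ₗ[F] F) (hlam : lam ≠ 0) :
    ∃ β : V →ₗ[E] V →ₗ[E] E, (∀ u v, β u v = β v u) ∧ (∀ u, (∀ v, β u v = 0) → u = 0) ∧
      ∀ u v, B u v = lam (β u v) := by
  classical
  have hone : ∀ u v, B u v = lam (fxB B lam hlam u v) := by
    intro u v
    have h := fxB_spec B lam hlam u v 1
    rwa [one_smul, one_mul] at h
  refine ⟨LinearMap.mk₂ E (fxB B lam hlam) ?_ ?_ ?_ ?_, ?_, ?_, ?_⟩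
  · intro u u' v
    exact fxB_uniq B lam hlam _ _ _ (fun c => by
      rw [smul_add, map_add, LinearMap.add_apply, fxB_spec B lam hlam, fxB_spec B lam hlam,
        mul_add, map_add])
  · intro a u v
    exact fxB_uniq B lam hlam _ _ _ (fun c => by
      rw [smul_smul, fxB_spec B lam hlam, smul_eq_mul, mul_assoc])
  · intro u v v'
    exact fxB_uniq B lam hlam _ _ _ (fun c => by
      rw [map_add, fxB_spec B lam hlam, fxB_spec B lam hlam, mul_add, map_add])
  · intro a u v
    exact fxB_uniq B lam hlam _ _ _ (fun c => by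
      rw [← hsa, smul_smul, fxB_spec B lam hlam, smul_eq_mul, mul_comm a c, mul_assoc])
  · intro u v
    rw [LinearMap.mk₂_apply, LinearMap.mk₂_apply]
    apply fxB_uniq
    intro c
    rw [hsymm, ← hsa, fxB_spec B lam hlam]
  · intro u h
    apply hnd
    intro v
    have hv := h v
    rw [LinearMap.mk₂_apply] at hv
    rw [hone, hv, map_zero]
  · intro u v
    rw [LinearMap.mk₂_apply]
    exact hone u v

end Cfsg.Agent.Lib.helper99.HCI
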