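import Mathlib
import Cfsg.Prelude.Def_Classical
import Cfsg.Prelude.Def_GeometricClasses
import Cfsg.Agent.Lib.helper24.SfoDefs
import Cfsg.Agent.Lib.helper24.SfoOIDX
import Cfsg.Agent.Lib.helper99.FxB
import Cfsg.Agent.Lib.helper99.FxC
import Cfsg.Agent.Lib.helper99.HciFORM
import Cfsg.Agent.Lib.helper27.HciCOORD
import Cfsg.Agent.Lib.helper58.HciEMBED
import Cfsg.Agent.Lib.helper27.HciCOUNT
import Cfsg.Agent.Lib.helper99.HciCOUNT1

/-!
# S5977 / S5978, leaf HCI: the isometries of `Q` normalising a self-adjoint quadratic field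
subalgebra contain a copy of the isometry group of a nondegenerate form over the field with `q^2`
elements (assembly of the pieces FORM, COORD, EMBED, COUNT with the landed `sfo_card_lb`).
-/

set_option autoImplicit false
set_option linter.style.haveILetI false

namespace Cfsg.Agent.Lib.helper99.HCI

open Module Matrix Cfsg.Geo Cfsg.Agent.Lib.helper24 Cfsg.Agent.Lib.helper99

/-- arithmetic of the order of `q` and `q^2` modulo `r` -/
theorem hci_ord (q r : ℕ) [hr : Fact r.Prime] (hrq : ¬ r ∣ q)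
    (hi : orderOf ((q : ℕ) : ZMod r) % 4 = 0) :
    Even (orderOf ((q ^ 2 : ℕ) : ZMod r)) ∧ ¬ r ∣ q ^ 2 - 1 := by
  have hq0 : ((q : ℕ) : ZMod r) ≠ 0 := by
    intro h
    exact hrq ((ZMod.natCast_eq_zero_iff q r).1 h)
  have hpos : 0 < orderOf ((q : ℕ) : ZMod r) := by
    apply orderOf_pos_iff.2
    apply isOfFinOrder_iff_pow_eq_one.2
    exact ⟨r - 1, Nat.sub_pos_of_lt hr.out.one_lt, ZMod.pow_card_sub_one_eq_one hq0⟩
  have h4 : 4 ≤ orderOf ((q : ℕ) : ZMod r) := by omega
  constructor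
  · rw [Nat.cast_pow, orderOf_pow' _ (by norm_num : (2 : ℕ) ≠ 0)]
    have hg : Nat.gcd (orderOf ((q : ℕ) : ZMod r)) 2 = 2 :=
      Nat.gcd_eq_right (by omega)
    rw [hg]
    rw [Nat.even_iff]
    omega
  · intro hdvd
    have h1 : ((q : ℕ) : ZMod r) ^ 2 = 1 := by
      have h2 : (((q ^ 2 - 1 : ℕ) : ℕ) : ZMod r) = 0 := (ZMod.natCast_eq_zero_iff _ r).2 hdvd
      have hq1 : 1 ≤ q ^ 2 := Nat.one_le_pow _ _ (Nat.pos_of_ne_zero (by rintro rfl; exact hrq (dvd_zero r)))
      rw [Nat.cast_sub hq1, Nat.cast_pow, Nat.cast_one, sub_eq_zero] at h2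
      exact h2
    have h3 := orderOf_dvd_of_pow_eq_one h1
    have h5 := Nat.le_of_dvd (by norm_num) h3
    omega

/-- the data for an abstract quadratic extension `E` mapped into the matrices -/
theorem hci_data' {F : Type*} [Field F] [Fintype F] {ι : Type} [Fintype ι] [DecidableEq ι]
    {E : Type*} [Field E] [Fintype E] [Algebra F E]
    (h2 : (2 : F) ≠ 0) (d : ℕ) (hι : Fintype.card ι = 2 * d) (Q : (ι → F) → F)
    (hQ : IsNondegenerateQuadraticForm Q) (hkE : finrank F E = 2)
    (φ : E →ₐ[F] Matrix ι ι F)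
    (hsa : ∀ a u v, QuadraticMap.polar Q (φ a *ᵥ u) v = QuadraticMap.polar Q u (φ a *ᵥ v)) :
    ∃ QE : (Fin d → E) → E, IsNondegenerateQuadraticForm QE ∧
      Nat.card ↥(sfoIsom QE) ∣
        Nat.card ↥(Cfsg.isometryGroup F Q ⊓ subalgebraNormalizer φ.range) ∧
      (Even d → Nat.card {v : ι → F // Q v = 1} = Fintype.card F * sfoCount QE 1) ∧
      (Even d → Fintype.card F * (Fintype.card F - 1) * sfoCount QE 1 +
          Nat.card {v : ι → F // Q v = 0} = Fintype.card F ^ (2 * d)) := by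
  classical
  letI := fxMod φ
  haveI := fx_tower φ
  have hsmul : ∀ (a : E) (v : ι → F), a • v = φ a *ᵥ v := fun a v => rfl
  haveI : FiniteDimensional F E := FiniteDimensional.of_finrank_pos (by rw [hkE]; norm_num)
  -- the polar form as a bilinear map
  obtain ⟨B, hB⟩ : ∃ B : (ι → F) →ₗ[F] (ι → F) →ₗ[F] F, ∀ u v, B u v = QuadraticMap.polar Q u v :=
    ⟨LinearMap.mk₂ F (QuadraticMap.polar Q) hQ.polar_bilinear.add_left
      (fun c x v => by rw [hQ.polar_bilinear.smul_left, smul_eq_mul])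
      hQ.polar_bilinear.add_right
      (fun c v x => by rw [hQ.polar_bilinear.smul_right, smul_eq_mul]), fun u v => rfl⟩
  have hsymm : ∀ u v, B u v = B v u := fun u v => by
    rw [hB, hB, QuadraticMap.polar_comm]
  have hBQ : ∀ v, B v v = 2 * Q v := by
    intro v
    rw [hB, QuadraticMap.polar, ← two_smul F v, hQ.smul]
    ring
  have hnd : ∀ u, (∀ v, B u v = 0) → u = 0 := by
    intro u hu
    by_contra hne
    obtain ⟨x, hx⟩ := (hQ.nondegenerate u hne).2
    exact hx (by rw [← hB, hu])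
  have hsaB : ∀ (a : E) (u v : ι → F), B (a • u) v = B u (a • v) := by
    intro a u v
    rw [hB, hB, hsmul, hsmul, hsa]
  obtain ⟨lam, hlam⟩ := fx_exists_lam (F := F) (E := E)
  obtain ⟨β, hβs, hβn, hβ⟩ := hci_form B hsymm hnd hsaB lam hlam
  -- dimensions
  haveI : FiniteDimensional E (ι → F) := FiniteDimensional.right F E (ι → F)
  have hd : finrank E (ι → F) = d := by
    have h1 := Module.finrank_mul_finrank F E (ι → F)
    rw [hkE, Module.finrank_fintype_fun_eq_card, hι] at h1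
    omega
  obtain ⟨QE, Ψ, hQE, hΨQ⟩ := h27_hci_coord h2 Q B hBQ lam β hβs hβn hβ d hd
  have hemb := hci_embed φ Q (⇑lam) d QE (Ψ.restrictScalars F)
    (fun a w => by
      rw [LinearEquiv.restrictScalars_apply, LinearEquiv.restrictScalars_apply, map_smul, hsmul])
    (fun w => by rw [LinearEquiv.restrictScalars_apply]; exact hΨQ w)
  have h2E : (2 : E) ≠ 0 := by
    intro h
    apply h2
    apply (algebraMap F E).injective
    rw [map_ofNat, map_zero]
    exact h
  refine ⟨QE, hQE, hemb, ?_, ?_⟩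
  · rintro ⟨k, hk⟩
    exact hci_count_one hkE h2E Q lam hlam d k (by omega) QE hQE Ψ.toEquiv hΨQ
  · rintro ⟨k, hk⟩
    exact hci_count hkE h2E Q lam hlam d k (by omega) QE hQE Ψ.toEquiv hΨQ

universe u

/-- the data: `K` a self-adjoint quadratic field subalgebra -/
theorem hci_data {F : Type u} [Field F] [Fintype F] {ι : Type} [Fintype ι] [DecidableEq ι]
    (h2 : (2 : F) ≠ 0) (d : ℕ) (hι : Fintype.card ι = 2 * d) (Q : (ι → F) → F)
    (hQ : IsNondegenerateQuadraticForm Q) (K : Subalgebra F (Matrix ι ι F))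
    (hK : IsFieldSubalgebra 2 K) (hKf : IsSelfAdjointFor (QuadraticMap.polar Q) K) :
    ∃ (K' : Type u) (_ : Field K') (_ : Fintype K') (Q' : (Fin d → K') → K'),
      Fintype.card K' = Fintype.card F ^ 2 ∧ (2 : K') ≠ 0 ∧
      (∀ r : ℕ, (r : F) ≠ 0 → (r : K') ≠ 0) ∧
      IsNondegenerateQuadraticForm Q' ∧
      Nat.card ↥(sfoIsom Q') ∣
        Nat.card ↥(Cfsg.isometryGroup F Q ⊓ subalgebraNormalizer K) ∧
      (Even d → Nat.card {v : ι → F // Q v = 1} = Fintype.card F * sfoCount Q' 1) ∧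
      (Even d → Fintype.card F * (Fintype.card F - 1) * sfoCount Q' 1 +
          Nat.card {v : ι → F // Q v = 0} = Fintype.card F ^ (2 * d)) := by
  classical
  have hne : Nonempty ι := by
    by_contra hcon
    rw [not_nonempty_iff] at hcon
    have h1 := hK.finrank_eq
    have : Subsingleton ↥K := ⟨fun a b => Subtype.ext (Subsingleton.elim _ _)⟩
    rw [Module.finrank_zero_of_subsingleton] at h1
    omega
  have hF : IsField ↥K :=
    { exists_pair_ne := ⟨0, 1, fun h => by
        have h1 : (0 : Matrix ι ι F) = 1 := congrArg Subtype.val h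
        exact zero_ne_one h1⟩
      mul_comm := fun a b => Subtype.ext (hK.comm a.1 a.2 b.1 b.2)
      mul_inv_cancel := fun {a} ha => by
        obtain ⟨y, hy, hay⟩ := hK.inv a.1 a.2 (fun h => ha (Subtype.ext h))
        exact ⟨⟨y, hy⟩, Subtype.ext hay⟩ }
  letI : Field ↥K := hF.toField
  letI : Fintype ↥K := Fintype.ofFinite _
  have hrange : K.val.range = K := K.range_val
  obtain ⟨QE, hQE, hemb, hc1, hc0⟩ := hci_data' (F := F) (E := ↥K) h2 d hι Q hQ hK.finrank_eq K.val
    (fun a u v => hKf a.1 a.2 u v)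
  rw [hrange] at hemb
  refine ⟨↥K, inferInstance, inferInstance, QE, ?_, ?_, ?_, hQE, hemb, hc1, hc0⟩
  · rw [Module.card_eq_pow_finrank (K := F) (V := ↥K), hK.finrank_eq]
  · intro h
    apply h2
    apply (algebraMap F ↥K).injective
    rw [map_ofNat, map_zero]
    exact h
  · intro r hr h
    apply hr
    apply (algebraMap F ↥K).injective
    rw [map_natCast, map_zero]
    exact h

end Cfsg.Agent.Lib.helper99.HCI
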