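import Mathlib
import Cfsg.Prelude.Def_Classical
import Cfsg.Prelude.Def_GeometricClasses
import Cfsg.Agent.Lib.helper24.SfoDefs
import Cfsg.Agent.Lib.helper24.QuadExt2
import Cfsg.Agent.Lib.helper69.FeNDP
import Cfsg.Agent.Lib.helper69.FeNDM
import Cfsg.Agent.Lib.helper99.HciCore

/-!
# S5977 / S5978, block [C-I]: the leaves CI1P / CI1M of helper20's skeleton (copies by helper99,
prefixed names), from `Cfsg.Agent.Lib.helper99.HCI.hci_data`.
-/

set_option autoImplicit false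
open scoped MatrixGroups

namespace Cfsg.Agent.Lib.helper20.BG

universe u

/-- CI1P (copy by helper99): a copy of the isometry group of a nondegenerate `d`-dimensional
quadratic form over a field with `q ^ 2` elements inside `O ⊓ N(K)`; for even `d` the numbers of
vectors of norm 1 match. -/
theorem h99_ci1_plus {F : Type u} [Field F] [Fintype F] {p : ℕ} [Fact p.Prime] [CharP F p] {q : ℕ}
    (hq : Fintype.card F = q) (hodd : Odd q) (d : ℕ) (hd : 4 ≤ d)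
    (K : Subalgebra F (Matrix (Fin d ⊕ Fin d) (Fin d ⊕ Fin d) F)) (hK : Cfsg.Geo.IsFieldSubalgebra 2 K)
    (hKf : Cfsg.Geo.IsSelfAdjointFor (QuadraticMap.polar (Cfsg.quadFormPlus d F)) K)
    (r : ℕ) [Fact r.Prime] (hrp : r ≠ p) :
    ∃ (K' : Type u) (_ : Field K') (_ : Fintype K') (Q' : (Fin d → K') → K'),
      Fintype.card K' = q ^ 2 ∧ (2 : K') ≠ 0 ∧ (r : K') ≠ 0 ∧
      Cfsg.Geo.IsNondegenerateQuadraticForm Q' ∧
      Nat.card ↥(Cfsg.Agent.Lib.helper24.sfoIsom Q') ∣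
        Nat.card ↥(Cfsg.isometryGroup F (Cfsg.quadFormPlus d F) ⊓ Cfsg.Geo.subalgebraNormalizer K) ∧
      (Even d → Nat.card {v : Fin d ⊕ Fin d → F // Cfsg.quadFormPlus d F v = 1} =
        q * Cfsg.Agent.Lib.helper24.sfoCount Q' 1) := by
  classical
  subst hq
  have h2 : (2 : F) ≠ 0 := Cfsg.Agent.Lib.helper24.qe_two_ne_zero_iff_odd.2 hodd
  have hι : Fintype.card (Fin d ⊕ Fin d) = 2 * d := by
    rw [Fintype.card_sum, Fintype.card_fin]
    omega
  have hrF : (r : F) ≠ 0 := by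
    intro h
    have h1 := (CharP.cast_eq_zero_iff F p r).1 h
    exact hrp ((Nat.prime_dvd_prime_iff_eq Fact.out Fact.out).1 h1).symm
  obtain ⟨K', i1, i2, Q', hc, h2', hr', hQ', hdvd, hc1, -⟩ :=
    Cfsg.Agent.Lib.helper99.HCI.hci_data h2 d hι (Cfsg.quadFormPlus d F)
      (Cfsg.Agent.Lib.helper96.FE.fe_nd_plus d) K hK hKf
  exact ⟨K', i1, i2, Q', hc, h2', hr' r hrF, hQ', hdvd, hc1⟩

/-- CI1M (copy by helper99): the same for the minus-type form. -/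
theorem h99_ci1_minus {F : Type u} [Field F] [Fintype F] {p : ℕ} [Fact p.Prime] [CharP F p] {q : ℕ}
    (hq : Fintype.card F = q) (hodd : Odd q) (d : ℕ) (hd : 4 ≤ d) (a b : F)
    (hab : ∀ x y : F, x ^ 2 + a * x * y + b * y ^ 2 = 0 → x = 0 ∧ y = 0)
    (K : Subalgebra F (Matrix ((Fin (d - 1) ⊕ Fin (d - 1)) ⊕ Fin 2) ((Fin (d - 1) ⊕ Fin (d - 1)) ⊕ Fin 2) F))
    (hK : Cfsg.Geo.IsFieldSubalgebra 2 K)
    (hKf : Cfsg.Geo.IsSelfAdjointFor (QuadraticMap.polar (Cfsg.quadFormMinus (d - 1) F a b)) K)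
    (r : ℕ) [Fact r.Prime] (hrp : r ≠ p) :
    ∃ (K' : Type u) (_ : Field K') (_ : Fintype K') (Q' : (Fin d → K') → K'),
      Fintype.card K' = q ^ 2 ∧ (2 : K') ≠ 0 ∧ (r : K') ≠ 0 ∧
      Cfsg.Geo.IsNondegenerateQuadraticForm Q' ∧
      Nat.card ↥(Cfsg.Agent.Lib.helper24.sfoIsom Q') ∣
        Nat.card ↥(Cfsg.isometryGroup F (Cfsg.quadFormMinus (d - 1) F a b) ⊓
          Cfsg.Geo.subalgebraNormalizer K) ∧
      (Even d → Nat.card {v : (Fin (d - 1) ⊕ Fin (d - 1)) ⊕ Fin 2 → F //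
          Cfsg.quadFormMinus (d - 1) F a b v = 1} = q * Cfsg.Agent.Lib.helper24.sfoCount Q' 1) := by
  classical
  subst hq
  have h2 : (2 : F) ≠ 0 := Cfsg.Agent.Lib.helper24.qe_two_ne_zero_iff_odd.2 hodd
  have hι : Fintype.card ((Fin (d - 1) ⊕ Fin (d - 1)) ⊕ Fin 2) = 2 * d := by
    rw [Fintype.card_sum, Fintype.card_sum, Fintype.card_fin, Fintype.card_fin]
    omega
  have hrF : (r : F) ≠ 0 := by
    intro h
    have h1 := (CharP.cast_eq_zero_iff F p r).1 h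
    exact hrp ((Nat.prime_dvd_prime_iff_eq Fact.out Fact.out).1 h1).symm
  obtain ⟨K', i1, i2, Q', hc, h2', hr', hQ', hdvd, hc1, -⟩ :=
    Cfsg.Agent.Lib.helper99.HCI.hci_data h2 d hι (Cfsg.quadFormMinus (d - 1) F a b)
      (Cfsg.Agent.Lib.helper96.FE.fe_nd_minus h2 (d - 1) a b hab) K hK hKf
  exact ⟨K', i1, i2, Q', hc, h2', hr' r hrF, hQ', hdvd, hc1⟩

end Cfsg.Agent.Lib.helper20.BG
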