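import Mathlib
import Cfsg.Prelude.Def_GeometricClasses

set_option autoImplicit false

/-!
# Extraspecial groups of order 27 in `GL_3`: the normal form (helper99)
-/

namespace Cfsg.Agent.Lib.helper99.Ex27

open Cfsg Matrix

variable {F : Type*} [Field F]

/-- the cyclic shift `e_i ↦ e_{i+1}` -/
def Xm : Matrix (Fin 3) (Fin 3) F := !![0, 0, 1; 1, 0, 0; 0, 1, 0]

/-- `diag(1, γ, γ²)` -/
def Zm (γ : F) : Matrix (Fin 3) (Fin 3) F := !![1, 0, 0; 0, γ, 0; 0, 0, γ ^ 2]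

theorem gamma_cube (γ : F) (hγ : γ ^ 2 + γ + 1 = 0) : γ ^ 3 = 1 := by
  linear_combination (γ - 1) * hγ

theorem gamma_ne_one (γ : F) (hγ : γ ^ 2 + γ + 1 = 0) (h3 : (3 : F) ≠ 0) : γ ≠ 1 := by
  rintro rfl
  apply h3
  linear_combination hγ

theorem gamma_ne_zero (γ : F) (hγ : γ ^ 2 + γ + 1 = 0) : γ ≠ 0 := by
  rintro rfl
  simp at hγ

theorem gamma_sq (γ : F) (hγ : γ ^ 2 + γ + 1 = 0) : (γ ^ 2) ^ 2 + γ ^ 2 + 1 = 0 := by
  linear_combination (γ ^ 2 - γ + 1) * hγ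

theorem Xm_cube : (Xm : Matrix (Fin 3) (Fin 3) F) * Xm * Xm = 1 := by
  ext i j
  fin_cases i <;> fin_cases j <;> simp [Xm, Matrix.mul_apply, Fin.sum_univ_three]

theorem Zm_cube (γ : F) (hγ : γ ^ 2 + γ + 1 = 0) : Zm γ * Zm γ * Zm γ = 1 := by
  have h3 := gamma_cube γ hγ
  ext i j
  fin_cases i <;> fin_cases j <;> simp [Zm, Matrix.mul_apply, Fin.sum_univ_three]
  · linear_combination h3
  · linear_combination (γ ^ 3 + 1) * h3

theorem Zm_mul_Xm (γ : F) (hγ : γ ^ 2 + γ + 1 = 0) : Zm γ * Xm = γ • (Xm * Zm γ) := by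
  have h3 := gamma_cube γ hγ
  ext i j
  fin_cases i <;> fin_cases j <;> simp [Zm, Xm, Matrix.mul_apply, Fin.sum_univ_three] <;>
    first | ring1 | linear_combination -h3 | linear_combination h3

theorem det_Xm : (Xm : Matrix (Fin 3) (Fin 3) F).det = 1 := by
  simp [Xm, Matrix.det_fin_three]

theorem det_Zm (γ : F) (hγ : γ ^ 2 + γ + 1 = 0) : (Zm γ).det = 1 := by
  have h3 := gamma_cube γ hγ
  simp [Zm, Matrix.det_fin_three]
  linear_combination h3

/-- the candidate `ρ`-eigenvector of a matrix of order three -/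
def ev (A : Matrix (Fin 3) (Fin 3) F) (ρ : F) (w : Fin 3 → F) : Fin 3 → F :=
  A *ᵥ (A *ᵥ w) + ρ • (A *ᵥ w) + ρ ^ 2 • w

theorem mulVec_cube (A : Matrix (Fin 3) (Fin 3) F) (hA : A * A * A = 1) (w : Fin 3 → F) :
    A *ᵥ (A *ᵥ (A *ᵥ w)) = w := by
  rw [Matrix.mulVec_mulVec, Matrix.mulVec_mulVec, hA, Matrix.one_mulVec]

theorem ev_eig (A : Matrix (Fin 3) (Fin 3) F) (hA : A * A * A = 1) (ρ : F) (hρ : ρ ^ 3 = 1)
    (w : Fin 3 → F) : A *ᵥ ev A ρ w = ρ • ev A ρ w := by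
  unfold ev
  rw [Matrix.mulVec_add, Matrix.mulVec_add, Matrix.mulVec_smul, Matrix.mulVec_smul,
    mulVec_cube A hA]
  ext i
  simp only [Pi.add_apply, Pi.smul_apply, smul_eq_mul]
  linear_combination (-(w i)) * hρ

theorem ev_sum (A : Matrix (Fin 3) (Fin 3) F) (ω : F) (hω : ω ^ 2 + ω + 1 = 0) (w : Fin 3 → F) :
    ev A 1 w + ev A ω w + ev A (ω ^ 2) w = (3 : F) • (A *ᵥ (A *ᵥ w)) := by
  unfold ev
  ext i
  simp only [Pi.add_apply, Pi.smul_apply, smul_eq_mul]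
  linear_combination ((A *ᵥ w) i) * hω + (w i) * (ω ^ 2 - ω + 1) * hω

theorem ev_ne (A : Matrix (Fin 3) (Fin 3) F) (hA : A * A * A = 1) (ω : F)
    (hω : ω ^ 2 + ω + 1 = 0) (h3 : (3 : F) ≠ 0) (w : Fin 3 → F) (hw : w ≠ 0) :
    ev A 1 w ≠ 0 ∨ ev A ω w ≠ 0 ∨ ev A (ω ^ 2) w ≠ 0 := by
  by_contra hcon
  push Not at hcon
  obtain ⟨h1, h2, h4⟩ := hcon
  have hs := ev_sum A ω hω w
  rw [h1, h2, h4, add_zero, add_zero] at hs
  have h5 : A *ᵥ (A *ᵥ w) = 0 := by
    rcases smul_eq_zero.1 hs.symm with h | h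
    · exact absurd h h3
    · exact h
  apply hw
  rw [← mulVec_cube A hA w, h5, Matrix.mulVec_zero]

theorem ev_comm (A B : Matrix (Fin 3) (Fin 3) F) (ρ c : F) (w : Fin 3 → F)
    (hBA : B * A = A * B) (hBw : B *ᵥ w = c • w) : B *ᵥ ev A ρ w = c • ev A ρ w := by
  have h1 : B *ᵥ (A *ᵥ w) = c • (A *ᵥ w) := by
    rw [Matrix.mulVec_mulVec, hBA, ← Matrix.mulVec_mulVec, hBw, Matrix.mulVec_smul]
  have h2 : B *ᵥ (A *ᵥ (A *ᵥ w)) = c • (A *ᵥ (A *ᵥ w)) := by
    rw [Matrix.mulVec_mulVec, hBA, ← Matrix.mulVec_mulVec, h1, Matrix.mulVec_smul]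
  unfold ev
  rw [Matrix.mulVec_add, Matrix.mulVec_add, Matrix.mulVec_smul, Matrix.mulVec_smul, h1, h2, hBw]
  ext i
  simp only [Pi.add_apply, Pi.smul_apply, smul_eq_mul]
  ring

/-- one step of the eigenvector chain `v, Bv, B²v` -/
theorem chain_step (A B C : Matrix (Fin 3) (Fin 3) F) (hCB : C * B = B * C)
    (hAB : A * B = C * B * A) (x : Fin 3 → F) (a c : F) (hAx : A *ᵥ x = a • x)
    (hCx : C *ᵥ x = c • x) :
    A *ᵥ (B *ᵥ x) = (a * c) • (B *ᵥ x) ∧ C *ᵥ (B *ᵥ x) = c • (B *ᵥ x) := by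
  have h2 : C *ᵥ (B *ᵥ x) = c • (B *ᵥ x) := by
    rw [Matrix.mulVec_mulVec, hCB, ← Matrix.mulVec_mulVec, hCx, Matrix.mulVec_smul]
  refine ⟨?_, h2⟩
  rw [Matrix.mulVec_mulVec, hAB, ← Matrix.mulVec_mulVec, hAx, Matrix.mulVec_smul,
    ← Matrix.mulVec_mulVec, h2, smul_smul]

/-- a cube root of unity is a power of a primitive one -/
theorem cube_root_cases (γ α : F) (hγ : γ ^ 2 + γ + 1 = 0) (hα : α ^ 3 = 1) :
    α = 1 ∨ α = γ ∨ α = γ ^ 2 := by
  have h : (α - 1) * ((α - γ) * (α - γ ^ 2)) = 0 := by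
    have h3 := gamma_cube γ hγ
    linear_combination hα - h3 - (α ^ 2 - α * γ) * hγ
  rcases mul_eq_zero.1 h with h | h
  · left; exact sub_eq_zero.1 h
  · rcases mul_eq_zero.1 h with h | h
    · right; left; exact sub_eq_zero.1 h
    · right; right; exact sub_eq_zero.1 h

theorem exists_mulVec_ne (C : Matrix (Fin 3) (Fin 3) F) (hC1 : C ≠ 1) :
    ∃ u : Fin 3 → F, C *ᵥ u ≠ u := by
  by_contra hcon
  push Not at hcon
  apply hC1
  ext i j
  have := congrFun (hcon (Pi.single j 1)) i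
  rw [Matrix.mulVec_single_one] at this
  rw [Matrix.one_apply]
  simpa [Pi.single_apply] using this

theorem mu_inj (α γ : F) (hα0 : α ≠ 0) (hγ : γ ^ 2 + γ + 1 = 0) (h3 : (3 : F) ≠ 0) :
    Function.Injective ![α, α * γ, α * γ ^ 2] := by
  have hγ0 := gamma_ne_zero γ hγ
  have hγ1 := gamma_ne_one γ hγ h3
  have hγ3 := gamma_cube γ hγ
  have e01 : α ≠ α * γ := by
    intro h
    apply hγ1
    have h2 : α * 1 = α * γ := by rw [mul_one]; exact h
    exact (mul_left_cancel₀ hα0 h2).symm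
  have e02 : α ≠ α * γ ^ 2 := by
    intro h
    apply hγ1
    have h2 : α * 1 = α * γ ^ 2 := by rw [mul_one]; exact h
    have h4 := mul_left_cancel₀ hα0 h2
    calc γ = γ * 1 := by ring
      _ = γ * γ ^ 2 := by rw [← h4]
      _ = 1 := by rw [← hγ3]; ring
  have e12 : α * γ ≠ α * γ ^ 2 := by
    intro h
    apply hγ1
    have h4 := mul_left_cancel₀ hα0 h
    have h5 : γ * 1 = γ * γ := by rw [mul_one, ← pow_two]; exact h4
    exact (mul_left_cancel₀ hγ0 h5).symm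
  intro i j h
  fin_cases i <;> fin_cases j <;>
    first
    | rfl
    | exact absurd h e01
    | exact absurd h.symm e01
    | exact absurd h e02
    | exact absurd h.symm e02
    | exact absurd h e12
    | exact absurd h.symm e12

/-- the normal form of a non-commuting pair of matrices of order three with central commutator -/
theorem normal_form_mat (ω : F) (hω : ω ^ 2 + ω + 1 = 0) (h3 : (3 : F) ≠ 0)
    (A B C : Matrix (Fin 3) (Fin 3) F) (hA : A * A * A = 1) (hB : B * B * B = 1)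
    (hC : C * C * C = 1) (hC1 : C ≠ 1) (hCA : C * A = A * C) (hCB : C * B = B * C)
    (hAB : A * B = C * B * A) :
    ∃ (γ α : F) (P : Matrix (Fin 3) (Fin 3) F), γ ^ 2 + γ + 1 = 0 ∧ α ^ 3 = 1 ∧ IsUnit P ∧
      A * P = α • (P * Zm γ) ∧ B * P = P * Xm ∧ C * P = γ • P := by
  obtain ⟨u, hu⟩ := exists_mulVec_ne C hC1
  set w := C *ᵥ u - u with hw
  have hw0 : w ≠ 0 := fun h => hu (sub_eq_zero.1 h)
  have hev1 : ev C 1 w = 0 := by
    unfold ev
    rw [hw, Matrix.mulVec_sub, Matrix.mulVec_sub, mulVec_cube C hC]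
    simp only [one_smul, one_pow]
    abel
  obtain ⟨γ, hγ, w', hw'0, hCw'⟩ : ∃ γ : F, γ ^ 2 + γ + 1 = 0 ∧
      ∃ w' : Fin 3 → F, w' ≠ 0 ∧ C *ᵥ w' = γ • w' := by
    rcases ev_ne C hC ω hω h3 w hw0 with h | h | h
    · exact absurd hev1 h
    · exact ⟨ω, hω, _, h, ev_eig C hC ω (gamma_cube ω hω) w⟩
    · exact ⟨ω ^ 2, gamma_sq ω hω, _, h, ev_eig C hC (ω ^ 2) (gamma_cube _ (gamma_sq ω hω)) w⟩
  obtain ⟨α, hα, v, hv0, hAv, hCv⟩ : ∃ α : F, α ^ 3 = 1 ∧
      ∃ v : Fin 3 → F, v ≠ 0 ∧ A *ᵥ v = α • v ∧ C *ᵥ v = γ • v := by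
    rcases ev_ne A hA γ hγ h3 w' hw'0 with h | h | h
    · exact ⟨1, one_pow 3, _, h, ev_eig A hA 1 (one_pow 3) w', ev_comm A C 1 γ w' hCA hCw'⟩
    · exact ⟨γ, gamma_cube γ hγ, _, h, ev_eig A hA γ (gamma_cube γ hγ) w',
        ev_comm A C γ γ w' hCA hCw'⟩
    · exact ⟨γ ^ 2, gamma_cube _ (gamma_sq γ hγ), _, h,
        ev_eig A hA _ (gamma_cube _ (gamma_sq γ hγ)) w', ev_comm A C _ γ w' hCA hCw'⟩
  obtain ⟨hA1, hC1'⟩ := chain_step A B C hCB hAB v α γ hAv hCv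
  obtain ⟨hA2, hC2⟩ := chain_step A B C hCB hAB (B *ᵥ v) (α * γ) γ hA1 hC1'
  have hB2 : B *ᵥ (B *ᵥ (B *ᵥ v)) = v := mulVec_cube B hB v
  have hα0 : α ≠ 0 := by
    rintro rfl
    simp at hα
  have hv10 : B *ᵥ v ≠ 0 := by
    intro h
    apply hv0
    rw [← hB2, h, Matrix.mulVec_zero, Matrix.mulVec_zero]
  have hv20 : B *ᵥ (B *ᵥ v) ≠ 0 := by
    intro h
    apply hv0
    rw [← hB2, h, Matrix.mulVec_zero]
  have hA2' : A *ᵥ (B *ᵥ (B *ᵥ v)) = (α * γ ^ 2) • (B *ᵥ (B *ᵥ v)) := by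
    rw [hA2]
    congr 1
    ring
  let P : Matrix (Fin 3) (Fin 3) F := Matrix.of (fun i j => ![v, B *ᵥ v, B *ᵥ (B *ᵥ v)] j i)
  refine ⟨γ, α, P, hγ, hα, ?_, ?_, ?_, ?_⟩
  · rw [← Matrix.linearIndependent_cols_iff_isUnit]
    have hli := Module.End.eigenvectors_linearIndependent' (Matrix.toLin' A)
      ![α, α * γ, α * γ ^ 2] (mu_inj α γ hα0 hγ h3) ![v, B *ᵥ v, B *ᵥ (B *ᵥ v)]
      (by
        intro i
        fin_cases i
        · exact ⟨Module.End.mem_eigenspace_iff.2 (by rw [Matrix.toLin'_apply]; exact hAv), hv0⟩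
        · exact ⟨Module.End.mem_eigenspace_iff.2 (by rw [Matrix.toLin'_apply]; exact hA1), hv10⟩
        · exact ⟨Module.End.mem_eigenspace_iff.2 (by rw [Matrix.toLin'_apply]; exact hA2'), hv20⟩)
    exact hli
  · ext i j
    fin_cases j
    · have := congrFun hAv i
      simp [Matrix.mul_apply, Fin.sum_univ_three, Zm, P, Matrix.mulVec, dotProduct] at this ⊢
      linear_combination this
    · have := congrFun hA1 i
      simp [Matrix.mul_apply, Fin.sum_univ_three, Zm, P, Matrix.mulVec, dotProduct] at this ⊢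
      linear_combination this
    · have := congrFun hA2' i
      simp [Matrix.mul_apply, Fin.sum_univ_three, Zm, P, Matrix.mulVec, dotProduct] at this ⊢
      linear_combination this
  · ext i j
    fin_cases j
    · simp [Matrix.mul_apply, Fin.sum_univ_three, Xm, P, Matrix.mulVec, dotProduct]
    · simp [Matrix.mul_apply, Fin.sum_univ_three, Xm, P, Matrix.mulVec, dotProduct]
      ring
    · have := congrFun hB2 i
      simp [Matrix.mul_apply, Fin.sum_univ_three, Xm, P, Matrix.mulVec, dotProduct] at this ⊢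
      linear_combination this
  · ext i j
    fin_cases j
    · have := congrFun hCv i
      simp [Matrix.mul_apply, Fin.sum_univ_three, P, Matrix.mulVec, dotProduct] at this ⊢
      linear_combination this
    · have := congrFun hC1' i
      simp [Matrix.mul_apply, Fin.sum_univ_three, P, Matrix.mulVec, dotProduct] at this ⊢
      linear_combination this
    · have := congrFun hC2 i
      simp [Matrix.mul_apply, Fin.sum_univ_three, P, Matrix.mulVec, dotProduct] at this ⊢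
      linear_combination this

end Cfsg.Agent.Lib.helper99.Ex27
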