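import Mathlib
import Cfsg.Agent.Lib.helper99.Ex27A

set_option autoImplicit false

/-!
# Extraspecial groups of order 27 in `GL_3`: group theoretic part of the normal form (helper99)
-/

namespace Cfsg.Agent.Lib.helper99.Ex27

open Cfsg Matrix

theorem comm_of_card_dvd_nine {G : Type*} [Group G] [Finite G] (h : Nat.card G ∣ 9) :
    ∀ a b : G, a * b = b * a := by
  have h9 : Nat.card G ∈ Nat.divisors 9 := Nat.mem_divisors.2 ⟨h, by norm_num⟩
  have hd : Nat.divisors 9 = {1, 3, 9} := by decide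
  rw [hd] at h9
  simp only [Finset.mem_insert, Finset.mem_singleton] at h9
  have : Fact (Nat.Prime 3) := ⟨by norm_num⟩
  rcases h9 with h1 | h1 | h1
  · have : Subsingleton G := (Nat.card_eq_one_iff_unique.1 h1).1
    intro a b
    exact Subsingleton.elim _ _
  · have hc : IsCyclic G := isCyclic_of_prime_card h1
    obtain ⟨g, hg⟩ := IsCyclic.exists_generator (α := G)
    intro a b
    obtain ⟨m, rfl⟩ := Subgroup.mem_zpowers_iff.1 (hg a)
    obtain ⟨n, rfl⟩ := Subgroup.mem_zpowers_iff.1 (hg b)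
    rw [← _root_.zpow_add, ← _root_.zpow_add, add_comm]
  · exact IsPGroup.commutative_of_card_eq_prime_sq (p := 3) (by rw [h1]; norm_num)

theorem exists_central_comm {G : Type*} [Group G] [Finite G] (hcard : Nat.card G = 27)
    (hna : ¬ ∀ a b : G, a * b = b * a) :
    ∃ a b : G, a * b * a⁻¹ * b⁻¹ ≠ 1 ∧
      ∀ g : G, g * (a * b * a⁻¹ * b⁻¹) = (a * b * a⁻¹ * b⁻¹) * g := by
  have : Fact (Nat.Prime 3) := ⟨by norm_num⟩
  have hp : IsPGroup 3 G := IsPGroup.of_card (n := 3) (by rw [hcard]; norm_num)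
  have hnt : Nontrivial G := by
    rw [← Finite.one_lt_card_iff_nontrivial]
    omega
  have hZ : Nontrivial (Subgroup.center G) := hp.center_nontrivial
  have hZc : 1 < Nat.card (Subgroup.center G) := Finite.one_lt_card
  have hmul : Nat.card (G ⧸ Subgroup.center G) * Nat.card (Subgroup.center G) = 27 := by
    rw [← hcard]
    exact (Subgroup.card_eq_card_quotient_mul_card_subgroup _).symm
  have hQ : Nat.card (G ⧸ Subgroup.center G) ∣ 9 := by
    have hz : Nat.card (Subgroup.center G) ∣ 27 := Dvd.intro_left _ hmul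
    have hmem : Nat.card (Subgroup.center G) ∈ Nat.divisors 27 :=
      Nat.mem_divisors.2 ⟨hz, by norm_num⟩
    have hd : Nat.divisors 27 = {1, 3, 9, 27} := by decide
    rw [hd] at hmem
    simp only [Finset.mem_insert, Finset.mem_singleton] at hmem
    rcases hmem with h | h | h | h
    · omega
    · rw [h] at hmul
      have : Nat.card (G ⧸ Subgroup.center G) = 9 := by omega
      rw [this]
    · rw [h] at hmul
      have : Nat.card (G ⧸ Subgroup.center G) = 3 := by omega
      rw [this]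
      norm_num
    · rw [h] at hmul
      have : Nat.card (G ⧸ Subgroup.center G) = 1 := by omega
      rw [this]
      norm_num
  have hcomm := comm_of_card_dvd_nine hQ
  push Not at hna
  obtain ⟨a, b, hab⟩ := hna
  refine ⟨a, b, ?_, ?_⟩
  · intro h
    apply hab
    have h2 : a * b = (a * b * a⁻¹ * b⁻¹) * (b * a) := by group
    rw [h2, h, one_mul]
  · have hmem : a * b * a⁻¹ * b⁻¹ ∈ Subgroup.center G := by
      rw [← QuotientGroup.eq_one_iff]
      have h1 := hcomm (QuotientGroup.mk a) (QuotientGroup.mk b)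
      rw [QuotientGroup.mk_mul, QuotientGroup.mk_mul, QuotientGroup.mk_mul, QuotientGroup.mk_inv,
        QuotientGroup.mk_inv, h1]
      group
    intro g
    exact Subgroup.mem_center_iff.1 hmem g

variable {F : Type*} [Field F]

theorem exists_cube_root [Fintype F] {p : ℕ} (hF : Fintype.card F = p) (hp3 : p % 3 = 1) :
    ∃ ω : F, ω ^ 2 + ω + 1 = 0 := by
  have : Fact (Nat.Prime 3) := ⟨by norm_num⟩
  have hcard : Nat.card Fˣ = p - 1 := by rw [Nat.card_units, Nat.card_eq_fintype_card, hF]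
  have hdvd : 3 ∣ Nat.card Fˣ := by
    rw [hcard]
    omega
  obtain ⟨u, hu⟩ := exists_prime_orderOf_dvd_card' 3 hdvd
  have hu3 : (u : F) ^ 3 = 1 := by
    have h := pow_orderOf_eq_one u
    rw [hu] at h
    have h' := congrArg Units.val h
    simpa using h'
  have hu1 : (u : F) ≠ 1 := by
    intro h
    have h' : u = 1 := Units.ext h
    rw [h', orderOf_one] at hu
    norm_num at hu
  refine ⟨u, ?_⟩
  have h : ((u : F) - 1) * ((u : F) ^ 2 + u + 1) = 0 := by linear_combination hu3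
  rcases mul_eq_zero.1 h with h | h
  · exact absurd (sub_eq_zero.1 h) hu1
  · exact h

/-- the normal form of a non-abelian subgroup of order 27 and exponent 3 of `GL_3(F)` -/
theorem normal_form (ω : F) (hω : ω ^ 2 + ω + 1 = 0) (h3 : (3 : F) ≠ 0)
    (R : Subgroup (GL (Fin 3) F)) (hR : Nat.card R = 27) (hRe : Monoid.exponent R = 3)
    (hRna : ¬ IsMulCommutative R) :
    ∃ γ : F, γ ^ 2 + γ + 1 = 0 ∧ ∃ P X Z : GL (Fin 3) F,
      (X : Matrix (Fin 3) (Fin 3) F) = Xm ∧ (Z : Matrix (Fin 3) (Fin 3) F) = Zm γ ∧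
      P * X * P⁻¹ ∈ R ∧ P * Z * P⁻¹ ∈ R := by
  have hfin : Finite R := Nat.finite_of_card_ne_zero (by rw [hR]; norm_num)
  have hna : ¬ ∀ a b : R, a * b = b * a := fun h => hRna ⟨⟨h⟩⟩
  obtain ⟨a, b, hc1, hcc⟩ := exists_central_comm hR hna
  set c := a * b * a⁻¹ * b⁻¹ with hc
  have hexp : ∀ g : R, g ^ 3 = 1 := fun g => by
    have h := Monoid.pow_exponent_eq_one g
    rw [hRe] at h
    exact h
  have hcube : ∀ g : R, ((g : GL (Fin 3) F) : Matrix (Fin 3) (Fin 3) F) *
      ((g : GL (Fin 3) F) : Matrix (Fin 3) (Fin 3) F) *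
      ((g : GL (Fin 3) F) : Matrix (Fin 3) (Fin 3) F) = 1 := by
    intro g
    have h := congrArg (fun g : R => ((g : GL (Fin 3) F) : Matrix (Fin 3) (Fin 3) F)) (hexp g)
    simpa [pow_succ] using h
  have hmatmul : ∀ g h : R, ((((g * h : R) : GL (Fin 3) F)) : Matrix (Fin 3) (Fin 3) F) =
      ((g : GL (Fin 3) F) : Matrix (Fin 3) (Fin 3) F) *
        ((h : GL (Fin 3) F) : Matrix (Fin 3) (Fin 3) F) := by
    intro g h
    simp
  set A : Matrix (Fin 3) (Fin 3) F := ((a : GL (Fin 3) F) : Matrix (Fin 3) (Fin 3) F) with hAdef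
  set B : Matrix (Fin 3) (Fin 3) F := ((b : GL (Fin 3) F) : Matrix (Fin 3) (Fin 3) F) with hBdef
  set C : Matrix (Fin 3) (Fin 3) F := ((c : GL (Fin 3) F) : Matrix (Fin 3) (Fin 3) F) with hCdef
  have hC1 : C ≠ 1 := by
    intro h
    apply hc1
    apply Subtype.ext
    apply Units.ext
    exact h
  have hCA : C * A = A * C := by
    have h := hcc a
    rw [hCdef, hAdef, ← hmatmul, ← hmatmul, h]
  have hCB : C * B = B * C := by
    have h := hcc b
    rw [hCdef, hBdef, ← hmatmul, ← hmatmul, h]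
  have hAB : A * B = C * B * A := by
    have h : c * b * a = a * b := by rw [hc]; group
    rw [hCdef, hAdef, hBdef, ← hmatmul, ← hmatmul, ← hmatmul, h]
  obtain ⟨γ, α, P, hγ, hα, hPu, hAP, hBP, hCP⟩ :=
    normal_form_mat ω hω h3 A B C (hcube a) (hcube b) (hcube c) hC1 hCA hCB hAB
  refine ⟨γ, hγ, hPu.unit, ⟨Xm, Xm * Xm, by rw [← Matrix.mul_assoc]; exact Xm_cube, Xm_cube⟩,
    ⟨Zm γ, Zm γ * Zm γ, by rw [← Matrix.mul_assoc]; exact Zm_cube γ hγ, Zm_cube γ hγ⟩,
    rfl, rfl, ?_, ?_⟩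
  · have h : (b : GL (Fin 3) F) * hPu.unit = hPu.unit *
        ⟨Xm, Xm * Xm, by rw [← Matrix.mul_assoc]; exact Xm_cube, Xm_cube⟩ := by
      apply Units.ext
      rw [Units.val_mul, Units.val_mul, IsUnit.unit_spec]
      exact hBP
    rw [← h]
    have h2 : (b : GL (Fin 3) F) * hPu.unit * (hPu.unit)⁻¹ = b := by group
    rw [h2]
    exact b.2
  · -- a suitable element `c ^ k * a`
    have hkey : ∀ e : R, ((e : GL (Fin 3) F) : Matrix (Fin 3) (Fin 3) F) * P = P * Zm γ →
        hPu.unit * (⟨Zm γ, Zm γ * Zm γ, by rw [← Matrix.mul_assoc]; exact Zm_cube γ hγ,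
          Zm_cube γ hγ⟩ : GL (Fin 3) F) * (hPu.unit)⁻¹ ∈ R := by
      intro e he
      have h : (e : GL (Fin 3) F) * hPu.unit = hPu.unit *
          ⟨Zm γ, Zm γ * Zm γ, by rw [← Matrix.mul_assoc]; exact Zm_cube γ hγ, Zm_cube γ hγ⟩ := by
        apply Units.ext
        rw [Units.val_mul, Units.val_mul, IsUnit.unit_spec]
        exact he
      rw [← h]
      have h2 : (e : GL (Fin 3) F) * hPu.unit * (hPu.unit)⁻¹ = e := by group
      rw [h2]
      exact e.2
    have hγ3 := gamma_cube γ hγ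
    rcases cube_root_cases γ α hγ hα with h | h | h
    · apply hkey a
      rw [← hAdef, hAP, h, one_smul]
    · apply hkey (c * c * a)
      rw [hmatmul, hmatmul, ← hCdef, ← hAdef, Matrix.mul_assoc, Matrix.mul_assoc, hAP, h,
        Matrix.mul_smul, Matrix.mul_smul, ← Matrix.mul_assoc C P, hCP, Matrix.smul_mul,
        Matrix.mul_smul, ← Matrix.mul_assoc C P, hCP, Matrix.smul_mul, smul_smul, smul_smul]
      have : γ * γ * γ = 1 := by rw [← hγ3]; ring
      rw [this, one_smul]
    · apply hkey (c * a)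
      rw [hmatmul, ← hCdef, ← hAdef, Matrix.mul_assoc, hAP, h,
        Matrix.mul_smul, ← Matrix.mul_assoc C P, hCP, Matrix.smul_mul, smul_smul]
      have : γ ^ 2 * γ = 1 := by rw [← hγ3]; ring
      rw [this, one_smul]

end Cfsg.Agent.Lib.helper99.Ex27
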