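import Mathlib
import Cfsg.Agent.Lib.helper99.Ex27B

set_option autoImplicit false

/-!
# Diagonalisation of `3 × 3` matrices of order two and three (helper99)
-/

namespace Cfsg.Agent.Lib.helper99.Ex27

open Cfsg Matrix Module

variable {F : Type*} [Field F]

/-- diagonalisation from a spanning set of eigenvectors -/
theorem exists_diag (M : Matrix (Fin 3) (Fin 3) F) (S : Set (Fin 3 → F))
    (hS : Submodule.span F S = ⊤) (hev : ∀ w ∈ S, ∃ c : F, M *ᵥ w = c • w) :
    ∃ (g : Matrix (Fin 3) (Fin 3) F) (d : Fin 3 → F),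
      g.det = 1 ∧ M * g = g * Matrix.diagonal d := by
  classical
  obtain ⟨b, hbS, hspan, hli⟩ := exists_linearIndependent F S
  have hsp : ⊤ ≤ Submodule.span F (Set.range ((↑) : b → (Fin 3 → F))) := by
    rw [Subtype.range_coe, hspan, hS]
  let Bs := Basis.mk hli hsp
  have hfin : Finite b := Module.Finite.finite_basis Bs
  have := Fintype.ofFinite b
  have hcard : Fintype.card b = 3 := by
    rw [← Module.finrank_eq_card_basis Bs, Module.finrank_fin_fun]
  let σ : Fin 3 ≃ b := (Fintype.equivFinOfCardEq hcard).symm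
  let cols : Fin 3 → (Fin 3 → F) := fun j => (σ j : Fin 3 → F)
  have hcols : LinearIndependent F cols := hli.comp σ σ.injective
  let g₀ : Matrix (Fin 3) (Fin 3) F := Matrix.of (fun i j => cols j i)
  have hg₀u : IsUnit g₀ := by
    rw [← Matrix.linearIndependent_cols_iff_isUnit]
    exact hcols
  have hdet : g₀.det ≠ 0 := ((Matrix.isUnit_iff_isUnit_det g₀).1 hg₀u).ne_zero
  have hex : ∀ j, ∃ c : F, M *ᵥ cols j = c • cols j := fun j => hev _ (hbS (σ j).2)
  choose d hd using hex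
  have hMg : M * g₀ = g₀ * Matrix.diagonal d := by
    ext i j
    rw [Matrix.mul_diagonal]
    have h := congrFun (hd j) i
    simp only [Matrix.mulVec, dotProduct, Pi.smul_apply, smul_eq_mul] at h
    rw [Matrix.mul_apply]
    simp only [g₀, Matrix.of_apply]
    rw [h]
    ring
  refine ⟨g₀ * Matrix.diagonal ![(g₀.det)⁻¹, 1, 1], d, ?_, ?_⟩
  · rw [Matrix.det_mul, Matrix.det_diagonal, Fin.prod_univ_three]
    simp [hdet]
  · rw [← Matrix.mul_assoc, hMg, Matrix.mul_assoc, Matrix.mul_assoc, Matrix.diagonal_mul_diagonal,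
      Matrix.diagonal_mul_diagonal]
    congr 2
    funext i
    ring

theorem span_of_single (S : Submodule F (Fin 3 → F))
    (h : ∀ i, (Pi.single i 1 : Fin 3 → F) ∈ S) : S = ⊤ := by
  rw [eq_top_iff]
  intro x _
  have hx : x = ∑ i, x i • (Pi.single i 1 : Fin 3 → F) := by
    ext j
    simp [Finset.sum_apply, Pi.single_apply]
  rw [hx]
  exact Submodule.sum_mem _ (fun i _ => Submodule.smul_mem _ _ (h i))

theorem span_ev (Y : Matrix (Fin 3) (Fin 3) F) (hY : Y * Y * Y = 1) (γ : F)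
    (hγ : γ ^ 2 + γ + 1 = 0) (h3 : (3 : F) ≠ 0) :
    Submodule.span F {w | ∃ (ρ : F) (i : Fin 3), ρ ^ 3 = 1 ∧ w = ev Y ρ (Pi.single i 1)} = ⊤ := by
  have hmem : ∀ i : Fin 3, Y *ᵥ (Y *ᵥ (Pi.single i 1)) ∈
      Submodule.span F {w | ∃ (ρ : F) (i : Fin 3), ρ ^ 3 = 1 ∧ w = ev Y ρ (Pi.single i 1)} := by
    intro i
    have hs := ev_sum Y γ hγ (Pi.single i 1)
    have e : Y *ᵥ (Y *ᵥ (Pi.single i 1)) = (3 : F)⁻¹ • (ev Y 1 (Pi.single i 1)
        + ev Y γ (Pi.single i 1) + ev Y (γ ^ 2) (Pi.single i 1)) := by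
      rw [hs, smul_smul, inv_mul_cancel₀ h3, one_smul]
    rw [e]
    apply Submodule.smul_mem
    refine Submodule.add_mem _ (Submodule.add_mem _ ?_ ?_) ?_
    · exact Submodule.subset_span ⟨1, i, one_pow 3, rfl⟩
    · exact Submodule.subset_span ⟨γ, i, gamma_cube γ hγ, rfl⟩
    · exact Submodule.subset_span ⟨γ ^ 2, i, gamma_cube _ (gamma_sq γ hγ), rfl⟩
  have hrange : LinearMap.range (Y * Y).mulVecLin = ⊤ := by
    rw [LinearMap.range_eq_top]
    intro x
    refine ⟨Y *ᵥ x, ?_⟩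
    rw [Matrix.mulVecLin_apply, Matrix.mulVec_mulVec, hY, Matrix.one_mulVec]
  rw [eq_top_iff, ← hrange, Matrix.range_mulVecLin, Submodule.span_le]
  rintro _ ⟨i, rfl⟩
  have e : (Y * Y).col i = Y *ᵥ (Y *ᵥ (Pi.single i 1)) := by
    rw [Matrix.mulVec_mulVec, Matrix.mulVec_single_one]
  rw [e]
  exact hmem i

/-- a matrix of order three over a field with a primitive cube root of unity is diagonalisable -/
theorem diag_of_cube (Y : Matrix (Fin 3) (Fin 3) F) (hY : Y * Y * Y = 1) (γ : F)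
    (hγ : γ ^ 2 + γ + 1 = 0) (h3 : (3 : F) ≠ 0) :
    ∃ (g : Matrix (Fin 3) (Fin 3) F) (d : Fin 3 → F), g.det = 1 ∧ (∀ i, d i ^ 3 = 1) ∧
      Y * g = g * Matrix.diagonal d := by
  obtain ⟨g, d, hg, hYg⟩ := exists_diag Y _ (span_ev Y hY γ hγ h3) (by
    rintro w ⟨ρ, i, hρ, rfl⟩
    exact ⟨ρ, ev_eig Y hY ρ hρ _⟩)
  refine ⟨g, d, hg, ?_, hYg⟩
  have hgu : IsUnit g.det := by rw [hg]; exact isUnit_one
  have h1 : g * (Matrix.diagonal d * Matrix.diagonal d * Matrix.diagonal d) = g := by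
    calc g * (Matrix.diagonal d * Matrix.diagonal d * Matrix.diagonal d)
        = Y * (Y * (Y * g)) := by
          rw [hYg, ← Matrix.mul_assoc Y g, hYg, ← Matrix.mul_assoc Y, ← Matrix.mul_assoc Y, hYg]
          simp only [Matrix.mul_assoc]
      _ = g := by rw [← Matrix.mul_assoc, ← Matrix.mul_assoc, hY, Matrix.one_mul]
  have h2 : Matrix.diagonal d * Matrix.diagonal d * Matrix.diagonal d = 1 := by
    have h : g⁻¹ * (g * (Matrix.diagonal d * Matrix.diagonal d * Matrix.diagonal d)) = g⁻¹ * g := by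
      rw [h1]
    rwa [← Matrix.mul_assoc, Matrix.nonsing_inv_mul _ hgu, Matrix.one_mul] at h
  intro i
  have h := congrFun (congrFun h2 i) i
  rw [Matrix.diagonal_mul_diagonal, Matrix.diagonal_mul_diagonal, Matrix.diagonal_apply_eq,
    Matrix.one_apply_eq] at h
  rw [← h]
  ring

theorem span_invol (T : Matrix (Fin 3) (Fin 3) F) (h2 : (2 : F) ≠ 0) :
    Submodule.span F {w | ∃ i : Fin 3, w = T *ᵥ (Pi.single i 1) + Pi.single i 1 ∨
      w = T *ᵥ (Pi.single i 1) - Pi.single i 1} = ⊤ := by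
  apply span_of_single
  intro i
  have e : (Pi.single i 1 : Fin 3 → F) = (2 : F)⁻¹ • ((T *ᵥ (Pi.single i 1) + Pi.single i 1)
      - (T *ᵥ (Pi.single i 1) - Pi.single i 1)) := by
    rw [add_sub_sub_cancel, ← two_smul F (Pi.single i 1 : Fin 3 → F), smul_smul,
      inv_mul_cancel₀ h2, one_smul]
  rw [e]
  apply Submodule.smul_mem
  apply Submodule.sub_mem
  · exact Submodule.subset_span ⟨i, Or.inl rfl⟩
  · exact Submodule.subset_span ⟨i, Or.inr rfl⟩

/-- the involution `-(e_1 ↔ e_2)` -/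
def S0m : Matrix (Fin 3) (Fin 3) F := !![-1, 0, 0; 0, 0, -1; 0, -1, 0]

theorem S0m_sq : (S0m : Matrix (Fin 3) (Fin 3) F) * S0m = 1 := by
  ext i j
  fin_cases i <;> fin_cases j <;> simp [S0m, Matrix.mul_apply, Fin.sum_univ_three]

theorem S0m_Xm : (S0m : Matrix (Fin 3) (Fin 3) F) * Xm = Xm * Xm * S0m := by
  ext i j
  fin_cases i <;> fin_cases j <;> simp [S0m, Xm, Matrix.mul_apply, Fin.sum_univ_three]

theorem S0m_Zm (γ : F) (hγ : γ ^ 2 + γ + 1 = 0) : S0m * Zm γ = Zm γ * Zm γ * S0m := by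
  have h3 := gamma_cube γ hγ
  ext i j
  fin_cases i <;> fin_cases j <;> simp [S0m, Zm, Matrix.mul_apply, Fin.sum_univ_three] <;>
    first | ring1 | linear_combination (-γ) * h3 | linear_combination γ * h3

/-- every involution of determinant one is conjugate to `S0m` -/
theorem conj_invol (h2 : (2 : F) ≠ 0) (T : Matrix (Fin 3) (Fin 3) F) (hT : T * T = 1)
    (hdet : T.det = 1) (hne : T ≠ 1) :
    ∃ g : Matrix (Fin 3) (Fin 3) F, g.det = 1 ∧ T * g = g * S0m := by
  obtain ⟨g, d, hg, hTg⟩ := exists_diag T _ (span_invol T h2) (by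
    rintro w ⟨i, rfl | rfl⟩
    · exact ⟨1, by rw [Matrix.mulVec_add, Matrix.mulVec_mulVec, hT, Matrix.one_mulVec, one_smul,
        add_comm]⟩
    · exact ⟨-1, by rw [Matrix.mulVec_sub, Matrix.mulVec_mulVec, hT, Matrix.one_mulVec, neg_smul,
        one_smul, neg_sub]⟩)
  have hgu : IsUnit g.det := by rw [hg]; exact isUnit_one
  have h1 : g * (Matrix.diagonal d * Matrix.diagonal d) = g := by
    calc g * (Matrix.diagonal d * Matrix.diagonal d) = T * (T * g) := by
          rw [hTg, ← Matrix.mul_assoc T g, hTg]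
          simp only [Matrix.mul_assoc]
      _ = g := by rw [← Matrix.mul_assoc, hT, Matrix.one_mul]
  have hDD : Matrix.diagonal d * Matrix.diagonal d = 1 := by
    have h : g⁻¹ * (g * (Matrix.diagonal d * Matrix.diagonal d)) = g⁻¹ * g := by
      rw [h1]
    rwa [← Matrix.mul_assoc, Matrix.nonsing_inv_mul _ hgu, Matrix.one_mul] at h
  have hd2 : ∀ i, d i * d i = 1 := by
    intro i
    have h := congrFun (congrFun hDD i) i
    rwa [Matrix.diagonal_mul_diagonal, Matrix.diagonal_apply_eq, Matrix.one_apply_eq] at h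
  have hdpm : ∀ i, d i = 1 ∨ d i = -1 := fun i => by
    have h : (d i - 1) * (d i + 1) = 0 := by linear_combination hd2 i
    rcases mul_eq_zero.1 h with h | h
    · left; exact sub_eq_zero.1 h
    · right; exact eq_neg_of_add_eq_zero_left h
  have hdetD : d 0 * d 1 * d 2 = 1 := by
    have h := congrArg Matrix.det hTg
    rw [Matrix.det_mul, Matrix.det_mul, hdet, hg, one_mul, one_mul, Matrix.det_diagonal,
      Fin.prod_univ_three] at h
    exact h.symm
  have hDne : ¬ (d 0 = 1 ∧ d 1 = 1 ∧ d 2 = 1) := by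
    rintro ⟨h0, h1', h2'⟩
    apply hne
    have hD1 : Matrix.diagonal d = 1 := by
      ext i j
      fin_cases i <;> fin_cases j <;> simp [Matrix.diagonal_apply, h0, h1', h2']
    rw [hD1, Matrix.mul_one] at hTg
    have h : T * g * g⁻¹ = g * g⁻¹ := by rw [hTg]
    rwa [Matrix.mul_assoc, Matrix.mul_nonsing_inv _ hgu, Matrix.mul_one] at h
  have hm1 : (-1 : F) ≠ 1 := by
    intro h
    apply h2
    linear_combination -h
  obtain ⟨h, hh, hSh⟩ : ∃ h : Matrix (Fin 3) (Fin 3) F, h.det = 1 ∧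
      S0m * h = h * Matrix.diagonal d := by
    rcases hdpm 0 with h0 | h0 <;> rcases hdpm 1 with h1' | h1' <;> rcases hdpm 2 with h2' | h2'
    · exact absurd ⟨h0, h1', h2'⟩ hDne
    · rw [h0, h1', h2'] at hdetD
      exact absurd (by linear_combination hdetD) hm1
    · rw [h0, h1', h2'] at hdetD
      exact absurd (by linear_combination hdetD) hm1
    · refine ⟨!![0, -(2 : F)⁻¹, 0; 1, 0, 1; -1, 0, 1], ?_, ?_⟩
      · simp [Matrix.det_fin_three]
        field_simp
        ring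
      · ext i j
        fin_cases i <;> fin_cases j <;>
          simp [S0m, Matrix.mul_apply, Fin.sum_univ_three, Matrix.diagonal_apply, h0, h1', h2']
    · rw [h0, h1', h2'] at hdetD
      exact absurd (by linear_combination hdetD) hm1
    · refine ⟨!![(2 : F)⁻¹, 0, 0; 0, 1, 1; 0, -1, 1], ?_, ?_⟩
      · simp [Matrix.det_fin_three]
        field_simp
        ring
      · ext i j
        fin_cases i <;> fin_cases j <;>
          simp [S0m, Matrix.mul_apply, Fin.sum_univ_three, Matrix.diagonal_apply, h0, h1', h2']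
    · refine ⟨!![-(2 : F)⁻¹, 0, 0; 0, 1, 1; 0, 1, -1], ?_, ?_⟩
      · simp [Matrix.det_fin_three]
        field_simp
        ring
      · ext i j
        fin_cases i <;> fin_cases j <;>
          simp [S0m, Matrix.mul_apply, Fin.sum_univ_three, Matrix.diagonal_apply, h0, h1', h2']
    · rw [h0, h1', h2'] at hdetD
      exact absurd (by linear_combination hdetD) hm1
  have hhu : IsUnit h.det := by rw [hh]; exact isUnit_one
  refine ⟨g * h⁻¹, ?_, ?_⟩
  · rw [Matrix.det_mul, hg, one_mul, Matrix.det_nonsing_inv, hh]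
    simp
  · have e : Matrix.diagonal d * h⁻¹ = h⁻¹ * S0m := by
      calc Matrix.diagonal d * h⁻¹ = h⁻¹ * (h * Matrix.diagonal d) * h⁻¹ := by
            rw [← Matrix.mul_assoc, Matrix.nonsing_inv_mul _ hhu, Matrix.one_mul]
        _ = h⁻¹ * (S0m * h) * h⁻¹ := by rw [hSh]
        _ = h⁻¹ * S0m := by
            rw [Matrix.mul_assoc, Matrix.mul_assoc, Matrix.mul_nonsing_inv _ hhu, Matrix.mul_one]
    rw [← Matrix.mul_assoc, hTg, Matrix.mul_assoc, e, Matrix.mul_assoc]

theorem diagonal_eq (d : Fin 3 → F) :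
    Matrix.diagonal d = !![d 0, 0, 0; 0, d 1, 0; 0, 0, d 2] := by
  ext i j
  fin_cases i <;> fin_cases j <;> simp [Matrix.diagonal_apply]

/-- conjugating the shift by a diagonal matrix of order three -/
theorem diag_conj_X (d : Fin 3 → F) (hd : ∀ i, d i ^ 3 = 1) :
    Matrix.diagonal d * Xm
      = (d 1 * d 0 ^ 2) • (Xm * Zm (d 0 * d 1 * d 2) * Matrix.diagonal d) := by
  have h0 := hd 0
  have h1 := hd 1
  have h2 := hd 2
  rw [diagonal_eq]
  ext i j
  fin_cases i <;> fin_cases j <;>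
    simp [Xm, Zm, Matrix.mul_apply, Fin.sum_univ_three]
  · linear_combination (-(d 0) * d 1 ^ 3 * d 2 ^ 3) * h0 + (-(d 0) * d 2 ^ 3) * h1 + (-(d 0)) * h2
  · linear_combination (-(d 1)) * h0
  · linear_combination (-(d 2) * d 1 ^ 3) * h0 + (-(d 2)) * h1

theorem diag_comm_Z (d : Fin 3 → F) (γ : F) :
    Matrix.diagonal d * Zm γ = Zm γ * Matrix.diagonal d := by
  rw [diagonal_eq]
  ext i j
  fin_cases i <;> fin_cases j <;>
    simp [Zm, Matrix.mul_apply, Fin.sum_univ_three] <;> ring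

theorem Zm_one : Zm (1 : F) = 1 := by
  ext i j
  fin_cases i <;> fin_cases j <;> simp [Zm]

theorem Zm_sq (γ : F) : Zm (γ ^ 2) = Zm γ * Zm γ := by
  ext i j
  fin_cases i <;> fin_cases j <;> simp [Zm, Matrix.mul_apply, Fin.sum_univ_three] <;> ring

end Cfsg.Agent.Lib.helper99.Ex27
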