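import Mathlib
import Cfsg.Agent.Lib.helper7.SU
import Cfsg.Agent.Lib.helper17.HermForm
import Cfsg.Agent.Lib.helper48.UnitaryConj

set_option autoImplicit false

/-!
# Counting isotropic vectors of a possibly degenerate Hermitian form (helper99)
-/

namespace Cfsg.Agent.Lib.helper99.UCent

open Cfsg Matrix Cfsg.Agent.Lib.helper7 Cfsg.Agent.Lib.helper48 Module

variable {F : Type*} [Field F] [Fintype F] {q : ℕ}

omit [Fintype F] in
theorem sesqOf_eq_herm (σ : F →+* F) (hσ : ∀ x, σ x = x ^ q) {m : ℕ}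
    (X : Matrix (Fin m) (Fin m) F) (u w : Fin m → F) :
    sesqOf σ X u w = hermForm m F q (X *ᵥ w) u := by
  rw [sesqOf_apply]
  unfold hermForm dotProduct
  apply Finset.sum_congr rfl
  intro i _
  show σ (u i) * (X *ᵥ w) i = _
  rw [hσ, mul_comm]

omit [Fintype F] in
theorem sesqOf_isSymm (σ : F →+* F) (hσ2 : ∀ a, σ (σ a) = a) {m : ℕ}
    (X : Matrix (Fin m) (Fin m) F) (hX : cstar σ X = X) : (sesqOf σ X).IsSymm := by
  constructor
  intro x y
  rw [sesqOf_apply, sesqOf_apply]
  simp only [dotProduct, Matrix.mulVec, map_sum, map_mul, hσ2, Finset.mul_sum]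
  rw [Finset.sum_comm]
  apply Finset.sum_congr rfl; intro j _
  apply Finset.sum_congr rfl; intro i _
  have : σ (X i j) = X j i := by
    have := congrFun (congrFun hX j) i
    rw [cstar_apply] at this; exact this
  rw [this]; ring

/-- the number of isotropic vectors of the Hermitian form with Gram matrix `X` -/
theorem card_isotropic (hF : Fintype.card F = q ^ 2) (σ : F →+* F) (hσ : ∀ x, σ x = x ^ q)
    (hσne : σ ≠ RingHom.id F) (hσ2 : ∀ a, σ (σ a) = a) {m : ℕ}
    (X : Matrix (Fin m) (Fin m) F) (hX : cstar σ X = X) :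
    ∃ w, w + finrank F (LinearMap.ker (Matrix.toLin' X)) = m ∧
      Nat.card {x : Fin m → F // hermForm m F q (X *ᵥ x) x = 0}
        = (q ^ 2) ^ (m - w) * (hermCount q w).2 := by
  classical
  have hq2 := two_le_of_card_sq hF
  set B := sesqOf σ X with hB
  have hBh : ∀ u w, B u w = hermForm m F q (X *ᵥ w) u := sesqOf_eq_herm σ hσ X
  have hsymm : B.IsSymm := sesqOf_isSymm σ hσ2 X hX
  set K := LinearMap.ker (Matrix.toLin' X) with hK
  have hKmem : ∀ k ∈ K, X *ᵥ k = 0 := by
    intro k hk
    rw [hK, LinearMap.mem_ker, Matrix.toLin'_apply] at hk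
    exact hk
  obtain ⟨U', hU'⟩ := K.exists_isCompl
  have hBK : ∀ k ∈ K, ∀ u, B u k = 0 := by
    intro k hk u
    rw [hBh, hKmem k hk]
    simp [hermForm]
  have hKB : ∀ k ∈ K, ∀ u, B k u = 0 := by
    intro k hk u
    have h1 := hsymm.eq u k
    rw [hBK k hk u, map_zero] at h1
    exact h1.symm
  let BU : U' →ₛₗ[σ] U' →ₗ[F] F := B.domRestrict₁₂ U' U'
  have hBU : ∀ x y : U', BU x y = B x.1 y.1 := fun x y => rfl
  have hBUsymm : BU.IsSymm := by
    constructor
    intro x y
    rw [hBU, hBU]
    exact hsymm.eq x.1 y.1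
  have hdecomp : ∀ v : Fin m → F, ∃ k ∈ K, ∃ u ∈ U', k + u = v := by
    intro v
    have h1 : v ∈ K ⊔ U' := by
      rw [hU'.sup_eq_top]
      trivial
    exact Submodule.mem_sup.1 h1
  have hzero : ∀ x : U', X *ᵥ x.1 = 0 → x = 0 := by
    intro x h2
    have h4 : x.1 ∈ K := by
      rw [hK, LinearMap.mem_ker, Matrix.toLin'_apply]
      exact h2
    have h5 : x.1 ∈ K ⊓ U' := ⟨h4, x.2⟩
    rw [hU'.inf_eq_bot] at h5
    exact Subtype.ext ((Submodule.mem_bot F).1 h5)
  have hBUnd : BU.Nondegenerate := by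
    constructor
    · intro x hx
      have h1 : ∀ v, B x.1 v = 0 := by
        intro v
        obtain ⟨k, hk, u, hu, rfl⟩ := hdecomp v
        rw [map_add, hBK k hk, zero_add]
        exact hx ⟨u, hu⟩
      apply hzero
      funext i
      have h3 := hsymm.eq x.1 (Pi.single i 1)
      rw [h1, map_zero, hBh, herm_single_right (by omega)] at h3
      exact h3.symm
    · intro y hy
      have h1 : ∀ v, B v y.1 = 0 := by
        intro v
        obtain ⟨k, hk, u, hu, rfl⟩ := hdecomp v
        rw [map_add, LinearMap.add_apply, hKB k hk, zero_add]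
        exact hy ⟨u, hu⟩
      apply hzero
      funext i
      have h3 := h1 (Pi.single i 1)
      rw [hBh, herm_single_right (by omega)] at h3
      exact h3
  obtain ⟨b, hb⟩ := Cfsg.Agent.Lib.helper17.exists_orthonormal_basis_herm σ hσne hσ2 BU
    hBUsymm hBUnd
  have hwK : finrank F K + finrank F U' = m := by
    have h1 := Submodule.finrank_add_eq_of_isCompl hU'
    rw [Module.finrank_fin_fun] at h1
    exact h1
  refine ⟨finrank F U', by omega, ?_⟩
  have hcoord : ∀ u : U', BU u u = ∑ i, b.equivFun u i * b.equivFun u i ^ q := by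
    intro u
    conv_lhs => rw [← b.sum_equivFun u]
    simp only [map_sum, map_smulₛₗ, LinearMap.sum_apply, LinearMap.smul_apply, map_smul, hb,
      smul_eq_mul, mul_ite, mul_one, mul_zero, Finset.sum_ite_eq', Finset.sum_ite_eq,
      Finset.mem_univ, if_true, hσ, RingHom.id_apply]
  have hform : ∀ (k : K) (u : U'),
      hermForm m F q (X *ᵥ (k.1 + u.1)) (k.1 + u.1) = BU u u := by
    intro k u
    rw [Matrix.mulVec_add, hKmem k.1 k.2, zero_add, herm_add_right hF, hBU, hBh]
    have h1 : hermForm m F q (X *ᵥ u.1) k.1 = 0 := by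
      rw [← hBh]
      exact hKB k.1 k.2 u.1
    rw [h1, zero_add]
  let e1 : (K × U') ≃ₗ[F] (Fin m → F) := Submodule.prodEquivOfIsCompl K U' hU'
  have he1 : ∀ pr : K × U', e1 pr = pr.1.1 + pr.2.1 := fun pr => rfl
  let eJ : {x : Fin m → F // hermForm m F q (X *ᵥ x) x = 0} ≃
      K × {c : Fin (finrank F U') → F // ∑ i, c i * c i ^ q = 0} :=
    { toFun := fun x => ((e1.symm x.1).1, ⟨b.equivFun (e1.symm x.1).2, by
          rw [← hcoord, ← hform (e1.symm x.1).1, ← he1]
          simpa using x.2⟩)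
      invFun := fun pr => ⟨e1 (pr.1, b.equivFun.symm pr.2.1), by
          rw [he1, hform, hcoord, LinearEquiv.apply_symm_apply]
          exact pr.2.2⟩
      left_inv := by
        intro x
        apply Subtype.ext
        simp
      right_inv := by
        rintro ⟨k, c, hc⟩
        have h1 : e1.symm (e1 (k, b.equivFun.symm c)) = (k, b.equivFun.symm c) :=
          e1.symm_apply_apply _
        apply Prod.ext
        · show (e1.symm (e1 (k, b.equivFun.symm c))).1 = k
          rw [h1]
        · apply Subtype.ext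
          show b.equivFun (e1.symm (e1 (k, b.equivFun.symm c))).2 = c
          rw [h1, LinearEquiv.apply_symm_apply] }
  rw [Nat.card_congr eJ, Nat.card_prod, card_herm_eq hF _ 0 (zero_pow (by omega)), if_pos rfl]
  congr 1
  have h1 : Nat.card K = Nat.card F ^ finrank F K := Module.natCard_eq_pow_finrank
  rw [h1, Nat.card_eq_fintype_card, hF]
  congr 1
  omega

end Cfsg.Agent.Lib.helper99.UCent
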