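import Mathlib
import Cfsg.Agent.Lib.helper99.UCentA
import Cfsg.Agent.Lib.helper44.UnipCent

set_option autoImplicit false

/-!
# Elements of prime order commuting with a unipotent isometry (helper99)
-/

namespace Cfsg.Agent.Lib.helper99.UCent

open Cfsg Matrix Cfsg.Agent.Lib.helper7 Cfsg.Agent.Lib.helper48 Module

/-- fixed point congruence for an invariant subset containing all the fixed points -/
theorem card_modEq_of_fix {α : Type*} [Finite α] (r : ℕ) [Fact r.Prime] (g : α → α)
    (hg : ∀ x, g^[r] x = x) (J : Set α) (hJ : ∀ x ∈ J, g x ∈ J) (hfix : ∀ x, g x = x → x ∈ J) :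
    Nat.card J ≡ Nat.card α [MOD r] := by
  classical
  have := Fintype.ofFinite α
  let f : Function.End J := fun x => ⟨g x.1, hJ x.1 x.2⟩
  have hfk : ∀ k (x : J), ((f ^ k) x).1 = g^[k] x.1 := by
    intro k
    induction k with
    | zero => intro x; rfl
    | succ k ih =>
      intro x
      rw [pow_succ', Function.iterate_succ_apply']
      show g ((f ^ k) x).1 = _
      rw [ih]
  have hf : f ^ r ^ 1 = 1 := by
    rw [pow_one]
    funext x
    apply Subtype.ext
    rw [hfk]
    exact hg x.1
  let g' : Function.End α := g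
  have hgk : ∀ k (x : α), (g' ^ k) x = g^[k] x := by
    intro k
    induction k with
    | zero => intro x; rfl
    | succ k ih =>
      intro x
      rw [pow_succ', Function.iterate_succ_apply']
      show g ((g' ^ k) x) = _
      rw [ih]
  have hg' : g' ^ r ^ 1 = 1 := by
    rw [pow_one]
    funext x
    rw [hgk]
    exact hg x
  have h1 := Equiv.Perm.card_fixedPoints_modEq hf
  have h2 := Equiv.Perm.card_fixedPoints_modEq hg'
  have h3 : Fintype.card (Function.fixedPoints f) = Fintype.card (Function.fixedPoints g') := by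
    apply Fintype.card_congr
    exact
      { toFun := fun x => ⟨x.1.1, congrArg Subtype.val x.2⟩
        invFun := fun y => ⟨⟨y.1, hfix y.1 y.2⟩, Subtype.ext y.2⟩
        left_inv := fun x => rfl
        right_inv := fun y => rfl }
  rw [Nat.card_eq_fintype_card, Nat.card_eq_fintype_card]
  rw [h3] at h1
  exact h1.trans h2.symm

section CStar

variable {F : Type*} [Field F] {m : ℕ}

theorem cstar_sub (σ : F →+* F) (X Y : Matrix (Fin m) (Fin m) F) :
    cstar σ (X - Y) = cstar σ X - cstar σ Y := by
  ext i j; simp [cstar_apply]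

theorem cstar_smul (σ : F →+* F) (c : F) (X : Matrix (Fin m) (Fin m) F) :
    cstar σ (c • X) = σ c • cstar σ X := by
  ext i j; simp [cstar_apply]

theorem cstar_pow (σ : F →+* F) (X : Matrix (Fin m) (Fin m) F) (k : ℕ) :
    cstar σ (X ^ k) = cstar σ X ^ k := by
  induction k with
  | zero => simp [cstar_one]
  | succ k ih => rw [pow_succ, cstar_mul, ih, pow_succ']

theorem cstar_sum (σ : F →+* F) {ι : Type*} (s : Finset ι) (f : ι → Matrix (Fin m) (Fin m) F) :
    cstar σ (∑ i ∈ s, f i) = ∑ i ∈ s, cstar σ (f i) := by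
  ext i j; simp [cstar_apply, Matrix.sum_apply]

theorem cstar_smul_one (σ : F →+* F) (c : F) :
    cstar σ (c • (1 : Matrix (Fin m) (Fin m) F)) = σ c • (1 : Matrix (Fin m) (Fin m) F) := by
  rw [cstar_smul, cstar_one]

/-- `μ` has norm one when `A - μ` is nilpotent and `A` is an isometry -/
theorem mu_norm (p : ℕ) [Fact p.Prime] [CharP F p] (σ : F →+* F) (hm : 0 < m)
    (A : Matrix (Fin m) (Fin m) F) (hA : cstar σ A * A = 1) (μ : F)
    (hN : (A - μ • (1 : Matrix (Fin m) (Fin m) F)) ^ p = 0) : σ μ * μ = 1 := by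
  have hp : p.Prime := Fact.out
  have : NeZero m := ⟨by omega⟩
  have hc : Commute A (μ • (1 : Matrix (Fin m) (Fin m) F)) := (Commute.one_right A).smul_right μ
  have hAp : A ^ p = μ ^ p • (1 : Matrix (Fin m) (Fin m) F) := by
    rw [sub_pow_char_of_commute p hc, smul_pow, one_pow] at hN
    exact sub_eq_zero.1 hN
  have hA' : A * cstar σ A = 1 := mul_eq_one_comm.1 hA
  have hcomm : Commute (cstar σ A) A := by
    show cstar σ A * A = A * cstar σ A
    rw [hA, hA']
  have h1 : cstar σ (A ^ p) * A ^ p = 1 := by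
    rw [cstar_pow, ← hcomm.mul_pow, hA, one_pow]
  rw [hAp, cstar_smul_one, Matrix.smul_mul, Matrix.one_mul, smul_smul] at h1
  have h2 := congrFun (congrFun h1 (⟨0, hm⟩ : Fin m)) (⟨0, hm⟩ : Fin m)
  simp only [Matrix.smul_apply, Matrix.one_apply_eq, smul_eq_mul, mul_one] at h2
  have h3 : (σ μ * μ) ^ p = 1 := by
    rw [mul_pow, ← map_pow]
    exact h2
  have h4 : (σ μ * μ - 1) ^ p = 0 := by rw [sub_pow_char, h3, one_pow, sub_self]
  exact sub_eq_zero.1 (pow_eq_zero_iff hp.ne_zero |>.1 h4)

end CStar

section Structure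

variable {F : Type*} [Field F] {m : ℕ}

/-- the Hermitian matrix attached to a unipotent isometry `1 + N` commuting with an isometry
`C` of prime order: `X = λ N^j (r - Σ C^i)` for the last `j` making this non-zero -/
theorem exists_herm (σ : F →+* F) (hσne : σ ≠ RingHom.id F) (hσ2 : ∀ a, σ (σ a) = a)
    (p : ℕ) (hm : 4 ≤ m) (r : ℕ) (hrF : (r : F) ≠ 0)
    (N C : Matrix (Fin m) (Fin m) F)
    (hu : cstar σ (1 + N) * (1 + N) = 1) (hNp : N ^ p = 0) (hN0 : N ≠ 0)
    (hC : cstar σ C * C = 1) (hCr : C ^ r = 1) (hC1 : C ≠ 1) (hNC : N * C = C * N) :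
    ∃ X : Matrix (Fin m) (Fin m) F, cstar σ X = X ∧ C * X = X * C ∧
      (∀ x, C *ᵥ x = x → X *ᵥ x = 0) ∧ X ≠ 0 ∧
      2 ≤ finrank F (LinearMap.ker (Matrix.toLin' X)) := by
  classical
  set us := cstar σ (1 + N) with hus
  have hus1 : us * (1 + N) = 1 := hu
  have hus2 : (1 + N) * us = 1 := mul_eq_one_comm.1 hu
  have husN : us * N = 1 - us := by
    have h1 := hus1
    rw [mul_add, mul_one] at h1
    exact eq_sub_of_add_eq' h1
  have hNus : N * us = 1 - us := by
    have h1 := hus2
    rw [add_mul, one_mul] at h1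
    exact eq_sub_of_add_eq' h1
  have hcNus : Commute N us := by
    show N * us = us * N
    rw [hNus, husN]
  have hcNC : Commute N C := hNC
  have hsN : cstar σ N = -(us * N) := by
    have h1 : cstar σ N = us - 1 := by
      have h2 : N = (1 + N) - 1 := by abel
      conv_lhs => rw [h2]
      rw [cstar_sub, cstar_one]
    rw [h1, husN]
    abel
  have hcusC : Commute us C := by
    show us * C = C * us
    have h1 : (1 + N) * C = C * (1 + N) := by rw [add_mul, mul_add, one_mul, mul_one, hNC]
    calc us * C = us * C * ((1 + N) * us) := by rw [hus2, mul_one]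
      _ = us * (C * (1 + N)) * us := by simp only [mul_assoc]
      _ = us * ((1 + N) * C) * us := by rw [h1]
      _ = (us * (1 + N)) * C * us := by simp only [mul_assoc]
      _ = C * us := by rw [hus1, one_mul]
  set P := ∑ i ∈ Finset.range r, C ^ i with hP
  have hCP : C * P = P := by
    have h1 := Finset.sum_range_succ' (fun i => C ^ i) r
    have h2 := Finset.sum_range_succ (fun i => C ^ i) r
    rw [h2, hCr, pow_zero] at h1
    have h3 : C * P = ∑ i ∈ Finset.range r, C ^ (i + 1) := by
      rw [hP, Finset.mul_sum]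
      exact Finset.sum_congr rfl (fun i _ => (pow_succ' C i).symm)
    rw [h3]
    exact (add_right_cancel h1).symm
  have hcPC : Commute P C := Commute.sum_left _ _ _ (fun i _ => (Commute.refl C).pow_left i)
  have hCiP : ∀ i, C ^ i * P = P := by
    intro i
    induction i with
    | zero => rw [pow_zero, one_mul]
    | succ i ih => rw [pow_succ, mul_assoc, hCP, ih]
  have hPP : P * P = (r : F) • P := by
    have h1 : P * P = ∑ i ∈ Finset.range r, C ^ i * P := by rw [← Finset.sum_mul]
    rw [h1, Finset.sum_congr rfl (fun i _ => hCiP i), Finset.sum_const, Finset.card_range,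
      Nat.cast_smul_eq_nsmul]
  set π := (r : F) • (1 : Matrix (Fin m) (Fin m) F) - P with hπ
  have hπP : π * P = 0 := by
    rw [hπ, sub_mul, Matrix.smul_mul, Matrix.one_mul, hPP, sub_self]
  have hcNP : Commute N P := Commute.sum_right _ _ _ (fun i _ => hcNC.pow_right i)
  have hcusP : Commute us P := Commute.sum_right _ _ _ (fun i _ => hcusC.pow_right i)
  have hcNπ : Commute N π := (Commute.smul_right (Commute.one_right N) _).sub_right hcNP
  have hcusπ : Commute us π := (Commute.smul_right (Commute.one_right us) _).sub_right hcusP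
  have hcCπ : Commute C π := (Commute.smul_right (Commute.one_right C) _).sub_right hcPC.symm
  have hCs1 : cstar σ C * C = 1 := hC
  have hCs2 : C * cstar σ C = 1 := mul_eq_one_comm.1 hC
  have hsP : cstar σ P = P := by
    have h1 : ∀ i ∈ Finset.range r, cstar σ (C ^ i) = C ^ (r - i) := by
      intro i hi
      rw [Finset.mem_range] at hi
      have hcomm : Commute (cstar σ C) C := by
        show cstar σ C * C = C * cstar σ C
        rw [hCs1, hCs2]
      have h2 : cstar σ C ^ i * C ^ i = 1 := by rw [← hcomm.mul_pow, hCs1, one_pow]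
      calc cstar σ (C ^ i) = cstar σ C ^ i * C ^ r := by rw [cstar_pow, hCr, mul_one]
        _ = cstar σ C ^ i * (C ^ i * C ^ (r - i)) := by rw [← pow_add, Nat.add_sub_cancel' hi.le]
        _ = C ^ (r - i) := by rw [← mul_assoc, h2, one_mul]
    have h3 := Finset.sum_range_reflect (fun j => C ^ (j + 1)) r
    have h4 : ∑ j ∈ Finset.range r, C ^ (r - 1 - j + 1) = ∑ j ∈ Finset.range r, C ^ (r - j) := by
      apply Finset.sum_congr rfl
      intro j hj
      rw [Finset.mem_range] at hj
      congr 1
      omega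
    have h5 : ∑ j ∈ Finset.range r, C ^ (j + 1) = C * P := by
      rw [hP, Finset.mul_sum]
      exact Finset.sum_congr rfl (fun j _ => pow_succ' C j)
    calc cstar σ P = ∑ i ∈ Finset.range r, cstar σ (C ^ i) := by rw [hP, cstar_sum]
      _ = ∑ j ∈ Finset.range r, C ^ (r - j) := Finset.sum_congr rfl h1
      _ = ∑ j ∈ Finset.range r, C ^ (j + 1) := by rw [← h4, h3]
      _ = P := by rw [h5, hCP]
  have hsπ : cstar σ π = π := by
    rw [hπ, cstar_sub, cstar_smul_one, map_natCast, hsP]
  have hfix0 : ∀ x, C *ᵥ x = x → π *ᵥ x = 0 := by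
    intro x hx
    have h1 : ∀ i, C ^ i *ᵥ x = x := by
      intro i
      induction i with
      | zero => rw [pow_zero, Matrix.one_mulVec]
      | succ i ih => rw [pow_succ, ← Matrix.mulVec_mulVec, hx, ih]
    have h2 : P *ᵥ x = (r : F) • x := by
      rw [hP, Matrix.sum_mulVec, Finset.sum_congr rfl (fun i _ => h1 i), Finset.sum_const,
        Finset.card_range, Nat.cast_smul_eq_nsmul]
    rw [hπ, Matrix.sub_mulVec, Matrix.smul_mulVec, Matrix.one_mulVec, h2, sub_self]
  have hπ0 : π ≠ 0 := by
    intro h0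
    have h1 : P = (r : F) • (1 : Matrix (Fin m) (Fin m) F) := (sub_eq_zero.1 h0).symm
    have h2 := hCP
    rw [h1, Matrix.mul_smul, Matrix.mul_one] at h2
    exact hC1 (smul_right_injective _ hrF h2)
  have hex : ∃ k, N ^ k * π = 0 := ⟨p, by rw [hNp, zero_mul]⟩
  have hk₀spec : N ^ (Nat.find hex) * π = 0 := Nat.find_spec hex
  have hk₀pos : Nat.find hex ≠ 0 := by
    intro h0
    rw [h0, pow_zero, one_mul] at hk₀spec
    exact hπ0 hk₀spec
  obtain ⟨j, hj⟩ : ∃ j, Nat.find hex = j + 1 := ⟨Nat.find hex - 1, by omega⟩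
  have hTj : N ^ j * π ≠ 0 := Nat.find_min hex (by omega : j < Nat.find hex)
  have hTj1 : N ^ (j + 1) * π = 0 := by
    rw [← hj]
    exact hk₀spec
  set T := N ^ j * π with hT
  have husT : us * T = T := by
    have h1 : us = 1 - us * N := by
      rw [husN]
      abel
    calc us * T = (1 - us * N) * T := by rw [← h1]
      _ = T - us * (N * T) := by rw [sub_mul, one_mul, mul_assoc]
      _ = T := by rw [hT, ← mul_assoc N, ← pow_succ', hTj1, mul_zero, sub_zero]
  have huskT : ∀ k, us ^ k * T = T := by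
    intro k
    induction k with
    | zero => rw [pow_zero, one_mul]
    | succ k ih => rw [pow_succ, mul_assoc, husT, ih]
  have hsT : cstar σ T = (-1 : Matrix (Fin m) (Fin m) F) ^ j * T := by
    have c1 : Commute π (us ^ j) := (hcusπ.symm).pow_right j
    have c2 : Commute π (N ^ j) := (hcNπ.symm).pow_right j
    have c3 : Commute π ((-1 : Matrix (Fin m) (Fin m) F) ^ j) :=
      ((Commute.one_right π).neg_right).pow_right j
    calc cstar σ T = π * ((-1 : Matrix (Fin m) (Fin m) F) ^ j * (us ^ j * N ^ j)) := by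
          rw [hT, cstar_mul, hsπ, cstar_pow, hsN, neg_pow, (hcNus.symm).mul_pow]
      _ = (-1 : Matrix (Fin m) (Fin m) F) ^ j * (us ^ j * (N ^ j * π)) := by
          rw [← mul_assoc, c3.eq, mul_assoc, ← mul_assoc π, c1.eq, mul_assoc, c2.eq]
      _ = (-1 : Matrix (Fin m) (Fin m) F) ^ j * T := by rw [← hT, huskT]
  have hCT : C * T = T * C := ((hcNC.symm.pow_right j).mul_right hcCπ).eq
  have hfixT : ∀ x, C *ᵥ x = x → T *ᵥ x = 0 := by
    intro x hx
    rw [hT, ← Matrix.mulVec_mulVec, hfix0 x hx, Matrix.mulVec_zero]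
  have hnil : IsNilpotent (Matrix.toLin' N) := by
    refine ⟨p, ?_⟩
    show (Matrix.toLinAlgEquiv' N) ^ p = 0
    rw [← map_pow, hNp, map_zero]
  have hkerT : 2 ≤ finrank F (LinearMap.ker (Matrix.toLin' T)) := by
    rcases Nat.eq_zero_or_pos j with hj0 | hjpos
    · -- `j = 0`
      have hTπ : T = π := by rw [hT, hj0, pow_zero, one_mul]
      have hNπ : N * π = 0 := by
        have h1 := hTj1
        rw [hj0, zero_add, pow_one] at h1
        exact h1
      have hNP : N * P = (r : F) • N := by
        have h1 := hNπ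
        rw [hπ, mul_sub, Matrix.mul_smul, Matrix.mul_one] at h1
        exact (sub_eq_zero.1 h1).symm
      obtain ⟨v, hv⟩ : ∃ v, N *ᵥ v ≠ 0 := by
        by_contra hall
        push Not at hall
        apply hN0
        have h1 : Matrix.toLin' N = 0 := by
          apply LinearMap.ext
          intro v
          rw [Matrix.toLin'_apply, hall v]
          rfl
        exact (LinearEquiv.map_eq_zero_iff _).1 h1
      have hNv₀ : N *ᵥ (P *ᵥ v) ≠ 0 := by
        rw [Matrix.mulVec_mulVec, hNP, Matrix.smul_mulVec]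
        exact smul_ne_zero hrF hv
      have hv₀K : P *ᵥ v ∈ LinearMap.ker (Matrix.toLin' T) := by
        rw [LinearMap.mem_ker, Matrix.toLin'_apply, hTπ, Matrix.mulVec_mulVec, hπP,
          Matrix.zero_mulVec]
      have hinv : ∀ k ∈ LinearMap.ker (Matrix.toLin' T),
          Matrix.toLin' N k ∈ LinearMap.ker (Matrix.toLin' T) := by
        intro k hk
        rw [LinearMap.mem_ker, Matrix.toLin'_apply, hTπ] at hk ⊢
        rw [Matrix.toLin'_apply, Matrix.mulVec_mulVec, ← hcNπ.eq, ← Matrix.mulVec_mulVec, hk,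
          Matrix.mulVec_zero]
      by_contra hlt
      push Not at hlt
      interval_cases hfr : finrank F (LinearMap.ker (Matrix.toLin' T))
      · have hbot : LinearMap.ker (Matrix.toLin' T) = ⊥ := Submodule.finrank_eq_zero.1 hfr
        rw [hbot, Submodule.mem_bot] at hv₀K
        rw [hv₀K, Matrix.mulVec_zero] at hNv₀
        exact hNv₀ rfl
      · have h1 := Cfsg.Agent.Lib.helper44.nilpotent_vanish_of_finrank_one (Matrix.toLin' N) hnil
          (LinearMap.ker (Matrix.toLin' T)) hfr hinv
        have h2 := h1 hv₀K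
        rw [LinearMap.mem_ker, Matrix.toLin'_apply] at h2
        exact hNv₀ h2
    · -- `j ≥ 1`
      have hNjT : N ^ j * T = 0 := by
        rw [hT, ← mul_assoc, ← pow_add, show j + j = (j - 1) + (j + 1) by omega, pow_add,
          mul_assoc, hTj1, mul_zero]
      have c2 : Commute π (N ^ j) := (hcNπ.symm).pow_right j
      have hTT : T * T = 0 := by
        calc T * T = N ^ j * (π * N ^ j) * π := by rw [hT]; simp only [mul_assoc]
          _ = N ^ j * T * π := by rw [c2.eq, ← hT]
          _ = 0 := by rw [hNjT, zero_mul]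
      have hle : LinearMap.range (Matrix.toLin' T) ≤ LinearMap.ker (Matrix.toLin' T) := by
        rintro _ ⟨x, rfl⟩
        rw [LinearMap.mem_ker, Matrix.toLin'_apply, Matrix.toLin'_apply, Matrix.mulVec_mulVec,
          hTT, Matrix.zero_mulVec]
      have h1 := LinearMap.finrank_range_add_finrank_ker (Matrix.toLin' T)
      rw [Module.finrank_fin_fun] at h1
      have h2 := Submodule.finrank_mono hle
      omega
  obtain ⟨a, ha⟩ : ∃ a : F, σ a ≠ a := by
    by_contra hcon
    push Not at hcon
    exact hσne (RingHom.ext hcon)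
  -- the scalar making `T` Hermitian
  obtain ⟨lam, hlam0, hlam⟩ : ∃ lam : F, lam ≠ 0 ∧ cstar σ (lam • T) = lam • T := by
    rcases Nat.even_or_odd j with hje | hjo
    · refine ⟨1, one_ne_zero, ?_⟩
      rw [one_smul, hsT, hje.neg_one_pow, one_mul]
    · refine ⟨a - σ a, sub_ne_zero.2 (Ne.symm ha), ?_⟩
      rw [cstar_smul, hsT, hjo.neg_one_pow, neg_one_mul, map_sub, hσ2, smul_neg, ← neg_smul,
        neg_sub]
  refine ⟨lam • T, hlam, ?_, ?_, smul_ne_zero hlam0 hTj, ?_⟩
  · rw [Matrix.mul_smul, Matrix.smul_mul, hCT]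
  · intro x hx
    rw [Matrix.smul_mulVec, hfixT x hx, smul_zero]
  · have h1 : Matrix.toLin' (lam • T) = lam • Matrix.toLin' T := map_smul _ _ _
    rw [h1, LinearMap.ker_smul _ _ hlam0]
    exact hkerT

end Structure

end Cfsg.Agent.Lib.helper99.UCent
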