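import Mathlib
import Cfsg.Agent.Lib.helper99.Ex27C
import Cfsg.Agent.Lib.helper99.UCentB

set_option autoImplicit false

/-!
# The normalizer of an extraspecial group of order 27 in `GL_3` (helper99)
-/

namespace Cfsg.Agent.Lib.helper99.Ex27

open Cfsg Matrix

variable {F : Type*} [Field F]

theorem mem_sl3_iff (g : GL (Fin 3) F) :
    g ∈ Cfsg.Geo.specialLinear (Fin 3) F ↔ (g : Matrix (Fin 3) (Fin 3) F).det = 1 := by
  unfold Cfsg.Geo.specialLinear
  rw [MonoidHom.mem_ker]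
  constructor
  · intro h
    have := congrArg Units.val h
    simpa using this
  · intro h
    apply Units.ext
    simpa using h

/-- a matrix commuting with the shift and with `diag(1, γ, γ²)` is scalar -/
theorem scalar_of_comm (γ : F) (hγ : γ ^ 2 + γ + 1 = 0) (h3 : (3 : F) ≠ 0)
    (H : Matrix (Fin 3) (Fin 3) F) (hX : H * Xm = Xm * H) (hZ : H * Zm γ = Zm γ * H) :
    H = H 0 0 • (1 : Matrix (Fin 3) (Fin 3) F) := by
  have hγ1 := gamma_ne_one γ hγ h3
  have hγ0 := gamma_ne_zero γ hγ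
  have hγ3 := gamma_cube γ hγ
  have hg2 : γ ^ 2 ≠ 1 := by
    intro h
    apply hγ1
    calc γ = γ * 1 := by ring
      _ = γ * γ ^ 2 := by rw [h]
      _ = 1 := by rw [← hγ3]; ring
  have z01 : H 0 1 = 0 := by
    have h := congrFun (congrFun hZ 0) 1
    have h' : H 0 1 * γ = H 0 1 := by simpa [Zm, Matrix.mul_apply, Fin.sum_univ_three] using h
    have h4 : H 0 1 * (γ - 1) = 0 := by linear_combination h'
    rcases mul_eq_zero.1 h4 with h | h
    · exact h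
    · exact absurd (sub_eq_zero.1 h) hγ1
  have z02 : H 0 2 = 0 := by
    have h := congrFun (congrFun hZ 0) 2
    have h' : H 0 2 * γ ^ 2 = H 0 2 := by simpa [Zm, Matrix.mul_apply, Fin.sum_univ_three] using h
    have h4 : H 0 2 * (γ ^ 2 - 1) = 0 := by linear_combination h'
    rcases mul_eq_zero.1 h4 with h | h
    · exact h
    · exact absurd (sub_eq_zero.1 h) hg2
  have z10 : H 1 0 = 0 := by
    have h := congrFun (congrFun hZ 1) 0
    have h' : H 1 0 = γ * H 1 0 := by simpa [Zm, Matrix.mul_apply, Fin.sum_univ_three] using h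
    have h4 : H 1 0 * (γ - 1) = 0 := by linear_combination -h'
    rcases mul_eq_zero.1 h4 with h | h
    · exact h
    · exact absurd (sub_eq_zero.1 h) hγ1
  have z12 : H 1 2 = 0 := by
    have h := congrFun (congrFun hZ 1) 2
    have h' : H 1 2 * γ ^ 2 = γ * H 1 2 := by
      simpa [Zm, Matrix.mul_apply, Fin.sum_univ_three] using h
    have h4 : H 1 2 * (γ * (γ - 1)) = 0 := by linear_combination h'
    rcases mul_eq_zero.1 h4 with h | h
    · exact h
    · rcases mul_eq_zero.1 h with h | h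
      · exact absurd h hγ0
      · exact absurd (sub_eq_zero.1 h) hγ1
  have z20 : H 2 0 = 0 := by
    have h := congrFun (congrFun hZ 2) 0
    have h' : H 2 0 = γ ^ 2 * H 2 0 := by simpa [Zm, Matrix.mul_apply, Fin.sum_univ_three] using h
    have h4 : H 2 0 * (γ ^ 2 - 1) = 0 := by linear_combination -h'
    rcases mul_eq_zero.1 h4 with h | h
    · exact h
    · exact absurd (sub_eq_zero.1 h) hg2
  have z21 : H 2 1 = 0 := by
    have h := congrFun (congrFun hZ 2) 1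
    have h' : H 2 1 * γ = γ ^ 2 * H 2 1 := by
      simpa [Zm, Matrix.mul_apply, Fin.sum_univ_three] using h
    have h4 : H 2 1 * (γ * (γ - 1)) = 0 := by linear_combination -h'
    rcases mul_eq_zero.1 h4 with h | h
    · exact h
    · rcases mul_eq_zero.1 h with h | h
      · exact absurd h hγ0
      · exact absurd (sub_eq_zero.1 h) hγ1
  have d1 : H 1 1 = H 0 0 := by
    have h := congrFun (congrFun hX 1) 0
    simpa [Xm, Matrix.mul_apply, Fin.sum_univ_three] using h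
  have d2 : H 2 2 = H 1 1 := by
    have h := congrFun (congrFun hX 2) 1
    simpa [Xm, Matrix.mul_apply, Fin.sum_univ_three] using h
  ext i j
  fin_cases i <;> fin_cases j <;> simp [z01, z02, z10, z12, z20, z21, d1, d2]

section Grp

variable (γ : F) (hγ : γ ^ 2 + γ + 1 = 0) (h3 : (3 : F) ≠ 0) (R : Subgroup (GL (Fin 3) F))
  (hR : Nat.card R = 27) (P X Z : GL (Fin 3) F) (hX : (X : Matrix (Fin 3) (Fin 3) F) = Xm)
  (hZ : (Z : Matrix (Fin 3) (Fin 3) F) = Zm γ)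

include hγ hX hZ in
/-- the commutator of the two generators is the scalar `γ` -/
theorem scal_val : ((Z * X * Z⁻¹ * X⁻¹ : GL (Fin 3) F) : Matrix (Fin 3) (Fin 3) F)
    = γ • (1 : Matrix (Fin 3) (Fin 3) F) := by
  have h1 : (Z * X * Z⁻¹ * X⁻¹) * (X * Z) = Z * X := by group
  have h2 : ((Z * X * Z⁻¹ * X⁻¹ : GL (Fin 3) F) : Matrix (Fin 3) (Fin 3) F) * (Xm * Zm γ)
      = γ • (Xm * Zm γ) := by
    have h := congrArg Units.val h1
    rw [Units.val_mul, Units.val_mul X Z, Units.val_mul Z X, hX, hZ, Zm_mul_Xm γ hγ] at h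
    exact h
  have h4 : (Xm * Zm γ) * (((X * Z)⁻¹ : GL (Fin 3) F) : Matrix (Fin 3) (Fin 3) F) = 1 := by
    rw [← hX, ← hZ, ← Units.val_mul, ← Units.val_mul, mul_inv_cancel, Units.val_one]
  calc ((Z * X * Z⁻¹ * X⁻¹ : GL (Fin 3) F) : Matrix (Fin 3) (Fin 3) F)
      = ((Z * X * Z⁻¹ * X⁻¹ : GL (Fin 3) F) : Matrix (Fin 3) (Fin 3) F) * ((Xm * Zm γ) *
          (((X * Z)⁻¹ : GL (Fin 3) F) : Matrix (Fin 3) (Fin 3) F)) := by rw [h4, Matrix.mul_one]
    _ = γ • (1 : Matrix (Fin 3) (Fin 3) F) := by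
        rw [← Matrix.mul_assoc, h2, Matrix.smul_mul, h4]

include hγ h3 hX hZ in
theorem central_of_commute (g : GL (Fin 3) F)
    (hgX : g * (P * X * P⁻¹) = (P * X * P⁻¹) * g) (hgZ : g * (P * Z * P⁻¹) = (P * Z * P⁻¹) * g) :
    ∃ s : F, (g : Matrix (Fin 3) (Fin 3) F) = s • (1 : Matrix (Fin 3) (Fin 3) F) := by
  have h1 : (P⁻¹ * g * P) * X = X * (P⁻¹ * g * P) := by
    calc P⁻¹ * g * P * X = P⁻¹ * (g * (P * X * P⁻¹)) * P := by group
      _ = P⁻¹ * ((P * X * P⁻¹) * g) * P := by rw [hgX]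
      _ = X * (P⁻¹ * g * P) := by group
  have h2 : (P⁻¹ * g * P) * Z = Z * (P⁻¹ * g * P) := by
    calc P⁻¹ * g * P * Z = P⁻¹ * (g * (P * Z * P⁻¹)) * P := by group
      _ = P⁻¹ * ((P * Z * P⁻¹) * g) * P := by rw [hgZ]
      _ = Z * (P⁻¹ * g * P) := by group
  have m1 : ((P⁻¹ * g * P : GL (Fin 3) F) : Matrix (Fin 3) (Fin 3) F) * Xm
      = Xm * ((P⁻¹ * g * P : GL (Fin 3) F) : Matrix (Fin 3) (Fin 3) F) := by
    have h := congrArg Units.val h1
    rwa [Units.val_mul, Units.val_mul _ (P⁻¹ * g * P), hX] at h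
  have m2 : ((P⁻¹ * g * P : GL (Fin 3) F) : Matrix (Fin 3) (Fin 3) F) * Zm γ
      = Zm γ * ((P⁻¹ * g * P : GL (Fin 3) F) : Matrix (Fin 3) (Fin 3) F) := by
    have h := congrArg Units.val h2
    rwa [Units.val_mul, Units.val_mul _ (P⁻¹ * g * P), hZ] at h
  obtain ⟨s, hs⟩ : ∃ s : F, ((P⁻¹ * g * P : GL (Fin 3) F) : Matrix (Fin 3) (Fin 3) F)
      = s • (1 : Matrix (Fin 3) (Fin 3) F) := ⟨_, scalar_of_comm γ hγ h3 _ m1 m2⟩
  refine ⟨s, ?_⟩
  have hg : g = P * (P⁻¹ * g * P) * P⁻¹ := by group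
  rw [hg, Units.val_mul, Units.val_mul, hs, Matrix.mul_smul, Matrix.smul_mul, Matrix.mul_one,
    ← Units.val_mul, mul_inv_cancel, Units.val_one]

include hγ h3 hR hX hZ in
/-- a subgroup of `R` containing the two generators is `R` -/
theorem gen_eq (S : Subgroup (GL (Fin 3) F)) (hSR : S ≤ R) (hXS : P * X * P⁻¹ ∈ S)
    (hZS : P * Z * P⁻¹ ∈ S) : S = R := by
  have hfinR : Finite R := Nat.finite_of_card_ne_zero (by rw [hR]; norm_num)
  have hfinS : Finite S :=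
    Finite.of_injective (Subgroup.inclusion hSR) (Subgroup.inclusion_injective hSR)
  have hdvd : Nat.card S ∣ 27 := hR ▸ Subgroup.card_dvd_of_le hSR
  by_cases h27 : Nat.card S = 27
  · exact Subgroup.eq_of_le_of_card_ge hSR (by rw [hR, h27])
  · exfalso
    have h9 : Nat.card S ∣ 9 := by
      have hmem : Nat.card S ∈ Nat.divisors 27 := Nat.mem_divisors.2 ⟨hdvd, by norm_num⟩
      have hd : Nat.divisors 27 = {1, 3, 9, 27} := by decide
      rw [hd] at hmem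
      simp only [Finset.mem_insert, Finset.mem_singleton] at hmem
      rcases hmem with h | h | h | h
      · rw [h]; norm_num
      · rw [h]; norm_num
      · rw [h]
      · exact absurd h h27
    have hcomm := comm_of_card_dvd_nine h9 ⟨_, hXS⟩ ⟨_, hZS⟩
    have h1 : (P * X * P⁻¹) * (P * Z * P⁻¹) = (P * Z * P⁻¹) * (P * X * P⁻¹) :=
      congrArg Subtype.val hcomm
    have h2 : X * Z = Z * X := by
      calc X * Z = P⁻¹ * ((P * X * P⁻¹) * (P * Z * P⁻¹)) * P := by group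
        _ = P⁻¹ * ((P * Z * P⁻¹) * (P * X * P⁻¹)) * P := by rw [h1]
        _ = Z * X := by group
    have h4 := congrArg Units.val h2
    rw [Units.val_mul, Units.val_mul, hX, hZ, Zm_mul_Xm γ hγ] at h4
    have h5 : (1 - γ) • (Xm * Zm γ) = 0 := by
      rw [sub_smul, one_smul, ← h4, sub_self]
    rcases smul_eq_zero.1 h5 with h | h
    · exact gamma_ne_one γ hγ h3 (sub_eq_zero.1 h).symm
    · have h6 : ((X * Z : GL (Fin 3) F) : Matrix (Fin 3) (Fin 3) F) = 0 := by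
        rw [Units.val_mul, hX, hZ, h]
      have h7 := (X * Z).val_inv
      rw [h6, Matrix.zero_mul] at h7
      exact zero_ne_one h7

include hγ h3 hR hX hZ in
/-- criterion for membership in the normalizer -/
theorem mem_normalizer (hXR : P * X * P⁻¹ ∈ R) (hZR : P * Z * P⁻¹ ∈ R) (n : GL (Fin 3) F)
    (hnX : n * (P * X * P⁻¹) * n⁻¹ ∈ R) (hnZ : n * (P * Z * P⁻¹) * n⁻¹ ∈ R) :
    n ∈ Cfsg.Geo.subgroupNormalizer R := by
  have hfinR : Finite R := Nat.finite_of_card_ne_zero (by rw [hR]; norm_num)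
  have hS : R ⊓ R.comap (MulAut.conj n).toMonoidHom = R :=
    gen_eq γ hγ h3 R hR P X Z hX hZ _ inf_le_left
      (Subgroup.mem_inf.2 ⟨hXR, hnX⟩) (Subgroup.mem_inf.2 ⟨hZR, hnZ⟩)
  have hconj : ∀ h ∈ R, n * h * n⁻¹ ∈ R := by
    intro h hh
    have h' : h ∈ R ⊓ R.comap (MulAut.conj n).toMonoidHom := by rw [hS]; exact hh
    exact h'.2
  let φ : R → R := fun h => ⟨n * h * n⁻¹, hconj h h.2⟩
  have hφinj : Function.Injective φ := by
    intro h1 h2 h
    have h' : n * (h1 : GL (Fin 3) F) * n⁻¹ = n * (h2 : GL (Fin 3) F) * n⁻¹ :=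
      congrArg Subtype.val h
    apply Subtype.ext
    simpa using h'
  have hφsurj : Function.Surjective φ := Finite.injective_iff_surjective.1 hφinj
  intro h
  constructor
  · exact hconj h
  · intro hh
    obtain ⟨h', hh'⟩ := hφsurj ⟨_, hh⟩
    have h4 : n * (h' : GL (Fin 3) F) * n⁻¹ = n * h * n⁻¹ := congrArg Subtype.val hh'
    have e : (h' : GL (Fin 3) F) = h := by simpa using h4
    rw [← e]
    exact h'.2

include hγ h3 hR hX hZ in
theorem conj_mem_normalizer (hXR : P * X * P⁻¹ ∈ R) (hZR : P * Z * P⁻¹ ∈ R) (n₀ : GL (Fin 3) F)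
    (hX0 : P * (n₀ * X * n₀⁻¹) * P⁻¹ ∈ R) (hZ0 : P * (n₀ * Z * n₀⁻¹) * P⁻¹ ∈ R) :
    P * n₀ * P⁻¹ ∈ Cfsg.Geo.subgroupNormalizer R := by
  apply mem_normalizer γ hγ h3 R hR P X Z hX hZ hXR hZR
  · have e : (P * n₀ * P⁻¹) * (P * X * P⁻¹) * (P * n₀ * P⁻¹)⁻¹ = P * (n₀ * X * n₀⁻¹) * P⁻¹ := by
      group
    rw [e]
    exact hX0
  · have e : (P * n₀ * P⁻¹) * (P * Z * P⁻¹) * (P * n₀ * P⁻¹)⁻¹ = P * (n₀ * Z * n₀⁻¹) * P⁻¹ := by
      group
    rw [e]
    exact hZ0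

include hγ hX hZ in
theorem conj_of_S0 (n₀ : GL (Fin 3) F) (μ : F)
    (hn : (n₀ : Matrix (Fin 3) (Fin 3) F) = μ • S0m) :
    n₀ * X * n₀⁻¹ = X * X ∧ n₀ * Z * n₀⁻¹ = Z * Z := by
  constructor
  · rw [mul_inv_eq_iff_eq_mul]
    apply Units.ext
    rw [Units.val_mul, Units.val_mul, Units.val_mul, hX, hn, Matrix.smul_mul, Matrix.mul_smul,
      S0m_Xm]
  · rw [mul_inv_eq_iff_eq_mul]
    apply Units.ext
    rw [Units.val_mul, Units.val_mul, Units.val_mul, hZ, hn, Matrix.smul_mul, Matrix.mul_smul,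
      S0m_Zm γ hγ]

include hγ hX hZ in
theorem conj_of_diag (R₀ : Subgroup (GL (Fin 3) F)) (hXR₀ : X ∈ R₀) (hZR₀ : Z ∈ R₀)
    (n₀ : GL (Fin 3) F) (μ : F) (d : Fin 3 → F) (hd : ∀ i, d i ^ 3 = 1)
    (hn : (n₀ : Matrix (Fin 3) (Fin 3) F) = μ • Matrix.diagonal d) :
    n₀ * X * n₀⁻¹ ∈ R₀ ∧ n₀ * Z * n₀⁻¹ ∈ R₀ := by
  have hs := scal_val γ hγ X Z hX hZ
  have hsR : Z * X * Z⁻¹ * X⁻¹ ∈ R₀ :=
    mul_mem (mul_mem (mul_mem hZR₀ hXR₀) (inv_mem hZR₀)) (inv_mem hXR₀)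
  have hγ3 := gamma_cube γ hγ
  constructor
  · have ha : (d 1 * d 0 ^ 2) ^ 3 = 1 := by
      rw [mul_pow, ← pow_mul, hd 1, one_mul, mul_comm 2 3, pow_mul, hd 0, one_pow]
    have ht : (d 0 * d 1 * d 2) ^ 3 = 1 := by
      rw [mul_pow, mul_pow, hd 0, hd 1, hd 2]
      norm_num
    obtain ⟨sa, hsaR, hsa⟩ : ∃ sa : GL (Fin 3) F, sa ∈ R₀ ∧
        (sa : Matrix (Fin 3) (Fin 3) F) = (d 1 * d 0 ^ 2) • (1 : Matrix (Fin 3) (Fin 3) F) := by
      rcases cube_root_cases γ _ hγ ha with h | h | h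
      · exact ⟨1, one_mem _, by rw [h, one_smul, Units.val_one]⟩
      · exact ⟨_, hsR, by rw [h, hs]⟩
      · refine ⟨_, mul_mem hsR hsR, ?_⟩
        rw [h, Units.val_mul, hs, Matrix.smul_mul, Matrix.one_mul, smul_smul, pow_two]
    obtain ⟨zt, hztR, hzt⟩ : ∃ zt : GL (Fin 3) F, zt ∈ R₀ ∧
        (zt : Matrix (Fin 3) (Fin 3) F) = Zm (d 0 * d 1 * d 2) := by
      rcases cube_root_cases γ _ hγ ht with h | h | h
      · exact ⟨1, one_mem _, by rw [h, Zm_one, Units.val_one]⟩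
      · exact ⟨Z, hZR₀, by rw [h, hZ]⟩
      · exact ⟨Z * Z, mul_mem hZR₀ hZR₀, by rw [h, Zm_sq, Units.val_mul, hZ]⟩
    have e : n₀ * X * n₀⁻¹ = sa * X * zt := by
      rw [mul_inv_eq_iff_eq_mul]
      apply Units.ext
      rw [Units.val_mul, Units.val_mul, Units.val_mul, Units.val_mul, hX, hn, hsa, hzt,
        Matrix.smul_mul, Matrix.mul_smul, diag_conj_X d hd, Matrix.smul_mul, Matrix.one_mul,
        Matrix.smul_mul, Matrix.smul_mul, smul_comm]
    rw [e]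
    exact mul_mem (mul_mem hsaR hXR₀) hztR
  · have e : n₀ * Z * n₀⁻¹ = Z := by
      rw [mul_inv_eq_iff_eq_mul]
      apply Units.ext
      rw [Units.val_mul, Units.val_mul, hZ, hn, Matrix.smul_mul, Matrix.mul_smul, diag_comm_Z]
    rw [e]
    exact hZR₀

end Grp

end Cfsg.Agent.Lib.helper99.Ex27
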