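import Mathlib
import Cfsg.Agent.Lib.helper99.Ex27D

set_option autoImplicit false

/-!
# Elements of prime order normalizing an extraspecial group of order 27 in `GL_3` (helper99)
-/

namespace Cfsg.Agent.Lib.helper99.Ex27

open Cfsg Matrix

variable {F : Type*} [Field F]

theorem prime_not_dvd_24 (n : ℕ) (hn : n.Prime) (h5 : 5 ≤ n) : ¬ n ∣ 24 := by
  intro h
  have h1 : n ∣ 8 * 3 := h
  rcases (Nat.Prime.dvd_mul hn).1 h1 with h2 | h2
  · have h3 : n ∣ 2 ^ 3 := h2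
    have := Nat.le_of_dvd (by norm_num) (hn.dvd_of_dvd_pow h3)
    omega
  · have := Nat.le_of_dvd (by norm_num) h2
    omega

theorem prime_not_dvd_18 (n : ℕ) (hn : n.Prime) (h5 : 5 ≤ n) : ¬ n ∣ 18 := by
  intro h
  have h1 : n ∣ 2 * 3 ^ 2 := h
  rcases (Nat.Prime.dvd_mul hn).1 h1 with h2 | h2
  · have := Nat.le_of_dvd (by norm_num) h2
    omega
  · have := Nat.le_of_dvd (by norm_num) (hn.dvd_of_dvd_pow h2)
    omega

section Grp

variable (γ : F) (hγ : γ ^ 2 + γ + 1 = 0) (h3 : (3 : F) ≠ 0) (R : Subgroup (GL (Fin 3) F))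
  (hR : Nat.card R = 27) (P X Z : GL (Fin 3) F) (hX : (X : Matrix (Fin 3) (Fin 3) F) = Xm)
  (hZ : (Z : Matrix (Fin 3) (Fin 3) F) = Zm γ)

include hγ h3 hR hX hZ in
/-- an element of the normalizer with a scalar `n`-th power, `n ≥ 5` prime, is scalar -/
theorem central_of_pow (hXR : P * X * P⁻¹ ∈ R) (hZR : P * Z * P⁻¹ ∈ R) (n : ℕ) [Fact n.Prime]
    (hn : 5 ≤ n) (g : GL (Fin 3) F) (hg : g ∈ Cfsg.Geo.subgroupNormalizer R)
    (hgn : ∃ z : F, ((g ^ n : GL (Fin 3) F) : Matrix (Fin 3) (Fin 3) F)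
      = z • (1 : Matrix (Fin 3) (Fin 3) F)) :
    ∃ s : F, (g : Matrix (Fin 3) (Fin 3) F) = s • (1 : Matrix (Fin 3) (Fin 3) F) := by
  have hnp : n.Prime := Fact.out
  have hfinR : Finite R := Nat.finite_of_card_ne_zero (by rw [hR]; norm_num)
  have hnorm : ∀ h, h ∈ R ↔ g * h * g⁻¹ ∈ R := hg
  let σ : R → R := fun h => ⟨g * h * g⁻¹, (hnorm h).1 h.2⟩
  have hiter : ∀ (k : ℕ) (h : R), ((σ^[k] h : R) : GL (Fin 3) F) = g ^ k * h * (g ^ k)⁻¹ := by
    intro k
    induction k with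
    | zero => intro h; simp
    | succ k ih =>
      intro h
      rw [Function.iterate_succ_apply']
      show g * ((σ^[k] h : R) : GL (Fin 3) F) * g⁻¹ = _
      rw [ih, pow_succ']
      group
  obtain ⟨z, hz⟩ := hgn
  have hcentral : ∀ h : GL (Fin 3) F, g ^ n * h * (g ^ n)⁻¹ = h := by
    intro h
    rw [mul_inv_eq_iff_eq_mul]
    apply Units.ext
    rw [Units.val_mul, Units.val_mul, hz, Matrix.smul_mul, Matrix.mul_smul, Matrix.one_mul,
      Matrix.mul_one]
  have hσn : ∀ h : R, σ^[n] h = h := fun h => Subtype.ext (by rw [hiter, hcentral])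
  let K : Subgroup R := (Subgroup.centralizer ({g} : Set (GL (Fin 3) F))).subgroupOf R
  have hKmem : ∀ h : R, h ∈ K ↔ σ h = h := by
    intro h
    rw [Subgroup.mem_subgroupOf, Subgroup.mem_centralizer_iff]
    constructor
    · intro hc
      apply Subtype.ext
      show g * (h : GL (Fin 3) F) * g⁻¹ = h
      rw [hc g rfl]
      group
    · intro hs x hx
      rw [Set.mem_singleton_iff] at hx
      subst hx
      have h4 : x * (h : GL (Fin 3) F) * x⁻¹ = h := congrArg Subtype.val hs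
      calc x * (h : GL (Fin 3) F) = (x * (h : GL (Fin 3) F) * x⁻¹) * x := by group
        _ = h * x := by rw [h4]
  have hmod := Cfsg.Agent.Lib.helper99.UCent.card_modEq_of_fix n σ hσn (K : Set R)
    (by
      intro x hx
      have h4 := (hKmem x).1 hx
      rw [h4]
      exact hx)
    (by
      intro x hx
      exact (hKmem x).2 hx)
  have hmod' : Nat.card K ≡ Nat.card R [MOD n] := hmod
  rw [hR] at hmod'
  have hKdvd : Nat.card K ∣ 27 := hR ▸ Subgroup.card_subgroup_dvd_card K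
  -- the scalar `γ` lies in `K`
  have hsv := scal_val γ hγ X Z hX hZ
  have hs0R : P * (Z * X * Z⁻¹ * X⁻¹) * P⁻¹ ∈ R := by
    have e : P * (Z * X * Z⁻¹ * X⁻¹) * P⁻¹
        = (P * Z * P⁻¹) * (P * X * P⁻¹) * (P * Z * P⁻¹)⁻¹ * (P * X * P⁻¹)⁻¹ := by group
    rw [e]
    exact mul_mem (mul_mem (mul_mem hZR hXR) (inv_mem hZR)) (inv_mem hXR)
  have hs0v : ((P * (Z * X * Z⁻¹ * X⁻¹) * P⁻¹ : GL (Fin 3) F) : Matrix (Fin 3) (Fin 3) F)
      = γ • (1 : Matrix (Fin 3) (Fin 3) F) := by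
    rw [Units.val_mul, Units.val_mul, hsv, Matrix.mul_smul, Matrix.smul_mul, Matrix.mul_one,
      ← Units.val_mul, mul_inv_cancel, Units.val_one]
  obtain ⟨s0, hs0R, hs0v⟩ : ∃ s0 : GL (Fin 3) F, s0 ∈ R ∧
      (s0 : Matrix (Fin 3) (Fin 3) F) = γ • (1 : Matrix (Fin 3) (Fin 3) F) := ⟨_, hs0R, hs0v⟩
  have hs0K : (⟨s0, hs0R⟩ : R) ∈ K := by
    rw [hKmem]
    apply Subtype.ext
    show g * s0 * g⁻¹ = s0
    rw [mul_inv_eq_iff_eq_mul]
    apply Units.ext
    rw [Units.val_mul, Units.val_mul, hs0v, Matrix.smul_mul, Matrix.mul_smul, Matrix.one_mul,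
      Matrix.mul_one]
  have hs0ne : (⟨s0, hs0R⟩ : R) ≠ 1 := by
    intro h
    have h4 : s0 = 1 := congrArg Subtype.val h
    have h5 := congrArg Units.val h4
    rw [hs0v, Units.val_one] at h5
    have h6 := congrFun (congrFun h5 0) 0
    simp at h6
    exact gamma_ne_one γ hγ h3 h6
  have hK1 : Nat.card K ≠ 1 := by
    intro h
    have hbot : K = ⊥ := Subgroup.eq_bot_of_card_eq K h
    rw [hbot, Subgroup.mem_bot] at hs0K
    exact hs0ne hs0K
  have hK27 : Nat.card K = 27 := by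
    have hmem : Nat.card K ∈ Nat.divisors 27 := Nat.mem_divisors.2 ⟨hKdvd, by norm_num⟩
    have hd : Nat.divisors 27 = {1, 3, 9, 27} := by decide
    rw [hd] at hmem
    simp only [Finset.mem_insert, Finset.mem_singleton] at hmem
    rcases hmem with h | h | h | h
    · exact absurd h hK1
    · rw [h] at hmod'
      have h4 := (Nat.modEq_iff_dvd' (by norm_num)).1 hmod'
      exact absurd h4 (prime_not_dvd_24 n hnp hn)
    · rw [h] at hmod'
      have h4 := (Nat.modEq_iff_dvd' (by norm_num)).1 hmod'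
      exact absurd h4 (prime_not_dvd_18 n hnp hn)
    · exact h
  have hKtop : K = ⊤ := Subgroup.eq_top_of_card_eq K (by rw [hK27, hR])
  have hall : ∀ h : GL (Fin 3) F, h ∈ R → g * h = h * g := by
    intro h hh
    have h4 : (⟨h, hh⟩ : R) ∈ K := by rw [hKtop]; exact Subgroup.mem_top _
    have h5 : g * h * g⁻¹ = h := congrArg Subtype.val ((hKmem _).1 h4)
    calc g * h = (g * h * g⁻¹) * g := by group
      _ = h * g := by rw [h5]
  exact central_of_commute γ hγ h3 P X Z hX hZ g (hall _ hXR) (hall _ hZR)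

include hγ h3 hR hX hZ in
theorem le_specialLinear (hXR : P * X * P⁻¹ ∈ R) (hZR : P * Z * P⁻¹ ∈ R) :
    R ≤ Cfsg.Geo.specialLinear (Fin 3) F := by
  have hdetc : ∀ W : GL (Fin 3) F, (W : Matrix (Fin 3) (Fin 3) F).det = 1 →
      P * W * P⁻¹ ∈ Cfsg.Geo.specialLinear (Fin 3) F := by
    intro W hW
    rw [mem_sl3_iff, Units.val_mul, Units.val_mul, Matrix.det_mul, Matrix.det_mul, hW, mul_one,
      ← Matrix.det_mul, ← Units.val_mul, mul_inv_cancel, Units.val_one, Matrix.det_one]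
  have hS := gen_eq γ hγ h3 R hR P X Z hX hZ (R ⊓ Cfsg.Geo.specialLinear (Fin 3) F) inf_le_left
    (Subgroup.mem_inf.2 ⟨hXR, hdetc X (by rw [hX]; exact det_Xm)⟩)
    (Subgroup.mem_inf.2 ⟨hZR, hdetc Z (by rw [hZ]; exact det_Zm γ hγ)⟩)
  rw [← hS]
  exact inf_le_right

end Grp

theorem card_sl3 [Fintype F] {p : ℕ} (hF : Fintype.card F = p) :
    Nat.card (Cfsg.Geo.specialLinear (Fin 3) F) * (p - 1)
      = (p ^ 3 - 1) * (p ^ 3 - p) * (p ^ 3 - p ^ 2) := by
  classical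
  let det' : GL (Fin 3) F →* Fˣ := Matrix.GeneralLinearGroup.det
  have hsurj : Function.Surjective det' := Matrix.GeneralLinearGroup.det_surjective
  have hrange : Nat.card det'.range = p - 1 := by
    rw [MonoidHom.range_eq_top.mpr hsurj, Subgroup.card_top, Nat.card_units,
      Nat.card_eq_fintype_card, hF]
  have h1 : Nat.card det'.ker * det'.ker.index = Nat.card (GL (Fin 3) F) :=
    Subgroup.card_mul_index _
  rw [Subgroup.index_ker, hrange] at h1
  have h2 : Nat.card (GL (Fin 3) F) = ∏ i : Fin 3, (p ^ 3 - p ^ (i : ℕ)) := by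
    rw [← hF]
    exact Matrix.card_GL_field 3
  show Nat.card det'.ker * (p - 1) = _
  rw [h1, h2, Fin.prod_univ_three]
  simp

set_option maxRecDepth 100000 in
theorem t243 : ∀ x : ZMod 243, (x.val % 9 = 4 ∨ x.val % 9 = 7) →
    (x ^ 3 - 1) * (x ^ 3 - x) * (x ^ 3 - x ^ 2) ≠ 0 := by
  decide

/-- if `3` divides the index of the normalizer in `SL_3(p)` then `p ≡ 1 (mod 9)` -/
theorem mod_nine [Fintype F] {p : ℕ} (hF : Fintype.card F = p) (hp3 : p % 3 = 1)
    (R : Subgroup (GL (Fin 3) F)) (hR : Nat.card R = 27)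
    (hRSL : R ≤ Cfsg.Geo.specialLinear (Fin 3) F)
    (hΩ : 3 ∣ (Cfsg.Geo.subgroupNormalizer R).relIndex (Cfsg.Geo.specialLinear (Fin 3) F)) :
    p % 9 = 1 := by
  by_contra hne
  have h47 : p % 9 = 4 ∨ p % 9 = 7 := by omega
  have hRN : R ≤ Cfsg.Geo.subgroupNormalizer R := Subgroup.le_normalizer
  have h27 : 27 ∣ Nat.card ((Cfsg.Geo.subgroupNormalizer R).subgroupOf
      (Cfsg.Geo.specialLinear (Fin 3) F)) := by
    have hle : R.subgroupOf (Cfsg.Geo.specialLinear (Fin 3) F)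
        ≤ (Cfsg.Geo.subgroupNormalizer R).subgroupOf (Cfsg.Geo.specialLinear (Fin 3) F) := by
      intro x hx
      rw [Subgroup.mem_subgroupOf] at hx ⊢
      exact hRN hx
    have hc : Nat.card (R.subgroupOf (Cfsg.Geo.specialLinear (Fin 3) F)) = 27 := by
      rw [Nat.card_congr (Subgroup.subgroupOfEquivOfLe hRSL).toEquiv, hR]
    rw [← hc]
    exact Subgroup.card_dvd_of_le hle
  have hmul : Nat.card ((Cfsg.Geo.subgroupNormalizer R).subgroupOf
      (Cfsg.Geo.specialLinear (Fin 3) F))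
      * (Cfsg.Geo.subgroupNormalizer R).relIndex (Cfsg.Geo.specialLinear (Fin 3) F)
      = Nat.card (Cfsg.Geo.specialLinear (Fin 3) F) := Subgroup.card_mul_index _
  have h81 : 27 * 3 ∣ Nat.card (Cfsg.Geo.specialLinear (Fin 3) F) := by
    rw [← hmul]
    exact mul_dvd_mul h27 hΩ
  have hcard := card_sl3 hF
  have h243 : 27 * 3 * 3 ∣ (p ^ 3 - 1) * (p ^ 3 - p) * (p ^ 3 - p ^ 2) := by
    rw [← hcard]
    have h3 : 3 ∣ p - 1 := by omega
    exact mul_dvd_mul h81 h3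
  have hp1 : 1 ≤ p := by omega
  have hp3' : 1 ≤ p ^ 3 := Nat.one_le_pow _ _ hp1
  have hpp : p ≤ p ^ 3 := by nlinarith [Nat.one_le_pow 2 p hp1]
  have hpp2 : p ^ 2 ≤ p ^ 3 := Nat.pow_le_pow_right hp1 (by norm_num)
  have hz : ((p : ZMod 243) ^ 3 - 1) * ((p : ZMod 243) ^ 3 - p)
      * ((p : ZMod 243) ^ 3 - (p : ZMod 243) ^ 2) = 0 := by
    have h := (ZMod.natCast_eq_zero_iff _ 243).2 h243
    push_cast [Nat.cast_sub hp3', Nat.cast_sub hpp, Nat.cast_sub hpp2] at h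
    exact h
  refine t243 (p : ZMod 243) ?_ hz
  rw [ZMod.val_natCast]
  omega

end Cfsg.Agent.Lib.helper99.Ex27
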