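import Mathlib
import Cfsg.Agent.Lib.helper99.PsuSpecA
import Cfsg.Agent.Lib.helper7.SUCenter

set_option autoImplicit false

/-!
# Involutions of `SU_3(q)`, `q` odd (helper99)

Every involution of `SU_3(q)` is a reflection `rf q v : x ↦ -x + 2 h(x,v)/h(v,v) v` in a
non-isotropic vector `v`; conjugacy, fibres of `v ↦ rf q v`, commuting reflections.
-/

namespace Cfsg.Agent.Lib.helper99.SuInv

open Cfsg Matrix Cfsg.Agent.Lib.helper7

/-- a `3 × 3` involution of determinant one other than the identity has trace `-1` -/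
theorem trace_of_invol {K : Type*} [Field K] (M : Matrix (Fin 3) (Fin 3) K) (h2 : M * M = 1)
    (hdet : M.det = 1) (hne : M ≠ 1) : M.trace = -1 := by
  have hadj : M.adjugate = M := by
    have h1 : M.adjugate * M = 1 := by rw [Matrix.adjugate_mul, hdet, one_smul]
    calc M.adjugate = M.adjugate * (M * M) := by rw [h2, mul_one]
      _ = (M.adjugate * M) * M := by rw [mul_assoc]
      _ = M := by rw [h1, one_mul]
  have h := PsuSpec.ch3 M
  rw [hadj, hdet, one_smul] at h
  have h3 : M ^ 3 = M := by rw [pow_succ, pow_two, h2, one_mul]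
  have h4 : M ^ 2 = 1 := by rw [pow_two, h2]
  rw [h3, h4] at h
  have h5 : (1 + M.trace) • (M - 1) = 0 := by
    rw [add_smul, one_smul, smul_sub, ← h]
    abel
  rcases smul_eq_zero.1 h5 with h6 | h6
  · linear_combination h6
  · exact absurd (sub_eq_zero.1 h6) hne

/-- determinant of a rank one perturbation of the identity -/
theorem det_one_add_vecMulVec {K : Type*} [CommRing K] (c : K) (u w : Fin 3 → K) :
    (1 + c • Matrix.vecMulVec u w).det = 1 + c * (w ⬝ᵥ u) := by
  rw [Matrix.det_fin_three]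
  simp [Matrix.vecMulVec_apply, dotProduct, Fin.sum_univ_three]
  ring

variable {F : Type*} [Field F] [Fintype F] {q : ℕ}

omit [Fintype F] in
lemma cj_dot (v x : Fin 3 → F) : (fun j => v j ^ q) ⬝ᵥ x = hermForm 3 F q x v := by
  unfold hermForm dotProduct
  apply Finset.sum_congr rfl
  intro i _
  ring

/-- the reflection in `v` -/
def rf (q : ℕ) (v : Fin 3 → F) : Matrix (Fin 3) (Fin 3) F :=
  -1 + (2 * (hermForm 3 F q v v)⁻¹) • Matrix.vecMulVec v (fun j => v j ^ q)

omit [Fintype F] in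
lemma rf_mulVec (v x : Fin 3 → F) :
    rf q v *ᵥ x = -x + (2 * (hermForm 3 F q v v)⁻¹ * hermForm 3 F q x v) • v := by
  unfold rf
  rw [Matrix.add_mulVec, Matrix.neg_mulVec, Matrix.one_mulVec, Matrix.smul_mulVec,
    Matrix.vecMulVec_mulVec, cj_dot, op_smul_eq_smul, smul_smul]

omit [Fintype F] in
lemma rf_eq_neg_qrefl (v : Fin 3 → F) :
    rf q v = -(qrefl 3 q v (-(2 * (hermForm 3 F q v v)⁻¹))) := by
  unfold rf qrefl
  rw [neg_add, neg_smul, neg_neg]

lemma two_pow (hF : Fintype.card F = q ^ 2) : (2 : F) ^ q = 2 := by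
  have h := frob_add_all hF (1 : F) 1
  rw [one_pow, one_add_one_eq_two] at h
  exact h

lemma two_ne_zero_of_odd (hF : Fintype.card F = q ^ 2) (hq : Odd q) : (2 : F) ≠ 0 := by
  obtain ⟨p, k, hp, hchar, rfl⟩ := exists_char_pow hF
  intro h
  have h2 : ((2 : ℕ) : F) = 0 := by exact_mod_cast h
  rw [CharP.cast_eq_zero_iff F p] at h2
  have hp2 : p = 2 := (Nat.prime_dvd_prime_iff_eq hp Nat.prime_two).1 h2
  subst hp2
  rcases Nat.eq_zero_or_pos k with hk | hk
  · subst hk
    have := two_le_of_card_sq hF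
    simp at this
  · have : Even (2 ^ k) := (Nat.even_pow.2 ⟨even_two, by omega⟩)
    exact (Nat.not_even_iff_odd.2 hq) this

lemma rf_isIsom (hF : Fintype.card F = q ^ 2) (v : Fin 3 → F) (hv : hermForm 3 F q v v ≠ 0) :
    IsIsom 3 q (rf q v) := by
  intro x y
  have hN : hermForm 3 F q v v ^ q = hermForm 3 F q v v := herm_conj hF 3 v v
  rw [rf_mulVec, rf_mulVec, neg_add_eq_sub, neg_add_eq_sub, herm_sub_left, herm_sub_right hF,
    herm_sub_right hF, herm_smul_left, herm_smul_left, herm_smul_right, herm_smul_right, mul_pow,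
    mul_pow, inv_pow, hN, two_pow hF, herm_conj hF]
  field_simp
  ring

omit [Fintype F] in
lemma rf_det (v : Fin 3 → F) (hv : hermForm 3 F q v v ≠ 0) : (rf q v).det = 1 := by
  rw [rf_eq_neg_qrefl]
  unfold qrefl
  rw [Matrix.det_neg, det_one_add_vecMulVec, cj_dot]
  simp only [Fintype.card_fin]
  field_simp
  ring

lemma rf_sq (_hF : Fintype.card F = q ^ 2) (v : Fin 3 → F) (hv : hermForm 3 F q v v ≠ 0) :
    rf q v * rf q v = 1 := by
  rw [Matrix.ext_iff_mulVec]
  intro x
  rw [← Matrix.mulVec_mulVec, rf_mulVec, rf_mulVec, Matrix.one_mulVec]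
  simp only [neg_add_eq_sub]
  rw [herm_sub_left, herm_smul_left]
  ext i
  simp only [Pi.sub_apply, Pi.smul_apply, smul_eq_mul]
  field_simp
  ring

omit [Fintype F] in
lemma rf_conj (M : Matrix (Fin 3) (Fin 3) F) (hM : IsIsom 3 q M) (v : Fin 3 → F) :
    M * rf q v = rf q (M *ᵥ v) * M := by
  rw [Matrix.ext_iff_mulVec]
  intro x
  rw [← Matrix.mulVec_mulVec, ← Matrix.mulVec_mulVec, rf_mulVec, rf_mulVec, hM, hM,
    Matrix.mulVec_add, Matrix.mulVec_neg, Matrix.mulVec_smul]

lemma rf_smul (a : F) (ha : a ≠ 0) (v : Fin 3 → F) : rf q (a • v) = rf q v := by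
  have haq : a ^ q ≠ 0 := pow_ne_zero _ ha
  unfold rf
  rw [herm_smul_left, herm_smul_right]
  ext i j
  simp only [Matrix.add_apply, Matrix.smul_apply, Matrix.vecMulVec_apply, Pi.smul_apply,
    smul_eq_mul, mul_pow, mul_inv]
  congr 1
  field_simp

omit [Fintype F] in
lemma rf_trace (v : Fin 3 → F) (hv : hermForm 3 F q v v ≠ 0) : (rf q v).trace = -1 := by
  unfold rf
  rw [Matrix.trace_add, Matrix.trace_neg, Matrix.trace_one, Matrix.trace_smul,
    Matrix.trace_vecMulVec]
  have : v ⬝ᵥ (fun j => v j ^ q) = hermForm 3 F q v v := rfl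
  rw [this, smul_eq_mul, mul_assoc, inv_mul_cancel₀ hv]
  simp only [Fintype.card_fin]
  norm_num

lemma rf_ne_one (hF : Fintype.card F = q ^ 2) (hq : Odd q) (v : Fin 3 → F)
    (hv : hermForm 3 F q v v ≠ 0) : rf q v ≠ 1 := by
  intro h
  have h1 := rf_trace (q := q) v hv
  rw [h, Matrix.trace_one] at h1
  simp only [Fintype.card_fin] at h1
  have h2 := two_ne_zero_of_odd hF hq
  apply h2
  have h3 : (2 : F) * 2 = 0 := by
    have : ((3 : ℕ) : F) = 3 := by norm_num
    rw [this] at h1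
    linear_combination h1
  rcases mul_eq_zero.1 h3 with h4 | h4 <;> exact h4

/-- a non-isotropic vector can be scaled to norm one -/
lemma exists_norm_one (hF : Fintype.card F = q ^ 2) (v : Fin 3 → F)
    (hv : hermForm 3 F q v v ≠ 0) :
    ∃ a : F, a ≠ 0 ∧ hermForm 3 F q (a • v) (a • v) = 1 := by
  classical
  have hq := two_le_of_card_sq hF
  have hN : hermForm 3 F q v v ^ q = hermForm 3 F q v v := herm_conj hF 3 v v
  have h := card_norm_fiber hF (hermForm 3 F q v v)⁻¹ (inv_ne_zero hv) (by rw [inv_pow, hN])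
  have hpos : 0 < (Finset.univ.filter (fun x : F => x * x ^ q = (hermForm 3 F q v v)⁻¹)).card := by
    rw [h]; omega
  obtain ⟨a, ha⟩ := Finset.card_pos.1 hpos
  have ha' := (Finset.mem_filter.1 ha).2
  refine ⟨a, ?_, ?_⟩
  · rintro rfl
    rw [zero_mul] at ha'
    exact inv_ne_zero hv ha'.symm
  · rw [herm_smul_left, herm_smul_right, ← mul_assoc, ha', inv_mul_cancel₀ hv]

/-- every involution of `SU_3(q)`, `q` odd, is a reflection -/
theorem invol_eq_rf (hF : Fintype.card F = q ^ 2) (hq : Odd q) (M : Matrix (Fin 3) (Fin 3) F)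
    (hM : IsIsom 3 q M) (h2 : M * M = 1) (hdet : M.det = 1) (hne : M ≠ 1) :
    ∃ v : Fin 3 → F, hermForm 3 F q v v = 1 ∧ M = rf q v := by
  classical
  have hq2 := two_le_of_card_sq hF
  have hq0 : q ≠ 0 := by omega
  have h20 := two_ne_zero_of_odd hF hq
  have htr := trace_of_invol M h2 hdet hne
  obtain ⟨i, hi⟩ : ∃ i, 1 + M i i ≠ 0 := by
    by_contra hcon
    push Not at hcon
    rw [Matrix.trace_fin_three] at htr
    apply h20
    linear_combination hcon 0 + hcon 1 + hcon 2 - htr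
  have hsa : ∀ x y, hermForm 3 F q (M *ᵥ x) y = hermForm 3 F q x (M *ᵥ y) := by
    intro x y
    rw [← hM (M *ᵥ x) y, Matrix.mulVec_mulVec, h2, Matrix.one_mulVec]
  set e : Fin 3 → F := Pi.single i 1 with he
  set v0 : Fin 3 → F := M *ᵥ e + e with hv0
  have hMv0 : M *ᵥ v0 = v0 := by
    rw [hv0, Matrix.mulVec_add, Matrix.mulVec_mulVec, h2, Matrix.one_mulVec, add_comm]
  have hMe : hermForm 3 F q (M *ᵥ e) e = M i i := by
    rw [he, herm_single_right hq0, Matrix.mulVec_single_one]
    rfl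
  have hee : hermForm 3 F q e e = 1 := by
    rw [he, herm_single_right hq0]
    simp
  have hv0n : hermForm 3 F q v0 v0 = 2 * (1 + M i i) := by
    rw [hv0, herm_add_left, herm_add_right hF, herm_add_right hF, hM, ← hsa, hee, hMe]
    ring
  have hv0ne : hermForm 3 F q v0 v0 ≠ 0 := by
    rw [hv0n]
    exact mul_ne_zero h20 hi
  obtain ⟨a, ha, hav⟩ := exists_norm_one hF v0 hv0ne
  refine ⟨a • v0, hav, ?_⟩
  rw [rf_smul a ha]
  have hcomm : M * rf q v0 = rf q v0 * M := by
    have := rf_conj M hM v0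
    rwa [hMv0] at this
  have hss : (M * rf q v0) * (M * rf q v0) = 1 := by
    calc (M * rf q v0) * (M * rf q v0) = M * (rf q v0 * M) * rf q v0 := by
          simp only [Matrix.mul_assoc]
      _ = M * (M * rf q v0) * rf q v0 := by rw [hcomm]
      _ = (M * M) * (rf q v0 * rf q v0) := by simp only [Matrix.mul_assoc]
      _ = 1 := by rw [h2, rf_sq hF v0 hv0ne, mul_one]
  have hsdet : (M * rf q v0).det = 1 := by rw [Matrix.det_mul, hdet, rf_det v0 hv0ne, mul_one]
  have hstr : (M * rf q v0).trace = 3 := by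
    unfold rf
    rw [Matrix.mul_add, Matrix.mul_neg, mul_one, Matrix.mul_smul, Matrix.mul_vecMulVec, hMv0,
      Matrix.trace_add, Matrix.trace_neg, htr, Matrix.trace_smul, Matrix.trace_vecMulVec]
    have : v0 ⬝ᵥ (fun j => v0 j ^ q) = hermForm 3 F q v0 v0 := rfl
    rw [this, smul_eq_mul, mul_assoc, inv_mul_cancel₀ hv0ne]
    norm_num
  have hs1 : M * rf q v0 = 1 := by
    by_contra hs
    have h4 := trace_of_invol _ hss hsdet hs
    rw [hstr] at h4
    apply h20
    have h3 : (2 : F) * 2 = 0 := by linear_combination h4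
    rcases mul_eq_zero.1 h3 with h5 | h5 <;> exact h5
  calc M = M * (rf q v0 * rf q v0) := by rw [rf_sq hF v0 hv0ne, mul_one]
    _ = (M * rf q v0) * rf q v0 := by rw [mul_assoc]
    _ = rf q v0 := by rw [hs1, one_mul]

end Cfsg.Agent.Lib.helper99.SuInv
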