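import Mathlib
import Cfsg.Agent.Lib.helper99.SuInvA

set_option autoImplicit false

/-!
# Involutions of `SU_3(q)`, `q` odd: conjugacy, counting, commuting involutions (helper99)
-/

namespace Cfsg.Agent.Lib.helper99.SuInv

open Cfsg Matrix Cfsg.Agent.Lib.helper7

/-- counting by fibres of constant size -/
theorem card_eq_mul_of_fibers {α β : Type*} [Finite α] [Finite β] (f : α → β) (k : ℕ)
    (h : ∀ b, Nat.card {a // f a = b} = k) : Nat.card α = Nat.card β * k := by
  classical
  have := Fintype.ofFinite β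
  rw [← Nat.card_congr (Equiv.sigmaFiberEquiv f), Nat.card_sigma]
  simp [h, Nat.card_eq_fintype_card]

/-- class equation for one conjugacy class described by a predicate -/
theorem card_conj_class {G : Type*} [Group G] [Finite G] (t : G) (P : G → Prop)
    (hP : ∀ x, P x ↔ ∃ g : G, g * t * g⁻¹ = x) :
    Nat.card {x : G // P x} * Nat.card (Subgroup.centralizer ({t} : Set G)) = Nat.card G := by
  classical
  rw [Subgroup.card_eq_card_quotient_mul_card_subgroup (Subgroup.centralizer ({t} : Set G))]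
  congr 1
  symm
  have hwd : ∀ a b : G, QuotientGroup.leftRel (Subgroup.centralizer ({t} : Set G)) a b →
      (⟨a * t * a⁻¹, (hP _).2 ⟨a, rfl⟩⟩ : {x : G // P x}) = ⟨b * t * b⁻¹, (hP _).2 ⟨b, rfl⟩⟩ := by
    intro a b hab
    rw [QuotientGroup.leftRel_apply, Subgroup.mem_centralizer_singleton_iff] at hab
    apply Subtype.ext
    change a * t * a⁻¹ = b * t * b⁻¹
    have h1 : t * (a⁻¹ * b) = (a⁻¹ * b) * t := hab.symm
    calc a * t * a⁻¹ = a * (t * (a⁻¹ * b)) * b⁻¹ := by group
      _ = a * ((a⁻¹ * b) * t) * b⁻¹ := by rw [h1]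
      _ = b * t * b⁻¹ := by group
  refine Nat.card_congr (Equiv.ofBijective
    (fun c => Quotient.liftOn' c
      (fun g => (⟨g * t * g⁻¹, (hP _).2 ⟨g, rfl⟩⟩ : {x : G // P x})) hwd) ⟨?_, ?_⟩)
  · intro c d
    induction c using Quotient.inductionOn' with
    | h a =>
      induction d using Quotient.inductionOn' with
      | h b =>
        intro h
        have h' : a * t * a⁻¹ = b * t * b⁻¹ := congrArg Subtype.val h
        apply Quotient.sound'
        rw [QuotientGroup.leftRel_apply, Subgroup.mem_centralizer_singleton_iff]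
        calc a⁻¹ * b * t = a⁻¹ * (b * t * b⁻¹) * b := by group
          _ = a⁻¹ * (a * t * a⁻¹) * b := by rw [h']
          _ = t * (a⁻¹ * b) := by group
  · rintro ⟨x, hx⟩
    obtain ⟨g, hg⟩ := (hP x).1 hx
    exact ⟨Quotient.mk'' g, Subtype.ext hg⟩

variable {F : Type*} [Field F] [Fintype F] {q : ℕ}

/-- reflections in norm one vectors are conjugate under `SU_3` -/
theorem rf_conj_exists (hF : Fintype.card F = q ^ 2) (v w : Fin 3 → F)
    (hv : hermForm 3 F q v v = 1) (hw : hermForm 3 F q w w = 1) :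
    ∃ M : Matrix (Fin 3) (Fin 3) F, IsIsom 3 q M ∧ M.det = 1 ∧ M * rf q v = rf q w * M := by
  obtain ⟨M0, hM0, hMv⟩ := exists_isIsom_map hF 3 v w hv hw
  have hd := hM0.det_norm hF
  have hd0 : M0.det ≠ 0 := by
    intro h
    rw [h, zero_mul] at hd
    exact zero_ne_one hd
  set l : F := (M0.det)⁻¹ with hl
  have hl0 : l ≠ 0 := inv_ne_zero hd0
  have hll : l * l ^ q = 1 := by
    rw [hl, inv_pow, ← mul_inv, hd, inv_one]
  have hD : IsIsom 3 q (qrefl 3 q w (l - 1)) := by
    apply qrefl_isIsom hF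
    rw [hw, frob_sub_all hF, one_pow]
    linear_combination hll
  have hDdet : (qrefl 3 q w (l - 1)).det = l := by
    unfold qrefl
    rw [det_one_add_vecMulVec, cj_dot, hw]
    ring
  have hDw : qrefl 3 q w (l - 1) *ᵥ w = l • w := by
    rw [qrefl_mulVec, hw, mul_one]
    ext i
    simp only [Pi.add_apply, Pi.smul_apply, smul_eq_mul]
    ring
  refine ⟨qrefl 3 q w (l - 1) * M0, hD.mul hM0, ?_, ?_⟩
  · rw [Matrix.det_mul, hDdet, hl, inv_mul_cancel₀ hd0]
  · rw [rf_conj _ (hD.mul hM0), ← Matrix.mulVec_mulVec, hMv, hDw, rf_smul l hl0]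

/-- fibres of `v ↦ rf q v` on norm one vectors -/
theorem rf_eq_iff (hF : Fintype.card F = q ^ 2) (hq : Odd q) (v w : Fin 3 → F)
    (hv : hermForm 3 F q v v = 1) (hw : hermForm 3 F q w w = 1) :
    rf q w = rf q v ↔ ∃ a : F, a * a ^ q = 1 ∧ w = a • v := by
  have h20 := two_ne_zero_of_odd hF hq
  constructor
  · intro h
    have h1 : rf q w *ᵥ w = w := by
      rw [rf_mulVec, hw, inv_one, mul_one, mul_one]
      ext i
      simp only [Pi.add_apply, Pi.neg_apply, Pi.smul_apply, smul_eq_mul]
      ring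
    rw [h, rf_mulVec, hv, inv_one, mul_one] at h1
    have h2 : w = hermForm 3 F q w v • v := by
      ext i
      have h3 := congrFun h1 i
      simp only [Pi.add_apply, Pi.neg_apply, Pi.smul_apply, smul_eq_mul] at h3 ⊢
      have h4 : (2 : F) * (w i - hermForm 3 F q w v * v i) = 0 := by linear_combination -h3
      rcases mul_eq_zero.1 h4 with h5 | h5
      · exact absurd h5 h20
      · linear_combination h5
    refine ⟨hermForm 3 F q w v, ?_, h2⟩
    have h6 := hw
    rw [h2, herm_smul_left, herm_smul_right, hv, mul_one] at h6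
    exact h6
  · rintro ⟨a, ha, rfl⟩
    have ha0 : a ≠ 0 := by
      rintro rfl
      rw [zero_mul] at ha
      exact zero_ne_one ha
    exact rf_smul a ha0 v

/-- the number of involutions of `SU_3(q)`, as matrices -/
theorem card_invol (hF : Fintype.card F = q ^ 2) (hq : Odd q) :
    Nat.card {M : Matrix (Fin 3) (Fin 3) F // IsIsom 3 q M ∧ M.det = 1 ∧ M ≠ 1 ∧ M * M = 1}
        * (q + 1) = Nat.card {v : Fin 3 → F // hermForm 3 F q v v = 1} := by
  classical
  symm
  have hne1 : ∀ v : Fin 3 → F, hermForm 3 F q v v = 1 → hermForm 3 F q v v ≠ 0 := by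
    intro v hv
    rw [hv]
    exact one_ne_zero
  apply card_eq_mul_of_fibers
    (fun v : {v : Fin 3 → F // hermForm 3 F q v v = 1} =>
      (⟨rf q v.1, rf_isIsom hF v.1 (hne1 v.1 v.2), rf_det v.1 (hne1 v.1 v.2),
        rf_ne_one hF hq v.1 (hne1 v.1 v.2), rf_sq hF v.1 (hne1 v.1 v.2)⟩ :
        {M : Matrix (Fin 3) (Fin 3) F // IsIsom 3 q M ∧ M.det = 1 ∧ M ≠ 1 ∧ M * M = 1}))
  rintro ⟨M, hM, hdet, hne, h2⟩
  obtain ⟨w, hw, rfl⟩ := invol_eq_rf hF hq M hM h2 hdet hne
  have hcard : Nat.card {a : F // a * a ^ q = 1} = q + 1 := by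
    rw [Nat.card_eq_fintype_card, Fintype.card_subtype]
    exact card_norm_fiber hF 1 one_ne_zero (one_pow q)
  rw [← hcard]
  refine Nat.card_congr ⟨fun v => ⟨((rf_eq_iff hF hq w v.1.1 hw v.1.2).1
      (congrArg Subtype.val v.2)).choose, ((rf_eq_iff hF hq w v.1.1 hw v.1.2).1
      (congrArg Subtype.val v.2)).choose_spec.1⟩,
    fun a => ⟨⟨a.1 • w, by rw [herm_smul_left, herm_smul_right, hw, mul_one, a.2]⟩, ?_⟩, ?_, ?_⟩
  · apply Subtype.ext
    have ha0 : a.1 ≠ 0 := by
      intro h
      have := a.2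
      rw [h, zero_mul] at this
      exact zero_ne_one this
    exact rf_smul a.1 ha0 w
  · intro v
    apply Subtype.ext
    apply Subtype.ext
    exact (((rf_eq_iff hF hq w v.1.1 hw v.1.2).1 (congrArg Subtype.val v.2)).choose_spec.2).symm
  · intro a
    apply Subtype.ext
    have hw0 : w ≠ 0 := by
      rintro rfl
      simp [hermForm] at hw
    have hspec := ((rf_eq_iff hF hq w (a.1 • w) hw
      (by rw [herm_smul_left, herm_smul_right, hw, mul_one, a.2])).1
      (rf_smul a.1 (by
        intro h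
        have := a.2
        rw [h, zero_mul] at this
        exact zero_ne_one this) w)).choose_spec.2
    obtain ⟨i, hi⟩ : ∃ i, w i ≠ 0 := by
      by_contra hcon
      push Not at hcon
      exact hw0 (funext hcon)
    have h3 := congrFun hspec i
    simp only [Pi.smul_apply, smul_eq_mul] at h3
    exact (mul_right_cancel₀ hi h3).symm

/-- the number of vectors of norm one in dimension three -/
theorem card_norm_one_three (hF : Fintype.card F = q ^ 2) :
    Nat.card {v : Fin 3 → F // hermForm 3 F q v v = 1} = q ^ 2 * (q ^ 3 + 1) := by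
  classical
  have hq := two_le_of_card_sq hF
  have h1 := card_herm_eq hF 3 (1 : F) (one_pow q)
  rw [if_neg one_ne_zero] at h1
  have h2 := (hermCount_closed q hq 2).1
  have h3 : Nat.card {v : Fin 3 → F // hermForm 3 F q v v = 1} = (hermCount q 3).1 := h1
  rw [h3]
  have h4 : ((hermCount q 3).1 : ℤ) = ((q ^ 2 * (q ^ 3 + 1) : ℕ) : ℤ) := by
    rw [h2]
    push_cast
    ring
  exact_mod_cast h4

/-- distinct commuting reflections: the product of the two projections vanishes -/
theorem comm_rf (hF : Fintype.card F = q ^ 2) (hq : Odd q) (v w : Fin 3 → F)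
    (hv : hermForm 3 F q v v = 1) (hw : hermForm 3 F q w w = 1)
    (hc : rf q v * rf q w = rf q w * rf q v) (hne : rf q v ≠ rf q w) :
    (1 + rf q v) * (1 + rf q w) = 0 := by
  have hq2 := two_le_of_card_sq hF
  have h20 := two_ne_zero_of_odd hF hq
  have hv0 : hermForm 3 F q v v ≠ 0 := by rw [hv]; exact one_ne_zero
  have hw0 : hermForm 3 F q w w ≠ 0 := by rw [hw]; exact one_ne_zero
  have hA2 := rf_sq hF v hv0
  have hB2 := rf_sq hF w hw0
  have hAB2 : (rf q v * rf q w) * (rf q v * rf q w) = 1 := by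
    calc (rf q v * rf q w) * (rf q v * rf q w) = rf q v * (rf q w * rf q v) * rf q w := by
          simp only [Matrix.mul_assoc]
      _ = rf q v * (rf q v * rf q w) * rf q w := by rw [hc]
      _ = (rf q v * rf q v) * (rf q w * rf q w) := by simp only [Matrix.mul_assoc]
      _ = 1 := by rw [hA2, hB2, mul_one]
  have hABne : rf q v * rf q w ≠ 1 := by
    intro h
    apply hne
    calc rf q v = rf q v * (rf q w * rf q w) := by rw [hB2, mul_one]
      _ = (rf q v * rf q w) * rf q w := by rw [mul_assoc]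
      _ = rf q w := by rw [h, one_mul]
  have hABdet : (rf q v * rf q w).det = 1 := by
    rw [Matrix.det_mul, rf_det v hv0, rf_det w hw0, mul_one]
  have htr := trace_of_invol _ hAB2 hABdet hABne
  have h1v : 1 + rf q v = (2 : F) • Matrix.vecMulVec v (fun j => v j ^ q) := by
    unfold rf
    rw [hv, inv_one, mul_one]
    abel
  have h1w : 1 + rf q w = (2 : F) • Matrix.vecMulVec w (fun j => w j ^ q) := by
    unfold rf
    rw [hw, inv_one, mul_one]
    abel
  have hprod : (1 + rf q v) * (1 + rf q w)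
      = (4 * hermForm 3 F q w v) • Matrix.vecMulVec v (fun j => w j ^ q) := by
    rw [h1v, h1w, Matrix.smul_mul, Matrix.mul_smul, Matrix.vecMulVec_mul_vecMulVec, cj_dot,
      Matrix.vecMulVec_smul, smul_smul, smul_smul]
    congr 1
    ring
  have htr2 : ((1 + rf q v) * (1 + rf q w)).trace = 0 := by
    rw [Matrix.add_mul, Matrix.mul_add, Matrix.mul_add]
    simp only [one_mul, mul_one]
    rw [Matrix.trace_add, Matrix.trace_add, Matrix.trace_add, htr, rf_trace v hv0, rf_trace w hw0,
      Matrix.trace_one]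
    simp only [Fintype.card_fin]
    norm_num
  rw [hprod] at htr2 ⊢
  rw [Matrix.trace_smul, Matrix.trace_vecMulVec] at htr2
  have hd : v ⬝ᵥ (fun j => w j ^ q) = hermForm 3 F q v w := rfl
  rw [hd, smul_eq_mul] at htr2
  have h0 : hermForm 3 F q w v = 0 := by
    have h4 : (2 : F) * 2 * hermForm 3 F q w v * hermForm 3 F q v w = 0 := by
      linear_combination htr2
    rcases mul_eq_zero.1 h4 with h5 | h5
    · rcases mul_eq_zero.1 h5 with h6 | h6
      · exact absurd (mul_self_eq_zero.1 h6) h20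
      · exact h6
    · rw [← herm_conj hF, h5, zero_pow (by omega)]
  rw [h0, mul_zero, zero_smul]

/-- distinct commuting involutions of `SU_3(q)` -/
theorem comm_invol (hF : Fintype.card F = q ^ 2) (hq : Odd q) (A B : Matrix (Fin 3) (Fin 3) F)
    (hA : IsIsom 3 q A) (hA2 : A * A = 1) (hAdet : A.det = 1) (hAne : A ≠ 1)
    (hB : IsIsom 3 q B) (hB2 : B * B = 1) (hBdet : B.det = 1) (hBne : B ≠ 1)
    (hc : A * B = B * A) (hne : A ≠ B) : (1 + A) * (1 + B) = 0 := by
  obtain ⟨v, hv, rfl⟩ := invol_eq_rf hF hq A hA hA2 hAdet hAne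
  obtain ⟨w, hw, rfl⟩ := invol_eq_rf hF hq B hB hB2 hBdet hBne
  exact comm_rf hF hq v w hv hw hc hne

/-- three pairwise distinct, pairwise commuting involutions of `SU_3(q)` have product one -/
theorem third_invol (hF : Fintype.card F = q ^ 2) (hq : Odd q) (T X Y : Matrix (Fin 3) (Fin 3) F)
    (hT : IsIsom 3 q T) (hT2 : T * T = 1) (hTdet : T.det = 1) (hTne : T ≠ 1)
    (hX : IsIsom 3 q X) (hX2 : X * X = 1) (hXdet : X.det = 1) (hXne : X ≠ 1)
    (hY : IsIsom 3 q Y) (hY2 : Y * Y = 1) (hYdet : Y.det = 1) (hYne : Y ≠ 1)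
    (hTX : T * X = X * T) (hTY : T * Y = Y * T) (hXY : X * Y = Y * X)
    (hTneX : T ≠ X) (hTneY : T ≠ Y) (hXneY : X ≠ Y) : Y = T * X := by
  have h20 := two_ne_zero_of_odd hF hq
  have e1 := comm_invol hF hq T X hT hT2 hTdet hTne hX hX2 hXdet hXne hTX hTneX
  have e2 := comm_invol hF hq T Y hT hT2 hTdet hTne hY hY2 hYdet hYne hTY hTneY
  have e3 := comm_invol hF hq X Y hX hX2 hXdet hXne hY hY2 hYdet hYne hXY hXneY
  have key : ∀ A B : Matrix (Fin 3) (Fin 3) F, (1 + A) * (1 + B) = 0 → A * B = -1 - A - B := by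
    intro A B h
    have h' : (1 + A) * (1 + B) = 1 + A + B + A * B := by
      rw [Matrix.add_mul, Matrix.mul_add, Matrix.mul_add]
      simp only [one_mul, mul_one]
      abel
    rw [h'] at h
    apply eq_of_sub_eq_zero
    rw [← h]
    abel
  have f1 := key T X e1
  have f2 := key T Y e2
  have f3 := key X Y e3
  have hS : T * X * Y = 1 + 1 + T + X + Y := by
    rw [f1, Matrix.sub_mul, Matrix.sub_mul, Matrix.neg_mul, one_mul, f2, f3]
    abel
  have hTX2 : (T * X) * (T * X) = 1 := by
    calc (T * X) * (T * X) = T * (X * T) * X := by simp only [Matrix.mul_assoc]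
      _ = T * (T * X) * X := by rw [hTX]
      _ = (T * T) * (X * X) := by simp only [Matrix.mul_assoc]
      _ = 1 := by rw [hT2, hX2, mul_one]
  have hYc : Y * (T * X) = (T * X) * Y := by
    rw [← Matrix.mul_assoc, ← hTY, Matrix.mul_assoc, ← hXY, Matrix.mul_assoc]
  have hS2 : (T * X * Y) * (T * X * Y) = 1 := by
    calc (T * X * Y) * (T * X * Y) = (T * X) * (Y * (T * X)) * Y := by
          simp only [Matrix.mul_assoc]
      _ = (T * X) * ((T * X) * Y) * Y := by rw [hYc]
      _ = ((T * X) * (T * X)) * (Y * Y) := by simp only [Matrix.mul_assoc]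
      _ = 1 := by rw [hTX2, hY2, mul_one]
  have hSdet : (T * X * Y).det = 1 := by
    rw [Matrix.det_mul, Matrix.det_mul, hTdet, hXdet, hYdet, mul_one, mul_one]
  have hStr : (T * X * Y).trace = 3 := by
    rw [hS, Matrix.trace_add, Matrix.trace_add, Matrix.trace_add, Matrix.trace_add,
      trace_of_invol T hT2 hTdet hTne, trace_of_invol X hX2 hXdet hXne,
      trace_of_invol Y hY2 hYdet hYne, Matrix.trace_one]
    simp only [Fintype.card_fin]
    norm_num
  have hS1 : T * X * Y = 1 := by
    by_contra hs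
    have h4 := trace_of_invol _ hS2 hSdet hs
    rw [hStr] at h4
    apply h20
    have h3 : (2 : F) * 2 = 0 := by linear_combination h4
    rcases mul_eq_zero.1 h3 with h5 | h5 <;> exact h5
  calc Y = ((T * X) * (T * X)) * Y := by rw [hTX2, one_mul]
    _ = (T * X) * (T * X * Y) := by simp only [Matrix.mul_assoc]
    _ = T * X := by rw [hS1, mul_one]

end Cfsg.Agent.Lib.helper99.SuInv
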