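import Mathlib
import Cfsg.Agent.Lib.helper99.Ex27E
import Cfsg.Agent.Lib.helper99.PsuSpecB
import Cfsg.Agent.Lib.helper99.SuInvB

set_option autoImplicit false

/-!
# Extraspecial groups of order 27 in `GU_3`: unitary normal form (helper99)
-/

namespace Cfsg.Agent.Lib.helper99.Ex27

open Cfsg Matrix Cfsg.Agent.Lib.helper7 Cfsg.Agent.Lib.helper48

variable {F : Type*} [Field F]

theorem cube_frob {p : ℕ} (hp3 : p % 3 = 2) (ρ : F) (hρ : ρ ^ 3 = 1) : ρ ^ p = ρ ^ 2 := by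
  have e : p = 3 * (p / 3) + 2 := by omega
  rw [e, pow_add, pow_mul, hρ, one_pow, one_mul]

theorem exists_norm_eq [Fintype F] {q : ℕ} (hF : Fintype.card F = q ^ 2) (c : F) (hc0 : c ≠ 0)
    (hc : c ^ q = c) : ∃ a : F, a * a ^ q = c := by
  classical
  have hq := two_le_of_card_sq hF
  have h := card_norm_fiber hF c hc0 hc
  have hpos : 0 < (Finset.univ.filter (fun x : F => x * x ^ q = c)).card := by rw [h]; omega
  obtain ⟨a, ha⟩ := Finset.card_pos.1 hpos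
  exact ⟨a, (Finset.mem_filter.1 ha).2⟩

/-- a Gram matrix invariant under the shift and under `diag(1, γ, γ²)` is scalar -/
theorem gram_scalar (σ : F →+* F) (γ : F) (hγ : γ ^ 2 + γ + 1 = 0) (h3 : (3 : F) ≠ 0)
    (hσγ : σ γ = γ ^ 2) (G : Matrix (Fin 3) (Fin 3) F)
    (hX : cstar σ Xm * G * Xm = G) (hZ : cstar σ (Zm γ) * G * Zm γ = G) :
    G = G 0 0 • (1 : Matrix (Fin 3) (Fin 3) F) := by
  have hγ1 := gamma_ne_one γ hγ h3
  have hγ0 := gamma_ne_zero γ hγ
  have hγ3 := gamma_cube γ hγ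
  have hg2 : γ ^ 2 ≠ 1 := by
    intro h
    apply hγ1
    calc γ = γ * 1 := by ring
      _ = γ * γ ^ 2 := by rw [h]
      _ = 1 := by rw [← hγ3]; ring
  have hσ2 : σ (γ ^ 2) = γ := by
    rw [map_pow, hσγ]
    linear_combination γ * hγ3
  have kill1 : ∀ x : F, x * (γ - 1) = 0 → x = 0 := by
    intro x h
    rcases mul_eq_zero.1 h with h | h
    · exact h
    · exact absurd (sub_eq_zero.1 h) hγ1
  have kill2 : ∀ x : F, x * (γ ^ 2 - 1) = 0 → x = 0 := by
    intro x h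
    rcases mul_eq_zero.1 h with h | h
    · exact h
    · exact absurd (sub_eq_zero.1 h) hg2
  have z01 : G 0 1 = 0 := by
    have h := congrFun (congrFun hZ 0) 1
    simp [Zm, cstar_apply, Matrix.mul_apply, Fin.sum_univ_three] at h
    exact kill1 _ (by linear_combination h)
  have z02 : G 0 2 = 0 := by
    have h := congrFun (congrFun hZ 0) 2
    simp [Zm, cstar_apply, Matrix.mul_apply, Fin.sum_univ_three] at h
    exact kill2 _ (by linear_combination h)
  have z10 : G 1 0 = 0 := by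
    have h := congrFun (congrFun hZ 1) 0
    simp [Zm, cstar_apply, Matrix.mul_apply, Fin.sum_univ_three, hσγ] at h
    exact kill2 _ (by linear_combination h)
  have z12 : G 1 2 = 0 := by
    have h := congrFun (congrFun hZ 1) 2
    simp [Zm, cstar_apply, Matrix.mul_apply, Fin.sum_univ_three, hσγ] at h
    exact kill1 _ (by linear_combination h - G 1 2 * γ * hγ3)
  have z20 : G 2 0 = 0 := by
    have h := congrFun (congrFun hZ 2) 0
    simp [Zm, cstar_apply, Matrix.mul_apply, Fin.sum_univ_three, hσ2] at h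
    exact kill1 _ (by linear_combination h)
  have z21 : G 2 1 = 0 := by
    have h := congrFun (congrFun hZ 2) 1
    simp [Zm, cstar_apply, Matrix.mul_apply, Fin.sum_univ_three, hσ2] at h
    exact kill2 _ (by linear_combination h)
  have d1 : G 1 1 = G 0 0 := by
    have h := congrFun (congrFun hX 0) 0
    simpa [Xm, cstar_apply, Matrix.mul_apply, Fin.sum_univ_three] using h
  have d2 : G 2 2 = G 1 1 := by
    have h := congrFun (congrFun hX 1) 1
    simpa [Xm, cstar_apply, Matrix.mul_apply, Fin.sum_univ_three] using h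
  ext i j
  fin_cases i <;> fin_cases j <;> simp [z01, z02, z10, z12, z20, z21, d1, d2]

theorem conj_smul (P P' W : GL (Fin 3) F) (a : F)
    (h : (P' : Matrix (Fin 3) (Fin 3) F) = a • (P : Matrix (Fin 3) (Fin 3) F)) :
    P' * W * P'⁻¹ = P * W * P⁻¹ := by
  rw [mul_inv_eq_iff_eq_mul]
  apply Units.ext
  have e : P * W * P⁻¹ * P = P * W := by group
  rw [Units.val_mul, Units.val_mul _ P', h, Matrix.smul_mul, Matrix.mul_smul, ← Units.val_mul,
    ← Units.val_mul, e]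

/-- the unitary normal form of an extraspecial group of order 27 in `GU_3(p)`, `p ≡ 2 (mod 3)` -/
theorem normal_form_unitary [Fintype F] {p : ℕ} (hF : Fintype.card F = p ^ 2) (hp3 : p % 3 = 2)
    (h3 : (3 : F) ≠ 0) (R : Subgroup (GL (Fin 3) F)) (hRU : R ≤ Cfsg.GU 3 F p)
    (hR : Nat.card R = 27) (hRe : Monoid.exponent R = 3) (hRna : ¬ IsMulCommutative R) :
    ∃ γ : F, γ ^ 2 + γ + 1 = 0 ∧ ∃ P X Z : GL (Fin 3) F, P ∈ Cfsg.GU 3 F p ∧
      (X : Matrix (Fin 3) (Fin 3) F) = Xm ∧ (Z : Matrix (Fin 3) (Fin 3) F) = Zm γ ∧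
      P * X * P⁻¹ ∈ R ∧ P * Z * P⁻¹ ∈ R := by
  have hp2 := two_le_of_card_sq hF
  have hp0 : p ≠ 0 := by omega
  obtain ⟨σ, hσ⟩ := exists_frobHom hF
  obtain ⟨ω, hω⟩ := exists_cube_root hF (by rw [Nat.pow_mod, hp3])
  obtain ⟨γ, hγ, P, X, Z, hX, hZ, hXR, hZR⟩ := normal_form ω hω h3 R hR hRe hRna
  have hσγ : σ γ = γ ^ 2 := by
    rw [hσ]
    exact cube_frob hp3 γ (gamma_cube γ hγ)
  have hσσ : ∀ a, σ (σ a) = a := fun a => by
    rw [hσ, hσ]
    exact frob_frob hF a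
  obtain ⟨Pm, hPm⟩ : ∃ Pm : Matrix (Fin 3) (Fin 3) F, Pm = (P : Matrix (Fin 3) (Fin 3) F) :=
    ⟨_, rfl⟩
  obtain ⟨G, hG⟩ : ∃ G : Matrix (Fin 3) (Fin 3) F, G = cstar σ Pm * Pm := ⟨_, rfl⟩
  have hPi : ((P⁻¹ : GL (Fin 3) F) : Matrix (Fin 3) (Fin 3) F) * Pm = 1 := by
    rw [hPm, ← Units.val_mul, inv_mul_cancel, Units.val_one]
  have hPi' : cstar σ Pm * cstar σ ((P⁻¹ : GL (Fin 3) F) : Matrix (Fin 3) (Fin 3) F) = 1 := by
    rw [← cstar_mul, hPi, cstar_one]
  have key : ∀ W : GL (Fin 3) F, P * W * P⁻¹ ∈ R →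
      cstar σ (W : Matrix (Fin 3) (Fin 3) F) * G * (W : Matrix (Fin 3) (Fin 3) F) = G := by
    intro W hW
    have h1 := (mem_GU_iff 3 _).1 (hRU hW)
    rw [PsuSpec.isIsom_iff_cstar p hp0 σ hσ, Units.val_mul, Units.val_mul, cstar_mul, cstar_mul,
      ← hPm] at h1
    calc cstar σ (W : Matrix (Fin 3) (Fin 3) F) * G * (W : Matrix (Fin 3) (Fin 3) F)
        = (cstar σ Pm * cstar σ ((P⁻¹ : GL (Fin 3) F) : Matrix (Fin 3) (Fin 3) F))
          * (cstar σ (W : Matrix (Fin 3) (Fin 3) F) * G * (W : Matrix (Fin 3) (Fin 3) F))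
          * (((P⁻¹ : GL (Fin 3) F) : Matrix (Fin 3) (Fin 3) F) * Pm) := by
          rw [hPi, hPi', Matrix.one_mul, Matrix.mul_one]
      _ = cstar σ Pm * (cstar σ ((P⁻¹ : GL (Fin 3) F) : Matrix (Fin 3) (Fin 3) F)
            * (cstar σ (W : Matrix (Fin 3) (Fin 3) F) * cstar σ Pm)
            * (Pm * (W : Matrix (Fin 3) (Fin 3) F)
              * ((P⁻¹ : GL (Fin 3) F) : Matrix (Fin 3) (Fin 3) F))) * Pm := by
          rw [hG]
          simp only [Matrix.mul_assoc]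
      _ = G := by rw [h1, Matrix.mul_one, hG]
  have hGX := key X hXR
  have hGZ := key Z hZR
  rw [hX] at hGX
  rw [hZ] at hGZ
  have hGs := gram_scalar σ γ hγ h3 hσγ G hGX hGZ
  obtain ⟨c, hc⟩ : ∃ c : F, c = G 0 0 := ⟨_, rfl⟩
  rw [← hc] at hGs
  have hc0 : c ≠ 0 := by
    intro h
    rw [h, zero_smul] at hGs
    have h4 : Pm = 0 := by
      have h5 : cstar σ ((P⁻¹ : GL (Fin 3) F) : Matrix (Fin 3) (Fin 3) F) * G = Pm := by
        have hPi2 : Pm * ((P⁻¹ : GL (Fin 3) F) : Matrix (Fin 3) (Fin 3) F) = 1 := by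
          rw [hPm, ← Units.val_mul, mul_inv_cancel, Units.val_one]
        rw [hG, ← Matrix.mul_assoc, ← cstar_mul, hPi2, cstar_one, Matrix.one_mul]
      rw [← h5, hGs, Matrix.mul_zero]
    rw [h4, Matrix.mul_zero] at hPi
    exact zero_ne_one hPi
  have hcq : c ^ p = c := by
    have h4 : cstar σ G = G := by rw [hG, cstar_mul, cstar_cstar σ hσσ]
    have h5 := congrFun (congrFun h4 0) 0
    rw [cstar_apply, ← hc, hσ] at h5
    exact h5
  obtain ⟨a, ha⟩ := exists_norm_eq hF c⁻¹ (inv_ne_zero hc0) (by rw [inv_pow, hcq])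
  have hP' : cstar σ (a • Pm) * (a • Pm) = 1 := by
    rw [UCent.cstar_smul, Matrix.smul_mul, Matrix.mul_smul, smul_smul, ← hG, hGs, smul_smul, hσ]
    have : a ^ p * a * c = 1 := by rw [mul_comm (a ^ p) a, ha, inv_mul_cancel₀ hc0]
    rw [this, one_smul]
  have hIs : IsIsom 3 p (a • Pm) := (PsuSpec.isIsom_iff_cstar p hp0 σ hσ _).2 hP'
  obtain ⟨P', hP'v⟩ : ∃ P' : GL (Fin 3) F, (P' : Matrix (Fin 3) (Fin 3) F) = a • Pm :=
    ⟨(hIs.isUnit hp0).unit, IsUnit.unit_spec _⟩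
  refine ⟨γ, hγ, P', X, Z, ?_, hX, hZ, ?_, ?_⟩
  · rw [mem_GU_iff, hP'v]
    exact hIs
  · rw [conj_smul P P' X a (by rw [hP'v, hPm])]
    exact hXR
  · rw [conj_smul P P' Z a (by rw [hP'v, hPm])]
    exact hZR

end Cfsg.Agent.Lib.helper99.Ex27
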