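import Mathlib
import Cfsg.Agent.Lib.helper99.Ex27F

set_option autoImplicit false

/-!
# Unitary diagonalisation of elements of order three of `GU_3(p)`, `p ≡ 2 (mod 3)` (helper99)
-/

namespace Cfsg.Agent.Lib.helper99.Ex27

open Cfsg Matrix Cfsg.Agent.Lib.helper7 Cfsg.Agent.Lib.helper48

variable {F : Type*} [Field F] [Fintype F] {p : ℕ}

/-- eigenvectors of an isometry for distinct cube roots of unity are orthogonal -/
theorem eig_orth (hp3 : p % 3 = 2) (Y : Matrix (Fin 3) (Fin 3) F) (hY : IsIsom 3 p Y)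
    (a b : F) (ha : a ^ 3 = 1) (hb : b ^ 3 = 1) (hab : a ≠ b) (u v : Fin 3 → F)
    (hu : Y *ᵥ u = a • u) (hv : Y *ᵥ v = b • v) : hermForm 3 F p u v = 0 := by
  have h := hY u v
  rw [hu, hv, herm_smul_left, herm_smul_right, cube_frob hp3 b hb] at h
  by_contra hne
  apply hab
  have h1 : a * b ^ 2 = 1 := by
    have h2 : (a * b ^ 2 - 1) * hermForm 3 F p u v = 0 := by linear_combination h
    rcases mul_eq_zero.1 h2 with h3 | h3
    · linear_combination h3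
    · exact absurd h3 hne
  calc a = a * b ^ 3 := by rw [hb, mul_one]
    _ = b * (a * b ^ 2) := by ring
    _ = b := by rw [h1, mul_one]

/-- one of the three spectral components of a non-isotropic vector is non-isotropic -/
theorem exists_eig (hF : Fintype.card F = p ^ 2) (hp3 : p % 3 = 2)
    (Y : Matrix (Fin 3) (Fin 3) F) (hY : IsIsom 3 p Y) (hY3 : Y * Y * Y = 1) (γ : F)
    (hγ : γ ^ 2 + γ + 1 = 0) (h3 : (3 : F) ≠ 0) (e : Fin 3 → F)
    (he : hermForm 3 F p e e ≠ 0) :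
    ∃ ρ : F, ρ ^ 3 = 1 ∧ hermForm 3 F p (ev Y ρ e) (ev Y ρ e) ≠ 0 := by
  by_contra hcon
  push Not at hcon
  have hγ3 := gamma_cube γ hγ
  have hγ1 := gamma_ne_one γ hγ h3
  have hγ0 := gamma_ne_zero γ hγ
  have hg23 : (γ ^ 2) ^ 3 = 1 := by rw [← pow_mul, mul_comm, pow_mul, hγ3, one_pow]
  have hg2 : γ ^ 2 ≠ 1 := by
    intro h
    apply hγ1
    calc γ = γ * 1 := by ring
      _ = γ * γ ^ 2 := by rw [h]
      _ = 1 := by rw [← hγ3]; ring
  have hg2' : γ ^ 2 ≠ γ := by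
    intro h
    apply hγ1
    have h4 : γ * (γ - 1) = 0 := by linear_combination h
    rcases mul_eq_zero.1 h4 with h5 | h5
    · exact absurd h5 hγ0
    · exact sub_eq_zero.1 h5
  have e1 := ev_eig Y hY3 1 (one_pow 3) e
  have eγ := ev_eig Y hY3 γ hγ3 e
  have eγ2 := ev_eig Y hY3 (γ ^ 2) hg23 e
  have n1 := hcon 1 (one_pow 3)
  have nγ := hcon γ hγ3
  have nγ2 := hcon (γ ^ 2) hg23
  have o12 := eig_orth hp3 Y hY 1 γ (one_pow 3) hγ3 (Ne.symm hγ1) _ _ e1 eγ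
  have o21 := eig_orth hp3 Y hY γ 1 hγ3 (one_pow 3) hγ1 _ _ eγ e1
  have o13 := eig_orth hp3 Y hY 1 (γ ^ 2) (one_pow 3) hg23 (Ne.symm hg2) _ _ e1 eγ2
  have o31 := eig_orth hp3 Y hY (γ ^ 2) 1 hg23 (one_pow 3) hg2 _ _ eγ2 e1
  have o23 := eig_orth hp3 Y hY γ (γ ^ 2) hγ3 hg23 (Ne.symm hg2') _ _ eγ eγ2
  have o32 := eig_orth hp3 Y hY (γ ^ 2) γ hg23 hγ3 hg2' _ _ eγ2 eγ
  have hsum := ev_sum Y γ hγ e
  have h9 : hermForm 3 F p ((3 : F) • (Y *ᵥ (Y *ᵥ e))) ((3 : F) • (Y *ᵥ (Y *ᵥ e))) = 0 := by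
    rw [← hsum]
    simp only [herm_add_left, herm_add_right hF, n1, nγ, nγ2, o12, o21, o13, o31, o23, o32,
      add_zero]
  rw [herm_smul_left, herm_smul_right, hY, hY] at h9
  rcases mul_eq_zero.1 h9 with h | h
  · exact h3 h
  · rcases mul_eq_zero.1 h with h | h
    · exact absurd h (pow_ne_zero p h3)
    · exact he h

theorem ev_perp (Y : Matrix (Fin 3) (Fin 3) F) (hY : IsIsom 3 p Y) (ρ : F) (e v : Fin 3 → F)
    (a : F) (ha : a ≠ 0) (hv : Y *ᵥ v = a • v) (hev : hermForm 3 F p e v = 0) :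
    hermForm 3 F p (ev Y ρ e) v = 0 := by
  have step : ∀ x : Fin 3 → F, hermForm 3 F p x v = 0 → hermForm 3 F p (Y *ᵥ x) v = 0 := by
    intro x hx
    have h := hY x v
    rw [hv, herm_smul_right, hx] at h
    rcases mul_eq_zero.1 h with h | h
    · exact absurd h (pow_ne_zero p ha)
    · exact h
  unfold ev
  rw [herm_add_left, herm_add_left, herm_smul_left, herm_smul_left, step _ (step _ hev),
    step _ hev, hev]
  ring

/-- a norm one eigenvector orthogonal to given eigenvectors -/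
theorem exists_unit_eig (hF : Fintype.card F = p ^ 2) (hp3 : p % 3 = 2)
    (Y : Matrix (Fin 3) (Fin 3) F) (hY : IsIsom 3 p Y) (hY3 : Y * Y * Y = 1) (γ : F)
    (hγ : γ ^ 2 + γ + 1 = 0) (h3 : (3 : F) ≠ 0) (e : Fin 3 → F)
    (he : hermForm 3 F p e e ≠ 0) (S : Set (Fin 3 → F))
    (hS : ∀ v ∈ S, ∃ a : F, a ≠ 0 ∧ Y *ᵥ v = a • v) (heS : ∀ v ∈ S, hermForm 3 F p e v = 0) :
    ∃ (w : Fin 3 → F) (ρ : F), ρ ^ 3 = 1 ∧ Y *ᵥ w = ρ • w ∧ hermForm 3 F p w w = 1 ∧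
      ∀ v ∈ S, hermForm 3 F p w v = 0 := by
  obtain ⟨ρ, hρ, hne⟩ := exists_eig hF hp3 Y hY hY3 γ hγ h3 e he
  obtain ⟨a, ha0, ha⟩ := SuInv.exists_norm_one hF (ev Y ρ e) hne
  refine ⟨a • ev Y ρ e, ρ, hρ, ?_, ha, ?_⟩
  · rw [Matrix.mulVec_smul, ev_eig Y hY3 ρ hρ, smul_comm]
  · intro v hv
    obtain ⟨b, hb0, hb⟩ := hS v hv
    rw [herm_smul_left, ev_perp Y hY ρ e v b hb0 hb (heS v hv), mul_zero]

/-- the conjugated cross product -/
def ccross (p : ℕ) (u v : Fin 3 → F) : Fin 3 → F :=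
  ![(u 1 * v 2 - u 2 * v 1) ^ p, (u 2 * v 0 - u 0 * v 2) ^ p, (u 0 * v 1 - u 1 * v 0) ^ p]

theorem ccross_left (hF : Fintype.card F = p ^ 2) (u v : Fin 3 → F) :
    hermForm 3 F p (ccross p u v) u = 0 := by
  have hp2 := two_le_of_card_sq hF
  unfold hermForm ccross
  rw [Fin.sum_univ_three]
  simp only [Matrix.cons_val_zero, Matrix.cons_val_one, Matrix.cons_val_two, Matrix.head_cons,
    Matrix.tail_cons]
  rw [← mul_pow, ← mul_pow, ← mul_pow, ← frob_add_all hF, ← frob_add_all hF]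
  have : (u 1 * v 2 - u 2 * v 1) * u 0 + (u 2 * v 0 - u 0 * v 2) * u 1
      + (u 0 * v 1 - u 1 * v 0) * u 2 = 0 := by ring
  rw [this, zero_pow (by omega)]

theorem ccross_right (hF : Fintype.card F = p ^ 2) (u v : Fin 3 → F) :
    hermForm 3 F p (ccross p u v) v = 0 := by
  have hp2 := two_le_of_card_sq hF
  unfold hermForm ccross
  rw [Fin.sum_univ_three]
  simp only [Matrix.cons_val_zero, Matrix.cons_val_one, Matrix.cons_val_two, Matrix.head_cons,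
    Matrix.tail_cons]
  rw [← mul_pow, ← mul_pow, ← mul_pow, ← frob_add_all hF, ← frob_add_all hF]
  have : (u 1 * v 2 - u 2 * v 1) * v 0 + (u 2 * v 0 - u 0 * v 2) * v 1
      + (u 0 * v 1 - u 1 * v 0) * v 2 = 0 := by ring
  rw [this, zero_pow (by omega)]

theorem ccross_norm (hF : Fintype.card F = p ^ 2) (u v : Fin 3 → F)
    (hu : hermForm 3 F p u u = 1) (hv : hermForm 3 F p v v = 1) (huv : hermForm 3 F p u v = 0) :
    hermForm 3 F p (ccross p u v) (ccross p u v) = 1 := by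
  unfold hermForm at hu hv huv ⊢
  rw [Fin.sum_univ_three] at hu hv huv ⊢
  unfold ccross
  simp only [Matrix.cons_val_zero, Matrix.cons_val_one, Matrix.cons_val_two, Matrix.head_cons,
    Matrix.tail_cons]
  rw [frob_frob hF, frob_frob hF, frob_frob hF, frob_sub_all hF, frob_sub_all hF, frob_sub_all hF]
  simp only [mul_pow]
  linear_combination (v 0 * v 0 ^ p + v 1 * v 1 ^ p + v 2 * v 2 ^ p) * hu + hv
    - (v 0 * u 0 ^ p + v 1 * u 1 ^ p + v 2 * u 2 ^ p) * huv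

end Cfsg.Agent.Lib.helper99.Ex27
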