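import Mathlib
import Cfsg.Agent.Lib.helper99.Ex27G

set_option autoImplicit false

/-!
# Unitary diagonalisation, involutions and the order of `SU_3` inside `GL_3` (helper99)
-/

namespace Cfsg.Agent.Lib.helper99.Ex27

open Cfsg Matrix Cfsg.Agent.Lib.helper7 Cfsg.Agent.Lib.helper48

variable {F : Type*} [Field F] [Fintype F] {p : ℕ}

/-- an isometry of order three is diagonalised by an isometry of determinant one -/
theorem exists_unitary_diag (hF : Fintype.card F = p ^ 2) (hp3 : p % 3 = 2)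
    (Y : Matrix (Fin 3) (Fin 3) F) (hY : IsIsom 3 p Y) (hY3 : Y * Y * Y = 1) (γ : F)
    (hγ : γ ^ 2 + γ + 1 = 0) (h3 : (3 : F) ≠ 0) :
    ∃ (g : Matrix (Fin 3) (Fin 3) F) (d : Fin 3 → F), IsIsom 3 p g ∧ g.det = 1 ∧
      (∀ i, d i ^ 3 = 1) ∧ Y * g = g * Matrix.diagonal d := by
  classical
  have hp2 := two_le_of_card_sq hF
  have hp0 : p ≠ 0 := by omega
  obtain ⟨σ, hσ⟩ := exists_frobHom hF
  have he0 : hermForm 3 F p (Pi.single 0 1) (Pi.single 0 1) = 1 := by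
    rw [herm_single_right hp0]
    simp
  obtain ⟨v0, ρ0, hρ0, hYv0, hn0, -⟩ := exists_unit_eig hF hp3 Y hY hY3 γ hγ h3 (Pi.single 0 1)
    (by rw [he0]; exact one_ne_zero) ∅ (by simp) (by simp)
  have hne : ∀ ρ : F, ρ ^ 3 = 1 → ρ ≠ 0 := by
    rintro ρ h rfl
    simp at h
  obtain ⟨M, hM, hMv⟩ := exists_isIsom_map hF 3 (Pi.single 0 1) v0 he0 hn0
  obtain ⟨v1, ρ1, hρ1, hYv1, hn1, h10⟩ := exists_unit_eig hF hp3 Y hY hY3 γ hγ h3
    (M *ᵥ Pi.single 1 1)
    (by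
      rw [hM, herm_single_right hp0]
      simp)
    {v0}
    (by
      intro v hv
      rw [Set.mem_singleton_iff] at hv
      subst hv
      exact ⟨ρ0, hne ρ0 hρ0, hYv0⟩)
    (by
      intro v hv
      rw [Set.mem_singleton_iff] at hv
      subst hv
      rw [← hMv, hM, herm_single_right hp0]
      simp)
  have h10' : hermForm 3 F p v1 v0 = 0 := h10 v0 rfl
  have h01 : hermForm 3 F p v0 v1 = 0 := by rw [← herm_conj hF, h10', zero_pow hp0]
  obtain ⟨v2, ρ2, hρ2, hYv2, hn2, h2⟩ := exists_unit_eig hF hp3 Y hY hY3 γ hγ h3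
    (ccross p v0 v1)
    (by
      rw [ccross_norm hF v0 v1 hn0 hn1 h01]
      exact one_ne_zero)
    {v0, v1}
    (by
      intro v hv
      rcases hv with hv | hv
      · subst hv
        exact ⟨ρ0, hne ρ0 hρ0, hYv0⟩
      · rw [Set.mem_singleton_iff] at hv
        subst hv
        exact ⟨ρ1, hne ρ1 hρ1, hYv1⟩)
    (by
      intro v hv
      rcases hv with hv | hv
      · subst hv
        exact ccross_left hF _ _
      · rw [Set.mem_singleton_iff] at hv
        subst hv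
        exact ccross_right hF _ _)
  have h20 : hermForm 3 F p v2 v0 = 0 := h2 v0 (Or.inl rfl)
  have h21 : hermForm 3 F p v2 v1 = 0 := h2 v1 (Or.inr rfl)
  have h02 : hermForm 3 F p v0 v2 = 0 := by rw [← herm_conj hF, h20, zero_pow hp0]
  have h12 : hermForm 3 F p v1 v2 = 0 := by rw [← herm_conj hF, h21, zero_pow hp0]
  obtain ⟨g₁, hg₁⟩ : ∃ g₁ : Matrix (Fin 3) (Fin 3) F, g₁ = Matrix.of (fun i j => ![v0, v1, v2] j i) :=
    ⟨_, rfl⟩
  have hIs : IsIsom 3 p g₁ := by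
    rw [PsuSpec.isIsom_iff_cstar p hp0 σ hσ]
    ext j k
    have e : (cstar σ g₁ * g₁) j k = hermForm 3 F p (![v0, v1, v2] k) (![v0, v1, v2] j) := by
      rw [Matrix.mul_apply]
      unfold hermForm
      apply Finset.sum_congr rfl
      intro i _
      rw [cstar_apply, hσ, hg₁]
      simp only [Matrix.of_apply]
      ring
    rw [e]
    fin_cases j <;> fin_cases k <;> simp [hn0, hn1, hn2, h01, h02, h10', h12, h20, h21]
  obtain ⟨d, hd⟩ : ∃ d : Fin 3 → F, d = ![ρ0, ρ1, ρ2] := ⟨_, rfl⟩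
  have hYg : Y * g₁ = g₁ * Matrix.diagonal d := by
    ext i j
    rw [Matrix.mul_diagonal, Matrix.mul_apply]
    have e : ∑ k, Y i k * g₁ k j = (Y *ᵥ (![v0, v1, v2] j)) i := by
      rw [Matrix.mulVec, dotProduct]
      apply Finset.sum_congr rfl
      intro k _
      rw [hg₁]
      simp only [Matrix.of_apply]
    rw [e, hg₁, hd]
    fin_cases j
    · simp [hYv0]
      ring
    · simp [hYv1]
      ring
    · simp [hYv2]
      ring
  have hdet := hIs.det_norm hF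
  have hdet0 : g₁.det ≠ 0 := by
    intro h
    rw [h, zero_mul] at hdet
    exact zero_ne_one hdet
  obtain ⟨l, hl⟩ : ∃ l : F, l = g₁.det⁻¹ := ⟨_, rfl⟩
  have hll : l * l ^ p = 1 := by rw [hl, inv_pow, ← mul_inv, hdet, inv_one]
  have hD : IsIsom 3 p (Matrix.diagonal ![l, 1, 1]) := by
    apply diagonal_isIsom
    intro i
    fin_cases i
    · simpa using hll
    · simp
    · simp
  refine ⟨g₁ * Matrix.diagonal ![l, 1, 1], d, hIs.mul hD, ?_, ?_, ?_⟩
  · rw [Matrix.det_mul, Matrix.det_diagonal, Fin.prod_univ_three]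
    simp only [Matrix.cons_val_zero, Matrix.cons_val_one, Matrix.cons_val_two, Matrix.head_cons,
      Matrix.tail_cons, mul_one]
    rw [hl, mul_inv_cancel₀ hdet0]
  · intro i
    rw [hd]
    fin_cases i
    · simpa using hρ0
    · simpa using hρ1
    · simpa using hρ2
  · rw [← Matrix.mul_assoc, hYg, Matrix.mul_assoc, Matrix.mul_assoc, Matrix.diagonal_mul_diagonal,
      Matrix.diagonal_mul_diagonal]
    congr 2
    funext i
    ring

theorem S0m_isIsom (hF : Fintype.card F = p ^ 2) :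
    IsIsom 3 p (S0m : Matrix (Fin 3) (Fin 3) F) := by
  have hp2 := two_le_of_card_sq hF
  obtain ⟨σ, hσ⟩ := exists_frobHom hF
  rw [PsuSpec.isIsom_iff_cstar p (by omega) σ hσ]
  ext i j
  fin_cases i <;> fin_cases j <;> simp [S0m, cstar_apply, Matrix.mul_apply, Fin.sum_univ_three]

/-- an involution of `SU_3(p)` is conjugate in `SU_3(p)` to the standard one -/
theorem conj_invol_unitary (hF : Fintype.card F = p ^ 2) (hodd : Odd p)
    (T : Matrix (Fin 3) (Fin 3) F) (hT : IsIsom 3 p T) (hTT : T * T = 1) (hdet : T.det = 1)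
    (hne : T ≠ 1) :
    ∃ g : Matrix (Fin 3) (Fin 3) F, IsIsom 3 p g ∧ g.det = 1 ∧ T * g = g * S0m := by
  have hp2 := two_le_of_card_sq hF
  have h20 := SuInv.two_ne_zero_of_odd hF hodd
  obtain ⟨v, hv, hTv⟩ := SuInv.invol_eq_rf hF hodd T hT hTT hdet hne
  have hS1 : (S0m : Matrix (Fin 3) (Fin 3) F) ≠ 1 := by
    intro h
    have h4 := congrFun (congrFun h 0) 0
    simp [S0m] at h4
    apply h20
    linear_combination -h4
  have hSdet : (S0m : Matrix (Fin 3) (Fin 3) F).det = 1 := by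
    simp [S0m, Matrix.det_fin_three]
  obtain ⟨w, hw, hSw⟩ := SuInv.invol_eq_rf hF hodd S0m (S0m_isIsom hF) S0m_sq hSdet hS1
  obtain ⟨M, hM, hMdet, hMc⟩ := SuInv.rf_conj_exists hF v w hv hw
  rw [← hTv, ← hSw] at hMc
  have hu : IsUnit M.det := by rw [hMdet]; exact isUnit_one
  refine ⟨M⁻¹, hM.inv (by omega), ?_, ?_⟩
  · rw [Matrix.det_nonsing_inv, hMdet]
    simp
  · calc T * M⁻¹ = M⁻¹ * (M * T) * M⁻¹ := by
          rw [← Matrix.mul_assoc, Matrix.nonsing_inv_mul _ hu, Matrix.one_mul]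
      _ = M⁻¹ * S0m * (M * M⁻¹) := by
          rw [hMc]
          simp only [Matrix.mul_assoc]
      _ = M⁻¹ * S0m := by rw [Matrix.mul_nonsing_inv _ hu, Matrix.mul_one]

/-- `SU_3` inside `GL_3`, as a set of matrices -/
noncomputable def guSlEquiv (p : ℕ) :
    ↥(Cfsg.GU 3 F p ⊓ Cfsg.Geo.specialLinear (Fin 3) F)
      ≃ {M : Matrix (Fin 3) (Fin 3) F // IsIsom 3 p M ∧ M.det = 1} where
  toFun g := ⟨(g.1 : Matrix (Fin 3) (Fin 3) F), (mem_GU_iff 3 g.1).1 g.2.1,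
    (mem_sl3_iff g.1).1 g.2.2⟩
  invFun M := ⟨Matrix.GeneralLinearGroup.mkOfDetNeZero M.1 (by rw [M.2.2]; exact one_ne_zero),
    ⟨(mem_GU_iff 3 _).2 M.2.1, (mem_sl3_iff _).2 M.2.2⟩⟩
  left_inv g := Subtype.ext (Units.ext rfl)
  right_inv M := Subtype.ext rfl

theorem card_gu_sl (hF : Fintype.card F = p ^ 2) :
    (p + 1) * Nat.card ↥(Cfsg.GU 3 F p ⊓ Cfsg.Geo.specialLinear (Fin 3) F)
      = p ^ 3 * ((p + 1) * (p ^ 2 - 1) * (p ^ 3 + 1)) := by
  rw [Nat.card_congr (guSlEquiv p), ← Nat.card_congr (suEquiv 3), card_SU hF 3 (by norm_num)]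
  simp [Finset.prod_range_succ]

set_option maxRecDepth 100000 in
theorem t243u : ∀ x : ZMod 243, (x.val % 9 = 2 ∨ x.val % 9 = 5) →
    x ^ 3 * ((x + 1) * (x ^ 2 - 1) * (x ^ 3 + 1)) ≠ 0 := by
  decide

/-- if `3` divides the index of the normalizer in `SU_3(p)` then `p ≡ 8 (mod 9)` -/
theorem mod_nine_unitary (hF : Fintype.card F = p ^ 2) (hp3 : p % 3 = 2)
    (R : Subgroup (GL (Fin 3) F)) (hR : Nat.card R = 27)
    (hRG : R ≤ Cfsg.GU 3 F p ⊓ Cfsg.Geo.specialLinear (Fin 3) F)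
    (hΩ : 3 ∣ (Cfsg.Geo.subgroupNormalizer R).relIndex
      (Cfsg.GU 3 F p ⊓ Cfsg.Geo.specialLinear (Fin 3) F)) :
    p % 9 = 8 := by
  by_contra hne
  have h25 : p % 9 = 2 ∨ p % 9 = 5 := by omega
  have hRN : R ≤ Cfsg.Geo.subgroupNormalizer R := Subgroup.le_normalizer
  have h27 : 27 ∣ Nat.card ((Cfsg.Geo.subgroupNormalizer R).subgroupOf
      (Cfsg.GU 3 F p ⊓ Cfsg.Geo.specialLinear (Fin 3) F)) := by
    have hle : R.subgroupOf (Cfsg.GU 3 F p ⊓ Cfsg.Geo.specialLinear (Fin 3) F)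
        ≤ (Cfsg.Geo.subgroupNormalizer R).subgroupOf
          (Cfsg.GU 3 F p ⊓ Cfsg.Geo.specialLinear (Fin 3) F) := by
      intro x hx
      rw [Subgroup.mem_subgroupOf] at hx ⊢
      exact hRN hx
    have hc : Nat.card (R.subgroupOf (Cfsg.GU 3 F p ⊓ Cfsg.Geo.specialLinear (Fin 3) F))
        = 27 := by
      rw [Nat.card_congr (Subgroup.subgroupOfEquivOfLe hRG).toEquiv, hR]
    rw [← hc]
    exact Subgroup.card_dvd_of_le hle
  have hmul : Nat.card ((Cfsg.Geo.subgroupNormalizer R).subgroupOf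
      (Cfsg.GU 3 F p ⊓ Cfsg.Geo.specialLinear (Fin 3) F))
      * (Cfsg.Geo.subgroupNormalizer R).relIndex
        (Cfsg.GU 3 F p ⊓ Cfsg.Geo.specialLinear (Fin 3) F)
      = Nat.card ↥(Cfsg.GU 3 F p ⊓ Cfsg.Geo.specialLinear (Fin 3) F) :=
    Subgroup.card_mul_index _
  have h81 : 27 * 3 ∣ Nat.card ↥(Cfsg.GU 3 F p ⊓ Cfsg.Geo.specialLinear (Fin 3) F) := by
    rw [← hmul]
    exact mul_dvd_mul h27 hΩ
  have hcard := card_gu_sl hF
  have h243 : 3 * (27 * 3) ∣ p ^ 3 * ((p + 1) * (p ^ 2 - 1) * (p ^ 3 + 1)) := by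
    rw [← hcard]
    exact mul_dvd_mul (by omega) h81
  have hp1 : 1 ≤ p := by omega
  have hp2' : 1 ≤ p ^ 2 := Nat.one_le_pow _ _ hp1
  have hz : (p : ZMod 243) ^ 3 * (((p : ZMod 243) + 1) * ((p : ZMod 243) ^ 2 - 1)
      * ((p : ZMod 243) ^ 3 + 1)) = 0 := by
    have h := (ZMod.natCast_eq_zero_iff _ 243).2 h243
    push_cast [Nat.cast_sub hp2'] at h
    exact h
  refine t243u (p : ZMod 243) ?_ hz
  rw [ZMod.val_natCast]
  omega

end Cfsg.Agent.Lib.helper99.Ex27
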