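import Mathlib
import Cfsg.Agent.Lib.helper99.FuE

/-!
# Elements of odd prime order commuting with `κ` move many vectors
-/

set_option autoImplicit false

namespace Cfsg.Agent.Lib.helper99

open Module Matrix Cfsg Cfsg.Geo
open Cfsg.Agent.Lib.helper17 Cfsg.Agent.Lib.helper95 Cfsg.Agent.Lib.helper24

universe u v

/-- an isometry commuting with `κ` whose order is a prime not dividing the number of unit vectors
fixes a unit vector -/
theorem fu_fixed_unit {F : Type u} [Field F] [Fintype F] (hodd : Odd (Fintype.card F)) (δ : F)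
    (hδ : δ ≠ 0) (hns : ∀ c : F, c * c ≠ δ) {V : Type v} [AddCommGroup V] [Module F V]
    [Finite V] (B : V →ₗ[F] V →ₗ[F] F) (κ : V →ₗ[F] V) (h : FuKS B κ δ) (n : ℕ)
    (hdim : finrank F V = 2 * n) (r : ℕ) [hr : Fact r.Prime] (hrq : ¬ r ∣ Fintype.card F)
    (hord : ¬ (r : ℤ) ∣ (Fintype.card F : ℤ) ^ n - (-1) ^ n)
    (Y : V →ₗ[F] V) (hYB : ∀ x y, B (Y x) (Y y) = B x y) (hYκ : ∀ x, Y (κ x) = κ (Y x))
    (hYr : ∀ x, (Y ^ r) x = x) : ∃ x : V, B x (κ x) = 1 ∧ Y x = x := by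
  classical
  have hcard := fu_card_unit hodd δ hδ hns B κ h n hdim 1 one_ne_zero
  have hrP := Nat.prime_iff_prime_int.1 hr.out
  have : Fintype {x : V // B x (κ x) = (1 : F)} := Fintype.ofFinite _
  have hndvd : ¬ r ∣ Fintype.card {x : V // B x (κ x) = (1 : F)} := by
    intro hdv
    rw [← Nat.card_eq_fintype_card] at hdv
    have h1 : (r : ℤ) ∣ (Fintype.card F : ℤ) ^ n * ((Fintype.card F : ℤ) ^ n - (-1) ^ n) := by
      rw [← hcard]
      exact Dvd.dvd.mul_right (Int.natCast_dvd_natCast.2 hdv) _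
    rcases hrP.dvd_or_dvd h1 with h2 | h2
    · exact hrq (Int.natCast_dvd_natCast.1 (hrP.dvd_of_dvd_pow h2))
    · exact hord h2
  obtain ⟨f, hf⟩ : ∃ f : {x : V // B x (κ x) = (1 : F)} → {x : V // B x (κ x) = (1 : F)},
      ∀ x, (f x).1 = Y x.1 :=
    ⟨fun x => ⟨Y x.1, by rw [← hYκ, hYB]; exact x.2⟩, fun x => rfl⟩
  have hiter : ∀ (k : ℕ) (x : {x : V // B x (κ x) = (1 : F)}), (f^[k] x).1 = (Y ^ k) x.1 := by
    intro k
    induction k with
    | zero =>
      intro x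
      rw [Function.iterate_zero, id_eq, pow_zero, Module.End.one_apply]
    | succ k ih =>
      intro x
      rw [Function.iterate_succ_apply, ih, hf, pow_succ, Module.End.mul_apply]
  have hfr : ∀ x, f^[r] x = x := fun x => Subtype.ext (by rw [hiter, hYr])
  have hinj : Function.Injective f := by
    intro x y hxy
    have h1 : f^[r] x = f^[r] y := by
      obtain ⟨k, hk⟩ : ∃ k, r = k + 1 := ⟨r - 1, by have := hr.out.pos; omega⟩
      rw [hk, Function.iterate_succ_apply, Function.iterate_succ_apply, hxy]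
    rwa [hfr, hfr] at h1
  obtain ⟨σ, hσ⟩ : ∃ σ : Equiv.Perm {x : V // B x (κ x) = (1 : F)}, ∀ x, σ x = f x :=
    ⟨Equiv.ofBijective f (Finite.injective_iff_bijective.1 hinj), fun x => rfl⟩
  have hσf : (σ : {x : V // B x (κ x) = (1 : F)} → {x : V // B x (κ x) = (1 : F)}) = f :=
    funext hσ
  have hσr : σ ^ r ^ 1 = 1 := by
    apply Equiv.Perm.ext
    intro x
    rw [pow_one, ← Equiv.Perm.iterate_eq_pow, hσf, hfr]
    rfl
  obtain ⟨x, hx⟩ := Equiv.Perm.exists_fixed_point_of_prime hndvd hσr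
  exact ⟨x.1, x.2, by rw [← hf, ← hσ, hx]⟩

variable {F : Type*} [Field F] {d : ℕ} {κ : Matrix (Fin d ⊕ Fin d) (Fin d ⊕ Fin d) F} {δ : F}

/-- an element commuting with `κ` cannot have commutator space of dimension one -/
theorem fu_rank_one_contra (h : SkewK d κ δ) (y : Matrix (Fin d ⊕ Fin d) (Fin d ⊕ Fin d) F)
    (hyκ : y * κ = κ * y) (hle : (y - (1 : F) • 1).rank ≤ 1)
    (hne : (y - (1 : F) • 1).rank ≠ 0) : False := by
  classical
  rw [ts_rank_sub_one] at hle hne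
  obtain ⟨Y, hY⟩ : ∃ Y : (Fin d ⊕ Fin d → F) →ₗ[F] (Fin d ⊕ Fin d → F), Y = Matrix.toLin' y :=
    ⟨_, rfl⟩
  rw [← hY] at hle hne
  have hYv : ∀ x, Y x = y *ᵥ x := fun x => by rw [hY, Matrix.toLin'_apply]
  have h1 : finrank F (LinearMap.range (Y - 1)) = 1 := by omega
  obtain ⟨w, hw0, hw⟩ := finrank_eq_one_iff'.1 h1
  have hw0' : (w : Fin d ⊕ Fin d → F) ≠ 0 := fun h0 => hw0 (Subtype.ext h0)
  have hκw : κ *ᵥ (w : Fin d ⊕ Fin d → F) ∈ LinearMap.range (Y - 1) := by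
    obtain ⟨x, hx⟩ := w.2
    refine ⟨κ *ᵥ x, ?_⟩
    rw [← hx, LinearMap.sub_apply, LinearMap.sub_apply, Module.End.one_apply,
      Module.End.one_apply, hYv, hYv, Matrix.mulVec_sub, Matrix.mulVec_mulVec, hyκ,
      Matrix.mulVec_mulVec]
  obtain ⟨c, hc⟩ := hw ⟨_, hκw⟩
  have hc' : c • (w : Fin d ⊕ Fin d → F) = κ *ᵥ (w : Fin d ⊕ Fin d → F) :=
    congrArg Subtype.val hc
  have h5 := h.kappa_indep hw0' (a := -c) (b := 1) (by rw [neg_smul, hc', one_smul, neg_add_cancel])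
  exact one_ne_zero h5.2

/-- the main estimate: an element of `Sp` of odd prime order commuting with `κ` has a large
commutator space -/
theorem fu_no_commute [Fintype F] {p : ℕ} [hp : Fact p.Prime] [CharP F p]
    (hodd : Odd (Fintype.card F)) (h : SkewK d κ δ) (r : ℕ) [hr : Fact r.Prime]
    (hrq : ¬ r ∣ Fintype.card F) (y : GL (Fin d ⊕ Fin d) F) (hy : y ∈ spGL d F)
    (hyκ : (y : Matrix (Fin d ⊕ Fin d) (Fin d ⊕ Fin d) F) * κ =
      κ * (y : Matrix (Fin d ⊕ Fin d) (Fin d ⊕ Fin d) F))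
    (hyr : ((y ^ r : GL (Fin d ⊕ Fin d) F) : Matrix (Fin d ⊕ Fin d) (Fin d ⊕ Fin d) F) = 1)
    (o : ℕ)
    (hrank : ((y : Matrix (Fin d ⊕ Fin d) (Fin d ⊕ Fin d) F) - (1 : F) • 1).rank ≤ 2 * o)
    (hne : ((y : Matrix (Fin d ⊕ Fin d) (Fin d ⊕ Fin d) F) - (1 : F) • 1).rank ≠ 0)
    (hord : ∀ m, 1 ≤ m → m ≤ o → ¬ (r : ℤ) ∣ (Fintype.card F : ℤ) ^ m - (-1) ^ m) : False := by
  classical
  obtain ⟨Y, hY⟩ : ∃ Y : (Fin d ⊕ Fin d → F) →ₗ[F] (Fin d ⊕ Fin d → F),
      Y = Matrix.toLin' (y : Matrix (Fin d ⊕ Fin d) (Fin d ⊕ Fin d) F) := ⟨_, rfl⟩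
  have hYv : ∀ x, Y x = (y : Matrix (Fin d ⊕ Fin d) (Fin d ⊕ Fin d) F) *ᵥ x := fun x => by
    rw [hY, Matrix.toLin'_apply]
  obtain ⟨W, hW⟩ : ∃ W : Submodule F (Fin d ⊕ Fin d → F), W = LinearMap.range (Y - 1) :=
    ⟨_, rfl⟩
  have hrk : finrank F W = ((y : Matrix (Fin d ⊕ Fin d) (Fin d ⊕ Fin d) F) - (1 : F) • 1).rank := by
    rw [ts_rank_sub_one, hW, hY]
  have hsp := (mem_spGL_iff d y).mp hy
  have hWκ : ∀ w ∈ W, Matrix.toLin' κ w ∈ W := by
    intro w hw
    rw [hW] at hw ⊢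
    obtain ⟨x, rfl⟩ := hw
    refine ⟨κ *ᵥ x, ?_⟩
    rw [LinearMap.sub_apply, LinearMap.sub_apply, Module.End.one_apply, Module.End.one_apply,
      hYv, hYv, Matrix.toLin'_apply, Matrix.mulVec_sub, Matrix.mulVec_mulVec, hyκ,
      Matrix.mulVec_mulVec]
  have hWy : ∀ w ∈ W, Y w ∈ W := by
    intro w hw
    rw [hW] at hw ⊢
    obtain ⟨x, rfl⟩ := hw
    refine ⟨Y x, ?_⟩
    rw [LinearMap.sub_apply, LinearMap.sub_apply, Module.End.one_apply, Module.End.one_apply,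
      map_sub]
  have hrF : ((r : ℕ) : F) ≠ 0 := by
    intro h0
    rw [CharP.cast_eq_zero_iff F p] at h0
    have hpr : p = r := (Nat.prime_dvd_prime_iff_eq hp.out hr.out).1 h0
    obtain ⟨n, hpp, hn⟩ := FiniteField.card F p
    apply hrq
    rw [hn, ← hpr]
    exact dvd_pow_self _ n.ne_zero
  have hpow : ∀ (k : ℕ) (x : Fin d ⊕ Fin d → F), (Y - 1) ((Y - 1) x) = 0 →
      (Y ^ k) x = x + (k : F) • (Y - 1) x := by
    intro k x hx
    induction k with
    | zero => simp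
    | succ k ih =>
      have h1 : Y ((Y - 1) x) = (Y - 1) x := by
        have h3 := hx
        rw [LinearMap.sub_apply Y 1 ((Y - 1) x), Module.End.one_apply, sub_eq_zero] at h3
        exact h3
      have h2 : Y x = x + (Y - 1) x := by
        rw [LinearMap.sub_apply, Module.End.one_apply]
        abel
      rw [pow_succ', Module.End.mul_apply, ih, map_add, map_smul, h1, h2]
      push_cast
      module
  have hYr : ∀ x, (Y ^ r) x = x := by
    intro x
    rw [hY, ← Matrix.toLin'_pow, ← Units.val_pow_eq_pow_val, hyr, Matrix.toLin'_one]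
    rfl
  have hss : ∀ w ∈ W, Y w = w → w = 0 := by
    intro w hw hfix
    rw [hW] at hw
    obtain ⟨x, rfl⟩ := hw
    have h1 : (Y - 1) ((Y - 1) x) = 0 := by
      rw [LinearMap.sub_apply Y 1 ((Y - 1) x), Module.End.one_apply, hfix, sub_self]
    have h2 := hpow r x h1
    rw [hYr] at h2
    have h3 : ((r : ℕ) : F) • (Y - 1) x = 0 := by
      have h4 : x + ((r : ℕ) : F) • (Y - 1) x = x + 0 := by rw [add_zero, ← h2]
      exact add_left_cancel h4
    exact (smul_eq_zero.1 h3).resolve_left hrF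
  have hnd : ∀ w : W, (∀ w' : W, sympForm d F (w : Fin d ⊕ Fin d → F) (w' : Fin d ⊕ Fin d → F) = 0) →
      w = 0 := by
    intro w hw
    apply Subtype.ext
    apply hss w.1 w.2
    by_contra hne'
    have hne2 : Y w.1 - w.1 ≠ 0 := fun h0 => hne' (sub_eq_zero.1 h0)
    obtain ⟨x', hx'⟩ := exists_sympForm_ne_zero d _ hne2
    apply hx'
    obtain ⟨x, hx⟩ : ∃ x, Y x = x' := by
      refine ⟨((y⁻¹ : GL (Fin d ⊕ Fin d) F) : Matrix (Fin d ⊕ Fin d) (Fin d ⊕ Fin d) F) *ᵥ x', ?_⟩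
      rw [hYv, Matrix.mulVec_mulVec, Units.mul_inv, Matrix.one_mulVec]
    have h5 : sympForm d F w.1 ((Y - 1) x) = 0 := hw ⟨(Y - 1) x, by rw [hW]; exact ⟨x, rfl⟩⟩
    rw [LinearMap.sub_apply, Module.End.one_apply, sympForm_sub_right] at h5
    rw [← hx, sympForm_sub_left, hYv, hYv, hsp, ← hYv]
    linear_combination -h5
  have hks : FuKS ((sympBilin d (F := F)).domRestrict₁₂ W W) ((Matrix.toLin' κ).restrict hWκ) δ :=
    { alt := fun x => by
        rw [LinearMap.domRestrict₁₂_apply]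
        exact sympBilin_alt d _
      nd := fun x hx => hnd x (fun w' => by
        have h5 := hx w'
        rwa [LinearMap.domRestrict₁₂_apply] at h5)
      sq := fun x => Subtype.ext ((fu_ks_of_skewK h).sq x)
      skew := fun x y => by
        rw [LinearMap.domRestrict₁₂_apply, LinearMap.domRestrict₁₂_apply]
        exact (fu_ks_of_skewK h).skew _ _ }
  obtain ⟨n, hn, -⟩ := fu_frame_exists hodd δ h.delta_ne o W _ _ hks (by rw [hrk]; exact hrank)
  have hn1 : 1 ≤ n := by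
    rw [hrk] at hn
    omega
  have hno : n ≤ o := by
    rw [hrk] at hn
    omega
  obtain ⟨x, hx1, hx2⟩ := fu_fixed_unit hodd δ h.delta_ne h.nsq _ _ hks n hn r hrq
    (hord n hn1 hno) (Y.restrict hWy)
    (fun a b => by
      rw [LinearMap.domRestrict₁₂_apply, LinearMap.domRestrict₁₂_apply]
      show sympForm d F (Y a.1) (Y b.1) = sympForm d F a.1 b.1
      rw [hYv, hYv, hsp])
    (fun a => Subtype.ext (by
      show Y (Matrix.toLin' κ a.1) = Matrix.toLin' κ (Y a.1)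
      rw [Matrix.toLin'_apply, Matrix.toLin'_apply, hYv, hYv, Matrix.mulVec_mulVec, hyκ,
        Matrix.mulVec_mulVec]))
    (fun a => Subtype.ext (by
      rw [Module.End.pow_restrict r hWy]
      exact hYr a.1))
  have hx0 : x = 0 := Subtype.ext (hss x.1 x.2 (congrArg Subtype.val hx2))
  rw [hx0, map_zero, LinearMap.zero_apply] at hx1
  exact zero_ne_one hx1

end Cfsg.Agent.Lib.helper99
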