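import Mathlib
import Cfsg.Agent.Lib.helper99.FuF
import Cfsg.Agent.Lib.helper24.LagCountB

/-!
# Forward direction: derangements of prime order for the unitary-type subgroup of `Sp_{2d}(q)`
-/

set_option autoImplicit false

namespace Cfsg.Agent.Lib.helper99

open Module Matrix Cfsg Cfsg.Geo
open Cfsg.Agent.Lib.helper17 Cfsg.Agent.Lib.helper95 Cfsg.Agent.Lib.helper24

variable {F : Type*} [Field F]

theorem fu_forward [Fintype F] {p : ℕ} [hp : Fact p.Prime] [CharP F p]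
    (hodd : Odd (Fintype.card F)) (d : ℕ) (hd : 2 ≤ d)
    (K : Subalgebra F (Matrix (Fin d ⊕ Fin d) (Fin d ⊕ Fin d) F)) (hK : IsFieldSubalgebra 2 K)
    (hKf : IsAdjointClosedFor (sympForm d F) K) (hKns : ¬ IsSelfAdjointFor (sympForm d F) K)
    (r : ℕ) [hr : Fact r.Prime]
    (hΩ : r ∣ (subalgebraNormalizer K).relIndex (spGL d F))
    (hall : ∀ x ∈ spGL d F, (∃ z : F, ((x ^ r : GL (Fin d ⊕ Fin d) F) :
        Matrix (Fin d ⊕ Fin d) (Fin d ⊕ Fin d) F) =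
          z • (1 : Matrix (Fin d ⊕ Fin d) (Fin d ⊕ Fin d) F)) →
      (∀ z : F, (x : Matrix (Fin d ⊕ Fin d) (Fin d ⊕ Fin d) F) ≠
        z • (1 : Matrix (Fin d ⊕ Fin d) (Fin d ⊕ Fin d) F)) →
      ∃ g ∈ spGL d F, g⁻¹ * x * g ∈ subalgebraNormalizer K) : r = 2 := by
  classical
  by_contra hr2
  have h2F : (2 : F) ≠ 0 := qe_two_ne_zero_iff_odd.2 hodd
  obtain ⟨κ, δ, h, hκK, hspan⟩ := exists_skewK d K hK hKf hKns h2F
  have hrodd : Odd r := hr.out.odd_of_ne_two hr2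
  have hext : ∀ x ∈ spGL d F, ((x ^ r : GL (Fin d ⊕ Fin d) F) :
        Matrix (Fin d ⊕ Fin d) (Fin d ⊕ Fin d) F) = 1 →
      (∀ z : F, (x : Matrix (Fin d ⊕ Fin d) (Fin d ⊕ Fin d) F) ≠
        z • (1 : Matrix (Fin d ⊕ Fin d) (Fin d ⊕ Fin d) F)) →
      ∃ y ∈ spGL d F, (y : Matrix (Fin d ⊕ Fin d) (Fin d ⊕ Fin d) F) * κ =
          κ * (y : Matrix (Fin d ⊕ Fin d) (Fin d ⊕ Fin d) F) ∧
        ((y ^ r : GL (Fin d ⊕ Fin d) F) : Matrix (Fin d ⊕ Fin d) (Fin d ⊕ Fin d) F) = 1 ∧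
        ((y : Matrix (Fin d ⊕ Fin d) (Fin d ⊕ Fin d) F) - (1 : F) • 1).rank =
          ((x : Matrix (Fin d ⊕ Fin d) (Fin d ⊕ Fin d) F) - (1 : F) • 1).rank := by
    intro x hx hxr hxns
    obtain ⟨g, hg, hmem⟩ := hall x hx ⟨1, by rw [hxr, one_smul]⟩ hxns
    obtain ⟨y, hydef⟩ : ∃ y : GL (Fin d ⊕ Fin d) F, y = g⁻¹ * x * g := ⟨_, rfl⟩
    rw [← hydef] at hmem
    have hy : y ∈ spGL d F := by
      rw [hydef]
      exact Subgroup.mul_mem _ (Subgroup.mul_mem _ (Subgroup.inv_mem _ hg) hx) hg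
    obtain ⟨ε, hε, hyκ⟩ := fu_norm_pm h (by omega) K hκK hspan y hmem
    have hx1 : x ^ r = 1 := Units.ext (by rw [hxr]; rfl)
    have hyr : y ^ r = 1 := by
      have h1 : y = g⁻¹ * x * g⁻¹⁻¹ := by rw [hydef, inv_inv]
      rw [h1, conj_pow, hx1, mul_one, mul_inv_cancel]
    have hpow : ∀ k : ℕ, ((y ^ k : GL (Fin d ⊕ Fin d) F) :
        Matrix (Fin d ⊕ Fin d) (Fin d ⊕ Fin d) F) * κ =
        ε ^ k • (κ * ((y ^ k : GL (Fin d ⊕ Fin d) F) :
          Matrix (Fin d ⊕ Fin d) (Fin d ⊕ Fin d) F)) := by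
      intro k
      induction k with
      | zero => simp
      | succ k ih =>
        rw [pow_succ, Units.val_mul, mul_assoc, hyκ, Matrix.mul_smul, ← mul_assoc, ih,
          Matrix.smul_mul, smul_smul, mul_assoc, pow_succ, mul_comm ε]
    have h1 := hpow r
    rw [hyr, Units.val_one, one_mul, mul_one] at h1
    have hεr : ε ^ r = 1 := by
      obtain ⟨v, hv⟩ : ∃ v : Fin d ⊕ Fin d → F, v ≠ 0 := by
        refine ⟨Pi.single (Sum.inl ⟨0, by omega⟩) 1, ?_⟩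
        intro h0
        have h3 := congrFun h0 (Sum.inl ⟨0, by omega⟩)
        rw [Pi.single_eq_same] at h3
        exact one_ne_zero h3
      have h3 : κ *ᵥ v = ε ^ r • κ *ᵥ v := by
        conv_lhs => rw [h1]
        rw [Matrix.smul_mulVec]
      have h4 : (1 - ε ^ r) • κ *ᵥ v = 0 := by rw [sub_smul, one_smul, ← h3, sub_self]
      have h5 := (smul_eq_zero.1 h4).resolve_right (h.kappa_ne_zero hv)
      linear_combination -h5
    have hε1 : ε = 1 := by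
      obtain ⟨k, hk⟩ := hrodd
      calc ε = (ε * ε) ^ k * ε := by rw [hε, one_pow, one_mul]
        _ = ε ^ r := by rw [hk]; ring
        _ = 1 := hεr
    rw [hε1, one_smul] at hyκ
    refine ⟨y, hy, hyκ, by rw [hyr]; rfl, ?_⟩
    have h6 : (y : Matrix (Fin d ⊕ Fin d) (Fin d ⊕ Fin d) F) - (1 : F) • 1 =
        ((g⁻¹ : GL (Fin d ⊕ Fin d) F) : Matrix (Fin d ⊕ Fin d) (Fin d ⊕ Fin d) F) *
          ((x : Matrix (Fin d ⊕ Fin d) (Fin d ⊕ Fin d) F) - (1 : F) • 1) *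
          (g : Matrix (Fin d ⊕ Fin d) (Fin d ⊕ Fin d) F) := by
      rw [hydef, Units.val_mul, Units.val_mul, one_smul, Matrix.mul_sub, Matrix.sub_mul, mul_one,
        Units.inv_mul]
    rw [h6, Matrix.rank_mul_eq_left_of_isUnit_det _ _
        ((Matrix.isUnit_iff_isUnit_det _).1 (Units.isUnit g)),
      Matrix.rank_mul_eq_right_of_isUnit_det _ _
        ((Matrix.isUnit_iff_isUnit_det _).1 (Units.isUnit g⁻¹))]
  have htr : ¬ r ∣ Fintype.card F := by
    intro hrq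
    have hrp : r = p := by
      obtain ⟨n, hpp, hn⟩ := FiniteField.card F p
      rw [hn] at hrq
      exact (Nat.prime_dvd_prime_iff_eq hr.out hpp).1 (hr.out.dvd_of_dvd_pow hrq)
    obtain ⟨x, hx, hxp, hxns, hle, hne⟩ := ts_exists_transv (F := F) (p := p) d (by omega)
    obtain ⟨y, hy, hyκ, -, hrk⟩ := hext x hx (by rw [hrp, hxp]) hxns
    rw [← hrk] at hle hne
    exact fu_rank_one_contra h _ hyκ hle hne
  rcases fu_index_cases hodd h K hκK hspan r hΩ with hrq | ⟨i, hi, hri⟩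
  · exact htr hrq
  · obtain ⟨o, ho1, hod, hro, hord⟩ :=
      fu_order_data (Fintype.card F) r hr2 Fintype.card_pos d i hi hri
    obtain ⟨A, hA⟩ := lag_exists_order (F := F) o r ho1 hro
    obtain ⟨d', rfl⟩ : ∃ d', d = o + d' := ⟨d - o, by omega⟩
    have hA1 : A ≠ 1 := by
      rintro rfl
      rw [orderOf_one] at hA
      exact hr.out.one_lt.ne hA
    have hAr : A ^ r = 1 := by
      rw [← hA]
      exact pow_orderOf_eq_one A
    obtain ⟨x, hx, hxpow, -, hxns, hle, hne⟩ := ts_exists_block o d' ho1 A hA1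
    obtain ⟨y, hy, hyκ, hyr, hrk⟩ := hext x hx (hxpow r hAr) (hxns r hrodd hAr)
    rw [← hrk] at hle hne
    exact fu_no_commute hodd h r htr y hy hyκ hyr o hle hne hord

end Cfsg.Agent.Lib.helper99
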