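import Mathlib
import Cfsg.Agent.Lib.helper50.SympCount

/-!
# Hyperbolic frames adapted to an isometry with scalar square
-/

set_option autoImplicit false

namespace Cfsg.Agent.Lib.helper99

open Module Cfsg.Agent.Lib.helper50

universe u v

/-- Every element of a finite field of odd characteristic is a sum of two squares. -/
theorem ts_two_sq {F : Type u} [Field F] [Fintype F] (h2 : (2 : F) ≠ 0) (c : F) :
    ∃ a b : F, a * a + b * b = c := by
  have hchar : ringChar F ≠ 2 := by
    intro h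
    apply h2
    have h3 := CharP.cast_eq_zero F (ringChar F)
    rw [h] at h3
    exact_mod_cast h3
  have hodd := FiniteField.odd_card_of_char_ne_two hchar
  obtain ⟨a, b, hab⟩ := FiniteField.exists_root_sum_quadratic
    (f := (Polynomial.X : Polynomial F) ^ 2)
    (g := (Polynomial.X : Polynomial F) ^ 2 - Polynomial.C c)
    (Polynomial.degree_X_pow 2) (Polynomial.degree_X_pow_sub_C (by decide) _) hodd
  simp only [Polynomial.eval_pow, Polynomial.eval_X, Polynomial.eval_sub, Polynomial.eval_C] at hab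
  exact ⟨a, b, by linear_combination hab⟩

/-- adapted hyperbolic frames, given a local construction -/
theorem ts_frame {F : Type u} [Field F] (m₀₀ m₁₀ m₀₁ m₁₁ z : F) (hz : z ≠ 0)
    (hloc : ∀ (V : Type v) [AddCommGroup V] [Module F V] [FiniteDimensional F V] [Nontrivial V]
      (ω : V →ₗ[F] V →ₗ[F] F) (X : V →ₗ[F] V),
      (∀ v, ω v v = 0) → (∀ v, (∀ w, ω v w = 0) → v = 0) → (∀ u v, ω (X u) (X v) = ω u v) →
      (∀ v, X (X v) = z • v) → ∀ κ : F, κ ≠ 0 →
      ∃ (e f : V) (ε : F), ε ≠ 0 ∧ ω e f = κ ∧ X e = ε • (m₀₀ • e + m₁₀ • f) ∧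
        X f = ε • (m₀₁ • e + m₁₁ • f))
    (k : ℕ) :
    ∀ (V : Type v) [AddCommGroup V] [Module F V] [FiniteDimensional F V]
      (ω : V →ₗ[F] V →ₗ[F] F) (X : V →ₗ[F] V),
      (∀ v, ω v v = 0) → (∀ v, (∀ w, ω v w = 0) → v = 0) → (∀ u v, ω (X u) (X v) = ω u v) →
      (∀ v, X (X v) = z • v) → Module.finrank F V = 2 * k → ∀ κ : Fin k → F, (∀ j, κ j ≠ 0) →
      ∃ (e f : Fin k → V) (ε : Fin k → F), (∀ j, ε j ≠ 0) ∧ (∀ a b, ω (e a) (e b) = 0) ∧
        (∀ a b, ω (f a) (f b) = 0) ∧ (∀ a b, ω (e a) (f b) = if a = b then κ a else 0) ∧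
        (∀ j, X (e j) = ε j • (m₀₀ • e j + m₁₀ • f j)) ∧
        (∀ j, X (f j) = ε j • (m₀₁ • e j + m₁₁ • f j)) := by
  induction k with
  | zero =>
    intro V _ _ _ ω X _ _ _ _ _ κ _
    exact ⟨fun i => i.elim0, fun i => i.elim0, fun i => i.elim0, fun i => i.elim0,
      fun i => i.elim0, fun i => i.elim0, fun i => i.elim0, fun i => i.elim0, fun i => i.elim0⟩
  | succ k ih =>
    intro V _ _ _ ω X halt hnd hX hXX hdim κ hκ
    have hpos : 0 < Module.finrank F V := by omega
    have : Nontrivial V := Module.nontrivial_of_finrank_pos (R := F) hpos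
    obtain ⟨e₀, f₀, ε₀, hε₀, hef, hXe, hXf⟩ := hloc V ω X halt hnd hX hXX (κ 0) (hκ 0)
    have hef' : ω e₀ f₀ ≠ 0 := by
      rw [hef]
      exact hκ 0
    have hskew := skew_of_alt ω halt
    have hfr := finrank_perp2 ω halt e₀ f₀ hef'
    have hXN : ∀ v ∈ perp2 ω e₀ f₀, X v ∈ perp2 ω e₀ f₀ := by
      intro v hv
      rw [mem_perp2] at hv ⊢
      have key : ∀ y, ω (X y) v = 0 → ω y (X v) = 0 := by
        intro y hy
        have h1 : ω (X (X y)) (X v) = 0 := by rw [hX, hy]
        rw [hXX, map_smul, LinearMap.smul_apply, smul_eq_mul] at h1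
        exact (mul_eq_zero.1 h1).resolve_left hz
      constructor
      · apply key
        rw [hXe]
        simp [hv.1, hv.2]
      · apply key
        rw [hXf]
        simp [hv.1, hv.2]
    obtain ⟨e', f', ε', hε', hee, hff, hef2, hXe', hXf'⟩ := ih (perp2 ω e₀ f₀)
      (ω.domRestrict₁₂ (perp2 ω e₀ f₀) (perp2 ω e₀ f₀)) (X.restrict hXN)
      (fun v => by rw [LinearMap.domRestrict₁₂_apply]; exact halt _)
      (nondeg_perp2 ω halt hnd e₀ f₀ hef')
      (fun u v => by
        rw [LinearMap.domRestrict₁₂_apply, LinearMap.domRestrict₁₂_apply]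
        exact hX _ _)
      (fun v => Subtype.ext (hXX v))
      (by omega) (fun j => κ j.succ) (fun j => hκ j.succ)
    have hmem : ∀ y : perp2 ω e₀ f₀, ω e₀ (y : V) = 0 ∧ ω f₀ (y : V) = 0 :=
      fun y => (mem_perp2 ω _ _ _).mp y.2
    refine ⟨Fin.cons e₀ (fun i => (e' i : V)), Fin.cons f₀ (fun i => (f' i : V)),
      Fin.cons ε₀ ε', ?_, ?_, ?_, ?_, ?_, ?_⟩
    · intro j
      refine Fin.cases ?_ (fun j' => ?_) j
      · simp only [Fin.cons_zero]
        exact hε₀
      · simp only [Fin.cons_succ]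
        exact hε' j'
    · intro a b
      refine Fin.cases ?_ (fun a' => ?_) a <;> refine Fin.cases ?_ (fun b' => ?_) b
      · simp only [Fin.cons_zero, halt]
      · simp only [Fin.cons_zero, Fin.cons_succ]
        exact (hmem (e' b')).1
      · simp only [Fin.cons_zero, Fin.cons_succ]
        rw [hskew, (hmem (e' a')).1, neg_zero]
      · simp only [Fin.cons_succ]
        have := hee a' b'
        rwa [LinearMap.domRestrict₁₂_apply] at this
    · intro a b
      refine Fin.cases ?_ (fun a' => ?_) a <;> refine Fin.cases ?_ (fun b' => ?_) b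
      · simp only [Fin.cons_zero, halt]
      · simp only [Fin.cons_zero, Fin.cons_succ]
        exact (hmem (f' b')).2
      · simp only [Fin.cons_zero, Fin.cons_succ]
        rw [hskew, (hmem (f' a')).2, neg_zero]
      · simp only [Fin.cons_succ]
        have := hff a' b'
        rwa [LinearMap.domRestrict₁₂_apply] at this
    · intro a b
      refine Fin.cases ?_ (fun a' => ?_) a <;> refine Fin.cases ?_ (fun b' => ?_) b
      · simp only [Fin.cons_zero, hef, if_true]
      · simp only [Fin.cons_zero, Fin.cons_succ]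
        rw [(hmem (f' b')).1, if_neg (Fin.succ_ne_zero b').symm]
      · simp only [Fin.cons_zero, Fin.cons_succ]
        rw [hskew, (hmem (e' a')).2, neg_zero, if_neg (Fin.succ_ne_zero a')]
      · simp only [Fin.cons_succ, Fin.succ_inj]
        have := hef2 a' b'
        rwa [LinearMap.domRestrict₁₂_apply] at this
    · intro j
      refine Fin.cases ?_ (fun j' => ?_) j
      · simp only [Fin.cons_zero]
        exact hXe
      · simp only [Fin.cons_succ]
        exact congrArg Subtype.val (hXe' j')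
    · intro j
      refine Fin.cases ?_ (fun j' => ?_) j
      · simp only [Fin.cons_zero]
        exact hXf
      · simp only [Fin.cons_succ]
        exact congrArg Subtype.val (hXf' j')

/-- local construction for an involution -/
theorem ts_loc_one {F : Type u} [Field F] (h2 : (2 : F) ≠ 0) (V : Type v) [AddCommGroup V]
    [Module F V] [FiniteDimensional F V] [Nontrivial V]
    (ω : V →ₗ[F] V →ₗ[F] F) (X : V →ₗ[F] V)
    (halt : ∀ v, ω v v = 0) (hnd : ∀ v, (∀ w, ω v w = 0) → v = 0)
    (hX : ∀ u v, ω (X u) (X v) = ω u v)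
    (hXX : ∀ v, X (X v) = (1 : F) • v) (κ : F) (hκ : κ ≠ 0) :
    ∃ (e f : V) (ε : F), ε ≠ 0 ∧ ω e f = κ ∧ X e = ε • ((1 : F) • e + (0 : F) • f) ∧
      X f = ε • ((0 : F) • e + (1 : F) • f) := by
  obtain ⟨y, hy⟩ := exists_ne (0 : V)
  have hXX' : ∀ v, X (X v) = v := fun v => by rw [hXX, one_smul]
  obtain ⟨e₁, ε, he₁, hε, hXe⟩ : ∃ (e₁ : V) (ε : F), e₁ ≠ 0 ∧ ε * ε = 1 ∧ X e₁ = ε • e₁ := by
    by_cases h : y + X y = 0
    · refine ⟨y - X y, -1, ?_, by ring, ?_⟩
      · intro h'
        have h3 : (2 : F) • y = 0 := by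
          have h4 : (2 : F) • y = (y + X y) + (y - X y) := by
            rw [two_smul]
            abel
          rw [h4, h, h', add_zero]
        rcases smul_eq_zero.1 h3 with h5 | h5
        · exact h2 h5
        · exact hy h5
      · rw [map_sub, hXX', neg_one_smul, neg_sub]
    · refine ⟨y + X y, 1, h, by ring, ?_⟩
      rw [map_add, hXX', one_smul, add_comm]
  obtain ⟨w, hw⟩ : ∃ w, ω e₁ w ≠ 0 := by
    by_contra hcon
    push Not at hcon
    exact he₁ (hnd e₁ hcon)
  have hXf : X (w + ε • X w) = ε • (w + ε • X w) := by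
    rw [map_add, map_smul, hXX', smul_add, smul_smul, hε, one_smul, add_comm]
  have hω : ω e₁ (w + ε • X w) = 2 * ω e₁ w := by
    have h1 : ω e₁ (X w) = ε * ω e₁ w := by
      have h3 : ω (X e₁) (X w) = ω e₁ w := hX _ _
      rw [hXe, map_smul, LinearMap.smul_apply, smul_eq_mul] at h3
      calc ω e₁ (X w) = (ε * ε) * ω e₁ (X w) := by rw [hε, one_mul]
        _ = ε * (ε * ω e₁ (X w)) := by ring
        _ = ε * ω e₁ w := by rw [h3]
    rw [map_add, map_smul, smul_eq_mul, h1, ← mul_assoc, hε]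
    ring
  have hne : ω e₁ (w + ε • X w) ≠ 0 := by
    rw [hω]
    exact mul_ne_zero h2 hw
  have hε0 : ε ≠ 0 := by
    rintro rfl
    simp at hε
  refine ⟨e₁, (κ / ω e₁ (w + ε • X w)) • (w + ε • X w), ε, hε0, ?_, ?_, ?_⟩
  · rw [map_smul, smul_eq_mul, div_mul_cancel₀ _ hne]
  · rw [one_smul, zero_smul, add_zero]
    exact hXe
  · rw [zero_smul, zero_add, one_smul, map_smul, hXf, smul_comm]

/-- local construction for an isometry with square `-1` -/
theorem ts_loc_neg {F : Type u} [Field F] [Fintype F] (h2 : (2 : F) ≠ 0) (V : Type v)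
    [AddCommGroup V] [Module F V] [FiniteDimensional F V] [Nontrivial V]
    (ω : V →ₗ[F] V →ₗ[F] F) (X : V →ₗ[F] V)
    (halt : ∀ v, ω v v = 0) (hnd : ∀ v, (∀ w, ω v w = 0) → v = 0)
    (hX : ∀ u v, ω (X u) (X v) = ω u v)
    (hXX : ∀ v, X (X v) = (-1 : F) • v) (κ : F) (hκ : κ ≠ 0) :
    ∃ (e f : V) (ε : F), ε ≠ 0 ∧ ω e f = κ ∧ X e = ε • ((0 : F) • e + (1 : F) • f) ∧
      X f = ε • ((-1 : F) • e + (0 : F) • f) := by
  have hXX' : ∀ v, X (X v) = -v := fun v => by rw [hXX, neg_one_smul]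
  have hskew := skew_of_alt ω halt
  have hsym : ∀ u v, ω u (X v) = ω v (X u) := by
    intro u v
    have h1 : ω (X u) (X (X v)) = ω u (X v) := hX _ _
    rw [hXX', map_neg] at h1
    rw [← h1, hskew (X u) v, neg_neg]
  obtain ⟨y, hy⟩ := exists_ne (0 : V)
  obtain ⟨w, hw⟩ : ∃ w, ω y w ≠ 0 := by
    by_contra hcon
    push Not at hcon
    exact hy (hnd y hcon)
  obtain ⟨u, hu⟩ : ∃ u, ω u (X u) ≠ 0 := by
    by_cases h1 : ω y (X y) = 0
    · by_cases h3 : ω (X w) (X (X w)) = 0
      · refine ⟨y + X w, ?_⟩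
        have h5 : ω y (X (X w)) = -ω y w := by rw [hXX', map_neg]
        have h6 : ω (X w) (X y) = -ω y w := by rw [← hsym, h5]
        have h10 : ω (y + X w) (X (y + X w)) = ω y (X y) + ω y (X (X w)) +
            (ω (X w) (X y) + ω (X w) (X (X w))) := by
          simp only [map_add, LinearMap.add_apply]
          ring
        rw [h10, h1, h3, h5, h6]
        intro h7
        have h8 : (2 : F) * ω y w = 0 := by linear_combination -h7
        rcases mul_eq_zero.1 h8 with h9 | h9
        · exact h2 h9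
        · exact hw h9
      · exact ⟨X w, h3⟩
    · exact ⟨y, h1⟩
  obtain ⟨α, β, hαβ⟩ := ts_two_sq h2 (κ / ω u (X u))
  obtain ⟨e, hedef⟩ : ∃ e : V, e = α • u + β • X u := ⟨_, rfl⟩
  have hXe : X e = α • X u - β • u := by
    rw [hedef, map_add, map_smul, map_smul, hXX', smul_neg, sub_eq_add_neg]
  refine ⟨e, X e, 1, one_ne_zero, ?_, ?_, ?_⟩
  · have h5 : ω e (X e) = (α * α + β * β) * ω u (X u) := by
      rw [hXe, hedef]
      simp only [map_add, map_smul, map_sub, LinearMap.add_apply, LinearMap.smul_apply,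
        smul_eq_mul, halt]
      rw [hskew (X u) u]
      ring
    rw [h5, hαβ, div_mul_cancel₀ _ hu]
  · rw [one_smul, zero_smul, zero_add, one_smul]
  · rw [one_smul, zero_smul, add_zero, neg_one_smul, hXX']

end Cfsg.Agent.Lib.helper99
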