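import Mathlib
import Cfsg.Agent.Lib.helper99.FuE
import Cfsg.Agent.Lib.helper99.TsG

/-!
# Backward direction: elements with scalar square normalise a conjugate of `F[κ]`
-/

set_option autoImplicit false

namespace Cfsg.Agent.Lib.helper99

open Module Matrix Cfsg Cfsg.Geo
open Cfsg.Agent.Lib.helper17 Cfsg.Agent.Lib.helper95 Cfsg.Agent.Lib.helper24

variable {F : Type*} [Field F] {d : ℕ} {κ : Matrix (Fin d ⊕ Fin d) (Fin d ⊕ Fin d) F} {δ : F}

/-- normalising `F[κ]`, read off on a frame -/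
theorem fu_norm_of_frame [Fintype F] (h : SkewK d κ δ)
    (K : Subalgebra F (Matrix (Fin d ⊕ Fin d) (Fin d ⊕ Fin d) F)) (hκK : κ ∈ K)
    (hspan : ∀ k ∈ K, ∃ a b : F,
      k = a • (1 : Matrix (Fin d ⊕ Fin d) (Fin d ⊕ Fin d) F) + b • κ)
    (s₀ : FuFrame (sympBilin d (F := F)) (Matrix.toLin' κ) d)
    (y : GL (Fin d ⊕ Fin d) F) (ε : F) (hε : ε * ε = 1) (A B : Fin d → F)
    (h1 : ∀ j, (y : Matrix (Fin d ⊕ Fin d) (Fin d ⊕ Fin d) F) *ᵥ s₀.1 j =
      A j • s₀.1 j + B j • κ *ᵥ s₀.1 j)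
    (h2 : ∀ j, (y : Matrix (Fin d ⊕ Fin d) (Fin d ⊕ Fin d) F) *ᵥ (κ *ᵥ s₀.1 j) =
      (ε * B j * δ) • s₀.1 j + (ε * A j) • κ *ᵥ s₀.1 j) :
    y ∈ subalgebraNormalizer K := by
  apply fu_mem_norm K hκK hspan y ε hε
  apply fu_mat_ext h s₀
  · intro j
    rw [← Matrix.mulVec_mulVec, h2, Matrix.smul_mulVec, ← Matrix.mulVec_mulVec, h1,
      Matrix.mulVec_add, Matrix.mulVec_smul, Matrix.mulVec_smul, h.kk]
    module
  · intro j
    rw [← Matrix.mulVec_mulVec, h.kk, Matrix.mulVec_smul, h1, Matrix.smul_mulVec,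
      ← Matrix.mulVec_mulVec, h2, Matrix.mulVec_add, Matrix.mulVec_smul, Matrix.mulVec_smul, h.kk]
    have h3 : ε • ((ε * B j * δ) • κ *ᵥ s₀.1 j + (ε * A j) • δ • s₀.1 j) =
        (ε * ε) • (δ • (A j • s₀.1 j + B j • κ *ᵥ s₀.1 j)) := by module
    rw [h3, hε, one_smul]

/-- conjugating into the normaliser, given a hyperbolic family adapted to `x` -/
theorem fu_conj_of_family [Fintype F] (hodd : Odd (Fintype.card F)) (h : SkewK d κ δ)
    (K : Subalgebra F (Matrix (Fin d ⊕ Fin d) (Fin d ⊕ Fin d) F)) (hκK : κ ∈ K)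
    (hspan : ∀ k ∈ K, ∃ a b : F,
      k = a • (1 : Matrix (Fin d ⊕ Fin d) (Fin d ⊕ Fin d) F) + b • κ)
    (x : GL (Fin d ⊕ Fin d) F) (ε : F) (hε : ε * ε = 1)
    (U V : Fin d → (Fin d ⊕ Fin d → F))
    (hUU : ∀ a b, sympForm d F (U a) (U b) = 0) (hVV : ∀ a b, sympForm d F (V a) (V b) = 0)
    (hUV : ∀ a b, sympForm d F (U a) (V b) = if a = b then 1 else 0)
    (A B : Fin d → F)
    (h1 : ∀ j, (x : Matrix (Fin d ⊕ Fin d) (Fin d ⊕ Fin d) F) *ᵥ U j = A j • U j + B j • V j)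
    (h2 : ∀ j, (x : Matrix (Fin d ⊕ Fin d) (Fin d ⊕ Fin d) F) *ᵥ V j =
      (ε * B j * δ) • U j + (ε * A j) • V j) :
    ∃ g ∈ spGL d F, g⁻¹ * x * g ∈ subalgebraNormalizer K := by
  obtain ⟨s₀⟩ := fu_exists_frame hodd h
  obtain ⟨g, hg, hgs⟩ := fu_hyp_witt s₀.1 (fun j => κ *ᵥ s₀.1 j) U V
    (fu_fr_ee s₀) (fu_fr_ff h s₀) (fu_fr_ef s₀) hUU hVV hUV
  have hginv : ∀ j, ((g⁻¹ : GL (Fin d ⊕ Fin d) F) : Matrix (Fin d ⊕ Fin d) (Fin d ⊕ Fin d) F) *ᵥ
      U j = s₀.1 j ∧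
      ((g⁻¹ : GL (Fin d ⊕ Fin d) F) : Matrix (Fin d ⊕ Fin d) (Fin d ⊕ Fin d) F) *ᵥ V j =
        κ *ᵥ s₀.1 j := by
    intro j
    constructor
    · rw [← (hgs j).1, Matrix.mulVec_mulVec, Units.inv_mul, Matrix.one_mulVec]
    · rw [← (hgs j).2, Matrix.mulVec_mulVec, Units.inv_mul, Matrix.one_mulVec]
  refine ⟨g, hg, ?_⟩
  apply fu_norm_of_frame h K hκK hspan s₀ _ ε hε A B
  · intro j
    rw [Units.val_mul, Units.val_mul, ← Matrix.mulVec_mulVec, ← Matrix.mulVec_mulVec, (hgs j).1,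
      h1, Matrix.mulVec_add, Matrix.mulVec_smul, Matrix.mulVec_smul, (hginv j).1, (hginv j).2]
  · intro j
    rw [Units.val_mul, Units.val_mul, ← Matrix.mulVec_mulVec, ← Matrix.mulVec_mulVec, (hgs j).2,
      h2, Matrix.mulVec_add, Matrix.mulVec_smul, Matrix.mulVec_smul, (hginv j).1, (hginv j).2]

theorem fu_backward [Fintype F] (hodd : Odd (Fintype.card F)) (hd : 1 ≤ d) (h : SkewK d κ δ)
    (K : Subalgebra F (Matrix (Fin d ⊕ Fin d) (Fin d ⊕ Fin d) F)) (hκK : κ ∈ K)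
    (hspan : ∀ k ∈ K, ∃ a b : F,
      k = a • (1 : Matrix (Fin d ⊕ Fin d) (Fin d ⊕ Fin d) F) + b • κ)
    (x : GL (Fin d ⊕ Fin d) F) (hx : x ∈ spGL d F)
    (hxz : ∃ z : F, ((x ^ 2 : GL (Fin d ⊕ Fin d) F) :
      Matrix (Fin d ⊕ Fin d) (Fin d ⊕ Fin d) F) =
        z • (1 : Matrix (Fin d ⊕ Fin d) (Fin d ⊕ Fin d) F)) :
    ∃ g ∈ spGL d F, g⁻¹ * x * g ∈ subalgebraNormalizer K := by
  classical
  have h2F : (2 : F) ≠ 0 := qe_two_ne_zero_iff_odd.2 hodd
  obtain ⟨z, hz⟩ := hxz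
  have hzz : z * z = 1 := by
    obtain ⟨u, hu⟩ : ∃ u : Fin d ⊕ Fin d → F, u ≠ 0 := by
      refine ⟨Pi.single (Sum.inl ⟨0, hd⟩) 1, ?_⟩
      intro h0
      have h1 := congrFun h0 (Sum.inl ⟨0, hd⟩)
      rw [Pi.single_eq_same] at h1
      exact one_ne_zero h1
    obtain ⟨w, hw⟩ := exists_sympForm_ne_zero d u hu
    have hx2 : x ^ 2 ∈ spGL d F := Subgroup.pow_mem _ hx 2
    have h1 := (mem_spGL_iff d (x ^ 2)).1 hx2 u w
    rw [hz, Matrix.smul_mulVec, Matrix.one_mulVec, Matrix.smul_mulVec, Matrix.one_mulVec,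
      sympForm_smul_left, sympForm_smul_right, ← mul_assoc] at h1
    have h3 : (z * z - 1) * sympForm d F u w = 0 := by rw [sub_mul, h1, one_mul, sub_self]
    rcases mul_eq_zero.1 h3 with h4 | h4
    · exact sub_eq_zero.1 h4
    · exact absurd h4 hw
  have halt : ∀ v, sympBilin d (F := F) v v = 0 := sympBilin_alt d
  have hnd : ∀ v, (∀ w, sympBilin d (F := F) v w = 0) → v = 0 := by
    intro v hv
    by_contra hne
    obtain ⟨w, hw⟩ := exists_sympForm_ne_zero d v hne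
    exact hw (hv w)
  obtain ⟨X, hXdef⟩ : ∃ X : (Fin d ⊕ Fin d → F) →ₗ[F] (Fin d ⊕ Fin d → F),
      X = Matrix.toLin' (x : Matrix (Fin d ⊕ Fin d) (Fin d ⊕ Fin d) F) := ⟨_, rfl⟩
  have hXa : ∀ v, X v = (x : Matrix (Fin d ⊕ Fin d) (Fin d ⊕ Fin d) F) *ᵥ v := fun v => by
    rw [hXdef, Matrix.toLin'_apply]
  have hXiso : ∀ u v, sympBilin d (F := F) (X u) (X v) = sympBilin d u v := by
    intro u v
    rw [sympBilin_apply, sympBilin_apply, hXa, hXa]
    exact (mem_spGL_iff d x).1 hx u v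
  have hXX : ∀ v, X (X v) = z • v := by
    intro v
    rw [hXa, hXa, Matrix.mulVec_mulVec, ← pow_two, ← Units.val_pow_eq_pow_val, hz,
      Matrix.smul_mulVec, Matrix.one_mulVec]
  have hz' : z = 1 ∨ z = -1 := by
    have h1 : (z - 1) * (z + 1) = 0 := by linear_combination hzz
    rcases mul_eq_zero.1 h1 with h | h
    · left
      exact sub_eq_zero.1 h
    · right
      exact eq_neg_of_add_eq_zero_left h
  rcases hz' with rfl | rfl
  · obtain ⟨ef, ff, ε, hε, hee, hff, hef, hXe, hXf⟩ := ts_frame (1 : F) 0 0 1 1 one_ne_zero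
      (fun V _ _ _ _ ω X halt hnd hX hXX κ hκ => ts_loc_one h2F V ω X halt hnd hX hXX κ hκ)
      d (Fin d ⊕ Fin d → F) (sympBilin d) X halt hnd hXiso hXX (fu_finrank d) (fun _ => 1)
      (fun _ => one_ne_zero)
    refine fu_conj_of_family hodd h K hκK hspan x 1 (by ring) ef ff (fun a b => hee a b)
      (fun a b => hff a b) (fun a b => hef a b) ε (fun _ => 0) ?_ ?_
    · intro j
      rw [← hXa, hXe]
      module
    · intro j
      rw [← hXa, hXf]
      module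
  · obtain ⟨ef, ff, ε, hε, hee, hff, hef, hXe, hXf⟩ := ts_frame (0 : F) 1 (-1) 0 (-1)
      (neg_ne_zero.2 one_ne_zero)
      (fun V _ _ _ _ ω X halt hnd hX hXX κ hκ => ts_loc_neg h2F V ω X halt hnd hX hXX κ hκ)
      d (Fin d ⊕ Fin d → F) (sympBilin d) X halt hnd hXiso hXX (fu_finrank d) (fun _ => 1)
      (fun _ => one_ne_zero)
    have hee' : ∀ a b, sympForm d F (ef a) (ef b) = 0 := fun a b => hee a b
    have hff' : ∀ a b, sympForm d F (ff a) (ff b) = 0 := fun a b => hff a b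
    have hef' : ∀ a b, sympForm d F (ef a) (ff b) = if a = b then 1 else 0 := fun a b => hef a b
    have hfe' : ∀ a b, sympForm d F (ff a) (ef b) = if a = b then -1 else 0 := by
      intro a b
      rw [sympForm_swap, hef']
      by_cases hab : a = b
      · rw [if_pos hab, if_pos hab.symm]
      · rw [if_neg hab, if_neg (fun hba => hab hba.symm), neg_zero]
    obtain ⟨α, β, hαβ⟩ := ts_two_sq h2F δ
    have hβ : β ≠ 0 := by
      rintro rfl
      exact h.nsq α (by linear_combination hαβ)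
    obtain ⟨c, c', hcc⟩ := ts_two_sq h2F β⁻¹
    obtain ⟨bb, hb⟩ : ∃ bb : F, bb * β = 1 := ⟨β⁻¹, inv_mul_cancel₀ hβ⟩
    have hcc' : (c * c + c' * c') * β = 1 := by rw [hcc, inv_mul_cancel₀ hβ]
    have hxe : ∀ j, (x : Matrix (Fin d ⊕ Fin d) (Fin d ⊕ Fin d) F) *ᵥ ef j = ε j • ff j := by
      intro j
      rw [← hXa, hXe]
      module
    have hxf : ∀ j, (x : Matrix (Fin d ⊕ Fin d) (Fin d ⊕ Fin d) F) *ᵥ ff j = -(ε j • ef j) := by
      intro j
      rw [← hXa, hXf]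
      module
    refine fu_conj_of_family hodd h K hκK hspan x (-1) (by ring)
      (fun j => c • ef j + c' • ff j)
      (fun j => (-(c * α + c' * β)) • ef j + (c * β - c' * α) • ff j) ?_ ?_ ?_
      (fun j => ε j * (α * bb)) (fun j => ε j * bb) ?_ ?_
    · intro a b
      simp only [sympForm_add_left, sympForm_add_right, sympForm_smul_left, sympForm_smul_right,
        hee', hff', hef', hfe']
      by_cases hab : a = b
      · rw [if_pos hab, if_pos hab]
        ring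
      · rw [if_neg hab, if_neg hab]
        ring
    · intro a b
      simp only [sympForm_add_left, sympForm_add_right, sympForm_smul_left, sympForm_smul_right,
        hee', hff', hef', hfe']
      by_cases hab : a = b
      · rw [if_pos hab, if_pos hab]
        ring
      · rw [if_neg hab, if_neg hab]
        ring
    · intro a b
      simp only [sympForm_add_left, sympForm_add_right, sympForm_smul_left, sympForm_smul_right,
        hee', hff', hef', hfe']
      by_cases hab : a = b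
      · rw [if_pos hab, if_pos hab]
        linear_combination hcc'
      · rw [if_neg hab, if_neg hab]
        ring
    · intro j
      rw [Matrix.mulVec_add, Matrix.mulVec_smul, Matrix.mulVec_smul, hxe, hxf]
      linear_combination (norm := module) hb • ((ε j * c') • ef j - (ε j * c) • ff j)
    · intro j
      rw [Matrix.mulVec_add, Matrix.mulVec_smul, Matrix.mulVec_smul, hxe, hxf]
      linear_combination (norm := module) hb • ((ε j * (β * c - α * c')) • ef j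
        + (ε j * (α * c + β * c')) • ff j) - hαβ • ((ε j * bb * c) • ef j + (ε j * bb * c') • ff j)

end Cfsg.Agent.Lib.helper99
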