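import Mathlib
import Cfsg.Agent.Lib.helper99.FxC

/-!
# The index of the centraliser, and when a normalising element centralises
-/

set_option autoImplicit false

namespace Cfsg.Agent.Lib.helper99

open Module Matrix Cfsg Cfsg.Geo
open Cfsg.Agent.Lib.helper17 Cfsg.Agent.Lib.helper95 Cfsg.Agent.Lib.helper24
open Cfsg.Agent.Lib.helper50

theorem fx_prod_reindex (k m : ℕ) (hk : 1 ≤ k) (f : ℕ → ℕ) :
    ∏ i ∈ (Finset.range (k * m)).filter (fun i => k ∣ i + 1), f (i + 1) =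
      ∏ j ∈ Finset.range m, f (k * (j + 1)) := by
  apply Finset.prod_nbij' (fun i => (i + 1) / k - 1) (fun j => k * (j + 1) - 1)
  · intro a ha
    rw [Finset.mem_filter, Finset.mem_range] at ha
    obtain ⟨ha1, c, hc⟩ := ha
    rw [Finset.mem_range, hc, Nat.mul_div_cancel_left _ (by omega : 0 < k)]
    have hc1 : 1 ≤ c := by
      rcases Nat.eq_zero_or_pos c with h0 | h0
      · rw [h0, mul_zero] at hc
        omega
      · exact h0
    have hcm : c ≤ m := by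
      by_contra hcon
      have h1 : k * (m + 1) ≤ k * c := Nat.mul_le_mul_left k (by omega)
      rw [Nat.mul_succ] at h1
      omega
    omega
  · intro j hj
    rw [Finset.mem_range] at hj
    have h1 : k * (j + 1) ≤ k * m := Nat.mul_le_mul_left k (by omega)
    have h2 : 1 ≤ k * (j + 1) := Nat.mul_pos (by omega) (by omega)
    rw [Finset.mem_filter, Finset.mem_range]
    refine ⟨by omega, ?_⟩
    rw [Nat.sub_add_cancel h2]
    exact Dvd.intro _ rfl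
  · intro a ha
    rw [Finset.mem_filter, Finset.mem_range] at ha
    obtain ⟨ha1, c, hc⟩ := ha
    have hc1 : 1 ≤ c := by
      rcases Nat.eq_zero_or_pos c with h0 | h0
      · rw [h0, mul_zero] at hc
        omega
      · exact h0
    show k * ((a + 1) / k - 1 + 1) - 1 = a
    rw [hc, Nat.mul_div_cancel_left _ (by omega : 0 < k), Nat.sub_add_cancel hc1, ← hc]
    omega
  · intro j hj
    have h2 : 1 ≤ k * (j + 1) := Nat.mul_pos (by omega) (by omega)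
    show (k * (j + 1) - 1 + 1) / k - 1 = j
    rw [Nat.sub_add_cancel h2, Nat.mul_div_cancel_left _ (by omega : 0 < k)]
    omega
  · intro a ha
    rw [Finset.mem_filter, Finset.mem_range] at ha
    obtain ⟨ha1, c, hc⟩ := ha
    have hc1 : 1 ≤ c := by
      rcases Nat.eq_zero_or_pos c with h0 | h0
      · rw [h0, mul_zero] at hc
        omega
      · exact h0
    show f (a + 1) = f (k * ((a + 1) / k - 1 + 1))
    rw [hc, Nat.mul_div_cancel_left _ (by omega : 0 < k), Nat.sub_add_cancel hc1]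

section fxd
variable {F : Type*} [Field F] {E : Type*} [Field E] [Algebra F E] {d : ℕ}

theorem fx_cent_le_norm (φ : E →ₐ[F] Matrix (Fin d ⊕ Fin d) (Fin d ⊕ Fin d) F)
    (g : GL (Fin d ⊕ Fin d) F)
    (hg : ∀ a : E, (g : Matrix (Fin d ⊕ Fin d) (Fin d ⊕ Fin d) F) * φ a =
      φ a * (g : Matrix (Fin d ⊕ Fin d) (Fin d ⊕ Fin d) F)) :
    g ∈ subalgebraNormalizer φ.range := by
  apply mem_subalgNormalizer_of_conj
  · rintro _ ⟨a, rfl⟩
    refine ⟨a, ?_⟩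
    show φ a = (g : Matrix (Fin d ⊕ Fin d) (Fin d ⊕ Fin d) F) * φ a *
      ((g⁻¹ : GL (Fin d ⊕ Fin d) F) : Matrix (Fin d ⊕ Fin d) (Fin d ⊕ Fin d) F)
    rw [hg, mul_assoc, Units.mul_inv, mul_one]
  · rintro _ ⟨a, rfl⟩
    refine ⟨a, ?_⟩
    show φ a = ((g⁻¹ : GL (Fin d ⊕ Fin d) F) : Matrix (Fin d ⊕ Fin d) (Fin d ⊕ Fin d) F) * φ a *
      (g : Matrix (Fin d ⊕ Fin d) (Fin d ⊕ Fin d) F)
    rw [mul_assoc, ← hg, ← mul_assoc, Units.inv_mul, one_mul]

/-- the primes dividing the index of the normaliser of `φ(E)` in `Sp` -/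
theorem fx_index [Fintype F] [Fintype E]
    (φ : E →ₐ[F] Matrix (Fin d ⊕ Fin d) (Fin d ⊕ Fin d) F)
    (hsa : ∀ a u v, sympForm d F (φ a *ᵥ u) v = sympForm d F u (φ a *ᵥ v))
    (halt : ∀ a v, sympForm d F (φ a *ᵥ v) v = 0) (k : ℕ) (hk : finrank F E = k) (hk1 : 1 ≤ k)
    (r : ℕ) [hr : Fact r.Prime]
    (hΩ : r ∣ (subalgebraNormalizer φ.range).relIndex (spGL d F)) :
    r ∣ Fintype.card F ∨
      ∃ i, i < d ∧ ¬ k ∣ i + 1 ∧ r ∣ Fintype.card F ^ (2 * (i + 1)) - 1 := by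
  classical
  have hCN : fxCent φ ≤ subalgebraNormalizer φ.range := fun g hg => fx_cent_le_norm φ g hg.2
  have hCS : fxCent φ ≤ spGL d F := fun g hg => hg.1
  have h1 : r ∣ (fxCent φ).relIndex (spGL d F) :=
    dvd_trans hΩ (Subgroup.relIndex_dvd_of_le_left _ hCN)
  have h2 : Nat.card (fxCent φ) * (fxCent φ).relIndex (spGL d F) = Nat.card (spGL d F) := by
    have := Subgroup.relIndex_mul_relIndex ⊥ (fxCent φ) (spGL d F) bot_le hCS
    rwa [Subgroup.relIndex_bot_left, Subgroup.relIndex_bot_left] at this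
  obtain ⟨m, hm, hcard⟩ := fx_card_cent φ hsa halt
  rw [hk] at hm
  rw [ts_card_spGL, Cfsg.Agent.S0245.result rfl d, hcard,
    Module.card_eq_pow_finrank (K := F) (V := E), hk] at h2
  obtain ⟨I, hI⟩ : ∃ I, I = (fxCent φ).relIndex (spGL d F) := ⟨_, rfl⟩
  rw [← hI] at h1 h2
  obtain ⟨q, hq⟩ : ∃ q : ℕ, q = Fintype.card F := ⟨_, rfl⟩
  rw [← hq] at h2 ⊢
  have hq2 : 2 ≤ q := by
    rw [hq]
    exact Fintype.one_lt_card
  have hsplit : ∏ i ∈ Finset.range d, (q ^ (2 * (i + 1)) - 1) =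
      (∏ j ∈ Finset.range m, ((q ^ k) ^ (2 * (j + 1)) - 1)) *
        ∏ i ∈ (Finset.range d).filter (fun i => ¬ k ∣ i + 1), (q ^ (2 * (i + 1)) - 1) := by
    rw [← Finset.prod_filter_mul_prod_filter_not (Finset.range d) (fun i => k ∣ i + 1)]
    congr 1
    rw [← hm, fx_prod_reindex k m hk1 (fun n => q ^ (2 * n) - 1)]
    apply Finset.prod_congr rfl
    intro j _
    rw [← pow_mul]
    congr 2
    ring
  rw [hsplit] at h2
  have hApos : 0 < ∏ j ∈ Finset.range m, ((q ^ k) ^ (2 * (j + 1)) - 1) := by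
    apply Finset.prod_pos
    intro j _
    have h3 : 2 ≤ (q ^ k) ^ (2 * (j + 1)) := by
      calc 2 ≤ q := hq2
        _ = q ^ 1 := (pow_one q).symm
        _ ≤ q ^ (k * (2 * (j + 1))) := Nat.pow_le_pow_right (by omega) (by
            have : 1 ≤ k * (2 * (j + 1)) := Nat.mul_pos (by omega) (by omega)
            omega)
        _ = (q ^ k) ^ (2 * (j + 1)) := pow_mul q k _
    omega
  have h3 : (q ^ k) ^ (m ^ 2) * I = q ^ (d ^ 2) *
      ∏ i ∈ (Finset.range d).filter (fun i => ¬ k ∣ i + 1), (q ^ (2 * (i + 1)) - 1) := by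
    apply Nat.eq_of_mul_eq_mul_left hApos
    rw [← mul_assoc, mul_comm _ ((q ^ k) ^ (m ^ 2)), h2]
    ring
  have h4 : r ∣ q ^ (d ^ 2) *
      ∏ i ∈ (Finset.range d).filter (fun i => ¬ k ∣ i + 1), (q ^ (2 * (i + 1)) - 1) := by
    rw [← h3]
    exact Dvd.dvd.mul_left h1 _
  rcases (Nat.Prime.dvd_mul hr.out).1 h4 with h5 | h5
  · left
    exact hr.out.dvd_of_dvd_pow h5
  · right
    obtain ⟨i, hi, hi2⟩ := (Prime.dvd_finsetProd_iff (Nat.Prime.prime hr.out) _).1 h5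
    rw [Finset.mem_filter, Finset.mem_range] at hi
    exact ⟨i, hi.1, hi.2, hi2⟩

theorem fx_rank_sub_le {n : Type*} [Fintype n] [DecidableEq n] (A B : Matrix n n F) :
    (A - B).rank ≤ A.rank + B.rank := by
  unfold Matrix.rank
  have h : LinearMap.range (A - B).mulVecLin ≤
      LinearMap.range A.mulVecLin ⊔ LinearMap.range B.mulVecLin := by
    rintro _ ⟨v, rfl⟩
    rw [Matrix.mulVecLin_apply, Matrix.sub_mulVec, sub_eq_add_neg]
    exact Submodule.add_mem_sup ⟨v, rfl⟩ ⟨-v, by rw [Matrix.mulVecLin_apply, Matrix.mulVec_neg]⟩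
  exact le_trans (Submodule.finrank_mono h) (Submodule.finrank_add_le_finrank_add_finrank _ _)

/-- a normalising element with small commutator space centralises -/
theorem fx_comm_of_small_rank (φ : E →ₐ[F] Matrix (Fin d ⊕ Fin d) (Fin d ⊕ Fin d) F)
    (y : GL (Fin d ⊕ Fin d) F) (hy : y ∈ subalgebraNormalizer φ.range)
    (hrk : ((y : Matrix (Fin d ⊕ Fin d) (Fin d ⊕ Fin d) F) - (1 : F) • 1).rank < d) :
    ∀ a : E, (y : Matrix (Fin d ⊕ Fin d) (Fin d ⊕ Fin d) F) * φ a =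
      φ a * (y : Matrix (Fin d ⊕ Fin d) (Fin d ⊕ Fin d) F) := by
  classical
  intro a
  obtain ⟨a', ha'⟩ := (hy (φ a)).1 ⟨a, rfl⟩
  have ha'' : φ a' = (y : Matrix (Fin d ⊕ Fin d) (Fin d ⊕ Fin d) F) * φ a *
      ((y⁻¹ : GL (Fin d ⊕ Fin d) F) : Matrix (Fin d ⊕ Fin d) (Fin d ⊕ Fin d) F) := ha'
  rw [one_smul] at hrk
  have hD : φ (a' - a) = ((y : Matrix (Fin d ⊕ Fin d) (Fin d ⊕ Fin d) F) - 1) * (φ a *
      ((y⁻¹ : GL (Fin d ⊕ Fin d) F) : Matrix (Fin d ⊕ Fin d) (Fin d ⊕ Fin d) F)) -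
      φ a * (((y : Matrix (Fin d ⊕ Fin d) (Fin d ⊕ Fin d) F) - 1) *
      ((y⁻¹ : GL (Fin d ⊕ Fin d) F) : Matrix (Fin d ⊕ Fin d) (Fin d ⊕ Fin d) F)) := by
    rw [map_sub, ha'', sub_mul, sub_mul, one_mul, one_mul, Units.mul_inv, mul_sub, mul_one,
      mul_assoc]
    abel
  have haa : a' = a := by
    by_contra hne
    have hne' : a' - a ≠ 0 := sub_ne_zero.2 hne
    have h1 : φ (a' - a) * φ (a' - a)⁻¹ = 1 := by
      rw [← map_mul, mul_inv_cancel₀ hne', map_one]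
    have h2 : (1 : Matrix (Fin d ⊕ Fin d) (Fin d ⊕ Fin d) F).rank ≤ (φ (a' - a)).rank := by
      rw [← h1]
      exact Matrix.rank_mul_le_left _ _
    rw [Matrix.rank_one, Fintype.card_sum, Fintype.card_fin, hD] at h2
    have h3 := fx_rank_sub_le
      (((y : Matrix (Fin d ⊕ Fin d) (Fin d ⊕ Fin d) F) - 1) * (φ a *
      ((y⁻¹ : GL (Fin d ⊕ Fin d) F) : Matrix (Fin d ⊕ Fin d) (Fin d ⊕ Fin d) F)))
      (φ a * (((y : Matrix (Fin d ⊕ Fin d) (Fin d ⊕ Fin d) F) - 1) *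
      ((y⁻¹ : GL (Fin d ⊕ Fin d) F) : Matrix (Fin d ⊕ Fin d) (Fin d ⊕ Fin d) F)))
    have h4 := Matrix.rank_mul_le_left ((y : Matrix (Fin d ⊕ Fin d) (Fin d ⊕ Fin d) F) - 1) (φ a *
      ((y⁻¹ : GL (Fin d ⊕ Fin d) F) : Matrix (Fin d ⊕ Fin d) (Fin d ⊕ Fin d) F))
    have h5 := Matrix.rank_mul_le_right (φ a)
      (((y : Matrix (Fin d ⊕ Fin d) (Fin d ⊕ Fin d) F) - 1) *
      ((y⁻¹ : GL (Fin d ⊕ Fin d) F) : Matrix (Fin d ⊕ Fin d) (Fin d ⊕ Fin d) F))
    have h6 := Matrix.rank_mul_le_left ((y : Matrix (Fin d ⊕ Fin d) (Fin d ⊕ Fin d) F) - 1)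
      ((y⁻¹ : GL (Fin d ⊕ Fin d) F) : Matrix (Fin d ⊕ Fin d) (Fin d ⊕ Fin d) F)
    omega
  rw [haa] at ha''
  calc (y : Matrix (Fin d ⊕ Fin d) (Fin d ⊕ Fin d) F) * φ a
      = (y : Matrix (Fin d ⊕ Fin d) (Fin d ⊕ Fin d) F) * φ a *
        (((y⁻¹ : GL (Fin d ⊕ Fin d) F) : Matrix (Fin d ⊕ Fin d) (Fin d ⊕ Fin d) F) *
          (y : Matrix (Fin d ⊕ Fin d) (Fin d ⊕ Fin d) F)) := by rw [Units.inv_mul, mul_one]
    _ = φ a * (y : Matrix (Fin d ⊕ Fin d) (Fin d ⊕ Fin d) F) := by rw [← mul_assoc, ← ha'']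

theorem fx_galois [Finite E] (k r : ℕ) (hk : finrank F E = k) (hkp : k.Prime) (hr : r.Prime)
    (hrk : r ≠ k) (τ : E ≃ₐ[F] E) (hτ : τ ^ r = 1) : τ = 1 := by
  have h1 : τ ^ k = 1 := by
    rw [← hk, ← IsGalois.card_aut_eq_finrank F E]
    exact pow_card_eq_one'
  have h2 : τ ^ Nat.gcd r k = 1 := pow_gcd_eq_one.2 ⟨hτ, h1⟩
  rw [Nat.Coprime.gcd_eq_one ((Nat.coprime_primes hr hkp).2 hrk), pow_one] at h2
  exact h2

/-- a normalising element of prime order different from the degree centralises -/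
theorem fx_norm_comm [Finite E] (hd : 1 ≤ d)
    (φ : E →ₐ[F] Matrix (Fin d ⊕ Fin d) (Fin d ⊕ Fin d) F) (k r : ℕ) (hk : finrank F E = k)
    (hkp : k.Prime) (hr : r.Prime) (hrk : r ≠ k)
    (y : GL (Fin d ⊕ Fin d) F) (hy : y ∈ subalgebraNormalizer φ.range) (hyr : y ^ r = 1) :
    ∀ a : E, (y : Matrix (Fin d ⊕ Fin d) (Fin d ⊕ Fin d) F) * φ a =
      φ a * (y : Matrix (Fin d ⊕ Fin d) (Fin d ⊕ Fin d) F) := by
  classical
  haveI : Nonempty (Fin d ⊕ Fin d) := ⟨Sum.inl ⟨0, hd⟩⟩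
  have hinj : Function.Injective φ := (φ : E →+* Matrix (Fin d ⊕ Fin d) (Fin d ⊕ Fin d) F).injective
  have hex : ∀ a : E, ∃ a', φ a' = (y : Matrix (Fin d ⊕ Fin d) (Fin d ⊕ Fin d) F) * φ a *
      ((y⁻¹ : GL (Fin d ⊕ Fin d) F) : Matrix (Fin d ⊕ Fin d) (Fin d ⊕ Fin d) F) :=
    fun a => (hy (φ a)).1 ⟨a, rfl⟩
  choose τ₀ hτ₀ using hex
  obtain ⟨τh, hτh⟩ : ∃ τh : E →ₐ[F] E, ∀ a, τh a = τ₀ a := by
    refine ⟨{ toFun := τ₀
              map_one' := hinj (by rw [hτ₀, map_one, mul_one, Units.mul_inv])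
              map_mul' := fun a b => hinj (by
                rw [hτ₀, map_mul, map_mul, hτ₀, hτ₀]
                calc (y : Matrix (Fin d ⊕ Fin d) (Fin d ⊕ Fin d) F) * (φ a * φ b) *
                    ((y⁻¹ : GL (Fin d ⊕ Fin d) F) : Matrix (Fin d ⊕ Fin d) (Fin d ⊕ Fin d) F)
                    = (y : Matrix (Fin d ⊕ Fin d) (Fin d ⊕ Fin d) F) * φ a *
                      ((((y⁻¹ : GL (Fin d ⊕ Fin d) F) : Matrix (Fin d ⊕ Fin d) (Fin d ⊕ Fin d) F) *
                      (y : Matrix (Fin d ⊕ Fin d) (Fin d ⊕ Fin d) F)) * (φ b *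
                      ((y⁻¹ : GL (Fin d ⊕ Fin d) F) : Matrix (Fin d ⊕ Fin d) (Fin d ⊕ Fin d) F))) := by
                      rw [Units.inv_mul, one_mul]
                      simp only [mul_assoc]
                  _ = _ := by simp only [mul_assoc])
              map_zero' := hinj (by rw [hτ₀, map_zero, mul_zero, zero_mul])
              map_add' := fun a b => hinj (by rw [hτ₀, map_add, map_add, hτ₀, hτ₀, mul_add, add_mul])
              commutes' := fun c => hinj (by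
                rw [hτ₀, AlgHom.commutes, Algebra.algebraMap_eq_smul_one, Matrix.mul_smul,
                  Matrix.smul_mul, mul_one, Units.mul_inv]) }, fun a => rfl⟩
  have hbij : Function.Bijective τh :=
    Finite.injective_iff_bijective.1 (τh : E →+* E).injective
  obtain ⟨τ, hτ⟩ : ∃ τ : E ≃ₐ[F] E, ∀ a, τ a = τ₀ a :=
    ⟨AlgEquiv.ofBijective τh hbij, fun a => hτh a⟩
  have hpow : ∀ (n : ℕ) (a : E), φ ((τ ^ n) a) =
      ((y ^ n : GL (Fin d ⊕ Fin d) F) : Matrix (Fin d ⊕ Fin d) (Fin d ⊕ Fin d) F) * φ a *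
      (((y ^ n)⁻¹ : GL (Fin d ⊕ Fin d) F) : Matrix (Fin d ⊕ Fin d) (Fin d ⊕ Fin d) F) := by
    intro n
    induction n with
    | zero =>
      intro a
      rw [pow_zero, pow_zero, AlgEquiv.one_apply, inv_one, Units.val_one, one_mul, mul_one]
    | succ n ih =>
      intro a
      rw [pow_succ', AlgEquiv.mul_apply, hτ, hτ₀, ih, pow_succ', _root_.mul_inv_rev, Units.val_mul,
        Units.val_mul]
      simp only [mul_assoc]
  have hτr : τ ^ r = 1 := by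
    apply AlgEquiv.ext
    intro a
    apply hinj
    rw [hpow, hyr, inv_one, Units.val_one, one_mul, mul_one, AlgEquiv.one_apply]
  have hτ1 := fx_galois k r hk hkp hr hrk τ hτr
  intro a
  have h1 := hτ₀ a
  rw [← hτ, hτ1, AlgEquiv.one_apply] at h1
  calc (y : Matrix (Fin d ⊕ Fin d) (Fin d ⊕ Fin d) F) * φ a
      = (y : Matrix (Fin d ⊕ Fin d) (Fin d ⊕ Fin d) F) * φ a *
        (((y⁻¹ : GL (Fin d ⊕ Fin d) F) : Matrix (Fin d ⊕ Fin d) (Fin d ⊕ Fin d) F) *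
          (y : Matrix (Fin d ⊕ Fin d) (Fin d ⊕ Fin d) F)) := by rw [Units.inv_mul, mul_one]
    _ = φ a * (y : Matrix (Fin d ⊕ Fin d) (Fin d ⊕ Fin d) F) := by rw [← mul_assoc, ← h1]

end fxd

end Cfsg.Agent.Lib.helper99
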