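import Mathlib
import Cfsg.Agent.Lib.helper99.FxD
import Cfsg.Agent.Lib.helper24.LagCountB

/-!
# Forward direction: derangements of prime order for the field extension subgroups of `Sp_{2d}(q)`
-/

set_option autoImplicit false

namespace Cfsg.Agent.Lib.helper99

open Module Matrix Cfsg Cfsg.Geo
open Cfsg.Agent.Lib.helper17 Cfsg.Agent.Lib.helper95 Cfsg.Agent.Lib.helper24
open Cfsg.Agent.Lib.helper50

theorem fx_fermat (q r : ℕ) [hr : Fact r.Prime] (hq : 1 ≤ q) (hrq : ¬ r ∣ q) (hr2 : r ≠ 2) :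
    r ∣ q ^ (2 * ((r - 1) / 2)) - 1 := by
  obtain ⟨t, ht⟩ := hr.out.odd_of_ne_two hr2
  have h1 : 2 * ((r - 1) / 2) = r - 1 := by omega
  rw [h1, ← ZMod.natCast_eq_zero_iff, Nat.cast_sub (Nat.one_le_pow _ _ hq), Nat.cast_pow,
    Nat.cast_one, sub_eq_zero]
  apply ZMod.pow_card_sub_one_eq_one
  rw [Ne, ZMod.natCast_eq_zero_iff]
  exact hrq

section fxe
variable {F : Type*} [Field F] {E : Type*} [Field E] [Algebra F E]

theorem fx_forward [Fintype F] {p : ℕ} [hp : Fact p.Prime] [CharP F p] [Fintype E] (d : ℕ)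
    (hd : 2 ≤ d) (k : ℕ) (hk : k.Prime) (hkE : finrank F E = k)
    (φ : E →ₐ[F] Matrix (Fin d ⊕ Fin d) (Fin d ⊕ Fin d) F)
    (hsa : ∀ a u v, sympForm d F (φ a *ᵥ u) v = sympForm d F u (φ a *ᵥ v))
    (halt : ∀ a v, sympForm d F (φ a *ᵥ v) v = 0)
    (r : ℕ) [hr : Fact r.Prime]
    (hΩ : r ∣ (subalgebraNormalizer φ.range).relIndex (spGL d F))
    (hall : ∀ x ∈ spGL d F, (∃ z : F, ((x ^ r : GL (Fin d ⊕ Fin d) F) :
        Matrix (Fin d ⊕ Fin d) (Fin d ⊕ Fin d) F) =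
          z • (1 : Matrix (Fin d ⊕ Fin d) (Fin d ⊕ Fin d) F)) →
      (∀ z : F, (x : Matrix (Fin d ⊕ Fin d) (Fin d ⊕ Fin d) F) ≠
        z • (1 : Matrix (Fin d ⊕ Fin d) (Fin d ⊕ Fin d) F)) →
      ∃ g ∈ spGL d F, g⁻¹ * x * g ∈ subalgebraNormalizer φ.range) :
    r = 2 ∧ d = 2 ∧ k = 2 ∧ Odd (Fintype.card F) := by
  classical
  letI := fxMod φ
  haveI := fx_tower φ
  have hS := fx_S φ hsa halt
  have hsmul : ∀ (a : E) (v : Fin d ⊕ Fin d → F), a • v = φ a *ᵥ v := fun a v => rfl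
  obtain ⟨m, hm, -⟩ := fx_card_cent φ hsa halt
  rw [hkE] at hm
  have hext : ∀ x ∈ spGL d F, ((x ^ r : GL (Fin d ⊕ Fin d) F) :
        Matrix (Fin d ⊕ Fin d) (Fin d ⊕ Fin d) F) = 1 →
      (∀ z : F, (x : Matrix (Fin d ⊕ Fin d) (Fin d ⊕ Fin d) F) ≠
        z • (1 : Matrix (Fin d ⊕ Fin d) (Fin d ⊕ Fin d) F)) →
      ∃ y ∈ spGL d F, y ∈ subalgebraNormalizer φ.range ∧ y ^ r = 1 ∧
        ((y : Matrix (Fin d ⊕ Fin d) (Fin d ⊕ Fin d) F) - (1 : F) • 1).rank =
          ((x : Matrix (Fin d ⊕ Fin d) (Fin d ⊕ Fin d) F) - (1 : F) • 1).rank := by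
    intro x hx hxr hxns
    obtain ⟨g, hg, hmem⟩ := hall x hx ⟨1, by rw [hxr, one_smul]⟩ hxns
    obtain ⟨y, hydef⟩ : ∃ y : GL (Fin d ⊕ Fin d) F, y = g⁻¹ * x * g := ⟨_, rfl⟩
    rw [← hydef] at hmem
    have hy : y ∈ spGL d F := by
      rw [hydef]
      exact Subgroup.mul_mem _ (Subgroup.mul_mem _ (Subgroup.inv_mem _ hg) hx) hg
    have hx1 : x ^ r = 1 := Units.ext (by rw [hxr]; rfl)
    have hyr : y ^ r = 1 := by
      have h1 : y = g⁻¹ * x * g⁻¹⁻¹ := by rw [hydef, inv_inv]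
      rw [h1, conj_pow, hx1, mul_one, mul_inv_cancel]
    refine ⟨y, hy, hmem, hyr, ?_⟩
    have h6 : (y : Matrix (Fin d ⊕ Fin d) (Fin d ⊕ Fin d) F) - (1 : F) • 1 =
        ((g⁻¹ : GL (Fin d ⊕ Fin d) F) : Matrix (Fin d ⊕ Fin d) (Fin d ⊕ Fin d) F) *
          ((x : Matrix (Fin d ⊕ Fin d) (Fin d ⊕ Fin d) F) - (1 : F) • 1) *
          (g : Matrix (Fin d ⊕ Fin d) (Fin d ⊕ Fin d) F) := by
      rw [hydef, Units.val_mul, Units.val_mul, one_smul, Matrix.mul_sub, Matrix.sub_mul, mul_one,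
        Units.inv_mul]
    rw [h6, Matrix.rank_mul_eq_left_of_isUnit_det _ _
        ((Matrix.isUnit_iff_isUnit_det _).1 (Units.isUnit g)),
      Matrix.rank_mul_eq_right_of_isUnit_det _ _
        ((Matrix.isUnit_iff_isUnit_det _).1 (Units.isUnit g⁻¹))]
  have hYE : ∀ y : GL (Fin d ⊕ Fin d) F,
      (∀ a : E, (y : Matrix (Fin d ⊕ Fin d) (Fin d ⊕ Fin d) F) * φ a =
        φ a * (y : Matrix (Fin d ⊕ Fin d) (Fin d ⊕ Fin d) F)) →
      ∀ (a : E) (v : Fin d ⊕ Fin d → F),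
        Matrix.toLin' (y : Matrix (Fin d ⊕ Fin d) (Fin d ⊕ Fin d) F) (a • v) =
          a • Matrix.toLin' (y : Matrix (Fin d ⊕ Fin d) (Fin d ⊕ Fin d) F) v := by
    intro y hyc a v
    rw [Matrix.toLin'_apply, Matrix.toLin'_apply, hsmul, hsmul, Matrix.mulVec_mulVec, hyc a,
      Matrix.mulVec_mulVec]
  have hcomm_dvd : ∀ y : GL (Fin d ⊕ Fin d) F,
      (∀ a : E, (y : Matrix (Fin d ⊕ Fin d) (Fin d ⊕ Fin d) F) * φ a =
        φ a * (y : Matrix (Fin d ⊕ Fin d) (Fin d ⊕ Fin d) F)) →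
      k ∣ ((y : Matrix (Fin d ⊕ Fin d) (Fin d ⊕ Fin d) F) - (1 : F) • 1).rank := by
    intro y hyc
    rw [ts_rank_sub_one, ← hkE]
    exact fx_range_dvd _ (hYE y hyc)
  have hcomm_ss : ((r : ℕ) : F) ≠ 0 → ∀ y ∈ spGL d F,
      (∀ a : E, (y : Matrix (Fin d ⊕ Fin d) (Fin d ⊕ Fin d) F) * φ a =
        φ a * (y : Matrix (Fin d ⊕ Fin d) (Fin d ⊕ Fin d) F)) → y ^ r = 1 →
      ∃ m', ((y : Matrix (Fin d ⊕ Fin d) (Fin d ⊕ Fin d) F) - (1 : F) • 1).rank = k * (2 * m') ∧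
        r ∣ Fintype.card F ^
          ((y : Matrix (Fin d ⊕ Fin d) (Fin d ⊕ Fin d) F) - (1 : F) • 1).rank - 1 := by
    intro hrF y hy hyc hyr
    rw [ts_rank_sub_one, ← hkE]
    refine fx_comm_range (sympBilin d (F := F)) hS _ ?_ (hYE y hyc) r hrF ?_
    · intro u v
      rw [Matrix.toLin'_apply, Matrix.toLin'_apply, sympBilin_apply, sympBilin_apply]
      exact (mem_spGL_iff d y).mp hy u v
    · intro x
      rw [← Matrix.toLin'_pow, ← Units.val_pow_eq_pow_val, hyr, Units.val_one, Matrix.toLin'_one]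
      rfl
  have hq1 : 1 ≤ Fintype.card F := Fintype.card_pos
  have hk2 : 2 ≤ k := hk.two_le
  have hm1 : 1 ≤ m := by
    rcases Nat.eq_zero_or_pos m with h0 | h0
    · rw [h0, mul_zero] at hm
      omega
    · exact h0
  have hkd : k ≤ d := by
    rw [← hm]
    exact Nat.le_mul_of_pos_right k hm1
  have htr : ¬ r ∣ Fintype.card F := by
    intro hrq
    have hrp : r = p := by
      obtain ⟨n, hpp, hn⟩ := FiniteField.card F p
      rw [hn] at hrq
      exact (Nat.prime_dvd_prime_iff_eq hr.out hpp).1 (hr.out.dvd_of_dvd_pow hrq)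
    obtain ⟨x, hx, hxp, hxns, hle, hne⟩ := ts_exists_transv (F := F) (p := p) d (by omega)
    obtain ⟨y, hy, hyN, hyr, hrk⟩ := hext x hx (by rw [hrp, hxp]) hxns
    rw [← hrk] at hle hne
    have hyc := fx_comm_of_small_rank φ y hyN (by omega)
    obtain ⟨c, hc⟩ := hcomm_dvd y hyc
    have hc1 : 1 ≤ c := by
      rcases Nat.eq_zero_or_pos c with h0 | h0
      · rw [h0, mul_zero] at hc
        exact absurd hc hne
      · exact h0
    have h1 := Nat.mul_le_mul hk2 hc1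
    omega
  have hrF : ((r : ℕ) : F) ≠ 0 := by
    intro h0
    rw [CharP.cast_eq_zero_iff F p] at h0
    have hpr : p = r := (Nat.prime_dvd_prime_iff_eq hp.out hr.out).1 h0
    obtain ⟨n, hpp, hn⟩ := FiniteField.card F p
    apply htr
    rw [hn, ← hpr]
    exact dvd_pow_self _ n.ne_zero
  by_cases hr2 : r = 2
  · have hodd : Odd (Fintype.card F) := by
      rw [← Nat.not_even_iff_odd, even_iff_two_dvd, ← hr2]
      exact htr
    refine ⟨hr2, ?_⟩
    by_contra hcon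
    have hd3 : 3 ≤ d := by
      by_contra hd3
      have hd2 : d = 2 := by omega
      apply hcon
      refine ⟨hd2, ?_, hodd⟩
      have h1 : k ∣ 2 := by
        rw [← hd2, ← hm]
        exact Dvd.intro _ rfl
      exact (Nat.prime_dvd_prime_iff_eq hk Nat.prime_two).1 h1
    have h2F : (2 : F) ≠ 0 := by
      have h1 := hrF
      rw [hr2] at h1
      exact_mod_cast h1
    obtain ⟨A, hA1, hA2⟩ : ∃ A : Matrix.symplecticGroup (Fin 1) F, A ≠ 1 ∧ A ^ 2 = 1 := by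
      refine ⟨⟨-1, _root_.SymplecticGroup.neg_mem (Submonoid.one_mem _)⟩, ?_, ?_⟩
      · intro h
        have h1 : (-1 : Matrix (Fin 1 ⊕ Fin 1) (Fin 1 ⊕ Fin 1) F) = 1 := congrArg Subtype.val h
        have h3 := congrFun (congrFun h1 (Sum.inl 0)) (Sum.inl 0)
        rw [Matrix.neg_apply, Matrix.one_apply_eq] at h3
        apply h2F
        linear_combination -h3
      · apply Subtype.ext
        show (-1 : Matrix (Fin 1 ⊕ Fin 1) (Fin 1 ⊕ Fin 1) F) ^ 2 = 1
        rw [neg_one_sq]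
    obtain ⟨d', rfl⟩ : ∃ d', d = 1 + d' := ⟨d - 1, by omega⟩
    obtain ⟨x, hx, hxpow, hxns, -, hle, hne⟩ := ts_exists_block 1 d' le_rfl A hA1
    obtain ⟨y, hy, hyN, hyr, hrk⟩ := hext x hx (by rw [hr2]; exact hxpow 2 hA2)
      (hxns (by omega))
    rw [← hrk] at hle hne
    have hyc := fx_comm_of_small_rank φ y hyN (by omega)
    obtain ⟨m', hm', -⟩ := hcomm_ss hrF y hy hyc hyr
    have hm'1 : 1 ≤ m' := by
      rcases Nat.eq_zero_or_pos m' with h0 | h0
      · rw [h0, mul_zero, mul_zero] at hm'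
        exact absurd hm' hne
      · exact h0
    have h1 := Nat.mul_le_mul hk2 (show 2 ≤ 2 * m' by omega)
    omega
  · exfalso
    rcases fx_index φ hsa halt k hkE (by omega) r hΩ with hrq | ⟨i, hi, hki, hri⟩
    · exact htr hrq
    · obtain ⟨o, ho1, hoi, hro, hmin⟩ := fx_order_data (Fintype.card F) r hq1 i hri
      have hod : o ≤ d := by
        have := Nat.le_of_dvd (by omega) hoi
        omega
      have hko : ¬ k ∣ o := fun h => hki (dvd_trans h hoi)
      obtain ⟨A, hA⟩ := lag_exists_order (F := F) o r ho1 hro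
      obtain ⟨d', rfl⟩ : ∃ d', d = o + d' := ⟨d - o, by omega⟩
      have hA1 : A ≠ 1 := by
        rintro rfl
        rw [orderOf_one] at hA
        exact hr.out.one_lt.ne hA
      have hAr : A ^ r = 1 := by
        rw [← hA]
        exact pow_orderOf_eq_one A
      have hrodd : Odd r := hr.out.odd_of_ne_two hr2
      obtain ⟨x, hx, hxpow, -, hxns, hle, hne⟩ := ts_exists_block o d' ho1 A hA1
      obtain ⟨y, hy, hyN, hyr, hrk⟩ := hext x hx (hxpow r hAr) (hxns r hrodd hAr)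
      rw [← hrk] at hle hne
      have hyc : ∀ a : E, (y : Matrix (Fin (o + d') ⊕ Fin (o + d')) (Fin (o + d') ⊕ Fin (o + d')) F) *
          φ a = φ a * (y : Matrix (Fin (o + d') ⊕ Fin (o + d')) (Fin (o + d') ⊕ Fin (o + d')) F) := by
        by_cases hrk' : r = k
        · apply fx_comm_of_small_rank φ y hyN
          have h1 := fx_fermat (Fintype.card F) r hq1 htr hr2
          have h2 := hmin ((r - 1) / 2) (by have := hr.out.two_le; omega) h1
          omega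
        · exact fx_norm_comm (by omega) φ k r hkE hk hr.out hrk' y hyN hyr
      obtain ⟨m', hm', hdv⟩ := hcomm_ss hrF y hy hyc hyr
      rw [hm'] at hdv hle hne
      have hm'1 : 1 ≤ m' := by
        rcases Nat.eq_zero_or_pos m' with h0 | h0
        · rw [h0, mul_zero, mul_zero] at hne
          exact absurd rfl hne
        · exact h0
      have h3 : k * (2 * m') = 2 * (k * m') := by ring
      rw [h3] at hdv hle
      have h4 := hmin (k * m') (Nat.mul_pos (by omega) hm'1) hdv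
      have h5 : o = k * m' := by omega
      exact hko ⟨m', h5⟩

end fxe

end Cfsg.Agent.Lib.helper99
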