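import Mathlib
import Cfsg.Agent.Lib.helper99.FxD

/-!
# Quadratic extensions: a generator with square in `F`, and a frame adapted to it
-/

set_option autoImplicit false

namespace Cfsg.Agent.Lib.helper99

open Module Matrix Cfsg Cfsg.Geo
open Cfsg.Agent.Lib.helper17 Cfsg.Agent.Lib.helper95 Cfsg.Agent.Lib.helper24
open Cfsg.Agent.Lib.helper50

section fxf
variable {F : Type*} [Field F]

/-- matrices agreeing on a full hyperbolic family are equal -/
theorem fx_hyp_ext {d : ℕ} (e f : Fin d → (Fin d ⊕ Fin d → F))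
    (hee : ∀ a b, sympForm d F (e a) (e b) = 0) (hff : ∀ a b, sympForm d F (f a) (f b) = 0)
    (hef : ∀ a b, sympForm d F (e a) (f b) = if a = b then 1 else 0)
    (M M' : Matrix (Fin d ⊕ Fin d) (Fin d ⊕ Fin d) F)
    (h1 : ∀ j, M *ᵥ e j = M' *ᵥ e j) (h2 : ∀ j, M *ᵥ f j = M' *ᵥ f j) : M = M' := by
  classical
  have hli := fx_frame_li (sympBilin d (F := F)) (sympBilin_alt d) e f (fun a b => hee a b)
    (fun a b => hff a b) (fun a b => hef a b)
  have hspan : Submodule.span F (Set.range (Sum.elim e f)) = ⊤ :=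
    hli.span_eq_top_of_card_eq_finrank' (by
      rw [Fintype.card_sum, Fintype.card_fin, fu_finrank]
      omega)
  apply Matrix.toLin'.injective
  apply LinearMap.ext_on_range hspan
  rintro (j | j)
  · rw [Sum.elim_inl, Matrix.toLin'_apply, Matrix.toLin'_apply]
    exact h1 j
  · rw [Sum.elim_inr, Matrix.toLin'_apply, Matrix.toLin'_apply]
    exact h2 j

/-- a quadratic extension in odd characteristic is generated by a square root of a non-square -/
theorem fx_quad_gen {E : Type*} [Field E] [Algebra F E] [FiniteDimensional F E]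
    (h2 : (2 : F) ≠ 0) (hkE : finrank F E = 2) :
    ∃ (θ : E) (δ : F), θ * θ = algebraMap F E δ ∧ (∀ c : F, c * c ≠ δ) ∧
      ∀ a : E, ∃ s t : F, a = s • (1 : E) + t • θ := by
  classical
  obtain ⟨θ₀, hθ₀⟩ : ∃ θ₀ : E, ∀ c : F, θ₀ ≠ algebraMap F E c := by
    by_contra hcon
    push Not at hcon
    have hsurj : Function.Surjective (Algebra.linearMap F E) := by
      intro a
      obtain ⟨c, hc⟩ := hcon a
      exact ⟨c, hc.symm⟩
    have h1 := LinearMap.finrank_le_finrank_of_surjective hsurj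
    rw [hkE, Module.finrank_self] at h1
    omega
  have h1ne : (1 : E) ≠ 0 := one_ne_zero
  have hli : LinearIndependent F ![(1 : E), θ₀] := by
    rw [LinearIndependent.pair_iff]
    intro s t hst
    have ht : t = 0 := by
      by_contra ht
      apply hθ₀ (-s / t)
      have h3 : t • θ₀ = -(s • (1 : E)) := eq_neg_of_add_eq_zero_right hst
      rw [Algebra.algebraMap_eq_smul_one]
      calc θ₀ = t⁻¹ • (t • θ₀) := by rw [smul_smul, inv_mul_cancel₀ ht, one_smul]
        _ = (-s / t) • (1 : E) := by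
          rw [h3, smul_neg, smul_smul, ← neg_smul]
          congr 1
          field_simp
    rw [ht, zero_smul, add_zero] at hst
    exact ⟨(smul_eq_zero.mp hst).resolve_right h1ne, ht⟩
  have hspan : Submodule.span F (Set.range ![(1 : E), θ₀]) = ⊤ :=
    hli.span_eq_top_of_card_eq_finrank' (by rw [Fintype.card_fin, hkE])
  have hall : ∀ a : E, ∃ s t : F, a = s • (1 : E) + t • θ₀ := by
    intro a
    have ha : a ∈ Submodule.span F (Set.range ![(1 : E), θ₀]) := by
      rw [hspan]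
      exact Submodule.mem_top
    obtain ⟨c, hc⟩ := (Submodule.mem_span_range_iff_exists_fun F).mp ha
    rw [Fin.sum_univ_two] at hc
    exact ⟨c 0, c 1, hc.symm⟩
  obtain ⟨s₀, t₀, hsq⟩ := hall (θ₀ * θ₀)
  obtain ⟨c, rfl⟩ : ∃ c : F, t₀ = 2 * c := ⟨t₀ / 2, by field_simp⟩
  have hθsq : (θ₀ - c • (1 : E)) * (θ₀ - c • (1 : E)) = algebraMap F E (s₀ + c * c) := by
    rw [Algebra.algebraMap_eq_smul_one]
    simp only [sub_mul, mul_sub, smul_mul_assoc, mul_smul_comm, one_mul, mul_one]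
    rw [hsq]
    module
  refine ⟨θ₀ - c • (1 : E), s₀ + c * c, hθsq, ?_, ?_⟩
  · intro c' hc'
    have h3 : (θ₀ - c • (1 : E) - c' • (1 : E)) * (θ₀ - c • (1 : E) + c' • (1 : E)) = 0 := by
      have h4 : (θ₀ - c • (1 : E) - c' • (1 : E)) * (θ₀ - c • (1 : E) + c' • (1 : E)) =
          (θ₀ - c • (1 : E)) * (θ₀ - c • (1 : E)) - (c' * c') • (1 : E) := by
        simp only [sub_mul, mul_sub, mul_add, smul_mul_assoc, mul_smul_comm, one_mul,
          mul_one]
        module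
      rw [h4, hθsq, hc', Algebra.algebraMap_eq_smul_one, sub_self]
    rcases mul_eq_zero.1 h3 with h5 | h5
    · apply hθ₀ (c + c')
      rw [Algebra.algebraMap_eq_smul_one]
      linear_combination (norm := module) h5
    · apply hθ₀ (c - c')
      rw [Algebra.algebraMap_eq_smul_one]
      linear_combination (norm := module) h5
  · intro a
    obtain ⟨s, t, rfl⟩ := hall a
    refine ⟨s + t * c, t, ?_⟩
    module

variable {d : ℕ}

/-- a frame adapted to a self-adjoint square root `κ` of a non-square -/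
theorem fx_base_frame (hd : 1 ≤ d) (κ : Matrix (Fin d ⊕ Fin d) (Fin d ⊕ Fin d) F) (δ : F)
    (hkk : ∀ v, κ *ᵥ (κ *ᵥ v) = δ • v) (hns : ∀ c : F, c * c ≠ δ)
    (hsa : ∀ u v, sympForm d F (κ *ᵥ u) v = sympForm d F u (κ *ᵥ v)) :
    ∃ u₀ v₀ : Fin d ⊕ Fin d → F, sympForm d F u₀ v₀ = 0 ∧ sympForm d F (κ *ᵥ u₀) v₀ = 1 := by
  classical
  have hδ : δ ≠ 0 := fun h0 => hns 0 (by rw [h0, mul_zero])
  obtain ⟨u₀, hu₀⟩ : ∃ u : Fin d ⊕ Fin d → F, u ≠ 0 := by
    refine ⟨Pi.single (Sum.inl ⟨0, hd⟩) 1, ?_⟩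
    intro h0
    have h1 := congrFun h0 (Sum.inl ⟨0, hd⟩)
    rw [Pi.single_eq_same] at h1
    exact one_ne_zero h1
  have hκu : κ *ᵥ u₀ ≠ 0 := by
    intro h0
    have h1 := hkk u₀
    rw [h0, Matrix.mulVec_zero] at h1
    exact hu₀ ((smul_eq_zero.1 h1.symm).resolve_left hδ)
  obtain ⟨v₂, hv₂⟩ := exists_sympForm_ne_zero d _ hκu
  obtain ⟨v₁, hv₁⟩ : ∃ v₁, sympForm d F (κ *ᵥ u₀) v₁ = 1 :=
    ⟨(sympForm d F (κ *ᵥ u₀) v₂)⁻¹ • v₂, by rw [sympForm_smul_right, inv_mul_cancel₀ hv₂]⟩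
  obtain ⟨s, hs⟩ : ∃ s : F, s = sympForm d F u₀ v₁ := ⟨_, rfl⟩
  have hD : 1 - δ * (s * s) ≠ 0 := by
    intro h0
    have hs0 : s ≠ 0 := by
      rintro rfl
      rw [mul_zero, mul_zero, sub_zero] at h0
      exact one_ne_zero h0
    apply hns s⁻¹
    field_simp
    linear_combination h0
  obtain ⟨α, hα⟩ : ∃ α : F, α * (1 - δ * (s * s)) = 1 := ⟨(1 - δ * (s * s))⁻¹, inv_mul_cancel₀ hD⟩
  refine ⟨u₀, α • v₁ + (-(s * α)) • κ *ᵥ v₁, ?_, ?_⟩
  · rw [sympForm_add_right, sympForm_smul_right, sympForm_smul_right, ← hsa, hv₁, ← hs]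
    ring
  · rw [sympForm_add_right, sympForm_smul_right, sympForm_smul_right, ← hsa (κ *ᵥ u₀) v₁, hkk,
      sympForm_smul_left, ← hs, hv₁]
    linear_combination hα

end fxf

end Cfsg.Agent.Lib.helper99
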