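import Mathlib
import Cfsg.Agent.Lib.helper99.FxF
import Cfsg.Agent.Lib.helper99.TsG
import Cfsg.Agent.Lib.helper24.QuadExt2

/-!
# Backward direction: involutions of `PSp_4(q)`, `q` odd, normalise a conjugate of `F_{q^2}`
-/

set_option autoImplicit false

namespace Cfsg.Agent.Lib.helper99

open Module Matrix Cfsg Cfsg.Geo
open Cfsg.Agent.Lib.helper17 Cfsg.Agent.Lib.helper95 Cfsg.Agent.Lib.helper24
open Cfsg.Agent.Lib.helper50

section fxg
variable {F : Type*} [Field F]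

set_option maxHeartbeats 1600000 in
theorem fx_backward {E : Type*} [Field E] [Algebra F E] [Fintype F] [FiniteDimensional F E]
    (hodd : Odd (Fintype.card F)) (hkE : finrank F E = 2)
    (φ : E →ₐ[F] Matrix (Fin 2 ⊕ Fin 2) (Fin 2 ⊕ Fin 2) F)
    (hsa : ∀ a u v, sympForm 2 F (φ a *ᵥ u) v = sympForm 2 F u (φ a *ᵥ v))
    (halt : ∀ a v, sympForm 2 F (φ a *ᵥ v) v = 0)
    (x : GL (Fin 2 ⊕ Fin 2) F) (hx : x ∈ spGL 2 F)
    (hxz : ∃ z : F, ((x ^ 2 : GL (Fin 2 ⊕ Fin 2) F) :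
      Matrix (Fin 2 ⊕ Fin 2) (Fin 2 ⊕ Fin 2) F) =
        z • (1 : Matrix (Fin 2 ⊕ Fin 2) (Fin 2 ⊕ Fin 2) F))
    (hxns : ∀ z : F, (x : Matrix (Fin 2 ⊕ Fin 2) (Fin 2 ⊕ Fin 2) F) ≠
      z • (1 : Matrix (Fin 2 ⊕ Fin 2) (Fin 2 ⊕ Fin 2) F)) :
    ∃ g ∈ spGL 2 F, g⁻¹ * x * g ∈ subalgebraNormalizer φ.range := by
  classical
  have h2F : (2 : F) ≠ 0 := qe_two_ne_zero_iff_odd.2 hodd
  obtain ⟨θ, δ, hθ, hns, hall⟩ := fx_quad_gen h2F hkE
  obtain ⟨κ, hκ⟩ : ∃ κ : Matrix (Fin 2 ⊕ Fin 2) (Fin 2 ⊕ Fin 2) F, κ = φ θ := ⟨_, rfl⟩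
  have hκK : κ ∈ φ.range := ⟨θ, hκ.symm⟩
  have hκsq : κ * κ = δ • (1 : Matrix (Fin 2 ⊕ Fin 2) (Fin 2 ⊕ Fin 2) F) := by
    rw [hκ, ← map_mul, hθ, AlgHom.commutes, Algebra.algebraMap_eq_smul_one]
  have hspan : ∀ M ∈ φ.range, ∃ s t : F,
      M = s • (1 : Matrix (Fin 2 ⊕ Fin 2) (Fin 2 ⊕ Fin 2) F) + t • κ := by
    rintro _ ⟨a, rfl⟩
    obtain ⟨s, t, rfl⟩ := hall a
    refine ⟨s, t, ?_⟩
    show φ (s • (1 : E) + t • θ) = _
    rw [map_add, map_smul, map_smul, map_one, hκ]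
  have hkk : ∀ v, κ *ᵥ (κ *ᵥ v) = δ • v := fun v => by
    rw [Matrix.mulVec_mulVec, hκsq, Matrix.smul_mulVec, Matrix.one_mulVec]
  have hκsa : ∀ u v, sympForm 2 F (κ *ᵥ u) v = sympForm 2 F u (κ *ᵥ v) := fun u v => by
    rw [hκ]
    exact hsa θ u v
  have hκalt : ∀ v, sympForm 2 F (κ *ᵥ v) v = 0 := fun v => by
    rw [hκ]
    exact halt θ v
  have hκalt' : ∀ v, sympForm 2 F v (κ *ᵥ v) = 0 := fun v => by
    rw [sympForm_swap, hκalt, neg_zero]
  obtain ⟨u₀, v₀, huv, hκuv⟩ := fx_base_frame (by omega) κ δ hkk hns hκsa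
  obtain ⟨e₀, he₀⟩ : ∃ e₀ : Fin 2 → (Fin 2 ⊕ Fin 2 → F), e₀ = ![u₀, κ *ᵥ u₀] := ⟨_, rfl⟩
  obtain ⟨f₀, hf₀⟩ : ∃ f₀ : Fin 2 → (Fin 2 ⊕ Fin 2 → F), f₀ = ![κ *ᵥ v₀, v₀] := ⟨_, rfl⟩
  have he00 : e₀ 0 = u₀ := by rw [he₀]; rfl
  have he01 : e₀ 1 = κ *ᵥ u₀ := by rw [he₀]; rfl
  have hf00 : f₀ 0 = κ *ᵥ v₀ := by rw [hf₀]; rfl
  have hf01 : f₀ 1 = v₀ := by rw [hf₀]; rfl
  have hee₀ : ∀ a b, sympForm 2 F (e₀ a) (e₀ b) = 0 := by
    intro a b
    fin_cases a <;> fin_cases b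
    · exact sympForm_self 2 _
    · show sympForm 2 F (e₀ 0) (e₀ 1) = 0
      rw [he00, he01]
      exact hκalt' u₀
    · show sympForm 2 F (e₀ 1) (e₀ 0) = 0
      rw [he00, he01]
      exact hκalt u₀
    · exact sympForm_self 2 _
  have hff₀ : ∀ a b, sympForm 2 F (f₀ a) (f₀ b) = 0 := by
    intro a b
    fin_cases a <;> fin_cases b
    · exact sympForm_self 2 _
    · show sympForm 2 F (f₀ 0) (f₀ 1) = 0
      rw [hf00, hf01]
      exact hκalt v₀
    · show sympForm 2 F (f₀ 1) (f₀ 0) = 0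
      rw [hf00, hf01]
      exact hκalt' v₀
    · exact sympForm_self 2 _
  have hef₀ : ∀ a b, sympForm 2 F (e₀ a) (f₀ b) = if a = b then 1 else 0 := by
    intro a b
    fin_cases a <;> fin_cases b
    · show sympForm 2 F (e₀ 0) (f₀ 0) = 1
      rw [he00, hf00, ← hκsa]
      exact hκuv
    · show sympForm 2 F (e₀ 0) (f₀ 1) = 0
      rw [he00, hf01]
      exact huv
    · show sympForm 2 F (e₀ 1) (f₀ 0) = 0
      rw [he01, hf00, ← hκsa, hkk, sympForm_smul_left, huv, mul_zero]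
    · show sympForm 2 F (e₀ 1) (f₀ 1) = 1
      rw [he01, hf01]
      exact hκuv
  obtain ⟨z, hz⟩ := hxz
  have hzz : z * z = 1 := by
    obtain ⟨u, hu⟩ : ∃ u : Fin 2 ⊕ Fin 2 → F, u ≠ 0 := by
      refine ⟨Pi.single (Sum.inl 0) 1, ?_⟩
      intro h0
      have h1 := congrFun h0 (Sum.inl 0)
      rw [Pi.single_eq_same] at h1
      exact one_ne_zero h1
    obtain ⟨w, hw⟩ := exists_sympForm_ne_zero 2 u hu
    have hx2 : x ^ 2 ∈ spGL 2 F := Subgroup.pow_mem _ hx 2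
    have h1 := (mem_spGL_iff 2 (x ^ 2)).1 hx2 u w
    rw [hz, Matrix.smul_mulVec, Matrix.one_mulVec, Matrix.smul_mulVec, Matrix.one_mulVec,
      sympForm_smul_left, sympForm_smul_right, ← mul_assoc] at h1
    have h3 : (z * z - 1) * sympForm 2 F u w = 0 := by rw [sub_mul, h1, one_mul, sub_self]
    rcases mul_eq_zero.1 h3 with h4 | h4
    · exact sub_eq_zero.1 h4
    · exact absurd h4 hw
  have halt' : ∀ v, sympBilin 2 (F := F) v v = 0 := sympBilin_alt 2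
  have hnd : ∀ v, (∀ w, sympBilin 2 (F := F) v w = 0) → v = 0 := by
    intro v hv
    by_contra hne
    obtain ⟨w, hw⟩ := exists_sympForm_ne_zero 2 v hne
    exact hw (hv w)
  obtain ⟨X, hXdef⟩ : ∃ X : (Fin 2 ⊕ Fin 2 → F) →ₗ[F] (Fin 2 ⊕ Fin 2 → F),
      X = Matrix.toLin' (x : Matrix (Fin 2 ⊕ Fin 2) (Fin 2 ⊕ Fin 2) F) := ⟨_, rfl⟩
  have hXa : ∀ v, X v = (x : Matrix (Fin 2 ⊕ Fin 2) (Fin 2 ⊕ Fin 2) F) *ᵥ v := fun v => by
    rw [hXdef, Matrix.toLin'_apply]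
  have hXiso : ∀ u v, sympBilin 2 (F := F) (X u) (X v) = sympBilin 2 u v := by
    intro u v
    rw [sympBilin_apply, sympBilin_apply, hXa, hXa]
    exact (mem_spGL_iff 2 x).1 hx u v
  have hXX : ∀ v, X (X v) = z • v := by
    intro v
    rw [hXa, hXa, Matrix.mulVec_mulVec, ← pow_two, ← Units.val_pow_eq_pow_val, hz,
      Matrix.smul_mulVec, Matrix.one_mulVec]
  have hz' : z = 1 ∨ z = -1 := by
    have h1 : (z - 1) * (z + 1) = 0 := by linear_combination hzz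
    rcases mul_eq_zero.1 h1 with h | h
    · left
      exact sub_eq_zero.1 h
    · right
      exact eq_neg_of_add_eq_zero_left h
  rcases hz' with rfl | rfl
  · obtain ⟨ef, ff, ε, hε, hee, hff, hef, hXe, hXf⟩ := ts_frame (1 : F) 0 0 1 1 one_ne_zero
      (fun V _ _ _ _ ω X halt hnd hX hXX κ hκ => ts_loc_one h2F V ω X halt hnd hX hXX κ hκ)
      2 (Fin 2 ⊕ Fin 2 → F) (sympBilin 2) X halt' hnd hXiso hXX (fu_finrank 2) (fun _ => 1)
      (fun _ => one_ne_zero)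
    have hee' : ∀ a b, sympForm 2 F (ef a) (ef b) = 0 := fun a b => hee a b
    have hff' : ∀ a b, sympForm 2 F (ff a) (ff b) = 0 := fun a b => hff a b
    have hef' : ∀ a b, sympForm 2 F (ef a) (ff b) = if a = b then 1 else 0 := fun a b => hef a b
    have hxe : ∀ j, (x : Matrix (Fin 2 ⊕ Fin 2) (Fin 2 ⊕ Fin 2) F) *ᵥ ef j = ε j • ef j := by
      intro j
      rw [← hXa, hXe]
      module
    have hxf : ∀ j, (x : Matrix (Fin 2 ⊕ Fin 2) (Fin 2 ⊕ Fin 2) F) *ᵥ ff j = ε j • ff j := by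
      intro j
      rw [← hXa, hXf]
      module
    have hef_ne : ∀ j, ef j ≠ 0 := by
      intro j h0
      have h1 := hef' j j
      rw [h0, sympForm_zero_left, if_pos rfl] at h1
      exact zero_ne_one h1
    have hεε : ∀ j, ε j * ε j = 1 := by
      intro j
      have h1 := hXX (ef j)
      rw [hXa, hXa, hxe, Matrix.mulVec_smul, hxe, one_smul, smul_smul] at h1
      have h2 : (ε j * ε j - 1) • ef j = 0 := by rw [sub_smul, h1, one_smul, sub_self]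
      have h3 := (smul_eq_zero.1 h2).resolve_right (hef_ne j)
      linear_combination h3
    have hε01 : ε 1 = -ε 0 := by
      have h1 : (ε 1 - ε 0) * (ε 1 + ε 0) = 0 := by linear_combination hεε 1 - hεε 0
      rcases mul_eq_zero.1 h1 with h2 | h2
      · exfalso
        have h3 : ε 1 = ε 0 := sub_eq_zero.1 h2
        have hεj : ∀ j, ε j = ε 0 := by
          intro j
          fin_cases j
          · rfl
          · exact h3
        apply hxns (ε 0)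
        apply fx_hyp_ext ef ff hee' hff' hef'
        · intro j
          rw [hxe, Matrix.smul_mulVec, Matrix.one_mulVec, hεj j]
        · intro j
          rw [hxf, Matrix.smul_mulVec, Matrix.one_mulVec, hεj j]
      · exact eq_neg_of_add_eq_zero_left h2
    obtain ⟨g, hg, hgs⟩ := fu_hyp_witt e₀ f₀ ef ff hee₀ hff₀ hef₀ hee' hff' hef'
    have hginv : ∀ j, ((g⁻¹ : GL (Fin 2 ⊕ Fin 2) F) : Matrix (Fin 2 ⊕ Fin 2) (Fin 2 ⊕ Fin 2) F) *ᵥ
        ef j = e₀ j ∧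
        ((g⁻¹ : GL (Fin 2 ⊕ Fin 2) F) : Matrix (Fin 2 ⊕ Fin 2) (Fin 2 ⊕ Fin 2) F) *ᵥ ff j =
          f₀ j := by
      intro j
      constructor
      · rw [← (hgs j).1, Matrix.mulVec_mulVec, Units.inv_mul, Matrix.one_mulVec]
      · rw [← (hgs j).2, Matrix.mulVec_mulVec, Units.inv_mul, Matrix.one_mulVec]
    refine ⟨g, hg, ?_⟩
    obtain ⟨Y, hY⟩ : ∃ Y : Matrix (Fin 2 ⊕ Fin 2) (Fin 2 ⊕ Fin 2) F,
        Y = ((g⁻¹ * x * g : GL (Fin 2 ⊕ Fin 2) F) : Matrix (Fin 2 ⊕ Fin 2) (Fin 2 ⊕ Fin 2) F) :=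
      ⟨_, rfl⟩
    have hye : ∀ j, Y *ᵥ e₀ j = ε j • e₀ j := by
      intro j
      rw [hY, Units.val_mul, Units.val_mul, ← Matrix.mulVec_mulVec, ← Matrix.mulVec_mulVec,
        (hgs j).1, hxe, Matrix.mulVec_smul, (hginv j).1]
    have hyf : ∀ j, Y *ᵥ f₀ j = ε j • f₀ j := by
      intro j
      rw [hY, Units.val_mul, Units.val_mul, ← Matrix.mulVec_mulVec, ← Matrix.mulVec_mulVec,
        (hgs j).2, hxf, Matrix.mulVec_smul, (hginv j).2]
    have hy1 : Y *ᵥ u₀ = ε 0 • u₀ := by rw [← he00]; exact hye 0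
    have hy2 : Y *ᵥ (κ *ᵥ u₀) = ε 1 • κ *ᵥ u₀ := by rw [← he01]; exact hye 1
    have hy3 : Y *ᵥ (κ *ᵥ v₀) = ε 0 • κ *ᵥ v₀ := by rw [← hf00]; exact hyf 0
    have hy4 : Y *ᵥ v₀ = ε 1 • v₀ := by rw [← hf01]; exact hyf 1
    apply fu_mem_norm φ.range hκK hspan _ (-1) (by ring)
    rw [← hY]
    apply fx_hyp_ext e₀ f₀ hee₀ hff₀ hef₀
    · intro j
      fin_cases j
      · show (Y * κ) *ᵥ e₀ 0 = ((-1 : F) • (κ * Y)) *ᵥ e₀ 0
        rw [he00, ← Matrix.mulVec_mulVec, hy2, Matrix.smul_mulVec, ← Matrix.mulVec_mulVec, hy1,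
          Matrix.mulVec_smul, hε01]
        module
      · show (Y * κ) *ᵥ e₀ 1 = ((-1 : F) • (κ * Y)) *ᵥ e₀ 1
        rw [he01, ← Matrix.mulVec_mulVec, hkk, Matrix.mulVec_smul, hy1, Matrix.smul_mulVec,
          ← Matrix.mulVec_mulVec, hy2, Matrix.mulVec_smul, hkk, hε01]
        module
    · intro j
      fin_cases j
      · show (Y * κ) *ᵥ f₀ 0 = ((-1 : F) • (κ * Y)) *ᵥ f₀ 0
        rw [hf00, ← Matrix.mulVec_mulVec, hkk, Matrix.mulVec_smul, hy4, Matrix.smul_mulVec,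
          ← Matrix.mulVec_mulVec, hy3, Matrix.mulVec_smul, hkk, hε01]
        module
      · show (Y * κ) *ᵥ f₀ 1 = ((-1 : F) • (κ * Y)) *ᵥ f₀ 1
        rw [hf01, ← Matrix.mulVec_mulVec, hy3, Matrix.smul_mulVec, ← Matrix.mulVec_mulVec, hy4,
          Matrix.mulVec_smul, hε01]
        module
  · obtain ⟨ef, ff, ε, hε, hee, hff, hef, hXe, hXf⟩ := ts_frame (0 : F) 1 (-1) 0 (-1)
      (neg_ne_zero.2 one_ne_zero)
      (fun V _ _ _ _ ω X halt hnd hX hXX κ hκ => ts_loc_neg h2F V ω X halt hnd hX hXX κ hκ)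
      2 (Fin 2 ⊕ Fin 2 → F) (sympBilin 2) X halt' hnd hXiso hXX (fu_finrank 2) (fun _ => 1)
      (fun _ => one_ne_zero)
    have hee' : ∀ a b, sympForm 2 F (ef a) (ef b) = 0 := fun a b => hee a b
    have hff' : ∀ a b, sympForm 2 F (ff a) (ff b) = 0 := fun a b => hff a b
    have hef' : ∀ a b, sympForm 2 F (ef a) (ff b) = if a = b then 1 else 0 := fun a b => hef a b
    have hfe' : ∀ a b, sympForm 2 F (ff a) (ef b) = if a = b then -1 else 0 := by
      intro a b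
      rw [sympForm_swap, hef']
      by_cases hab : a = b
      · rw [if_pos hab, if_pos hab.symm]
      · rw [if_neg hab, if_neg (fun hba => hab hba.symm), neg_zero]
    have h00 : sympForm 2 F (ef 0) (ff 0) = 1 := by rw [hef', if_pos rfl]
    have h01 : sympForm 2 F (ef 0) (ff 1) = 0 := by rw [hef', if_neg (by decide)]
    have h10 : sympForm 2 F (ef 1) (ff 0) = 0 := by rw [hef', if_neg (by decide)]
    have h11 : sympForm 2 F (ef 1) (ff 1) = 1 := by rw [hef', if_pos rfl]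
    have g00 : sympForm 2 F (ff 0) (ef 0) = -1 := by rw [hfe', if_pos rfl]
    have g01 : sympForm 2 F (ff 0) (ef 1) = 0 := by rw [hfe', if_neg (by decide)]
    have g10 : sympForm 2 F (ff 1) (ef 0) = 0 := by rw [hfe', if_neg (by decide)]
    have g11 : sympForm 2 F (ff 1) (ef 1) = -1 := by rw [hfe', if_pos rfl]
    have hxe : ∀ j, (x : Matrix (Fin 2 ⊕ Fin 2) (Fin 2 ⊕ Fin 2) F) *ᵥ ef j = ε j • ff j := by
      intro j
      rw [← hXa, hXe]
      module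
    have hxf : ∀ j, (x : Matrix (Fin 2 ⊕ Fin 2) (Fin 2 ⊕ Fin 2) F) *ᵥ ff j = -(ε j • ef j) := by
      intro j
      rw [← hXa, hXf]
      module
    have hef_ne : ∀ j, ef j ≠ 0 := by
      intro j h0
      have h1 := hef' j j
      rw [h0, sympForm_zero_left, if_pos rfl] at h1
      exact zero_ne_one h1
    have hεε : ∀ j, ε j * ε j = 1 := by
      intro j
      have h1 := hXX (ef j)
      rw [hXa, hXa, hxe, Matrix.mulVec_smul, hxf] at h1
      have h2 : (ε j * ε j - 1) • ef j = 0 := by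
        linear_combination (norm := module) -h1
      have h3 := (smul_eq_zero.1 h2).resolve_right (hef_ne j)
      linear_combination h3
    obtain ⟨a₁, b₁, ha1⟩ := ts_two_sq h2F (2 * ε 0)
    obtain ⟨a₂, b₂, ha2⟩ := ts_two_sq h2F (-(2 * ε 1))
    obtain ⟨h, hh⟩ : ∃ h : F, 2 * h = 1 := ⟨2⁻¹, mul_inv_cancel₀ h2F⟩
    obtain ⟨u, hu⟩ : ∃ u : Fin 2 ⊕ Fin 2 → F, u = h • (a₁ • ef 0 + (b₁ * ε 0) • ff 0 +
        a₂ • ef 1 + (b₂ * ε 1) • ff 1) := ⟨_, rfl⟩
    obtain ⟨w, hw⟩ : ∃ w : Fin 2 ⊕ Fin 2 → F, w = h • (a₁ • ef 0 + (b₁ * ε 0) • ff 0 -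
        a₂ • ef 1 - (b₂ * ε 1) • ff 1) := ⟨_, rfl⟩
    obtain ⟨U, hU⟩ : ∃ U : Fin 2 ⊕ Fin 2 → F, U = h • ((-b₁) • ef 0 + (a₁ * ε 0) • ff 0 +
        (-b₂) • ef 1 + (a₂ * ε 1) • ff 1) := ⟨_, rfl⟩
    obtain ⟨W, hW⟩ : ∃ W : Fin 2 ⊕ Fin 2 → F, W = h • ((-b₁) • ef 0 + (a₁ * ε 0) • ff 0 -
        (-b₂) • ef 1 - (a₂ * ε 1) • ff 1) := ⟨_, rfl⟩
    have hxu : (x : Matrix (Fin 2 ⊕ Fin 2) (Fin 2 ⊕ Fin 2) F) *ᵥ u = U := by
      rw [hu, hU]
      simp only [Matrix.mulVec_smul, Matrix.mulVec_add, hxe, hxf]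
      linear_combination (norm := module) -(hεε 0 • ((h * b₁) • ef 0)) - hεε 1 • ((h * b₂) • ef 1)
    have hxw : (x : Matrix (Fin 2 ⊕ Fin 2) (Fin 2 ⊕ Fin 2) F) *ᵥ w = W := by
      rw [hw, hW]
      simp only [Matrix.mulVec_smul, Matrix.mulVec_add, Matrix.mulVec_sub, hxe, hxf]
      linear_combination (norm := module) -(hεε 0 • ((h * b₁) • ef 0)) + hεε 1 • ((h * b₂) • ef 1)
    have hxU : (x : Matrix (Fin 2 ⊕ Fin 2) (Fin 2 ⊕ Fin 2) F) *ᵥ U = -u := by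
      rw [hu, hU]
      simp only [Matrix.mulVec_smul, Matrix.mulVec_add, hxe, hxf]
      linear_combination (norm := module) -(hεε 0 • ((h * a₁) • ef 0)) - hεε 1 • ((h * a₂) • ef 1)
    have hxW : (x : Matrix (Fin 2 ⊕ Fin 2) (Fin 2 ⊕ Fin 2) F) *ᵥ W = -w := by
      rw [hw, hW]
      simp only [Matrix.mulVec_smul, Matrix.mulVec_add, Matrix.mulVec_sub, hxe, hxf]
      linear_combination (norm := module) -(hεε 0 • ((h * a₁) • ef 0)) + hεε 1 • ((h * a₂) • ef 1)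
    have huw : sympForm 2 F u w = 0 := by
      rw [hu, hw]
      simp only [sympForm_add_left, sympForm_add_right, sympForm_sub_left, sympForm_sub_right,
        sympForm_smul_left, sympForm_smul_right, hee', hff', h00, h01, h10, h11, g00, g01, g10,
        g11]
      ring
    have hWU : sympForm 2 F W U = 0 := by
      rw [hW, hU]
      simp only [sympForm_add_left, sympForm_add_right, sympForm_sub_left, sympForm_sub_right,
        sympForm_smul_left, sympForm_smul_right, hee', hff', h00, h01, h10, h11, g00, g01, g10,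
        g11]
      ring
    have huW : sympForm 2 F u W = 1 := by
      rw [hu, hW]
      simp only [sympForm_add_left, sympForm_add_right, sympForm_sub_left, sympForm_sub_right,
        sympForm_smul_left, sympForm_smul_right, hee', hff', h00, h01, h10, h11, g00, g01, g10,
        g11]
      linear_combination (h * h * ε 0) * ha1 - (h * h * ε 1) * ha2 + (2 * h * h) * hεε 0 +
        (2 * h * h) * hεε 1 + (2 * h + 1) * hh
    have hwU : sympForm 2 F w U = 1 := by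
      rw [hw, hU]
      simp only [sympForm_add_left, sympForm_add_right, sympForm_sub_left, sympForm_sub_right,
        sympForm_smul_left, sympForm_smul_right, hee', hff', h00, h01, h10, h11, g00, g01, g10,
        g11]
      linear_combination (h * h * ε 0) * ha1 - (h * h * ε 1) * ha2 + (2 * h * h) * hεε 0 +
        (2 * h * h) * hεε 1 + (2 * h + 1) * hh
    have huU : sympForm 2 F u U = 0 := by
      rw [hu, hU]
      simp only [sympForm_add_left, sympForm_add_right, sympForm_sub_left, sympForm_sub_right,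
        sympForm_smul_left, sympForm_smul_right, hee', hff', h00, h01, h10, h11, g00, g01, g10,
        g11]
      linear_combination (h * h * ε 0) * ha1 + (h * h * ε 1) * ha2 + (2 * h * h) * hεε 0 -
        (2 * h * h) * hεε 1
    have hwW : sympForm 2 F w W = 0 := by
      rw [hw, hW]
      simp only [sympForm_add_left, sympForm_add_right, sympForm_sub_left, sympForm_sub_right,
        sympForm_smul_left, sympForm_smul_right, hee', hff', h00, h01, h10, h11, g00, g01, g10,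
        g11]
      linear_combination (h * h * ε 0) * ha1 + (h * h * ε 1) * ha2 + (2 * h * h) * hεε 0 -
        (2 * h * h) * hεε 1
    obtain ⟨e', he'⟩ : ∃ e' : Fin 2 → (Fin 2 ⊕ Fin 2 → F), e' = ![u, w] := ⟨_, rfl⟩
    obtain ⟨f', hf'⟩ : ∃ f' : Fin 2 → (Fin 2 ⊕ Fin 2 → F), f' = ![W, U] := ⟨_, rfl⟩
    have he'0 : e' 0 = u := by rw [he']; rfl
    have he'1 : e' 1 = w := by rw [he']; rfl
    have hf'0 : f' 0 = W := by rw [hf']; rfl
    have hf'1 : f' 1 = U := by rw [hf']; rfl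
    have hee'' : ∀ a b, sympForm 2 F (e' a) (e' b) = 0 := by
      intro a b
      fin_cases a <;> fin_cases b
      · exact sympForm_self 2 _
      · show sympForm 2 F (e' 0) (e' 1) = 0
        rw [he'0, he'1]
        exact huw
      · show sympForm 2 F (e' 1) (e' 0) = 0
        rw [he'0, he'1, sympForm_swap, huw, neg_zero]
      · exact sympForm_self 2 _
    have hff'' : ∀ a b, sympForm 2 F (f' a) (f' b) = 0 := by
      intro a b
      fin_cases a <;> fin_cases b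
      · exact sympForm_self 2 _
      · show sympForm 2 F (f' 0) (f' 1) = 0
        rw [hf'0, hf'1]
        exact hWU
      · show sympForm 2 F (f' 1) (f' 0) = 0
        rw [hf'0, hf'1, sympForm_swap, hWU, neg_zero]
      · exact sympForm_self 2 _
    have hef'' : ∀ a b, sympForm 2 F (e' a) (f' b) = if a = b then 1 else 0 := by
      intro a b
      fin_cases a <;> fin_cases b
      · show sympForm 2 F (e' 0) (f' 0) = 1
        rw [he'0, hf'0]
        exact huW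
      · show sympForm 2 F (e' 0) (f' 1) = 0
        rw [he'0, hf'1]
        exact huU
      · show sympForm 2 F (e' 1) (f' 0) = 0
        rw [he'1, hf'0]
        exact hwW
      · show sympForm 2 F (e' 1) (f' 1) = 1
        rw [he'1, hf'1]
        exact hwU
    obtain ⟨g, hg, hgs⟩ := fu_hyp_witt e₀ f₀ e' f' hee₀ hff₀ hef₀ hee'' hff'' hef''
    have hginv : ∀ j, ((g⁻¹ : GL (Fin 2 ⊕ Fin 2) F) : Matrix (Fin 2 ⊕ Fin 2) (Fin 2 ⊕ Fin 2) F) *ᵥ
        e' j = e₀ j ∧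
        ((g⁻¹ : GL (Fin 2 ⊕ Fin 2) F) : Matrix (Fin 2 ⊕ Fin 2) (Fin 2 ⊕ Fin 2) F) *ᵥ f' j =
          f₀ j := by
      intro j
      constructor
      · rw [← (hgs j).1, Matrix.mulVec_mulVec, Units.inv_mul, Matrix.one_mulVec]
      · rw [← (hgs j).2, Matrix.mulVec_mulVec, Units.inv_mul, Matrix.one_mulVec]
    refine ⟨g, hg, ?_⟩
    obtain ⟨Y, hY⟩ : ∃ Y : Matrix (Fin 2 ⊕ Fin 2) (Fin 2 ⊕ Fin 2) F,
        Y = ((g⁻¹ * x * g : GL (Fin 2 ⊕ Fin 2) F) : Matrix (Fin 2 ⊕ Fin 2) (Fin 2 ⊕ Fin 2) F) :=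
      ⟨_, rfl⟩
    have hy1 : Y *ᵥ u₀ = v₀ := by
      rw [hY, Units.val_mul, Units.val_mul, ← Matrix.mulVec_mulVec, ← Matrix.mulVec_mulVec,
        ← he00, (hgs 0).1, he'0, hxu, ← hf'1, (hginv 1).2, hf01]
    have hy2 : Y *ᵥ (κ *ᵥ u₀) = κ *ᵥ v₀ := by
      rw [hY, Units.val_mul, Units.val_mul, ← Matrix.mulVec_mulVec, ← Matrix.mulVec_mulVec,
        ← he01, (hgs 1).1, he'1, hxw, ← hf'0, (hginv 0).2, hf00]
    have hy3 : Y *ᵥ (κ *ᵥ v₀) = -(κ *ᵥ u₀) := by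
      rw [hY, Units.val_mul, Units.val_mul, ← Matrix.mulVec_mulVec, ← Matrix.mulVec_mulVec,
        ← hf00, (hgs 0).2, hf'0, hxW, ← he'1, Matrix.mulVec_neg, (hginv 1).1, he01]
    have hy4 : Y *ᵥ v₀ = -u₀ := by
      rw [hY, Units.val_mul, Units.val_mul, ← Matrix.mulVec_mulVec, ← Matrix.mulVec_mulVec,
        ← hf01, (hgs 1).2, hf'1, hxU, ← he'0, Matrix.mulVec_neg, (hginv 0).1, he00]
    apply fu_mem_norm φ.range hκK hspan _ 1 (by ring)
    rw [← hY, one_smul]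
    apply fx_hyp_ext e₀ f₀ hee₀ hff₀ hef₀
    · intro j
      fin_cases j
      · show (Y * κ) *ᵥ e₀ 0 = (κ * Y) *ᵥ e₀ 0
        rw [he00, ← Matrix.mulVec_mulVec, hy2, ← Matrix.mulVec_mulVec, hy1]
      · show (Y * κ) *ᵥ e₀ 1 = (κ * Y) *ᵥ e₀ 1
        rw [he01, ← Matrix.mulVec_mulVec, hkk, Matrix.mulVec_smul, hy1, ← Matrix.mulVec_mulVec,
          hy2, hkk]
    · intro j
      fin_cases j
      · show (Y * κ) *ᵥ f₀ 0 = (κ * Y) *ᵥ f₀ 0
        rw [hf00, ← Matrix.mulVec_mulVec, hkk, Matrix.mulVec_smul, hy4, ← Matrix.mulVec_mulVec,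
          hy3, Matrix.mulVec_neg, hkk, smul_neg]
      · show (Y * κ) *ᵥ f₀ 1 = (κ * Y) *ᵥ f₀ 1
        rw [hf01, ← Matrix.mulVec_mulVec, hy3, ← Matrix.mulVec_mulVec, hy4, Matrix.mulVec_neg]

end fxg

end Cfsg.Agent.Lib.helper99
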