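import Mathlib
import Cfsg.Agent.Lib.helper99.FxE
import Cfsg.Agent.Lib.helper99.FxG

/-!
# Prime order elements of `PSp_{2d}(q)` and the field extension subgroups: the criterion
-/

set_option autoImplicit false

namespace Cfsg.Agent.Lib.helper99

open Module Matrix Cfsg Cfsg.Geo
open Cfsg.Agent.Lib.helper17 Cfsg.Agent.Lib.helper95 Cfsg.Agent.Lib.helper24
open Cfsg.Agent.Lib.helper50

section fxh
variable {F : Type*} [Field F]

/-- a field subalgebra of a matrix algebra is a field -/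
theorem fx_isField {d : ℕ} (hd : 1 ≤ d) {k : ℕ}
    (K : Subalgebra F (Matrix (Fin d ⊕ Fin d) (Fin d ⊕ Fin d) F)) (hK : IsFieldSubalgebra k K) :
    IsField ↥K where
  exists_pair_ne := ⟨0, 1, fun h => by
    haveI : Nonempty (Fin d ⊕ Fin d) := ⟨Sum.inl ⟨0, hd⟩⟩
    have h1 : (0 : Matrix (Fin d ⊕ Fin d) (Fin d ⊕ Fin d) F) = 1 := congrArg Subtype.val h
    exact zero_ne_one h1⟩
  mul_comm := fun a b => Subtype.ext (hK.comm a.1 a.2 b.1 b.2)
  mul_inv_cancel := fun {a} ha => by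
    obtain ⟨y, hy, hay⟩ := hK.inv a.1 a.2 (fun h => ha (Subtype.ext h))
    exact ⟨⟨y, hy⟩, Subtype.ext hay⟩

theorem fx_main {E : Type*} [Field E] [Algebra F E] [Fintype F] {p : ℕ} [Fact p.Prime]
    [CharP F p] [Fintype E] (d : ℕ) (hd : 2 ≤ d) (k : ℕ) (hk : k.Prime) (hkE : finrank F E = k)
    (φ : E →ₐ[F] Matrix (Fin d ⊕ Fin d) (Fin d ⊕ Fin d) F)
    (hsa : ∀ a u v, sympForm d F (φ a *ᵥ u) v = sympForm d F u (φ a *ᵥ v))
    (halt : ∀ a v, sympForm d F (φ a *ᵥ v) v = 0)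
    (r : ℕ) [Fact r.Prime]
    (hΩ : r ∣ (subalgebraNormalizer φ.range).relIndex (spGL d F)) :
    (∀ x ∈ spGL d F, (∃ z : F, ((x ^ r : GL (Fin d ⊕ Fin d) F) :
        Matrix (Fin d ⊕ Fin d) (Fin d ⊕ Fin d) F) =
          z • (1 : Matrix (Fin d ⊕ Fin d) (Fin d ⊕ Fin d) F)) →
      (∀ z : F, (x : Matrix (Fin d ⊕ Fin d) (Fin d ⊕ Fin d) F) ≠
        z • (1 : Matrix (Fin d ⊕ Fin d) (Fin d ⊕ Fin d) F)) →
      ∃ g ∈ spGL d F, g⁻¹ * x * g ∈ subalgebraNormalizer φ.range) ↔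
    (r = 2 ∧ d = 2 ∧ k = 2 ∧ Odd (Fintype.card F)) := by
  constructor
  · exact fx_forward d hd k hk hkE φ hsa halt r hΩ
  · rintro ⟨rfl, rfl, rfl, hodd⟩ x hx hxz hxns
    exact fx_backward hodd hkE φ hsa halt x hx hxz hxns

end fxh

end Cfsg.Agent.Lib.helper99
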