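import Mathlib
import Cfsg.Agent.Lib.helper3.GfDefs
import Cfsg.Agent.Lib.helper46.GfVQ

/-!
# S4395 piece GOURSAT, core (helper99 racer): two covers have isomorphic quotients by their central
parts, in Goursat form.  The `irr_match` statement enters as a hypothesis.
-/

set_option autoImplicit false

namespace Cfsg.Agent.Lib.helper3.Gf

universe u

/-- conjugation by `y ^ j` acts on the quotient as the `j`-th iterate of `T` -/
theorem h99_gs_conj {K : Type u} [Group K] (P : Subgroup K) (hPn : P.Normal) (y : K)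
    {V : Type u} [AddCommGroup V] (T : V ≃+ V) (pr : ↥P → V)
    (hconj : ∀ (u : ↥P) (hu : y * (u : K) * y⁻¹ ∈ P), pr ⟨y * (u : K) * y⁻¹, hu⟩ = T (pr u))
    (j : ℕ) (u : ↥P) (hu : y ^ j * (u : K) * (y ^ j)⁻¹ ∈ P) :
    pr ⟨y ^ j * (u : K) * (y ^ j)⁻¹, hu⟩ = (⇑T)^[j] (pr u) := by
  induction j with
  | zero =>
    have : (⟨y ^ 0 * (u : K) * (y ^ 0)⁻¹, hu⟩ : ↥P) = u := Subtype.ext (by simp)
    rw [this]
    rfl
  | succ j ih =>
    have hu' : y ^ j * (u : K) * (y ^ j)⁻¹ ∈ P := hPn.conj_mem u u.2 (y ^ j)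
    have h1 := hconj ⟨y ^ j * (u : K) * (y ^ j)⁻¹, hu'⟩ (hPn.conj_mem _ hu' y)
    have : (⟨y ^ (j + 1) * (u : K) * (y ^ (j + 1))⁻¹, hu⟩ : ↥P) =
        ⟨y * (y ^ j * (u : K) * (y ^ j)⁻¹) * y⁻¹, hPn.conj_mem _ hu' y⟩ :=
      Subtype.ext (by simp only [pow_succ', mul_inv_rev]; group)
    rw [this, h1, ih hu', Function.iterate_succ_apply']

/-- the `q ^ r`-th power of `y` lies in `N` -/
theorem h99_gs_pow_mem (p q r : ℕ) {K : Type u} [Group K] (N P : Subgroup K) (y : K)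
    (h : Cov p q r N P y) {V : Type u} [AddCommGroup V] (T : V ≃+ V) (pr : ↥P → V)
    (hI : Irr p q T) (hker : ∀ u : ↥P, pr u = 0 ↔ (u : K) ∈ N)
    (hconj : ∀ (u : ↥P) (hu : y * (u : K) * y⁻¹ ∈ P), pr ⟨y * (u : K) * y⁻¹, hu⟩ = T (pr u)) :
    y ^ (q ^ r) ∈ N := by
  have hz : y ^ (q ^ r) ∈ P := h.ord_mem
  have hzz : y * y ^ (q ^ r) * y⁻¹ = y ^ (q ^ r) := by
    rw [← pow_succ', pow_succ, mul_inv_cancel_right]
  have hz' : y * ((⟨y ^ (q ^ r), hz⟩ : ↥P) : K) * y⁻¹ ∈ P := by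
    rw [hzz]
    exact hz
  have h1 := hconj ⟨y ^ (q ^ r), hz⟩ hz'
  have h2 : (⟨y * ((⟨y ^ (q ^ r), hz⟩ : ↥P) : K) * y⁻¹, hz'⟩ : ↥P) = ⟨y ^ (q ^ r), hz⟩ :=
    Subtype.ext hzz
  rw [h2] at h1
  -- fixed points of `T`
  let W : AddSubgroup V :=
    { carrier := {v | T v = v}
      zero_mem' := map_zero T
      add_mem' := fun {a b} ha hb => by
        change T (a + b) = a + b
        rw [map_add, ha, hb]
      neg_mem' := fun {a} ha => by
        change T (-a) = -a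
        rw [map_neg, ha] }
  have hW : ∀ w ∈ W, T w ∈ W := by
    intro w hw
    have hw' : T w = w := hw
    change T (T w) = T w
    exact congrArg T hw'
  rcases hI.irr W hW with hbot | htop
  · have hmem : pr ⟨y ^ (q ^ r), hz⟩ ∈ W := h1.symm
    rw [hbot, AddSubgroup.mem_bot] at hmem
    exact (hker _).1 hmem
  · exfalso
    obtain ⟨v, hv⟩ := hI.ne
    have : v ∈ W := by
      rw [htop]
      exact AddSubgroup.mem_top v
    exact hv this

/-- every element is `u * y ^ j` with `u ∈ P` -/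
theorem h99_gs_decomp {K : Type u} [Group K] [Finite K] (P : Subgroup K) (hPn : P.Normal) (y : K)
    (hsup : P ⊔ Subgroup.zpowers y = ⊤) (g : K) : ∃ (u : ↥P) (j : ℕ), g = (u : K) * y ^ j := by
  have hg : g ∈ ((P ⊔ Subgroup.zpowers y : Subgroup K) : Set K) := by
    rw [hsup]
    exact Set.mem_univ g
  rw [Subgroup.normal_mul] at hg
  obtain ⟨u, hu, z, hz, rfl⟩ := Set.mem_mul.1 hg
  have hz' : z ∈ Submonoid.powers y :=
    (isOfFinOrder_of_finite y).mem_powers_iff_mem_zpowers.2 hz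
  obtain ⟨j, rfl⟩ := (Submonoid.mem_powers_iff _ _).1 hz'
  exact ⟨⟨u, hu⟩, j, rfl⟩

/-- GOURSAT with the `irr_match` statement as a hypothesis -/
theorem h99_goursat_core (p q r : ℕ) [Fact p.Prime] [Fact q.Prime] (hpq : p ≠ q)
    (hIM : ∀ (V₁ V₂ : Type u) [AddCommGroup V₁] [Finite V₁] [AddCommGroup V₂] [Finite V₂]
      (T₁ : V₁ ≃+ V₁) (T₂ : V₂ ≃+ V₂), Irr p q T₁ → Irr p q T₂ →
      ∃ (m : ℕ) (ψ : V₁ ≃+ V₂), ¬ q ∣ m ∧ ∀ v : V₁, ψ (T₁ v) = (⇑T₂)^[m] (ψ v))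
    {A B : Type u} [Group A] [Finite A] [Group B] [Finite B]
    (NA PA : Subgroup A) (yA : A) (NB PB : Subgroup B) (yB : B)
    (hA : Cov p q r NA PA yA) (hB : Cov p q r NB PB yB) :
    ∃ F : Subgroup (A × B), (∀ a : A, ∃ b : B, (a, b) ∈ F) ∧ (∀ b : B, ∃ a : A, (a, b) ∈ F) ∧
      (∀ a : A, (a, (1 : B)) ∈ F ↔ a ∈ NA) ∧ (∀ b : B, ((1 : A), b) ∈ F ↔ b ∈ NB) := by
  classical
  have hq : q.Prime := Fact.out
  obtain ⟨VA, _, _, TA, prA, hIA, hsA, haddA, hkerA, hconjA⟩ := vq p q r hpq NA PA yA hA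
  obtain ⟨VB, _, _, TB, prB, hIB, hsB, haddB, hkerB, hconjB⟩ := vq p q r hpq NB PB yB hB
  obtain ⟨m, ψ, hqm, hψ⟩ := hIM VA VB TA TB hIA hIB
  have hzA := h99_gs_pow_mem p q r NA PA yA hA TA prA hIA hkerA hconjA
  have hzB := h99_gs_pow_mem p q r NB PB yB hB TB prB hIB hkerB hconjB
  have hψit : ∀ (j : ℕ) (v : VA), ψ ((⇑TA)^[j] v) = (⇑TB)^[m * j] (ψ v) := by
    intro j
    induction j with
    | zero =>
      intro v
      rfl
    | succ j ih =>
      intro v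
      rw [Function.iterate_succ_apply', hψ, ih, ← Function.iterate_add_apply, Nat.mul_succ,
        Nat.add_comm]
  have hpr1A : prA 1 = 0 := (hkerA 1).2 NA.one_mem
  have hpr1B : prB 1 = 0 := (hkerB 1).2 NB.one_mem
  have hcm : Nat.Coprime m (q ^ r) :=
    Nat.Coprime.pow_right r ((Nat.Prime.coprime_iff_not_dvd hq).2 hqm).symm
  have ho : q ^ r ≠ 0 := pow_ne_zero _ hq.ne_zero
  have hpowA : ∀ j, q ^ r ∣ j → yA ^ j ∈ NA := by
    rintro j ⟨t, rfl⟩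
    rw [pow_mul]
    exact NA.pow_mem hzA t
  have hpowB : ∀ j, q ^ r ∣ j → yB ^ j ∈ NB := by
    rintro j ⟨t, rfl⟩
    rw [pow_mul]
    exact NB.pow_mem hzB t
  obtain ⟨S, hSdef⟩ : ∃ S : Set (A × B), S = {ab | ∃ (j : ℕ) (u : ↥PA) (w : ↥PB),
      ab.1 = (u : A) * yA ^ j ∧ ab.2 = (w : B) * yB ^ (m * j) ∧ ψ (prA u) = prB w} := ⟨_, rfl⟩
  have hSmem : ∀ a b, (a, b) ∈ S ↔ ∃ (j : ℕ) (u : ↥PA) (w : ↥PB),
      a = (u : A) * yA ^ j ∧ b = (w : B) * yB ^ (m * j) ∧ ψ (prA u) = prB w := by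
    intro a b
    rw [hSdef]
    exact Iff.rfl
  have hS1 : (1 : A × B) ∈ S := by
    have : (1 : A × B) = (1, 1) := rfl
    rw [this, hSmem]
    exact ⟨0, 1, 1, by simp, by simp, by rw [hpr1A, hpr1B, map_zero]⟩
  have hSmul : ∀ x y, x ∈ S → y ∈ S → x * y ∈ S := by
    rintro ⟨a, b⟩ ⟨a', b'⟩ hx hy
    rw [hSmem] at hx hy
    obtain ⟨j, u, w, h1, h2, h3⟩ := hx
    obtain ⟨j', u', w', h1', h2', h3'⟩ := hy
    have hcA : yA ^ j * (u' : A) * (yA ^ j)⁻¹ ∈ PA := hA.P_normal.conj_mem u' u'.2 (yA ^ j)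
    have hcB : yB ^ (m * j) * (w' : B) * (yB ^ (m * j))⁻¹ ∈ PB :=
      hB.P_normal.conj_mem w' w'.2 _
    have : ((a, b) * (a', b') : A × B) = (a * a', b * b') := rfl
    rw [this, hSmem]
    refine ⟨j + j', u * ⟨_, hcA⟩, w * ⟨_, hcB⟩, ?_, ?_, ?_⟩
    · rw [h1, h1', Subgroup.coe_mul, pow_add]
      simp only [mul_assoc, inv_mul_cancel_left]
    · rw [h2, h2', Subgroup.coe_mul, Nat.mul_add, pow_add]
      simp only [mul_assoc, inv_mul_cancel_left]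
    · rw [haddA, haddB, map_add, h3,
        h99_gs_conj PA hA.P_normal yA TA prA hconjA j u' hcA,
        h99_gs_conj PB hB.P_normal yB TB prB hconjB (m * j) w' hcB, hψit, h3']
  obtain ⟨F, hF⟩ : ∃ F : Subgroup (A × B), ∀ x, x ∈ F ↔ x ∈ S := by
    refine ⟨{ carrier := S
              mul_mem' := fun {x y} hx hy => hSmul x y hx hy
              one_mem' := hS1
              inv_mem' := ?_ }, fun x => Iff.rfl⟩
    intro x hx
    have hpow : ∀ n : ℕ, x ^ n ∈ S := by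
      intro n
      induction n with
      | zero =>
        rw [pow_zero]
        exact hS1
      | succ n ih =>
        rw [pow_succ]
        exact hSmul _ _ ih hx
    have hinv : x⁻¹ = x ^ (orderOf x - 1) := by
      apply inv_eq_of_mul_eq_one_right
      rw [← pow_succ', Nat.sub_add_cancel (orderOf_pos x), pow_orderOf_eq_one]
    rw [hinv]
    exact hpow _
  refine ⟨F, ?_, ?_, ?_, ?_⟩
  · intro a
    obtain ⟨u, j, rfl⟩ := h99_gs_decomp PA hA.P_normal yA hA.sup_top a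
    obtain ⟨w, hw⟩ := hsB (ψ (prA u))
    refine ⟨(w : B) * yB ^ (m * j), ?_⟩
    rw [hF, hSmem]
    exact ⟨j, u, w, rfl, rfl, hw.symm⟩
  · intro b
    obtain ⟨w, i, rfl⟩ := h99_gs_decomp PB hB.P_normal yB hB.sup_top b
    obtain ⟨j, -, hj⟩ := Nat.exists_mul_mod_eq_of_coprime i hcm ho
    -- `yB ^ i = n * yB ^ (m * j)` with `n ∈ NB`
    have h1 : yB ^ i = (yB ^ (q ^ r)) ^ (i / q ^ r) * yB ^ (i % q ^ r) := by
      rw [← pow_mul, ← pow_add, Nat.div_add_mod]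
    have h2 : yB ^ (m * j) = (yB ^ (q ^ r)) ^ (m * j / q ^ r) * yB ^ (i % q ^ r) := by
      rw [← hj, ← pow_mul, ← pow_add, Nat.div_add_mod]
    obtain ⟨n, hn⟩ : ∃ n : B, n = (yB ^ (q ^ r)) ^ (i / q ^ r) * ((yB ^ (q ^ r)) ^ (m * j / q ^ r))⁻¹ :=
      ⟨_, rfl⟩
    have hnN : n ∈ NB := by
      rw [hn]
      exact NB.mul_mem (NB.pow_mem hzB _) (NB.inv_mem (NB.pow_mem hzB _))
    have h3 : yB ^ i = n * yB ^ (m * j) := by
      rw [hn, h1, h2]
      simp only [mul_assoc, inv_mul_cancel_left]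
    obtain ⟨u, hu⟩ := hsA (ψ.symm (prB w))
    refine ⟨(u : A) * yA ^ j, ?_⟩
    rw [hF, hSmem]
    refine ⟨j, u, w * ⟨n, hB.N_le_P hnN⟩, rfl, ?_, ?_⟩
    · rw [h3, Subgroup.coe_mul, mul_assoc]
    · rw [hu, AddEquiv.apply_symm_apply, haddB, (hkerB ⟨n, hB.N_le_P hnN⟩).2 hnN, add_zero]
  · intro a
    rw [hF, hSmem]
    constructor
    · rintro ⟨j, u, w, h1, h2, h3⟩
      have hy : yB ^ (m * j) = (w : B)⁻¹ := eq_inv_of_mul_eq_one_right h2.symm
      have hyP : yB ^ (m * j) ∈ PB := by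
        rw [hy]
        exact PB.inv_mem w.2
      have hdvd : q ^ r ∣ m * j := hB.ord_dvd _ hyP
      have hdvd' : q ^ r ∣ j := Nat.Coprime.dvd_of_dvd_mul_left hcm.symm hdvd
      have hwN : (w : B) ∈ NB := by
        have := hpowB _ hdvd
        rw [hy] at this
        exact (Subgroup.inv_mem_iff NB).1 this
      have hw0 : prB w = 0 := (hkerB w).2 hwN
      rw [hw0] at h3
      have hu0 : prA u = 0 := (AddEquiv.map_eq_zero_iff ψ).1 h3
      rw [h1]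
      exact NA.mul_mem ((hkerA u).1 hu0) (hpowA j hdvd')
    · intro ha
      exact ⟨0, ⟨a, hA.N_le_P ha⟩, 1, by simp, by simp,
        by rw [(hkerA ⟨a, hA.N_le_P ha⟩).2 ha, map_zero, hpr1B]⟩
  · intro b
    rw [hF, hSmem]
    constructor
    · rintro ⟨j, u, w, h1, h2, h3⟩
      have hy : yA ^ j = (u : A)⁻¹ := eq_inv_of_mul_eq_one_right h1.symm
      have hyP : yA ^ j ∈ PA := by
        rw [hy]
        exact PA.inv_mem u.2
      have hdvd : q ^ r ∣ j := hA.ord_dvd _ hyP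
      have huN : (u : A) ∈ NA := by
        have := hpowA _ hdvd
        rw [hy] at this
        exact (Subgroup.inv_mem_iff NA).1 this
      have hu0 : prA u = 0 := (hkerA u).2 huN
      rw [hu0, map_zero] at h3
      rw [h2]
      exact NB.mul_mem ((hkerB w).1 h3.symm) (hpowB _ (Dvd.dvd.mul_left hdvd m))
    · intro hb
      exact ⟨0, 1, ⟨b, hB.N_le_P hb⟩, by simp, by simp,
        by rw [hpr1A, map_zero, (hkerB ⟨b, hB.N_le_P hb⟩).2 hb]⟩

end Cfsg.Agent.Lib.helper3.Gf
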