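import Mathlib

set_option autoImplicit false
set_option linter.unusedSectionVars false
set_option linter.unusedVariables false

/-!
# Partition arithmetic for the orthogonal "elusive" statements (helper99)

Pure multiset lemmas: partitions whose even parts have even multiplicity.
-/

namespace Cfsg.Agent.Lib.helper99.Oj

theorem oj_sum_count (ν : Multiset ℕ) (S : Finset ℕ) (h : ∀ e ∈ ν, e ∈ S) :
    ν.sum = ∑ e ∈ S, ν.count e * e := by
  rw [Finset.sum_multiset_count]
  have hsub : ν.toFinset ⊆ S := fun e he => h e (Multiset.mem_toFinset.1 he)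
  rw [← Finset.sum_subset hsub]
  · simp [smul_eq_mul]
  · intro e _ he
    rw [Multiset.mem_toFinset] at he
    rw [Multiset.count_eq_zero_of_notMem he, zero_mul]

theorem oj_sum_mod4 (ρ : Multiset ℕ) (h1 : ∀ e ∈ ρ, Even e) (h2 : ∀ e, Even (ρ.count e)) :
    ρ.sum % 4 = 0 := by
  rw [Finset.sum_multiset_count]
  apply Nat.mod_eq_zero_of_dvd
  apply Finset.dvd_sum
  intro e he
  rw [Multiset.mem_toFinset] at he
  obtain ⟨k, hk⟩ := h1 e he
  obtain ⟨l, hl⟩ := h2 e
  rw [smul_eq_mul, hl]
  exact ⟨l * k, by rw [hk]; ring⟩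

/-- **P1**: a partition with all parts even (of even multiplicity) inherits admissible sub-partitions
of sum `m ≡ 0 (mod 4)` from the partitions of the same number having an odd part. -/
theorem oj_all_even_reduce (p : ℕ) (hp : Odd p) (m : ℕ) (hm4 : m % 4 = 0) (μ : Multiset ℕ)
    (hμ1 : ∀ e ∈ μ, 0 < e ∧ e ≤ p) (hμ2 : ∀ e, Even e → Even (μ.count e))
    (hall : ∀ e ∈ μ, Even e) (hne : μ ≠ 0)
    (H : ∀ μ' : Multiset ℕ, (∀ e ∈ μ', 0 < e ∧ e ≤ p) → (∀ e, Even e → Even (μ'.count e)) →
      μ'.sum = μ.sum → (∃ e ∈ μ', Odd e) →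
      ∃ ν' : Multiset ℕ, ν' ≤ μ' ∧ ν'.sum = m ∧ ∀ e, Even e → Even (ν'.count e)) :
    ∃ ν : Multiset ℕ, ν ≤ μ ∧ ν.sum = m ∧ ∀ e, Even e → Even (ν.count e) := by
  classical
  obtain ⟨a, ha⟩ := Multiset.exists_mem_of_ne_zero hne
  obtain ⟨ka, hka⟩ := hall a ha
  have ha0 := (hμ1 a ha).1
  have hap := (hμ1 a ha).2
  obtain ⟨kp, hkp⟩ := hp
  have hcnt2 : 2 ≤ μ.count a := by
    have h1 : 0 < μ.count a := Multiset.count_pos.2 ha
    obtain ⟨t, ht⟩ := hμ2 a ⟨ka, hka⟩
    omega
  have hle : Multiset.replicate 2 a ≤ μ := Multiset.le_count_iff_replicate_le.1 hcnt2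
  obtain ⟨rest, hrest⟩ : ∃ rest : Multiset ℕ, rest = μ - Multiset.replicate 2 a := ⟨_, rfl⟩
  have hμeq : rest + Multiset.replicate 2 a = μ := by
    rw [hrest]
    exact tsub_add_cancel_of_le hle
  have hrest_le : rest ≤ μ := by
    rw [hrest]
    exact tsub_le_self
  have hrest_cnt : ∀ e, rest.count e = μ.count e - (if a = e then 2 else 0) := by
    intro e
    rw [hrest, Multiset.count_sub, Multiset.count_replicate]
  obtain ⟨μ', hμ'⟩ : ∃ μ' : Multiset ℕ, μ' = rest + {a + 1, a - 1} := ⟨_, rfl⟩
  have hodd1 : ¬ Even (a + 1) := by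
    rw [Nat.not_even_iff_odd]
    exact ⟨ka, by omega⟩
  have hodd2 : ¬ Even (a - 1) := by
    rw [Nat.not_even_iff_odd]
    exact ⟨ka - 1, by omega⟩
  have hmem_pair : ∀ e : ℕ, e ∈ ({a + 1, a - 1} : Multiset ℕ) ↔ e = a + 1 ∨ e = a - 1 := by
    intro e
    simp
  obtain ⟨ν', hν'1, hν'2, hν'3⟩ := H μ' (by
      intro e he
      rw [hμ', Multiset.mem_add] at he
      rcases he with he | he
      · exact hμ1 e (Multiset.mem_of_le hrest_le he)
      · rw [hmem_pair] at he
        rcases he with rfl | rfl <;> constructor <;> omega)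
    (by
      intro e he
      rw [hμ', Multiset.count_add, hrest_cnt]
      have h0 : Multiset.count e ({a + 1, a - 1} : Multiset ℕ) = 0 := by
        rw [Multiset.count_eq_zero, hmem_pair]
        rintro (rfl | rfl)
        · exact hodd1 he
        · exact hodd2 he
      rw [h0, add_zero]
      obtain ⟨t, ht⟩ := hμ2 e he
      split_ifs with hae
      · subst hae
        exact ⟨t - 1, by omega⟩
      · exact ⟨t, by omega⟩)
    (by
      rw [hμ', ← hμeq, Multiset.sum_add, Multiset.sum_add, Multiset.sum_replicate]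
      have : (({a + 1, a - 1} : Multiset ℕ)).sum = a + 1 + (a - 1) := by
        simp
      rw [this, smul_eq_mul]
      omega)
    ⟨a + 1, by rw [hμ', Multiset.mem_add, hmem_pair]; exact Or.inr (Or.inl rfl),
      Nat.not_even_iff_odd.1 hodd1⟩
  obtain ⟨ρ, hρ⟩ : ∃ ρ : Multiset ℕ, ρ = ν'.filter (fun e => Even e) := ⟨_, rfl⟩
  obtain ⟨o, ho⟩ : ∃ o : Multiset ℕ, o = ν'.filter (fun e => ¬ Even e) := ⟨_, rfl⟩
  have hsplit : ρ + o = ν' := by
    rw [hρ, ho]
    exact Multiset.filter_add_not _ _
  have hρ_le : ρ ≤ rest := by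
    have h1 : ρ ≤ μ'.filter (fun e => Even e) := by
      rw [hρ]
      exact Multiset.filter_le_filter _ hν'1
    have h2 : μ'.filter (fun e => Even e) = rest.filter (fun e => Even e) := by
      rw [hμ', Multiset.filter_add]
      have : Multiset.filter (fun e => Even e) ({a + 1, a - 1} : Multiset ℕ) = 0 := by
        rw [Multiset.filter_eq_nil]
        intro e he
        rw [hmem_pair] at he
        rcases he with rfl | rfl
        · exact hodd1
        · exact hodd2
      rw [this, add_zero]
    rw [h2] at h1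
    exact h1.trans (Multiset.filter_le _ _)
  have ho_le : o ≤ {a + 1, a - 1} := by
    have h1 : o ≤ μ'.filter (fun e => ¬ Even e) := by
      rw [ho]
      exact Multiset.filter_le_filter _ hν'1
    have h2 : μ'.filter (fun e => ¬ Even e) ≤ {a + 1, a - 1} := by
      rw [hμ', Multiset.filter_add]
      have : Multiset.filter (fun e => ¬ Even e) rest = 0 := by
        rw [Multiset.filter_eq_nil]
        intro e he
        exact not_not.2 (hall e (Multiset.mem_of_le hrest_le he))
      rw [this, zero_add]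
      exact Multiset.filter_le _ _
    exact h1.trans h2
  have hρ_cnt : ∀ e, Even (ρ.count e) := by
    intro e
    rw [hρ, Multiset.count_filter]
    split_ifs with h
    · exact hν'3 e h
    · exact ⟨0, rfl⟩
  have hρ4 : ρ.sum % 4 = 0 := oj_sum_mod4 ρ (by
    intro e he
    rw [hρ] at he
    exact (Multiset.mem_filter.1 he).2) hρ_cnt
  have hsum : ρ.sum + o.sum = m := by
    rw [← Multiset.sum_add, hsplit, hν'2]
  have hne' : a + 1 ≠ a - 1 := by omega
  have hc1 : o.count (a + 1) ≤ 1 := by
    have := Multiset.count_le_of_le (a + 1) ho_le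
    have h1 : Multiset.count (a + 1) ({a + 1, a - 1} : Multiset ℕ) = 1 := by
      rw [Multiset.insert_eq_cons, Multiset.count_cons_self, Multiset.count_singleton, if_neg hne']
    omega
  have hc2 : o.count (a - 1) ≤ 1 := by
    have := Multiset.count_le_of_le (a - 1) ho_le
    have h1 : Multiset.count (a - 1) ({a + 1, a - 1} : Multiset ℕ) = 1 := by
      rw [Multiset.insert_eq_cons, Multiset.count_cons_of_ne (Ne.symm hne'), Multiset.count_singleton,
        if_pos rfl]
    omega
  have hosum : o.sum = o.count (a + 1) * (a + 1) + o.count (a - 1) * (a - 1) := by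
    rw [oj_sum_count o {a + 1, a - 1} (by
      intro e he
      have := (hmem_pair e).1 (Multiset.mem_of_le ho_le he)
      simpa using this)]
    rw [Finset.sum_pair hne']
  have h01 : (o.count (a + 1) = 0 ∧ o.count (a - 1) = 0) ∨
      (o.count (a + 1) = 1 ∧ o.count (a - 1) = 1) := by
    have hA : o.count (a + 1) = 0 ∨ o.count (a + 1) = 1 := by omega
    have hB : o.count (a - 1) = 0 ∨ o.count (a - 1) = 1 := by omega
    rcases hA with hA | hA <;> rcases hB with hB | hB
    · exact Or.inl ⟨hA, hB⟩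
    · exfalso
      rw [hA, hB] at hosum
      omega
    · exfalso
      rw [hA, hB] at hosum
      omega
    · exact Or.inr ⟨hA, hB⟩
  rcases h01 with ⟨h0, h0'⟩ | ⟨h1, h1'⟩
  · refine ⟨ρ, hρ_le.trans hrest_le, ?_, fun e _ => hρ_cnt e⟩
    rw [h0, h0'] at hosum
    omega
  · refine ⟨ρ + Multiset.replicate 2 a, ?_, ?_, ?_⟩
    · rw [← hμeq]
      exact add_le_add_left hρ_le _
    · rw [Multiset.sum_add, Multiset.sum_replicate, smul_eq_mul]
      rw [h1, h1'] at hosum
      omega
    · intro e _
      rw [Multiset.count_add, Multiset.count_replicate]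
      obtain ⟨t, ht⟩ := hρ_cnt e
      split_ifs
      · exact ⟨t + 1, by omega⟩
      · exact ⟨t, by omega⟩

/-- **P2** -/
theorem oj_mod4_31 (ν : Multiset ℕ) (a : ℕ) (hν : ν ≤ Multiset.replicate a 2 + {3, 1})
    (hev : Even (ν.count 2)) (hsum : Even ν.sum) : ν.sum % 4 = 0 := by
  have hmem : ∀ e ∈ ν, e ∈ ({1, 2, 3} : Finset ℕ) := by
    intro e he
    have h1 := Multiset.mem_of_le hν he
    rw [Multiset.mem_add] at h1
    rcases h1 with h1 | h1
    · rw [Multiset.eq_of_mem_replicate h1]
      decide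
    · simp at h1
      rcases h1 with rfl | rfl <;> decide
  have hs := oj_sum_count ν {1, 2, 3} hmem
  rw [Finset.sum_insert (by decide), Finset.sum_pair (by decide)] at hs
  have h3 : ν.count 3 ≤ 1 := by
    have := Multiset.count_le_of_le 3 hν
    have h1 : Multiset.count 3 (Multiset.replicate a 2 + {3, 1}) = 1 := by
      rw [Multiset.count_add, Multiset.count_replicate, if_neg (by decide), Multiset.insert_eq_cons,
        Multiset.count_cons_self, Multiset.count_singleton, if_neg (by decide)]
    omega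
  have h1' : ν.count 1 ≤ 1 := by
    have := Multiset.count_le_of_le 1 hν
    have h1 : Multiset.count 1 (Multiset.replicate a 2 + {3, 1}) = 1 := by
      rw [Multiset.count_add, Multiset.count_replicate, if_neg (by decide), Multiset.insert_eq_cons,
        Multiset.count_cons_of_ne (by decide), Multiset.count_singleton, if_pos rfl]
    omega
  obtain ⟨t, ht⟩ := hev
  obtain ⟨s, hs'⟩ := hsum
  have hA : ν.count 3 = 0 ∨ ν.count 3 = 1 := by omega
  have hB : ν.count 1 = 0 ∨ ν.count 1 = 1 := by omega
  rcases hA with hA | hA <;> rcases hB with hB | hB <;> rw [hA, hB] at hs <;> omega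

/-- **P3** -/
theorem oj_mod4_11 (ν : Multiset ℕ) (a : ℕ) (hν : ν ≤ Multiset.replicate a 2 + {1, 1})
    (hev : Even (ν.count 2)) (hsum : Even ν.sum) : ν.sum % 4 = 2 ∨ ∀ e ∈ ν, e = 2 := by
  have hmem : ∀ e ∈ ν, e ∈ ({1, 2} : Finset ℕ) := by
    intro e he
    have h1 := Multiset.mem_of_le hν he
    rw [Multiset.mem_add] at h1
    rcases h1 with h1 | h1
    · rw [Multiset.eq_of_mem_replicate h1]
      decide
    · simp at h1
      rw [h1]
      decide
  have hs := oj_sum_count ν {1, 2} hmem
  rw [Finset.sum_pair (by decide)] at hs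
  have h1' : ν.count 1 ≤ 2 := by
    have := Multiset.count_le_of_le 1 hν
    have h1 : Multiset.count 1 (Multiset.replicate a 2 + {1, 1}) = 2 := by
      rw [Multiset.count_add, Multiset.count_replicate, if_neg (by decide), Multiset.insert_eq_cons,
        Multiset.count_cons_self, Multiset.count_singleton, if_pos rfl]
    omega
  obtain ⟨t, ht⟩ := hev
  obtain ⟨s, hs'⟩ := hsum
  by_cases h0 : ν.count 1 = 0
  · right
    intro e he
    have h2 := hmem e he
    simp only [Finset.mem_insert, Finset.mem_singleton] at h2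
    rcases h2 with rfl | rfl
    · exact absurd (Multiset.count_pos.2 he) (by omega)
    · rfl
  · left
    have hB : ν.count 1 = 1 ∨ ν.count 1 = 2 := by omega
    rcases hB with hB | hB <;> rw [hB] at hs <;> omega

end Cfsg.Agent.Lib.helper99.Oj
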