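import Mathlib
import Cfsg.Prelude.Def_GeometricClasses
import Cfsg.Agent.Lib.helper45.QWitt
import Cfsg.Agent.Lib.helper45.OEven
import Cfsg.Agent.Lib.helper24.SoC
import Cfsg.Agent.Lib.helper49.Witt

/-! Types (hyperbolic / elliptic) of nondegenerate subspaces of a quadratic space over a finite
field of odd characteristic, via value distributions. -/

set_option autoImplicit false
set_option linter.unusedSectionVars false
set_option linter.unusedVariables false

namespace Cfsg.Agent.Lib.helper99.Ot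

open Cfsg.Agent.Lib.helper45 Cfsg.Agent.Lib.helper49

section basic

variable {F : Type*} [Field F] {V : Type*} [AddCommGroup V] [Module F V]

/-- nondegenerate subspace -/
def ND (Q : QuadraticForm F V) (W : Submodule F V) : Prop :=
  ∀ w ∈ W, (∀ w' ∈ W, QuadraticMap.polar Q w w' = 0) → w = 0

/-- orthogonal subspaces -/
def Orth (Q : QuadraticForm F V) (W W' : Submodule F V) : Prop :=
  ∀ w ∈ W, ∀ w' ∈ W', QuadraticMap.polar Q w w' = 0

/-- plus type -/
def Plus (Q : QuadraticForm F V) (W : Submodule F V) : Prop :=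
  ∃ U : Submodule F V, U ≤ W ∧ (∀ u ∈ U, Q u = 0) ∧ 2 * Module.finrank F U = Module.finrank F W

/-- value distribution of a subspace -/
noncomputable def nuW (Q : QuadraticForm F V) (W : Submodule F V) (c : F) : ℕ :=
  Nat.card {w : W // Q (w : V) = c}

theorem orth_symm {Q : QuadraticForm F V} {W W' : Submodule F V} (h : Orth Q W W') :
    Orth Q W' W := by
  intro w hw w' hw'
  rw [QuadraticMap.polar_comm]
  exact h w' hw' w hw

theorem q_add_orth (Q : QuadraticForm F V) {x y : V} (h : QuadraticMap.polar Q x y = 0) :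
    Q (x + y) = Q x + Q y := by
  unfold QuadraticMap.polar at h
  linear_combination h

theorem nd_sup {Q : QuadraticForm F V} {W₁ W₂ : Submodule F V} (h1 : ND Q W₁) (h2 : ND Q W₂)
    (ho : Orth Q W₁ W₂) : ND Q (W₁ ⊔ W₂) := by
  intro w hw hw'
  obtain ⟨w₁, hw₁, w₂, hw₂, rfl⟩ := Submodule.mem_sup.1 hw
  have e1 : w₁ = 0 := by
    apply h1 w₁ hw₁
    intro u hu
    have := hw' u (Submodule.mem_sup_left hu)
    rw [QuadraticMap.polar_add_left, (orth_symm ho) w₂ hw₂ u hu, add_zero] at this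
    exact this
  have e2 : w₂ = 0 := by
    apply h2 w₂ hw₂
    intro u hu
    have := hw' u (Submodule.mem_sup_right hu)
    rw [QuadraticMap.polar_add_left, ho w₁ hw₁ u hu, zero_add] at this
    exact this
  rw [e1, e2, add_zero]

theorem disjoint_of_orth {Q : QuadraticForm F V} {W₁ W₂ : Submodule F V} (h1 : ND Q W₁)
    (ho : Orth Q W₁ W₂) : W₁ ⊓ W₂ = ⊥ := by
  rw [eq_bot_iff]
  intro w hw
  obtain ⟨hw1, hw2⟩ := Submodule.mem_inf.1 hw
  rw [Submodule.mem_bot]
  apply h1 w hw1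
  intro u hu
  rw [QuadraticMap.polar_comm]
  exact ho u hu w hw2

theorem finrank_sup_orth [FiniteDimensional F V] {Q : QuadraticForm F V} {W₁ W₂ : Submodule F V}
    (h1 : ND Q W₁) (ho : Orth Q W₁ W₂) :
    Module.finrank F ↥(W₁ ⊔ W₂) = Module.finrank F W₁ + Module.finrank F W₂ := by
  have h := Submodule.finrank_sup_add_finrank_inf_eq W₁ W₂
  rw [disjoint_of_orth h1 ho, finrank_bot, add_zero] at h
  exact h

theorem nu_sup [Fintype F] [Finite V] {Q : QuadraticForm F V} {W₁ W₂ : Submodule F V}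
    (h1 : ND Q W₁) (ho : Orth Q W₁ W₂) :
    nuW Q (W₁ ⊔ W₂) = vconv (nuW Q W₁) (nuW Q W₂) := by
  funext c
  unfold vconv nuW
  rw [← card_prod_fiber (fun w : W₁ => Q (w : V)) (fun w : W₂ => Q (w : V)) c]
  symm
  apply Nat.card_congr
  have hdis := disjoint_of_orth h1 ho
  have hval : ∀ p : {p : ↥W₁ × ↥W₂ // Q (p.1 : V) + Q (p.2 : V) = c},
      Q ((p.1.1 : V) + (p.1.2 : V)) = c := by
    intro p
    rw [q_add_orth Q (ho _ p.1.1.2 _ p.1.2.2)]
    exact p.2
  refine Equiv.ofBijective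
    (fun p => ⟨⟨(p.1.1 : V) + (p.1.2 : V), Submodule.add_mem_sup p.1.1.2 p.1.2.2⟩, hval p⟩)
    ⟨?_, ?_⟩
  · intro p p' hpp
    have h3 : (p.1.1 : V) + (p.1.2 : V) = (p'.1.1 : V) + (p'.1.2 : V) :=
      congrArg (fun x : {w : ↥(W₁ ⊔ W₂) // Q (w : V) = c} => ((x.1 : ↥(W₁ ⊔ W₂)) : V)) hpp
    have h4 : (p.1.1 : V) - (p'.1.1 : V) ∈ W₁ ⊓ W₂ := by
      refine Submodule.mem_inf.2 ⟨W₁.sub_mem p.1.1.2 p'.1.1.2, ?_⟩
      have : (p.1.1 : V) - (p'.1.1 : V) = (p'.1.2 : V) - (p.1.2 : V) := by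
        rw [sub_eq_sub_iff_add_eq_add, h3, add_comm]
      rw [this]
      exact W₂.sub_mem p'.1.2.2 p.1.2.2
    rw [hdis, Submodule.mem_bot] at h4
    have h5 : (p.1.1 : V) = (p'.1.1 : V) := sub_eq_zero.1 h4
    have h6 : (p.1.2 : V) = (p'.1.2 : V) := by
      rw [h5] at h3
      exact add_left_cancel h3
    apply Subtype.ext
    apply Prod.ext
    · exact Subtype.ext h5
    · exact Subtype.ext h6
  · rintro ⟨⟨w, hw⟩, hwc⟩
    obtain ⟨w₁, hw₁, w₂, hw₂, rfl⟩ := Submodule.mem_sup.1 hw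
    refine ⟨⟨(⟨w₁, hw₁⟩, ⟨w₂, hw₂⟩), ?_⟩, rfl⟩
    show Q w₁ + Q w₂ = c
    rw [← q_add_orth Q (ho _ hw₁ _ hw₂)]
    exact hwc

theorem polar_restrict (Q : QuadraticForm F V) (W : Submodule F V) (u v : W) :
    QuadraticMap.polar (restrictQ Q W) u v = QuadraticMap.polar Q (u : V) (v : V) := rfl

theorem nd_restrict {Q : QuadraticForm F V} {W : Submodule F V} (hW : ND Q W) :
    ∀ v : W, (∀ w : W, QuadraticMap.polar (restrictQ Q W) v w = 0) → v = 0 := by
  intro v hv
  apply Subtype.ext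
  apply hW v.1 v.2
  intro w hw
  exact hv ⟨w, hw⟩

/-- a subspace of plus type has the hyperbolic value distribution -/
theorem plus_unif [Fintype F] [FiniteDimensional F V] (h2 : (2 : F) ≠ 0) {Q : QuadraticForm F V}
    {W : Submodule F V} (hW : ND Q W) (a : ℕ) (ha : Module.finrank F W = 2 * a) (hP : Plus Q W) :
    Unif ((Fintype.card F : ℤ) ^ a) (nuW Q W) := by
  obtain ⟨U, hUW, hU0, hUdim⟩ := hP
  have hUa : Module.finrank F U = a := by omega
  have hUdim' : Module.finrank F ↥(U.comap W.subtype) = a := by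
    rw [← hUa]
    exact (Submodule.comapSubtypeEquivOfLe hUW).finrank_eq
  obtain ⟨φ, hφ⟩ := Cfsg.Agent.Lib.helper24.so_hyp_basis (V := ↥W)
    (QuadraticMap.polarBilin (restrictQ Q W)) (fun u v => QuadraticMap.polar_comm _ u v)
    (nd_restrict hW) h2 a ha (U.comap W.subtype)
    (by
      intro u hu v hv
      rw [QuadraticMap.polarBilin_apply_apply, polar_restrict]
      have hu' : (u : V) ∈ U := hu
      have hv' : (v : V) ∈ U := hv
      show Q ((u : V) + (v : V)) - Q (u : V) - Q (v : V) = 0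
      rw [hU0 _ (U.add_mem hu' hv'), hU0 _ hu', hU0 _ hv']
      ring) hUdim'
  have hQφ : ∀ w : W, Cfsg.quadFormPlus a F (φ w) = Q (w : V) := by
    intro w
    have h := hφ w
    rw [QuadraticMap.polarBilin_apply_apply, polar_restrict, QuadraticMap.polar_self] at h
    have h3 : (2 : F) * Cfsg.quadFormPlus a F (φ w) = 2 * Q (w : V) := by
      rw [h]
      simp
    exact mul_left_cancel₀ h2 h3
  have h1 : nuW Q W = fun c : F => Nat.card {v : Fin a ⊕ Fin a → F // plusForm a F v = c} := by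
    funext c
    apply Nat.card_congr
    refine Equiv.subtypeEquiv φ.toEquiv (fun w => ?_)
    show Q (w : V) = c ↔ Cfsg.quadFormPlus a F (φ w) = c
    rw [hQφ]
  rw [h1]
  exact unif_plus_std a

/-- the type of a nondegenerate even-dimensional subspace, as a sign -/
theorem type_cases [Fintype F] [FiniteDimensional F V] (h2 : (2 : F) ≠ 0) {Q : QuadraticForm F V}
    {W : Submodule F V} (hW : ND Q W) (a : ℕ) (ha : Module.finrank F W = 2 * a) :
    ∃ σ : ℤ, (σ = 1 ∨ σ = -1) ∧ (Plus Q W ↔ σ = 1) ∧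
      Unif (σ * (Fintype.card F : ℤ) ^ a) (nuW Q W) := by
  classical
  by_cases hP : Plus Q W
  · exact ⟨1, Or.inl rfl, ⟨fun _ => rfl, fun _ => hP⟩, by
      rw [one_mul]; exact plus_unif h2 hW a ha hP⟩
  · refine ⟨-1, Or.inr rfl, ⟨fun h => absurd h hP, fun h => absurd h (by norm_num)⟩, ?_⟩
    obtain ⟨k, W₀, T, hT, han, hWnd, hcase⟩ := witt_core (restrictQ Q W) (nd_restrict hW) a ha
    rcases hcase with ⟨hk, h0, hu⟩ | ⟨hk, h2', hu⟩
    · exfalso
      apply hP
      obtain ⟨g, hg⟩ : ∃ g : (Fin k → F) →ₗ[F] V,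
          g = W.subtype ∘ₗ T.toLinearMap ∘ₗ (LinearMap.inl F ((Fin k → F) × (Fin k → F)) W₀) ∘ₗ
            (LinearMap.inl F (Fin k → F) (Fin k → F)) := ⟨_, rfl⟩
      have hgx : ∀ x, g x = ((T ((x, 0), 0) : W) : V) := by
        intro x
        rw [hg]
        rfl
      have hginj : Function.Injective g := by
        intro x y hxy
        rw [hgx, hgx] at hxy
        have h3 := T.injective (Subtype.ext hxy)
        have h4 := congrArg (fun z : ((Fin k → F) × (Fin k → F)) × W₀ => z.1.1) h3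
        exact h4
      refine ⟨LinearMap.range g, ?_, ?_, ?_⟩
      · rintro _ ⟨x, rfl⟩
        rw [hgx]
        exact (T ((x, 0), 0)).2
      · rintro _ ⟨x, rfl⟩
        rw [hgx]
        have h3 := hT ((x, 0), 0)
        rw [restrictQ_apply] at h3
        rw [h3]
        simp
      · rw [LinearMap.finrank_range_of_inj hginj, Module.finrank_fintype_fun_eq_card,
          Fintype.card_fin, ha, hk]
    · have e1 : (-1 : ℤ) * (Fintype.card F : ℤ) ^ a = -(Fintype.card F : ℤ) ^ a := by ring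
      rw [e1]
      exact hu

/-- the type of an orthogonal sum -/
theorem sum_type [Fintype F] [FiniteDimensional F V] (h2 : (2 : F) ≠ 0) {Q : QuadraticForm F V}
    {W₁ W₂ : Submodule F V} (h1 : ND Q W₁) (h2' : ND Q W₂) (ho : Orth Q W₁ W₂)
    (he1 : Even (Module.finrank F W₁)) (he2 : Even (Module.finrank F W₂)) :
    (Plus Q (W₁ ⊔ W₂) ↔ (Plus Q W₁ ↔ Plus Q W₂)) := by
  classical
  have : Finite V := Module.finite_of_finite F
  obtain ⟨a₁, ha₁⟩ := he1
  obtain ⟨a₂, ha₂⟩ := he2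
  have ha₁' : Module.finrank F W₁ = 2 * a₁ := by omega
  have ha₂' : Module.finrank F W₂ = 2 * a₂ := by omega
  have ha : Module.finrank F ↥(W₁ ⊔ W₂) = 2 * (a₁ + a₂) := by
    rw [finrank_sup_orth h1 ho]
    omega
  obtain ⟨σ₁, hσ₁, hP₁, hU₁⟩ := type_cases h2 h1 a₁ ha₁'
  obtain ⟨σ₂, hσ₂, hP₂, hU₂⟩ := type_cases h2 h2' a₂ ha₂'
  obtain ⟨σ, hσ, hP, hU⟩ := type_cases h2 (nd_sup h1 h2' ho) (a₁ + a₂) ha
  have hconv := hU₁.conv hU₂
  rw [← nu_sup h1 ho] at hconv
  have huniq := hU.unique hconv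
  have hq0 : (Fintype.card F : ℤ) ≠ 0 := by exact_mod_cast Fintype.card_ne_zero
  have hσeq : σ = σ₁ * σ₂ := by
    have h3 : σ * (Fintype.card F : ℤ) ^ (a₁ + a₂) = (σ₁ * σ₂) * (Fintype.card F : ℤ) ^ (a₁ + a₂) := by
      rw [huniq]
      ring
    exact mul_right_cancel₀ (pow_ne_zero _ hq0) h3
  rw [hP, hP₁, hP₂, hσeq]
  rcases hσ₁ with rfl | rfl <;> rcases hσ₂ with rfl | rfl <;> norm_num

/-- orthogonal complement inside a subspace -/
def perpIn (Q : QuadraticForm F V) (C W : Submodule F V) : Submodule F V :=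
  C ⊓ LinearMap.BilinForm.orthogonal (QuadraticMap.polarBilin Q) W

theorem mem_perpIn {Q : QuadraticForm F V} {C W : Submodule F V} {v : V} :
    v ∈ perpIn Q C W ↔ v ∈ C ∧ ∀ w ∈ W, QuadraticMap.polar Q w v = 0 := by
  unfold perpIn
  rw [Submodule.mem_inf, LinearMap.BilinForm.mem_orthogonal_iff]
  rfl

theorem perpIn_le {Q : QuadraticForm F V} {C W : Submodule F V} : perpIn Q C W ≤ C :=
  inf_le_left

theorem orth_perpIn {Q : QuadraticForm F V} {C W : Submodule F V} : Orth Q W (perpIn Q C W) := by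
  intro w hw v hv
  exact (mem_perpIn.1 hv).2 w hw

theorem sup_perpIn [FiniteDimensional F V] {Q : QuadraticForm F V} {C W : Submodule F V}
    (hW : ND Q W) (hWC : W ≤ C) : W ⊔ perpIn Q C W = C := by
  apply le_antisymm
  · exact sup_le hWC perpIn_le
  · intro c hc
    have hrefl : (QuadraticMap.polarBilin Q).IsRefl := by
      intro x y hxy
      rw [QuadraticMap.polarBilin_apply_apply] at hxy ⊢
      rw [QuadraticMap.polar_comm]
      exact hxy
    have hres : (LinearMap.BilinForm.restrict (QuadraticMap.polarBilin Q) W).Nondegenerate := by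
      rw [← polarBilin_restrictQ]
      exact (nondegenerate_restrictQ_iff Q W).2 hW
    have hcompl := LinearMap.BilinForm.isCompl_orthogonal_of_restrict_nondegenerate hrefl hres
    have htop : c ∈ W ⊔ LinearMap.BilinForm.orthogonal (QuadraticMap.polarBilin Q) W := by
      rw [hcompl.sup_eq_top]
      exact Submodule.mem_top
    obtain ⟨w, hw, w', hw', rfl⟩ := Submodule.mem_sup.1 htop
    refine Submodule.mem_sup.2 ⟨w, hw, w', ?_, rfl⟩
    refine Submodule.mem_inf.2 ⟨?_, hw'⟩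
    have : w' = (w + w') - w := by abel
    rw [this]
    exact C.sub_mem hc (hWC hw)

theorem nd_perpIn [FiniteDimensional F V] {Q : QuadraticForm F V} {C W : Submodule F V}
    (hC : ND Q C) (hW : ND Q W) (hWC : W ≤ C) : ND Q (perpIn Q C W) := by
  intro v hv hv'
  apply hC v (perpIn_le hv)
  intro c hc
  rw [← sup_perpIn hW hWC] at hc
  obtain ⟨w, hw, w', hw', rfl⟩ := Submodule.mem_sup.1 hc
  rw [QuadraticMap.polar_add_right, hv' w' hw', add_zero, QuadraticMap.polar_comm]
  exact (mem_perpIn.1 hv).2 w hw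

theorem finrank_perpIn [FiniteDimensional F V] {Q : QuadraticForm F V} {C W : Submodule F V}
    (hW : ND Q W) (hWC : W ≤ C) :
    Module.finrank F W + Module.finrank F (perpIn Q C W) = Module.finrank F C := by
  rw [← finrank_sup_orth hW orth_perpIn, sup_perpIn hW hWC]

end basic

end Cfsg.Agent.Lib.helper99.Ot
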