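import Mathlib
import Cfsg.Agent.Lib.helper99.OtA
import Cfsg.Agent.S0788

/-! Existence of nondegenerate subspaces of prescribed dimension and type; involutions. -/

set_option autoImplicit false
set_option linter.unusedSectionVars false
set_option linter.unusedVariables false

namespace Cfsg.Agent.Lib.helper99.Ot

open Cfsg.Agent.Lib.helper45 Cfsg.Agent.Lib.helper49

section exist

variable {F : Type*} [Field F] {V : Type*} [AddCommGroup V] [Module F V]

theorem nd_bot (Q : QuadraticForm F V) : ND Q ⊥ := by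
  intro w hw _
  exact (Submodule.mem_bot F).1 hw

theorem exists_aniso {Q : QuadraticForm F V} {W : Submodule F V} (hW : ND Q W) (h0 : W ≠ ⊥) :
    ∃ v ∈ W, Q v ≠ 0 := by
  by_contra hcon
  push Not at hcon
  apply h0
  rw [eq_bot_iff]
  intro w hw
  rw [Submodule.mem_bot]
  apply hW w hw
  intro w' hw'
  show Q (w + w') - Q w - Q w' = 0
  rw [hcon _ (W.add_mem hw hw'), hcon w hw, hcon w' hw']
  ring

theorem nd_span (h2 : (2 : F) ≠ 0) {Q : QuadraticForm F V} {v : V} (hv : Q v ≠ 0) :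
    ND Q (Submodule.span F {v}) := by
  intro w hw hw'
  obtain ⟨t, rfl⟩ := Submodule.mem_span_singleton.1 hw
  have h := hw' v (Submodule.mem_span_singleton_self v)
  rw [QuadraticMap.polar_smul_left, QuadraticMap.polar_self, smul_eq_mul] at h
  have h3 : t = 0 := by
    rcases mul_eq_zero.1 h with h4 | h4
    · exact h4
    · exfalso
      rw [two_smul, ← two_mul] at h4
      rcases mul_eq_zero.1 h4 with h5 | h5
      · exact h2 h5
      · exact hv h5
  rw [h3, zero_smul]

theorem orth_span {Q : QuadraticForm F V} {u v : V} (h : QuadraticMap.polar Q u v = 0) :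
    Orth Q (Submodule.span F {u}) (Submodule.span F {v}) := by
  intro w hw w' hw'
  obtain ⟨s, rfl⟩ := Submodule.mem_span_singleton.1 hw
  obtain ⟨t, rfl⟩ := Submodule.mem_span_singleton.1 hw'
  rw [QuadraticMap.polar_smul_left, QuadraticMap.polar_smul_right, h, smul_zero, smul_zero]

theorem orth_mono {Q : QuadraticForm F V} {W₁ W₂ W₁' W₂' : Submodule F V} (h : Orth Q W₁ W₂)
    (h1 : W₁' ≤ W₁) (h2 : W₂' ≤ W₂) : Orth Q W₁' W₂' :=
  fun w hw w' hw' => h w (h1 hw) w' (h2 hw')

theorem orth_sup_left {Q : QuadraticForm F V} {W₁ W₂ W₃ : Submodule F V} (h1 : Orth Q W₁ W₃)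
    (h2 : Orth Q W₂ W₃) : Orth Q (W₁ ⊔ W₂) W₃ := by
  intro w hw w' hw'
  obtain ⟨w₁, hw₁, w₂, hw₂, rfl⟩ := Submodule.mem_sup.1 hw
  rw [QuadraticMap.polar_add_left, h1 w₁ hw₁ w' hw', h2 w₂ hw₂ w' hw', add_zero]

/-- nondegenerate subspaces of every dimension -/
theorem nd_sub [FiniteDimensional F V] (h2 : (2 : F) ≠ 0) {Q : QuadraticForm F V}
    {C : Submodule F V} (hC : ND Q C) (a : ℕ) (ha : a ≤ Module.finrank F C) :
    ∃ W : Submodule F V, W ≤ C ∧ Module.finrank F W = a ∧ ND Q W := by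
  induction a with
  | zero => exact ⟨⊥, bot_le, finrank_bot F V, nd_bot Q⟩
  | succ a ih =>
    obtain ⟨W, hWC, hWa, hW⟩ := ih (by omega)
    have hfin := finrank_perpIn (Q := Q) hW hWC
    have hne : perpIn Q C W ≠ ⊥ := by
      intro h
      rw [h, finrank_bot] at hfin
      omega
    obtain ⟨v, hv, hQv⟩ := exists_aniso (nd_perpIn hC hW hWC) hne
    have hv0 : v ≠ 0 := by
      rintro rfl
      exact hQv (map_zero Q)
    have ho : Orth Q W (Submodule.span F {v}) := by
      intro w hw w' hw'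
      obtain ⟨t, rfl⟩ := Submodule.mem_span_singleton.1 hw'
      rw [QuadraticMap.polar_smul_right, (mem_perpIn.1 hv).2 w hw, smul_zero]
    refine ⟨W ⊔ Submodule.span F {v}, sup_le hWC ?_, ?_, nd_sup hW (nd_span h2 hQv) ho⟩
    · rw [Submodule.span_singleton_le_iff_mem]
      exact perpIn_le hv
    · rw [finrank_sup_orth hW ho, hWa, finrank_span_singleton hv0]

theorem repr [Fintype F] [FiniteDimensional F V] (h2 : (2 : F) ≠ 0) {Q : QuadraticForm F V}
    {T : Submodule F V} (hT : ND Q T) (hd : 2 ≤ Module.finrank F T) (c : F) (hc : c ≠ 0) :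
    ∃ x ∈ T, Q x = c := by
  obtain ⟨x, hx⟩ := Cfsg.Agent.S0788.exists_eq h2 (restrictQ Q T)
    ((nondegenerate_restrictQ_iff Q T).mpr hT) hd c hc
  exact ⟨x, x.2, by rw [← restrictQ_apply Q T x]; exact hx⟩

/-- nondegenerate planes of both types -/
theorem planes [Fintype F] [FiniteDimensional F V] (h2 : (2 : F) ≠ 0) {Q : QuadraticForm F V}
    {C : Submodule F V} (hC : ND Q C) (h3 : 3 ≤ Module.finrank F C) (ε : Prop) :
    ∃ P : Submodule F V, P ≤ C ∧ Module.finrank F P = 2 ∧ ND Q P ∧ (Plus Q P ↔ ε) := by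
  classical
  obtain ⟨w, hwC, hQw⟩ := repr h2 hC (by omega) 1 one_ne_zero
  have hQw0 : Q w ≠ 0 := by rw [hQw]; exact one_ne_zero
  have hw0 : w ≠ 0 := by
    rintro rfl
    exact hQw0 (map_zero Q)
  have hL : ND Q (Submodule.span F {w}) := nd_span h2 hQw0
  have hLC : Submodule.span F {w} ≤ C := by
    rw [Submodule.span_singleton_le_iff_mem]
    exact hwC
  have hfin := finrank_perpIn (Q := Q) hL hLC
  rw [finrank_span_singleton hw0] at hfin
  have hC₁ := nd_perpIn hC hL hLC
  have key : ∀ t : F, t ≠ 0 → ∃ v ∈ C, Q v = -t ∧ QuadraticMap.polar Q w v = 0 := by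
    intro t ht
    obtain ⟨v, hv, hQv⟩ := repr h2 hC₁ (by omega) (-t) (neg_ne_zero.2 ht)
    exact ⟨v, perpIn_le hv, hQv, (mem_perpIn.1 hv).2 w (Submodule.mem_span_singleton_self w)⟩
  have hplane : ∀ t : F, t ≠ 0 → ∀ v ∈ C, Q v = -t → QuadraticMap.polar Q w v = 0 →
      Submodule.span F {w} ⊔ Submodule.span F {v} ≤ C ∧
      Module.finrank F ↥(Submodule.span F {w} ⊔ Submodule.span F {v}) = 2 ∧
      ND Q (Submodule.span F {w} ⊔ Submodule.span F {v}) ∧
      ∀ x y : F, Q (x • w + y • v) = x ^ 2 - t * y ^ 2 := by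
    intro t ht v hvC hQv hwv
    have hQv0 : Q v ≠ 0 := by rw [hQv]; exact neg_ne_zero.2 ht
    have hv0 : v ≠ 0 := by
      rintro rfl
      exact hQv0 (map_zero Q)
    refine ⟨sup_le hLC ?_, ?_, nd_sup hL (nd_span h2 hQv0) (orth_span hwv), ?_⟩
    · rw [Submodule.span_singleton_le_iff_mem]
      exact hvC
    · rw [finrank_sup_orth hL (orth_span hwv), finrank_span_singleton hw0,
        finrank_span_singleton hv0]
    · intro x y
      have h5 : QuadraticMap.polar Q (x • w) (y • v) = 0 := by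
        rw [QuadraticMap.polar_smul_left, QuadraticMap.polar_smul_right, hwv, smul_zero, smul_zero]
      rw [q_add_orth Q h5, QuadraticMap.map_smul, QuadraticMap.map_smul, hQw, hQv]
      simp only [smul_eq_mul]
      ring
  by_cases hε : ε
  · obtain ⟨v, hvC, hQv, hwv⟩ := key 1 one_ne_zero
    obtain ⟨h1, h2', h3', h4⟩ := hplane 1 one_ne_zero v hvC hQv hwv
    refine ⟨_, h1, h2', h3', ⟨fun _ => hε, fun _ => ?_⟩⟩
    have hwv0 : w + v ≠ 0 := by
      intro h
      have h5 : QuadraticMap.polar Q w (w + v) = 0 := by rw [h, QuadraticMap.polar_zero_right]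
      rw [QuadraticMap.polar_add_right, hwv, add_zero, QuadraticMap.polar_self, hQw] at h5
      apply h2
      simpa using h5
    refine ⟨Submodule.span F {w + v}, ?_, ?_, ?_⟩
    · rw [Submodule.span_singleton_le_iff_mem]
      exact Submodule.add_mem_sup (Submodule.mem_span_singleton_self w)
        (Submodule.mem_span_singleton_self v)
    · intro u hu
      obtain ⟨s, rfl⟩ := Submodule.mem_span_singleton.1 hu
      have h6 := h4 1 1
      rw [one_smul, one_smul] at h6
      rw [QuadraticMap.map_smul, h6]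
      simp
    · rw [finrank_span_singleton hwv0, h2']
  · have hchar : ringChar F ≠ 2 := by
      intro h
      apply h2
      have h5 := CharP.cast_eq_zero F (ringChar F)
      rw [h] at h5
      exact_mod_cast h5
    obtain ⟨η, hη⟩ := FiniteField.exists_nonsquare hchar
    have hη0 : η ≠ 0 := by
      rintro rfl
      exact hη ⟨0, by simp⟩
    obtain ⟨v, hvC, hQv, hwv⟩ := key η hη0
    obtain ⟨h1, h2', h3', h4⟩ := hplane η hη0 v hvC hQv hwv
    refine ⟨_, h1, h2', h3', ⟨fun hP => ?_, fun h => absurd h hε⟩⟩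
    exfalso
    obtain ⟨U, hUP, hU0, hUdim⟩ := hP
    have hU1 : 0 < Module.finrank F U := by omega
    obtain ⟨u, hu0⟩ := Module.finrank_pos_iff_exists_ne_zero.1 hU1
    have huP := hUP u.2
    obtain ⟨a, ha, b, hb, hab⟩ := Submodule.mem_sup.1 huP
    obtain ⟨x, rfl⟩ := Submodule.mem_span_singleton.1 ha
    obtain ⟨y, rfl⟩ := Submodule.mem_span_singleton.1 hb
    have h7 := hU0 (u : V) u.2
    rw [← hab, h4] at h7
    by_cases hy : y = 0
    · rw [hy] at h7 hab
      have hx : x = 0 := by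
        have : x ^ 2 = 0 := by linear_combination h7
        exact pow_eq_zero_iff (by norm_num) |>.1 this
      apply hu0
      apply Subtype.ext
      rw [← hab, hx]
      simp
    · apply hη
      refine ⟨x / y, ?_⟩
      field_simp
      linear_combination -h7

/-- nondegenerate subspaces of prescribed even dimension and type -/
theorem typed [Fintype F] [FiniteDimensional F V] (h2 : (2 : F) ≠ 0) {Q : QuadraticForm F V}
    {C : Submodule F V} (hC : ND Q C) (a : ℕ) (hae : Even a) (ha2 : 2 ≤ a)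
    (hlt : a < Module.finrank F C) (ε : Prop) :
    ∃ W : Submodule F V, W ≤ C ∧ Module.finrank F W = a ∧ ND Q W ∧ (Plus Q W ↔ ε) := by
  obtain ⟨W', hW'C, hW'a, hW'⟩ := nd_sub h2 hC (a - 2) (by omega)
  have hfin := finrank_perpIn (Q := Q) hW' hW'C
  obtain ⟨P, hPC, hP2, hP, hPε⟩ := planes h2 (nd_perpIn hC hW' hW'C) (by omega)
    (Plus Q W' ↔ ε)
  have ho : Orth Q W' P := orth_mono orth_perpIn le_rfl hPC
  have hev : Even (Module.finrank F W') := by
    rw [hW'a]
    obtain ⟨k, hk⟩ := hae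
    exact ⟨k - 1, by omega⟩
  refine ⟨W' ⊔ P, sup_le hW'C (hPC.trans perpIn_le), ?_, nd_sup hW' hP ho, ?_⟩
  · rw [finrank_sup_orth hW' ho, hW'a, hP2]
    omega
  · rw [sum_type h2 hW' hP ho hev (by rw [hP2]; exact even_two), hPε]
    tauto

end exist

section invol

variable {F : Type*} [Field F] [Fintype F] {V : Type*} [AddCommGroup V] [Module F V]
  [FiniteDimensional F V]

/-- two orthogonal nondegenerate subspaces all of whose subspaces are invariant -/
theorem two_aux (h2 : (2 : F) ≠ 0) {Q : QuadraticForm F V} (T : V →ₗ[F] V)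
    {A B : Submodule F V} (hA : ND Q A) (hB : ND Q B) (hAB : Orth Q A B)
    (hAinv : ∀ U : Submodule F V, U ≤ A → U.map T ≤ U)
    (hBinv : ∀ U : Submodule F V, U ≤ B → U.map T ≤ U)
    (hA3 : 3 ≤ Module.finrank F A) (m : ℕ) (hme : Even m) (hm2 : 2 ≤ m)
    (hmn : m + 1 ≤ Module.finrank F A + Module.finrank F B) (ε : Prop) :
    ∃ W : Submodule F V, Module.finrank F W = m ∧ ND Q W ∧ (Plus Q W ↔ ε) ∧ W.map T ≤ W := by
  obtain ⟨C₃, hC₃A, hC₃3, hC₃⟩ := nd_sub h2 hA 3 hA3
  have hfin := finrank_perpIn (Q := Q) hC₃ hC₃A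
  have hA' := nd_perpIn hA hC₃ hC₃A
  obtain ⟨t, ht⟩ : ∃ t : ℕ, t = min (m - 2) (Module.finrank F A - 3) := ⟨_, rfl⟩
  obtain ⟨W₁, hW₁A', hW₁t, hW₁⟩ := nd_sub h2 hA' t (by omega)
  obtain ⟨W₂, hW₂B, hW₂t, hW₂⟩ := nd_sub h2 hB (m - 2 - t) (by omega)
  have ho12 : Orth Q W₁ W₂ := orth_mono hAB (hW₁A'.trans perpIn_le) hW₂B
  have hW₀ : ND Q (W₁ ⊔ W₂) := nd_sup hW₁ hW₂ ho12
  have hW₀fin : Module.finrank F ↥(W₁ ⊔ W₂) = m - 2 := by
    rw [finrank_sup_orth hW₁ ho12, hW₁t, hW₂t]
    omega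
  obtain ⟨P, hPC, hP2, hP, hPε⟩ := planes h2 hC₃ (by omega) (Plus Q (W₁ ⊔ W₂) ↔ ε)
  have ho : Orth Q (W₁ ⊔ W₂) P := by
    apply orth_sup_left
    · exact orth_symm (orth_mono orth_perpIn hPC hW₁A')
    · exact orth_symm (orth_mono hAB (hPC.trans hC₃A) hW₂B)
  have hev : Even (Module.finrank F ↥(W₁ ⊔ W₂)) := by
    rw [hW₀fin]
    obtain ⟨k, hk⟩ := hme
    exact ⟨k - 1, by omega⟩
  refine ⟨(W₁ ⊔ W₂) ⊔ P, ?_, nd_sup hW₀ hP ho, ?_, ?_⟩
  · rw [finrank_sup_orth hW₀ ho, hW₀fin, hP2]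
    omega
  · rw [sum_type h2 hW₀ hP ho hev (by rw [hP2]; exact even_two), hPε]
    tauto
  · rw [Submodule.map_sup, Submodule.map_sup]
    exact sup_le_sup (sup_le_sup (hAinv W₁ (hW₁A'.trans perpIn_le)) (hBinv W₂ hW₂B))
      (hAinv P (hPC.trans hC₃A))

/-- an involutory isometry of a nondegenerate space of dimension at least 5 fixes nondegenerate
subspaces of every even dimension and type -/
theorem invol_fix (h2 : (2 : F) ≠ 0) {Q : QuadraticForm F V} (hV : ND Q ⊤) (T : V →ₗ[F] V)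
    (hT : ∀ v, Q (T v) = Q v) (hTT : ∀ v, T (T v) = v) (m : ℕ) (hme : Even m) (hm2 : 2 ≤ m)
    (hmn : m + 1 ≤ Module.finrank F V) (hn : 5 ≤ Module.finrank F V) (ε : Prop) :
    ∃ W : Submodule F V, Module.finrank F W = m ∧ ND Q W ∧ (Plus Q W ↔ ε) ∧ W.map T ≤ W := by
  obtain ⟨A, hAdef⟩ : ∃ A : Submodule F V, A = LinearMap.ker (T - 1) := ⟨_, rfl⟩
  obtain ⟨B, hBdef⟩ : ∃ B : Submodule F V, B = LinearMap.ker (T + 1) := ⟨_, rfl⟩
  have hAmem : ∀ v, v ∈ A ↔ T v = v := by
    intro v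
    rw [hAdef, LinearMap.mem_ker, LinearMap.sub_apply, Module.End.one_apply, sub_eq_zero]
  have hBmem : ∀ v, v ∈ B ↔ T v = -v := by
    intro v
    rw [hBdef, LinearMap.mem_ker, LinearMap.add_apply, Module.End.one_apply,
      add_eq_zero_iff_eq_neg]
  have hpol : ∀ u v, QuadraticMap.polar Q (T u) (T v) = QuadraticMap.polar Q u v := by
    intro u v
    show Q (T u + T v) - Q (T u) - Q (T v) = Q (u + v) - Q u - Q v
    rw [← map_add, hT, hT, hT]
  have hAB : Orth Q A B := by
    intro u hu v hv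
    have h := hpol u v
    rw [(hAmem u).1 hu, (hBmem v).1 hv, QuadraticMap.polar_neg_right] at h
    have h3 : (2 : F) * QuadraticMap.polar Q u v = 0 := by linear_combination -h
    rcases mul_eq_zero.1 h3 with h4 | h4
    · exact absurd h4 h2
    · exact h4
  have hsup : A ⊔ B = ⊤ := by
    rw [eq_top_iff]
    intro v _
    have e : v = (2 : F)⁻¹ • (v + T v) + (2 : F)⁻¹ • (v - T v) := by
      rw [← smul_add]
      have : v + T v + (v - T v) = (2 : F) • v := by rw [two_smul]; abel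
      rw [this, smul_smul, inv_mul_cancel₀ h2, one_smul]
    rw [e]
    apply Submodule.add_mem_sup
    · apply A.smul_mem
      rw [hAmem, map_add, hTT, add_comm]
    · apply B.smul_mem
      rw [hBmem, map_sub, hTT]
      abel
  have hA : ND Q A := by
    intro u hu hu'
    apply hV u Submodule.mem_top
    intro v _
    have hv : v ∈ A ⊔ B := by rw [hsup]; exact Submodule.mem_top
    obtain ⟨a, ha, b, hb, rfl⟩ := Submodule.mem_sup.1 hv
    rw [QuadraticMap.polar_add_right, hu' a ha, hAB u hu b hb, add_zero]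
  have hB : ND Q B := by
    intro u hu hu'
    apply hV u Submodule.mem_top
    intro v _
    have hv : v ∈ A ⊔ B := by rw [hsup]; exact Submodule.mem_top
    obtain ⟨a, ha, b, hb, rfl⟩ := Submodule.mem_sup.1 hv
    rw [QuadraticMap.polar_add_right, hu' b hb, (orth_symm hAB) u hu a ha, add_zero]
  have hfin : Module.finrank F A + Module.finrank F B = Module.finrank F V := by
    rw [← finrank_sup_orth hA hAB, hsup, finrank_top]
  have hAinv : ∀ U : Submodule F V, U ≤ A → U.map T ≤ U := by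
    rintro U hU _ ⟨u, hu, rfl⟩
    rw [(hAmem u).1 (hU hu)]
    exact hu
  have hBinv : ∀ U : Submodule F V, U ≤ B → U.map T ≤ U := by
    rintro U hU _ ⟨u, hu, rfl⟩
    rw [(hBmem u).1 (hU hu)]
    exact U.neg_mem hu
  by_cases h3 : 3 ≤ Module.finrank F A
  · exact two_aux h2 T hA hB hAB hAinv hBinv h3 m hme hm2 (by omega) ε
  · exact two_aux h2 T hB hA (orth_symm hAB) hBinv hAinv (by omega) m hme hm2 (by omega) ε

end invol

section bridge

variable {F : Type*} [Field F] {ι : Type} [Fintype ι] [DecidableEq ι]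

theorem nd_iff (Q : QuadraticForm F (ι → F)) (W : Submodule F (ι → F)) :
    Cfsg.Geo.IsNondegenerateOn (QuadraticMap.polar ⇑Q) W ↔ ND Q W := by
  constructor
  · intro h w hw hw'
    by_contra hw0
    obtain ⟨x, hx, hx'⟩ := (h w hw hw0).2
    exact hx' (hw' x hx)
  · intro h w hw hw0
    have hex : ∃ x ∈ W, QuadraticMap.polar Q w x ≠ 0 := by
      by_contra hcon
      push Not at hcon
      exact hw0 (h w hw hcon)
    obtain ⟨x, hx, hx'⟩ := hex
    exact ⟨⟨x, hx, by rw [QuadraticMap.polar_comm]; exact hx'⟩, ⟨x, hx, hx'⟩⟩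

theorem plus_iff (Q : QuadraticForm F (ι → F)) (W : Submodule F (ι → F)) :
    Cfsg.Geo.IsPlusTypeOn ⇑Q W ↔ Plus Q W := Iff.rfl

end bridge

end Cfsg.Agent.Lib.helper99.Ot
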