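import Mathlib
import Cfsg.Prelude.Def_GeometricClasses
import Cfsg.Agent.Lib.helper99.JordA
import Cfsg.Agent.Lib.helper99.JordB
import Cfsg.Agent.Lib.helper99.OjA
import Cfsg.Agent.Lib.helper99.OjB
import Cfsg.Agent.Lib.helper99.OjC
import Cfsg.Agent.Lib.helper99.OjD
import Cfsg.Agent.Lib.helper45.OConj
import Cfsg.Agent.Lib.helper45.OPrimeOrder
import Cfsg.Agent.Lib.helper49.WittIso

set_option autoImplicit false
set_option linter.unusedSectionVars false
set_option linter.unusedVariables false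

/-!
# A unipotent element of `Ω_{2d+1}(q)`, `q` odd, all of whose invariant nondegenerate subspaces of
even dimension are of plus type (helper99)
-/

namespace Cfsg.Agent.Lib.helper99.Ot

open Module Matrix Cfsg.Agent.Lib.helper99.Jord Cfsg.Agent.Lib.helper45 Cfsg.Agent.Lib.helper49
  Cfsg.Agent.Lib.helper18 Cfsg.Agent.Lib.helper99.Oj

section SubPartition

variable {F : Type*} [Field F] {ι : Type} [Fintype ι] [DecidableEq ι]

/-- `oj_sub_partition` with the explicit Jordan type of the restriction -/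
theorem ot_sub_partition (h2 : (2 : F) ≠ 0) (Q' : QuadraticForm F (ι → F)) (g : GL ι F)
    (hg : g ∈ Cfsg.isometryGroup F (⇑Q')) (P : ℕ)
    (hP : (Matrix.toLin' (g : Matrix ι ι F) - 1) ^ P = 0) (μ : Multiset ℕ)
    (hμ : ∀ j, 1 ≤ j → j ≤ P → cc (Matrix.toLin' (g : Matrix ι ι F) - 1) ⊤ (j - 1)
      = cc (Matrix.toLin' (g : Matrix ι ι F) - 1) ⊤ j + μ.count j)
    (W : Submodule F (ι → F)) (hWnd : Cfsg.Geo.IsNondegenerateOn (QuadraticMap.polar (⇑Q')) W)
    (hWg : W.map (Matrix.toLin' (g : Matrix ι ι F)) ≤ W) :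
    nu (cc (Matrix.toLin' (g : Matrix ι ι F) - 1) W) P ≤ μ ∧
      (nu (cc (Matrix.toLin' (g : Matrix ι ι F) - 1) W) P).sum = Module.finrank F ↥W ∧
      ∀ e : ℕ, Even e → Even ((nu (cc (Matrix.toLin' (g : Matrix ι ι F) - 1) W) P).count e) := by
  classical
  obtain ⟨G, hGdef⟩ : ∃ G : Module.End F (ι → F), G = Matrix.toLin' (g : Matrix ι ι F) - 1 :=
    ⟨_, rfl⟩
  rw [← hGdef] at hP hμ ⊢
  have hx : ∀ u : ι → F, u + G u = (g : Matrix ι ι F) *ᵥ u := by
    intro u
    rw [hGdef]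
    simp [Matrix.toLin'_apply]
  obtain ⟨B, hB⟩ : ∃ B : LinearMap.BilinForm F (ι → F),
      ∀ u v, B u v = QuadraticMap.polar (⇑Q') u v := ⟨QuadraticMap.polarBilin Q', fun u v => rfl⟩
  have hsym : ∀ u v, B u v = B v u := by
    intro u v
    rw [hB, hB, QuadraticMap.polar_comm]
  have hgQ : ∀ u, Q' ((g : Matrix ι ι F) *ᵥ u) = Q' u := (mem_isometryGroup_iff' _ _).1 hg
  have hiso : ∀ u v, B (u + G u) (v + G v) = B u v := by
    intro u v
    rw [hB, hB, hx, hx]
    unfold QuadraticMap.polar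
    rw [← Matrix.mulVec_add, hgQ, hgQ, hgQ]
  have hWx : ∀ u ∈ W, (g : Matrix ι ι F) *ᵥ u ∈ W := by
    intro u hu
    exact hWg ⟨u, hu, by rw [Matrix.toLin'_apply]⟩
  have hWG : ∀ u ∈ W, G u ∈ W := by
    intro u hu
    have h3 : G u = (g : Matrix ι ι F) *ᵥ u - u := by rw [← hx]; abel
    rw [h3]
    exact W.sub_mem (hWx u hu) hu
  have hndW : ∀ w ∈ W, (∀ u ∈ W, B u w = 0) → w = 0 := by
    intro w hw h
    by_contra hw0
    obtain ⟨⟨x, hx1, hx2⟩, _⟩ := hWnd w hw hw0
    exact hx2 (by rw [← hB]; exact h x hx1)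
  obtain ⟨W', hW'def⟩ : ∃ W' : Submodule F (ι → F), W' = B.orthogonal W := ⟨_, rfl⟩
  have hW'mem : ∀ v, v ∈ W' ↔ ∀ w ∈ W, B w v = 0 := by
    intro v
    rw [hW'def, LinearMap.BilinForm.mem_orthogonal_iff]
  have hcompl : IsCompl W W' := by
    rw [hW'def]
    apply LinearMap.BilinForm.isCompl_orthogonal_of_restrict_nondegenerate
    · intro x y h
      rw [hsym]
      exact h
    · refine ⟨fun x hx' => ?_, fun y hy => ?_⟩
      · exact Subtype.ext (hndW x x.2 (fun u hu => by rw [hsym]; exact hx' ⟨u, hu⟩))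
      · exact Subtype.ext (hndW y y.2 (fun u hu => hy ⟨u, hu⟩))
  -- `1 + G` maps `W` onto `W`
  have hsurj : ∀ w ∈ W, ∃ w' ∈ W, w' + G w' = w := by
    obtain ⟨f', hf'⟩ : ∃ f' : ↥W →ₗ[F] ↥W, ∀ w : ↥W, (f' w : ι → F) = (g : Matrix ι ι F) *ᵥ (w : ι → F) :=
      ⟨(Matrix.toLin' (g : Matrix ι ι F)).restrict (fun u hu => by
        rw [Matrix.toLin'_apply]; exact hWx u hu), fun w => by
          rw [LinearMap.coe_restrict_apply, Matrix.toLin'_apply]⟩
    have hinj : Function.Injective f' := by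
      intro a b hab
      have h1 := congrArg (fun w : ↥W => ((g⁻¹ : GL ι F) : Matrix ι ι F) *ᵥ (w : ι → F)) hab
      simp only [hf', Matrix.mulVec_mulVec] at h1
      rw [← Units.val_mul, inv_mul_cancel] at h1
      simp only [Units.val_one, Matrix.one_mulVec] at h1
      exact Subtype.ext h1
    have hsur : Function.Surjective f' := LinearMap.injective_iff_surjective.1 hinj
    intro w hw
    obtain ⟨w', hw'⟩ := hsur ⟨w, hw⟩
    refine ⟨w', w'.2, ?_⟩
    rw [hx, ← hf', hw']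
  have hW'G : ∀ v ∈ W', G v ∈ W' := by
    intro v hv
    rw [hW'mem]
    intro w hw
    obtain ⟨w', hw', rfl⟩ := hsurj w hw
    have h1 := oj_adj B G hiso w' v
    have h3 := (hW'mem v).1 hv (G w') (hWG w' hw')
    rw [h3] at h1
    exact neg_eq_zero.1 h1.symm
  refine ⟨?_, ?_, ?_⟩
  · rw [Multiset.le_iff_count]
    intro j
    rw [nu_count]
    split_ifs with h
    · have h1 := hμ j h.1 h.2
      have h2' := cc_add G W W' hWG hW'G hcompl.sup_eq_top hcompl.disjoint (j - 1)
      have h3 := cc_add G W W' hWG hW'G hcompl.sup_eq_top hcompl.disjoint j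
      have h4 := cc_antitone G W' hW'G (j - 1)
      have h5 : j - 1 + 1 = j := by omega
      rw [h5] at h4
      omega
    · exact Nat.zero_le _
  · have h := nu_sum (cc G W) (cc_antitone G W hWG) P
    rw [cc_of_pow_eq_zero G W P hP, mul_zero, add_zero, sum_cc G W P hP] at h
    exact h
  · intro e he
    rw [nu_count]
    split_ifs with h
    · obtain ⟨k, hk⟩ := he
      obtain ⟨t, ht⟩ := oj_even_sub h2 B hsym G hiso W hWG hndW (e - 1) ⟨k - 1, by omega⟩
      have h5 : e - 1 + 1 = e := by omega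
      rw [h5] at ht
      exact ⟨t, by omega⟩
    · exact ⟨0, rfl⟩

/-- Jordan type `(2^a, c₀)`, `c₀` odd: invariant nondegenerate subspaces of even dimension are of
plus type -/
theorem ot_unip_plus (h2 : (2 : F) ≠ 0) (Q' : QuadraticForm F (ι → F)) (g : GL ι F)
    (hg : g ∈ Cfsg.isometryGroup F (⇑Q')) (P : ℕ) (hP3 : 3 ≤ P)
    (hP : (Matrix.toLin' (g : Matrix ι ι F) - 1) ^ P = 0) (a c₀ : ℕ) (hc₀ : Odd c₀)
    (hμ : ∀ j, 1 ≤ j → j ≤ P → cc (Matrix.toLin' (g : Matrix ι ι F) - 1) ⊤ (j - 1)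
      = cc (Matrix.toLin' (g : Matrix ι ι F) - 1) ⊤ j + (Multiset.replicate a 2 + {c₀}).count j)
    (W : Submodule F (ι → F)) (hWnd : Cfsg.Geo.IsNondegenerateOn (QuadraticMap.polar (⇑Q')) W)
    (hWg : W.map (Matrix.toLin' (g : Matrix ι ι F)) ≤ W) (hWe : Even (Module.finrank F W)) :
    Cfsg.Geo.IsPlusTypeOn (⇑Q') W := by
  classical
  obtain ⟨hν1, hν2, hν3⟩ := ot_sub_partition h2 Q' g hg P hP _ hμ W hWnd hWg
  obtain ⟨G, hGdef⟩ : ∃ G : Module.End F (ι → F), G = Matrix.toLin' (g : Matrix ι ι F) - 1 :=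
    ⟨_, rfl⟩
  rw [← hGdef] at hP hμ hν1 hν2 hν3
  obtain ⟨ν, hνdef⟩ : ∃ ν : Multiset ℕ, ν = nu (cc G W) P := ⟨_, rfl⟩
  rw [← hνdef] at hν1 hν2 hν3
  have hx : ∀ u : ι → F, u + G u = (g : Matrix ι ι F) *ᵥ u := by
    intro u
    rw [hGdef]
    simp [Matrix.toLin'_apply]
  have hgQ : ∀ u, Q' ((g : Matrix ι ι F) *ᵥ u) = Q' u := (mem_isometryGroup_iff' _ _).1 hg
  have hWx : ∀ u ∈ W, (g : Matrix ι ι F) *ᵥ u ∈ W := by
    intro u hu
    exact hWg ⟨u, hu, by rw [Matrix.toLin'_apply]⟩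
  have hWG : ∀ u ∈ W, G u ∈ W := by
    intro u hu
    have h3 : G u = (g : Matrix ι ι F) *ᵥ u - u := by rw [← hx]; abel
    rw [h3]
    exact W.sub_mem (hWx u hu) hu
  have hc2 : c₀ ≠ 2 := by
    rintro rfl
    exact absurd hc₀ (by decide)
  have h1 : ∀ e, ν.count e ≤ (Multiset.replicate a 2 + {c₀}).count e := Multiset.le_iff_count.1 hν1
  have hcnt : ∀ e, ν.count e ≤ (if 2 = e then a else 0) + (if e = c₀ then 1 else 0) := by
    intro e
    have := h1 e
    rw [Multiset.count_add, Multiset.count_replicate, Multiset.count_singleton] at this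
    exact this
  have hνeq : ν = Multiset.replicate (ν.count 2) 2 + Multiset.replicate (ν.count c₀) c₀ := by
    ext e
    rw [Multiset.count_add, Multiset.count_replicate, Multiset.count_replicate]
    have := hcnt e
    by_cases he2 : 2 = e
    · rw [if_pos he2, if_neg (fun h : c₀ = e => hc2 (h.trans he2.symm)), add_zero, ← he2]
    · by_cases hec : c₀ = e
      · rw [if_neg he2, if_pos hec, zero_add, ← hec]
      · rw [if_neg he2, if_neg (fun h : e = c₀ => hec h.symm)] at this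
        rw [if_neg he2, if_neg hec]
        omega
  have hsum : ν.sum = 2 * ν.count 2 + ν.count c₀ * c₀ := by
    conv_lhs => rw [hνeq]
    rw [Multiset.sum_add, Multiset.sum_replicate, Multiset.sum_replicate, smul_eq_mul, smul_eq_mul]
    ring
  have hc0 : ν.count c₀ = 0 := by
    have h5 := hcnt c₀
    rw [if_neg (fun h : 2 = c₀ => hc2 h.symm), if_pos rfl] at h5
    obtain ⟨k, hk⟩ := hc₀
    obtain ⟨t, ht⟩ := hWe
    rw [← hν2, hsum] at ht
    have h6 : ν.count c₀ = 0 ∨ ν.count c₀ = 1 := by omega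
    rcases h6 with h6 | h6
    · exact h6
    · rw [h6] at ht
      omega
  have hcount0 : ∀ e, e ≠ 2 → ν.count e = 0 := by
    intro e he
    have := hcnt e
    rw [if_neg (fun h : 2 = e => he h.symm)] at this
    by_cases hec : e = c₀
    · rw [hec]
      exact hc0
    · rw [if_neg hec] at this
      omega
  have hanti : ∀ k, cc G W (k + 1) ≤ cc G W k := cc_antitone G W hWG
  have hstep : ∀ j, 1 ≤ j → j ≤ P → j ≠ 2 → cc G W (j - 1) = cc G W j := by
    intro j hj1 hjP hj2
    have h5 := hcount0 j hj2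
    rw [hνdef, nu_count, if_pos ⟨hj1, hjP⟩] at h5
    have h6 := hanti (j - 1)
    have h7 : j - 1 + 1 = j := by omega
    rw [h7] at h6
    omega
  have hc01 : cc G W 0 = cc G W 1 := hstep 1 le_rfl (by omega) (by omega)
  have hc2' : cc G W 2 = 0 := by
    have h5 : ∀ j, 2 ≤ j → j ≤ P → cc G W j = cc G W 2 := by
      intro j hj
      induction j, hj using Nat.le_induction with
      | base => intro _; rfl
      | succ j hj ih =>
        intro hjP
        have h6 := hstep (j + 1) (by omega) hjP (by omega)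
        rw [Nat.add_sub_cancel] at h6
        rw [← h6]
        exact ih (by omega)
    rw [← h5 P (by omega) le_rfl]
    exact cc_of_pow_eq_zero G W P hP
  have hbot : W.map (G ^ 2) ⊓ LinearMap.ker G = ⊥ := by
    apply Submodule.finrank_eq_zero.1
    exact hc2'
  have hWGk : ∀ k : ℕ, ∀ u ∈ W, (G ^ k) u ∈ W := by
    intro k
    induction k with
    | zero => intro u hu; simpa using hu
    | succ k ih =>
      intro u hu
      rw [pow_succ', Module.End.mul_apply]
      exact hWG _ (ih u hu)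
  have hGk : ∀ t : ℕ, ∀ u ∈ W, (G ^ (P - t)) u = 0 ∨ P - t < 2 := by
    intro t
    induction t with
    | zero =>
      intro u hu
      left
      rw [Nat.sub_zero, hP]
      rfl
    | succ t ih =>
      intro u hu
      by_cases hlt : P - (t + 1) < 2
      · exact Or.inr hlt
      · left
        have h7 : P - t = (P - (t + 1)) + 1 := by omega
        have h8 : (G ^ (P - t)) u = 0 := by
          rcases ih u hu with h | h
          · exact h
          · omega
        have h9 : (G ^ (P - (t + 1))) u ∈ W.map (G ^ 2) ⊓ LinearMap.ker G := by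
          refine Submodule.mem_inf.2 ⟨?_, ?_⟩
          · refine ⟨(G ^ (P - (t + 1) - 2)) u, hWGk _ u hu, ?_⟩
            rw [← Module.End.mul_apply, ← pow_add]
            congr 2
            omega
          · rw [LinearMap.mem_ker, ← Module.End.mul_apply, ← pow_succ', ← h7]
            exact h8
        rw [hbot, Submodule.mem_bot] at h9
        exact h9
  have hG2 : ∀ u ∈ W, G (G u) = 0 := by
    intro u hu
    rcases hGk (P - 2) u hu with h | h
    · have h7 : P - (P - 2) = 2 := by omega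
      rw [h7, pow_two, Module.End.mul_apply] at h
      exact h
    · omega
  obtain ⟨B, hB⟩ : ∃ B : LinearMap.BilinForm F (ι → F),
      ∀ u v, B u v = QuadraticMap.polar (⇑Q') u v := ⟨QuadraticMap.polarBilin Q', fun u v => rfl⟩
  have hiso : ∀ u v, B (u + G u) (v + G v) = B u v := by
    intro u v
    rw [hB, hB, hx, hx]
    unfold QuadraticMap.polar
    rw [← Matrix.mulVec_add, hgQ, hgQ, hgQ]
  refine ⟨W.map G, ?_, ?_, ?_⟩
  · rintro _ ⟨u, hu, rfl⟩
    exact hWG u hu
  · rintro _ ⟨u, hu, rfl⟩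
    have h5 := oj_adj B G hiso u (G u)
    rw [hG2 u hu, map_zero, hB] at h5
    have h6 : QuadraticMap.polar (⇑Q') (G u) (G u) = 2 • Q' (G u) := QuadraticMap.polar_self Q' (G u)
    rw [h5, neg_zero, two_smul, ← two_mul] at h6
    rcases mul_eq_zero.1 h6.symm with h7 | h7
    · exact absurd h7 h2
    · exact h7
  · have h5 := finrank_map_add G W
    have h6 : cc G W 0 = finrank F ↥(W ⊓ LinearMap.ker G) := by
      unfold cc
      rw [pow_zero, Module.End.one_eq_id, Submodule.map_id]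
    have h7 : cc G W 1 = finrank F ↥(W.map G) := by
      unfold cc
      rw [pow_one]
      have h8 : W.map G ⊓ LinearMap.ker G = W.map G := by
        apply inf_eq_left.2
        rintro _ ⟨u, hu, rfl⟩
        exact LinearMap.mem_ker.2 (hG2 u hu)
      rw [h8]
    omega

end SubPartition

section Unip

variable {F : Type*} [Field F] [Fintype F]

/-- PIECE C of the S5992/S5993 split: a unipotent element of order `p` of `Ω_{2d+1}(q)` all of whose
invariant nondegenerate subspaces of even dimension are of plus type. -/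
theorem ot_unip {p : ℕ} [Fact p.Prime] [CharP F p] (hp2 : p ≠ 2) (d : ℕ) (hd : 3 ≤ d) :
    ∃ x : GL (Unit ⊕ (Fin d ⊕ Fin d)) F, x ∈ Cfsg.Geo.omegaGL (Cfsg.quadFormOdd d F) ∧
      orderOf x = p ∧
      ∀ W : Submodule F (Unit ⊕ (Fin d ⊕ Fin d) → F),
        Cfsg.Geo.IsNondegenerateOn (QuadraticMap.polar (Cfsg.quadFormOdd d F)) W →
        Even (Module.finrank F W) →
        W.map (Matrix.toLin' (x : Matrix (Unit ⊕ (Fin d ⊕ Fin d)) (Unit ⊕ (Fin d ⊕ Fin d)) F)) ≤ W →
        Cfsg.Geo.IsPlusTypeOn (Cfsg.quadFormOdd d F) W := by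
  classical
  have hpp : p.Prime := Fact.out
  have h2 : (2 : F) ≠ 0 := by
    intro h
    have h3 : ((2 : ℕ) : F) = 0 := by exact_mod_cast h
    rw [CharP.cast_eq_zero_iff F p] at h3
    exact hp2 ((Nat.prime_dvd_prime_iff_eq hpp Nat.prime_two).1 h3)
  have hp3 : 3 ≤ p := by
    have := hpp.two_le
    omega
  obtain ⟨a, c₀, hae, hc₀, hc₀3, hsum, ha2⟩ : ∃ a c₀ : ℕ, Even a ∧ Odd c₀ ∧ c₀ ≤ 3 ∧
      2 * a + c₀ = 2 * d + 1 ∧ 2 ≤ a := by
    rcases Nat.even_or_odd d with hd' | hd'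
    · exact ⟨d, 1, hd', odd_one, by omega, by omega, by omega⟩
    · refine ⟨d - 1, 3, ?_, by decide, le_rfl, by omega, by omega⟩
      obtain ⟨k, hk⟩ := hd'
      exact ⟨k, by omega⟩
  have hc2 : c₀ ≠ 2 := by
    rintro rfl
    exact absurd hc₀ (by decide)
  obtain ⟨μ, hμdef⟩ : ∃ μ : Multiset ℕ, μ = Multiset.replicate a 2 + {c₀} := ⟨_, rfl⟩
  have hμ1 : ∀ e ∈ μ, 0 < e ∧ e ≤ p := by
    intro e he
    rw [hμdef, Multiset.mem_add, Multiset.mem_singleton] at he
    rcases he with he | he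
    · have := Multiset.eq_of_mem_replicate he
      omega
    · obtain ⟨k, hk⟩ := hc₀
      omega
  have hμ2 : ∀ e : ℕ, Even e → Even (μ.count e) := by
    intro e he
    rw [hμdef, Multiset.count_add, Multiset.count_replicate, Multiset.count_singleton]
    have he1 : e ≠ c₀ := by
      rintro rfl
      exact (Nat.not_even_iff_odd.2 hc₀) he
    rw [if_neg he1, add_zero]
    split_ifs
    · exact hae
    · exact ⟨0, rfl⟩
  have hμ3 : μ.sum = 2 * d + 1 := by
    rw [hμdef, Multiset.sum_add, Multiset.sum_replicate, Multiset.sum_singleton, smul_eq_mul]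
    omega
  have hb₀ : 2 ∈ μ := by
    rw [hμdef, Multiset.mem_add]
    left
    exact Multiset.mem_replicate.2 ⟨by omega, rfl⟩
  obtain ⟨B, G, hsym, hnd, hiso, hGP, hcc, hne⟩ :=
    oj_model μ F h2 hμ2 p (fun b hb => (hμ1 b hb).2)
  have hG0 : G ≠ 0 := hne (sh_ne_zero μ F 2 hb₀ le_rfl)
  have hfin : Module.finrank F (Idx μ → F) = 2 * d + 1 := by
    rw [Module.finrank_fintype_fun_eq_card, card_Idx, hμ3]
  obtain ⟨Q, hQ⟩ : ∃ Q : QuadraticForm F (Idx μ → F), ∀ v, Q v = B v v :=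
    ⟨LinearMap.BilinMap.toQuadraticMap B, fun v => rfl⟩
  have hpol : ∀ u v, QuadraticMap.polar Q u v = 2 * B u v := by
    intro u v
    unfold QuadraticMap.polar
    rw [hQ, hQ, hQ]
    simp only [map_add, LinearMap.add_apply]
    rw [hsym v u]
    ring
  have hndQ : ∀ v, (∀ w, QuadraticMap.polar Q v w = 0) → v = 0 := by
    intro v hv
    apply hnd
    intro u
    have := hv u
    rw [hpol] at this
    rcases mul_eq_zero.1 this with h | h
    · exact absurd h h2
    · rw [hsym]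
      exact h
  obtain ⟨T, c, hT⟩ := oj_simil h2 d Q hndQ hfin
  have hQnd' := nondegenerate_of_gram (oddForm d F) (gramOdd d F) (gramOddInv d F)
    (gramOdd_mul_inv d h2) (polar_oddForm d)
  obtain ⟨g, hgΩ, hgord, hgP, hgcc⟩ := oj_realise h2 (oddForm d F) hQnd' B G hiso hGP hG0 T c
    (fun v => by rw [← hQ]; exact hT v)
  have hgiso : g ∈ Cfsg.isometryGroup F (⇑(oddForm d F)) := by
    obtain ⟨gi, -, hgi⟩ := Subgroup.mem_map.1 hgΩ
    rw [← hgi]
    exact gi.2
  refine ⟨g, hgΩ, hgord, ?_⟩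
  intro W hWnd hWe hWg
  exact ot_unip_plus h2 (oddForm d F) g hgiso p hp3 hgP a c₀ hc₀
    (fun j hj1 hj2 => by
      rw [hgcc, hgcc, hcc, hcc, ← hμdef]
      exact cc_sh_count μ F j hj1) W hWnd hWg hWe

end Unip

end Cfsg.Agent.Lib.helper99.Ot
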