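import Mathlib
import Cfsg.Agent.Lib.helper99.OtA
import Cfsg.Agent.Lib.helper99.OtB
import Cfsg.Agent.Lib.helper24.SpB

/-! Isometries of order `r` prime to the characteristic: fixed and moved spaces, invariant
nondegenerate subspaces, and the type of fixed-point-free pieces. -/

set_option autoImplicit false
set_option linter.unusedSectionVars false
set_option linter.unusedVariables false
set_option linter.style.haveILetI false

namespace Cfsg.Agent.Lib.helper99.Ot

open Cfsg.Agent.Lib.helper45 Cfsg.Agent.Lib.helper49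

section geo

variable {F : Type*} [Field F] {V : Type*} [AddCommGroup V] [Module F V]

/-- averaging operator -/
noncomputable def avg (T : Module.End F V) (r : ℕ) : Module.End F V :=
  (r : F)⁻¹ • ∑ k ∈ Finset.range r, T ^ k

/-- fixed space -/
def fixS (T : Module.End F V) : Submodule F V := LinearMap.ker (T - 1)

/-- moved space -/
noncomputable def movS (T : Module.End F V) (r : ℕ) : Submodule F V := LinearMap.ker (avg T r)

theorem mem_fixS {T : Module.End F V} {v : V} : v ∈ fixS T ↔ T v = v := by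
  unfold fixS
  rw [LinearMap.mem_ker, LinearMap.sub_apply, Module.End.one_apply, sub_eq_zero]

theorem mem_movS {T : Module.End F V} {r : ℕ} {v : V} : v ∈ movS T r ↔ avg T r v = 0 := by
  unfold movS
  rw [LinearMap.mem_ker]

theorem pow_fix {T : Module.End F V} {v : V} (h : T v = v) (k : ℕ) : (T ^ k) v = v := by
  induction k with
  | zero => rfl
  | succ k ih => rw [pow_succ, Module.End.mul_apply, h, ih]

theorem avg_apply (T : Module.End F V) (r : ℕ) (v : V) :
    avg T r v = (r : F)⁻¹ • ∑ k ∈ Finset.range r, (T ^ k) v := by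
  unfold avg
  rw [LinearMap.smul_apply, LinearMap.sum_apply]

theorem avg_fix {T : Module.End F V} {r : ℕ} (hr : (r : F) ≠ 0) {v : V} (h : T v = v) :
    avg T r v = v := by
  rw [avg_apply, Finset.sum_congr rfl (fun k _ => pow_fix h k), Finset.sum_const,
    Finset.card_range, ← Nat.cast_smul_eq_nsmul F, smul_smul, inv_mul_cancel₀ hr, one_smul]

theorem T_avg {T : Module.End F V} {r : ℕ} (hTr : T ^ r = 1) (v : V) :
    T (avg T r v) = avg T r v := by
  have h := mul_geom_sum T r
  rw [hTr, sub_self] at h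
  have h2 : (T - 1) ((∑ k ∈ Finset.range r, T ^ k) v) = 0 := by
    rw [← Module.End.mul_apply, h]
    rfl
  rw [LinearMap.sub_apply, Module.End.one_apply, sub_eq_zero] at h2
  unfold avg
  rw [LinearMap.smul_apply, map_smul, h2]

theorem avg_T {T : Module.End F V} {r : ℕ} (hTr : T ^ r = 1) (v : V) :
    avg T r (T v) = avg T r v := by
  have h := geom_sum_mul T r
  rw [hTr, sub_self] at h
  have h2 : (∑ k ∈ Finset.range r, T ^ k) ((T - 1) v) = 0 := by
    rw [← Module.End.mul_apply, h]
    rfl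
  rw [LinearMap.sub_apply, Module.End.one_apply, map_sub, sub_eq_zero] at h2
  unfold avg
  rw [LinearMap.smul_apply, LinearMap.smul_apply, h2]

theorem avg_mem_fix {T : Module.End F V} {r : ℕ} (hTr : T ^ r = 1) (v : V) :
    avg T r v ∈ fixS T := mem_fixS.2 (T_avg hTr v)

theorem sub_avg_mem_mov {T : Module.End F V} {r : ℕ} (hr : (r : F) ≠ 0) (hTr : T ^ r = 1)
    (v : V) : v - avg T r v ∈ movS T r := by
  rw [mem_movS, map_sub, avg_fix hr (T_avg hTr v), sub_self]

theorem fix_sup_mov {T : Module.End F V} {r : ℕ} (hr : (r : F) ≠ 0) (hTr : T ^ r = 1) :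
    fixS T ⊔ movS T r = ⊤ := by
  rw [eq_top_iff]
  intro v _
  have e : v = avg T r v + (v - avg T r v) := by abel
  rw [e]
  exact Submodule.add_mem_sup (avg_mem_fix hTr v) (sub_avg_mem_mov hr hTr v)

theorem fix_inf_mov {T : Module.End F V} {r : ℕ} (hr : (r : F) ≠ 0) :
    fixS T ⊓ movS T r = ⊥ := by
  rw [eq_bot_iff]
  intro v hv
  obtain ⟨h1, h2⟩ := Submodule.mem_inf.1 hv
  have h3 := avg_fix hr (mem_fixS.1 h1)
  rw [mem_movS] at h2
  rw [Submodule.mem_bot, ← h3, h2]

theorem mov_inv {T : Module.End F V} {r : ℕ} (hTr : T ^ r = 1) {v : V} (hv : v ∈ movS T r) :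
    T v ∈ movS T r := by
  rw [mem_movS] at hv ⊢
  rw [avg_T hTr, hv]

theorem mov_map_le {T : Module.End F V} {r : ℕ} (hTr : T ^ r = 1) :
    (movS T r).map T ≤ movS T r := by
  rintro _ ⟨v, hv, rfl⟩
  exact mov_inv hTr hv

theorem mov_free {T : Module.End F V} {r : ℕ} (hr : (r : F) ≠ 0) {v : V} (hv : v ∈ movS T r)
    (h : T v = v) : v = 0 := by
  have : v ∈ fixS T ⊓ movS T r := Submodule.mem_inf.2 ⟨mem_fixS.2 h, hv⟩
  rw [fix_inf_mov hr] at this
  exact (Submodule.mem_bot F).1 this

theorem pow_mem_of_inv {T : Module.End F V} {W : Submodule F V} (hW : W.map T ≤ W) (k : ℕ)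
    {w : V} (hw : w ∈ W) : (T ^ k) w ∈ W := by
  induction k with
  | zero => exact hw
  | succ k ih =>
    rw [pow_succ', Module.End.mul_apply]
    exact hW (Submodule.mem_map_of_mem ih)

theorem avg_mem {T : Module.End F V} {r : ℕ} {W : Submodule F V} (hW : W.map T ≤ W) {w : V}
    (hw : w ∈ W) : avg T r w ∈ W := by
  rw [avg_apply]
  exact W.smul_mem _ (Submodule.sum_mem _ (fun k _ => pow_mem_of_inv hW k hw))

theorem inv_split {T : Module.End F V} {r : ℕ} (hr : (r : F) ≠ 0) (hTr : T ^ r = 1)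
    {W : Submodule F V} (hW : W.map T ≤ W) : (W ⊓ fixS T) ⊔ (W ⊓ movS T r) = W := by
  apply le_antisymm (sup_le inf_le_left inf_le_left)
  intro w hw
  have e : w = avg T r w + (w - avg T r w) := by abel
  rw [e]
  apply Submodule.add_mem_sup
  · exact Submodule.mem_inf.2 ⟨avg_mem hW hw, avg_mem_fix hTr w⟩
  · exact Submodule.mem_inf.2 ⟨W.sub_mem hw (avg_mem hW hw), sub_avg_mem_mov hr hTr w⟩

theorem polar_iso {Q : QuadraticForm F V} {T : Module.End F V} (hT : ∀ v, Q (T v) = Q v)
    (u v : V) : QuadraticMap.polar Q (T u) (T v) = QuadraticMap.polar Q u v := by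
  show Q (T u + T v) - Q (T u) - Q (T v) = Q (u + v) - Q u - Q v
  rw [← map_add, hT, hT, hT]

theorem polar_pow {Q : QuadraticForm F V} {T : Module.End F V} (hT : ∀ v, Q (T v) = Q v)
    (k : ℕ) (u v : V) :
    QuadraticMap.polar Q ((T ^ k) u) ((T ^ k) v) = QuadraticMap.polar Q u v := by
  induction k with
  | zero => rfl
  | succ k ih => rw [pow_succ', Module.End.mul_apply, Module.End.mul_apply, polar_iso hT, ih]

theorem polar_avg {Q : QuadraticForm F V} {T : Module.End F V} {r : ℕ}
    (hT : ∀ v, Q (T v) = Q v) (hr : (r : F) ≠ 0) {c : V} (hc : T c = c) (v : V) :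
    QuadraticMap.polar Q c (avg T r v) = QuadraticMap.polar Q c v := by
  rw [avg_apply, QuadraticMap.polar_smul_right]
  have h : QuadraticMap.polar Q c (∑ k ∈ Finset.range r, (T ^ k) v)
      = ∑ k ∈ Finset.range r, QuadraticMap.polar Q c ((T ^ k) v) :=
    map_sum (QuadraticMap.polarBilin Q c) (fun k => (T ^ k) v) (Finset.range r)
  have h' : ∀ k ∈ Finset.range r, QuadraticMap.polar Q c ((T ^ k) v) = QuadraticMap.polar Q c v := by
    intro k _
    have := polar_pow hT k c v
    rw [pow_fix hc k] at this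
    exact this
  rw [h, Finset.sum_congr rfl h', Finset.sum_const, Finset.card_range, nsmul_eq_mul, smul_eq_mul,
    ← mul_assoc, inv_mul_cancel₀ hr, one_mul]

theorem orth_fix_mov {Q : QuadraticForm F V} {T : Module.End F V} {r : ℕ}
    (hT : ∀ v, Q (T v) = Q v) (hr : (r : F) ≠ 0) : Orth Q (fixS T) (movS T r) := by
  intro c hc d hd
  rw [← polar_avg hT hr (mem_fixS.1 hc) d, mem_movS.1 hd, QuadraticMap.polar_zero_right]

theorem nd_inf_parts {Q : QuadraticForm F V} {T : Module.End F V} {r : ℕ}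
    (hT : ∀ v, Q (T v) = Q v) (hr : (r : F) ≠ 0) (hTr : T ^ r = 1) {W : Submodule F V}
    (hW : ND Q W) (hWinv : W.map T ≤ W) : ND Q (W ⊓ fixS T) ∧ ND Q (W ⊓ movS T r) := by
  have ho : Orth Q (W ⊓ fixS T) (W ⊓ movS T r) :=
    orth_mono (orth_fix_mov hT hr) inf_le_right inf_le_right
  constructor
  · intro u hu hu'
    apply hW u (Submodule.mem_inf.1 hu).1
    intro w hw
    have hw2 : w ∈ (W ⊓ fixS T) ⊔ (W ⊓ movS T r) := by rw [inv_split hr hTr hWinv]; exact hw
    obtain ⟨a, ha, b, hb, rfl⟩ := Submodule.mem_sup.1 hw2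
    rw [QuadraticMap.polar_add_right, hu' a ha, ho u hu b hb, add_zero]
  · intro u hu hu'
    apply hW u (Submodule.mem_inf.1 hu).1
    intro w hw
    have hw2 : w ∈ (W ⊓ fixS T) ⊔ (W ⊓ movS T r) := by rw [inv_split hr hTr hWinv]; exact hw
    obtain ⟨a, ha, b, hb, rfl⟩ := Submodule.mem_sup.1 hw2
    rw [QuadraticMap.polar_add_right, hu' b hb, (orth_symm ho) u hu a ha, add_zero]

theorem finrank_split [FiniteDimensional F V] {Q : QuadraticForm F V} {T : Module.End F V}
    {r : ℕ} (hT : ∀ v, Q (T v) = Q v) (hr : (r : F) ≠ 0) (hTr : T ^ r = 1) {W : Submodule F V}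
    (hW : ND Q W) (hWinv : W.map T ≤ W) :
    Module.finrank F ↥(W ⊓ fixS T) + Module.finrank F ↥(W ⊓ movS T r) = Module.finrank F W := by
  have ho : Orth Q (W ⊓ fixS T) (W ⊓ movS T r) :=
    orth_mono (orth_fix_mov hT hr) inf_le_right inf_le_right
  rw [← finrank_sup_orth (nd_inf_parts hT hr hTr hW hWinv).1 ho, inv_split hr hTr hWinv]

theorem inf_mov_inv {T : Module.End F V} {r : ℕ} (hTr : T ^ r = 1) {W : Submodule F V}
    (hWinv : W.map T ≤ W) : (W ⊓ movS T r).map T ≤ W ⊓ movS T r := by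
  rintro _ ⟨v, hv, rfl⟩
  obtain ⟨h1, h2⟩ := Submodule.mem_inf.1 hv
  exact Submodule.mem_inf.2 ⟨hWinv (Submodule.mem_map_of_mem h1), mov_inv hTr h2⟩

end geo

section free

variable {F : Type*} [Field F] [Fintype F] {V : Type*} [AddCommGroup V] [Module F V]
  [FiniteDimensional F V]

/-- an isometry of prime order `r` without fixed vectors on `E` permutes the vectors of `E` of a
given nonzero norm in orbits of length `r` -/
theorem free_dvd {Q : QuadraticForm F V} {T : Module.End F V} (hT : ∀ v, Q (T v) = Q v) (r : ℕ)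
    [Fact r.Prime] (hTr : T ^ r = 1) {E : Submodule F V} (hEinv : E.map T ≤ E)
    (hfree : ∀ v ∈ E, T v = v → v = 0) (c : F) (hc : c ≠ 0) : r ∣ nuW Q E c := by
  classical
  haveI : Finite V := Module.finite_of_finite F
  unfold nuW
  haveI : Fintype {w : E // Q (w : V) = c} := Fintype.ofFinite _
  obtain ⟨φ, hφ⟩ : ∃ φ : Function.End {w : E // Q (w : V) = c},
      ∀ w, (((φ w).1 : E) : V) = T (w.1 : V) :=
    ⟨fun w => ⟨⟨T (w.1 : V), hEinv (Submodule.mem_map_of_mem w.1.2)⟩, by
      show Q (T (w.1 : V)) = c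
      rw [hT]
      exact w.2⟩, fun w => rfl⟩
  have hpow : ∀ (k : ℕ) (w : {w : E // Q (w : V) = c}),
      ((((φ ^ k : Function.End {w : E // Q (w : V) = c}) w).1 : E) : V) = (T ^ k) (w.1 : V) := by
    intro k
    induction k with
    | zero => intro w; rfl
    | succ k ih =>
      intro w
      rw [pow_succ', pow_succ']
      show (((φ ((φ ^ k : Function.End {w : E // Q (w : V) = c}) w)).1 : E) : V)
        = T ((T ^ k) (w.1 : V))
      rw [hφ, ih]
  have hφr : φ ^ r ^ 1 = 1 := by
    rw [pow_one]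
    funext w
    apply Subtype.ext
    apply Subtype.ext
    rw [hpow, hTr]
    rfl
  have hmod := Equiv.Perm.card_fixedPoints_modEq (p := r) (n := 1) hφr
  have hfix : IsEmpty (Function.fixedPoints φ) := by
    constructor
    rintro ⟨w, hw⟩
    have hTw : T (w.1 : V) = (w.1 : V) := by
      rw [← hφ]
      exact congrArg (fun x : {w : E // Q (w : V) = c} => ((x.1 : E) : V)) hw
    have h0 := hfree _ w.1.2 hTw
    apply hc
    rw [← w.2, h0, map_zero]
  have h0 : ∀ (inst : Fintype ↑(Function.fixedPoints φ)), @Fintype.card _ inst = 0 :=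
    fun inst => @Fintype.card_eq_zero _ inst hfix
  rw [h0] at hmod
  rw [Nat.card_eq_fintype_card]
  exact (Nat.modEq_zero_iff_dvd).mp hmod

theorem free_zmod (h2 : (2 : F) ≠ 0) {Q : QuadraticForm F V} {T : Module.End F V}
    (hT : ∀ v, Q (T v) = Q v) (r : ℕ) [Fact r.Prime] (hTr : T ^ r = 1)
    (hrq : ((Fintype.card F : ℕ) : ZMod r) ≠ 0) {E : Submodule F V} (hE : ND Q E)
    (hEinv : E.map T ≤ E) (hfree : ∀ v ∈ E, T v = v → v = 0) (a : ℕ)
    (ha : Module.finrank F E = 2 * a) :
    (Plus Q E → ((Fintype.card F : ℕ) : ZMod r) ^ a = 1) ∧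
      (¬ Plus Q E → ((Fintype.card F : ℕ) : ZMod r) ^ a = -1) := by
  obtain ⟨σ, hσ, hP, hU⟩ := type_cases h2 hE a ha
  have hd := free_dvd hT r hTr hEinv hfree 1 one_ne_zero
  have h1 := hU 1
  rw [if_neg one_ne_zero] at h1
  have h3 := congrArg (Int.cast : ℤ → ZMod r) h1
  push_cast at h3
  have h4 : ((nuW Q E 1 : ℕ) : ZMod r) = 0 := (ZMod.natCast_eq_zero_iff _ _).2 hd
  rw [h4, mul_zero] at h3
  obtain ⟨x, hx⟩ : ∃ x : ZMod r, x = (σ : ZMod r) * ((Fintype.card F : ℕ) : ZMod r) ^ a :=
    ⟨_, rfl⟩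
  have hx2 : x * (x - 1) = 0 := by
    rw [hx]
    linear_combination -h3
  have hσ0 : (σ : ZMod r) ≠ 0 := by
    rcases hσ with rfl | rfl
    · simp
    · simp
  have hxne : x ≠ 0 := by
    rw [hx]
    exact mul_ne_zero hσ0 (pow_ne_zero _ hrq)
  have hx1 : x = 1 := by
    rcases mul_eq_zero.1 hx2 with h | h
    · exact absurd h hxne
    · exact sub_eq_zero.1 h
  rw [hx] at hx1
  constructor
  · intro hPl
    have hσ1 := hP.1 hPl
    rw [hσ1] at hx1
    simpa using hx1
  · intro hnP
    have hσ' : σ = -1 := by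
      rcases hσ with h | h
      · exact absurd (hP.2 h) hnP
      · exact h
    rw [hσ'] at hx1
    have h5 : -(((Fintype.card F : ℕ) : ZMod r) ^ a) = 1 := by simpa using hx1
    rw [← h5, neg_neg]

/-- the structure of a nondegenerate invariant subspace without fixed vectors -/
theorem free_struct (h2 : (2 : F) ≠ 0) {Q : QuadraticForm F V} {T : Module.End F V}
    (hT : ∀ v, Q (T v) = Q v) (r : ℕ) [Fact r.Prime] (hr2 : r ≠ 2) (hTr : T ^ r = 1)
    (hrq : ((Fintype.card F : ℕ) : ZMod r) ≠ 0) {E : Submodule F V} (hE : ND Q E)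
    (hEinv : E.map T ≤ E) (hfree : ∀ v ∈ E, T v = v → v = 0) (i c : ℕ)
    (hi : i = orderOf ((Fintype.card F : ℕ) : ZMod r)) (hc : c = if Even i then i else 2 * i) :
    c ∣ Module.finrank F E ∧ (Plus Q E ↔ (Odd i ∨ Even (Module.finrank F E / c))) := by
  have hrp : r.Prime := Fact.out
  have hi1 : 1 ≤ i := by
    rw [hi]
    exact Cfsg.Agent.Lib.helper24.sp_order_pos r hrq
  -- evenness of the dimension
  obtain ⟨s, hs⟩ : ∃ s, r = 2 * s + 1 := by
    rcases hrp.eq_two_or_odd' with h | ⟨s, hs⟩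
    · exact absurd h hr2
    · exact ⟨s, hs⟩
  obtain ⟨T', hT'⟩ : ∃ T' : Module.End F V, T' = T ^ (r - 1) := ⟨_, rfl⟩
  have hTT' : ∀ v, T (T' v) = v := by
    intro v
    rw [hT', ← Module.End.mul_apply, ← pow_succ']
    have : r - 1 + 1 = r := by omega
    rw [this, hTr]
    rfl
  obtain ⟨ω, hω⟩ : ∃ ω : V →ₗ[F] V →ₗ[F] F,
      ∀ u v, ω u v = QuadraticMap.polar Q (T u - T' u) v :=
    ⟨(QuadraticMap.polarBilin Q).comp (T - T'), fun u v => rfl⟩
  have halt : ∀ v, ω v v = 0 := by
    intro v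
    rw [hω, QuadraticMap.polar_sub_left]
    have h5 := polar_iso hT (T' v) v
    rw [hTT'] at h5
    rw [← h5, QuadraticMap.polar_comm, sub_self]
  have hnd : Cfsg.Agent.Lib.helper24.SpNd ω E := by
    intro u hu hu'
    have hTu : T u ∈ E := hEinv (Submodule.mem_map_of_mem hu)
    have hT'u : T' u ∈ E := by
      rw [hT']
      exact pow_mem_of_inv hEinv _ hu
    have h5 : T u - T' u = 0 := by
      apply hE _ (E.sub_mem hTu hT'u)
      intro v hv
      rw [← hω]
      exact hu' v hv
    have h6 : T (T u) = u := by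
      rw [sub_eq_zero.1 h5, hTT']
    have h7 : (T ^ 2) u = u := by
      rw [pow_two, Module.End.mul_apply, h6]
    have h8 := pow_fix h7 (s + 1)
    have h9 : (T ^ 2) ^ (s + 1) = T := by
      rw [← pow_mul]
      have : 2 * (s + 1) = r + 1 := by omega
      rw [this, pow_succ, hTr, one_mul]
    rw [h9] at h8
    exact hfree u hu h8
  obtain ⟨a, ha⟩ := Cfsg.Agent.Lib.helper24.sp_even ω halt E hnd
  have ha' : Module.finrank F E = 2 * a := by omega
  obtain ⟨hplus, hminus⟩ := free_zmod h2 hT r hTr hrq hE hEinv hfree a ha'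
  rw [ha']
  by_cases hP : Plus Q E
  · have hia : i ∣ a := by
      rw [hi]
      exact orderOf_dvd_of_pow_eq_one (hplus hP)
    constructor
    · rw [hc]
      split_ifs with hev
      · exact Dvd.dvd.mul_left hia 2
      · exact mul_dvd_mul_left 2 hia
    · refine ⟨fun _ => ?_, fun _ => hP⟩
      by_cases hev : Even i
      · right
        rw [hc, if_pos hev, Nat.mul_div_assoc 2 hia]
        exact even_two_mul _
      · left
        exact Nat.not_even_iff_odd.1 hev
  · have hq := hminus hP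
    have hi2a : i ∣ 2 * a := by
      rw [hi]
      apply orderOf_dvd_of_pow_eq_one
      rw [mul_comm, pow_mul, hq]
      norm_num
    have hnia : ¬ i ∣ a := by
      rintro ⟨t, ht⟩
      have h5 : ((Fintype.card F : ℕ) : ZMod r) ^ a = 1 := by
        rw [ht, pow_mul, hi, pow_orderOf_eq_one, one_pow]
      rw [hq] at h5
      have h6 : ((2 : ℕ) : ZMod r) = 0 := by
        have : (2 : ZMod r) = 0 := by linear_combination -h5
        exact_mod_cast this
      rw [ZMod.natCast_eq_zero_iff] at h6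
      exact hr2 ((Nat.prime_dvd_prime_iff_eq hrp Nat.prime_two).1 h6)
    have hev : Even i := by
      by_contra hodd
      rw [Nat.not_even_iff_odd] at hodd
      apply hnia
      have hcop : Nat.Coprime i 2 := Nat.Coprime.symm (Nat.coprime_two_left.2 hodd)
      exact hcop.dvd_of_dvd_mul_left hi2a
    constructor
    · rw [hc, if_pos hev]
      exact hi2a
    · refine ⟨fun h => absurd h hP, fun h => ?_⟩
      exfalso
      rcases h with h | h
      · exact (Nat.not_even_iff_odd.2 h) hev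
      · rw [hc, if_pos hev] at h
        obtain ⟨t, ht⟩ := h
        obtain ⟨u, hu⟩ := hi2a
        rw [hu, Nat.mul_div_cancel_left _ (by omega : 0 < i)] at ht
        apply hnia
        refine ⟨t, ?_⟩
        rw [ht] at hu
        have : 2 * a = 2 * (i * t) := by rw [hu]; ring
        omega

end free

end Cfsg.Agent.Lib.helper99.Ot
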