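import Mathlib
import Cfsg.Agent.Lib.helper99.OtA
import Cfsg.Agent.Lib.helper99.OtB
import Cfsg.Agent.Lib.helper99.OtD
import Cfsg.Agent.Lib.helper24.SpB

/-! Isometries of odd prime order `r` prime to the characteristic: invariant nondegenerate
subspaces of prescribed dimension and type. -/

set_option autoImplicit false
set_option linter.unusedSectionVars false
set_option linter.unusedVariables false
set_option linter.style.haveILetI false

namespace Cfsg.Agent.Lib.helper99.Ot

open Cfsg.Agent.Lib.helper45 Cfsg.Agent.Lib.helper49 Cfsg.Agent.Lib.helper24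

theorem iff_iff_iff_self (a b : Prop) : (a ↔ (a ↔ b)) ↔ b := by tauto

section alt

variable {F : Type*} [Field F] {V : Type*} [AddCommGroup V] [Module F V]

/-- the alternating form `B((T - T⁻¹)u, v)` -/
noncomputable def altF (Q : QuadraticForm F V) (T : Module.End F V) (r : ℕ) :
    V →ₗ[F] V →ₗ[F] F :=
  (QuadraticMap.polarBilin Q).comp (T - T ^ (r - 1))

theorem altF_apply (Q : QuadraticForm F V) (T : Module.End F V) (r : ℕ) (u v : V) :
    altF Q T r u v = QuadraticMap.polar Q (T u - (T ^ (r - 1)) u) v := rfl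

theorem T_Tinv {T : Module.End F V} {r : ℕ} (hr1 : 1 ≤ r) (hTr : T ^ r = 1) (v : V) :
    T ((T ^ (r - 1)) v) = v := by
  rw [← Module.End.mul_apply, ← pow_succ']
  have : r - 1 + 1 = r := by omega
  rw [this, hTr]
  rfl

theorem Tinv_T {T : Module.End F V} {r : ℕ} (hr1 : 1 ≤ r) (hTr : T ^ r = 1) (v : V) :
    (T ^ (r - 1)) (T v) = v := by
  rw [← Module.End.mul_apply, ← pow_succ]
  have : r - 1 + 1 = r := by omega
  rw [this, hTr]
  rfl

theorem altF_self {Q : QuadraticForm F V} {T : Module.End F V} (hT : ∀ v, Q (T v) = Q v)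
    {r : ℕ} (hr1 : 1 ≤ r) (hTr : T ^ r = 1) (v : V) : altF Q T r v v = 0 := by
  rw [altF_apply, QuadraticMap.polar_sub_left]
  have h5 := polar_iso hT ((T ^ (r - 1)) v) v
  rw [T_Tinv hr1 hTr] at h5
  rw [← h5, QuadraticMap.polar_comm, sub_self]

theorem altF_iso {Q : QuadraticForm F V} {T : Module.End F V} (hT : ∀ v, Q (T v) = Q v)
    {r : ℕ} (hr1 : 1 ≤ r) (hTr : T ^ r = 1) (u v : V) :
    altF Q T r (T u) (T v) = altF Q T r u v := by
  have e : T (T u) - (T ^ (r - 1)) (T u) = T (T u - (T ^ (r - 1)) u) := by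
    rw [map_sub, T_Tinv hr1 hTr, Tinv_T hr1 hTr]
  rw [altF_apply, altF_apply, e, polar_iso hT]

theorem altF_nd {Q : QuadraticForm F V} {T : Module.End F V} (hT : ∀ v, Q (T v) = Q v)
    {r : ℕ} (hrodd : Odd r) (hTr : T ^ r = 1) {E : Submodule F V} (hE : ND Q E)
    (hEinv : E.map T ≤ E) (hfree : ∀ v ∈ E, T v = v → v = 0) : SpNd (altF Q T r) E := by
  obtain ⟨s, hs⟩ := hrodd
  have hr1 : 1 ≤ r := by omega
  intro u hu hu'
  have hTu : T u ∈ E := hEinv (Submodule.mem_map_of_mem hu)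
  have hT'u : (T ^ (r - 1)) u ∈ E := pow_mem_of_inv hEinv _ hu
  have h5 : T u - (T ^ (r - 1)) u = 0 := by
    apply hE _ (E.sub_mem hTu hT'u)
    intro v hv
    exact hu' v hv
  have h6 : T (T u) = u := by rw [sub_eq_zero.1 h5, T_Tinv hr1 hTr]
  have h7 : (T ^ 2) u = u := by rw [pow_two, Module.End.mul_apply, h6]
  have h8 := pow_fix h7 (s + 1)
  have h9 : (T ^ 2) ^ (s + 1) = T := by
    rw [← pow_mul]
    have : 2 * (s + 1) = r + 1 := by omega
    rw [this, pow_succ, hTr, one_mul]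
  rw [h9] at h8
  exact hfree u hu h8

theorem nd_of_altF {Q : QuadraticForm F V} {T : Module.End F V} (hT : ∀ v, Q (T v) = Q v)
    {r : ℕ} (hr1 : 1 ≤ r) (hTr : T ^ r = 1) {M : Submodule F V} (hMinv : M.map T ≤ M)
    (hM : SpNd (altF Q T r) M) : ND Q M := by
  intro u hu hu'
  apply hM u hu
  intro v hv
  rw [sp_skew (altF Q T r) (fun w => altF_self hT hr1 hTr w) u v, altF_apply, neg_eq_zero,
    QuadraticMap.polar_comm]
  exact hu' _ (M.sub_mem (hMinv (Submodule.mem_map_of_mem hv)) (pow_mem_of_inv hMinv _ hv))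

end alt

section peel

universe u

variable {F : Type*} [Field F] [Fintype F] {V : Type u} [AddCommGroup V] [Module F V]
  [FiniteDimensional F V]

/-- nondegenerate invariant subspaces of every dimension `c * s` inside the moved space -/
theorem peel {Q : QuadraticForm F V} {T : Module.End F V} (hT : ∀ v, Q (T v) = Q v)
    (p f' : ℕ) [Fact p.Prime] (hF : Fintype.card F = p ^ f') (r : ℕ) [Fact r.Prime]
    (hpr : p.Coprime r) (hr2 : r ≠ 2) (hTr : T ^ r = 1) (i c : ℕ)
    (hi : i = orderOf ((Fintype.card F : ℕ) : ZMod r)) (hc : c = if Even i then i else 2 * i)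
    (hD : ND Q (movS T r)) (s : ℕ) (hs : c * s ≤ Module.finrank F (movS T r)) :
    ∃ M : Submodule F V, M ≤ movS T r ∧ ND Q M ∧ M.map T ≤ M ∧ Module.finrank F M = c * s := by
  classical
  haveI : Finite V := Module.finite_of_finite F
  have hrp : r.Prime := Fact.out
  have hrodd : Odd r := hrp.odd_of_ne_two hr2
  have hr1 : 1 ≤ r := hrp.one_le
  have hrF : (r : F) ≠ 0 := el_natCast_ne_zero p f' hF r hpr
  have hq0 := el_card_ne_zero (F := F) p f' hF r hpr
  have hc1 : 1 ≤ c := by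
    have hi1 := sp_order_pos (F := F) r hq0
    rw [← hi] at hi1
    rw [hc]
    split_ifs <;> omega
  obtain ⟨D, hDdef⟩ : ∃ D : Submodule F V, D = movS T r := ⟨_, rfl⟩
  rw [← hDdef] at hD hs ⊢
  have hDinv : ∀ d ∈ D, T d ∈ D := by
    intro d hd
    rw [hDdef] at hd ⊢
    exact mov_inv hTr hd
  have hDfree : ∀ v ∈ D, T v = v → v = 0 := by
    intro v hv h
    rw [hDdef] at hv
    exact mov_free hrF hv h
  have hDmap : D.map T ≤ D := by
    rintro _ ⟨v, hv, rfl⟩
    exact hDinv v hv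
  obtain ⟨ω, hω⟩ : ∃ ω : V →ₗ[F] V →ₗ[F] F, ω = altF Q T r := ⟨_, rfl⟩
  have halt : ∀ v, ω v v = 0 := by
    intro v
    rw [hω]
    exact altF_self hT hr1 hTr v
  have hiso : ∀ u v, ω (T u) (T v) = ω u v := by
    intro u v
    rw [hω]
    exact altF_iso hT hr1 hTr u v
  have hndD : SpNd ω D := by
    rw [hω]
    exact altF_nd hT hrodd hTr hD hDmap hDfree
  obtain ⟨M, hM1, hM2, hM3⟩ := sp_nd_mult p f' hF r hpr hr2 i c hi hc hc1 s ↥D
    (ω.domRestrict₁₂ D D) (fun v => halt v.1) (sp_nd_restrict ω D hndD) (T.restrict hDinv)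
    (fun u v => hiso u.1 v.1) (el_restrict_pow T r hTr D hDinv)
    (by
      rw [Submodule.eq_bot_iff]
      intro v hv
      rw [LinearMap.mem_ker, LinearMap.sub_apply, Module.End.one_apply, sub_eq_zero] at hv
      apply Subtype.ext
      exact hDfree v.1 v.2 (congrArg Subtype.val hv)) hs
  have hMinv : (M.map D.subtype).map T ≤ M.map D.subtype := by
    rintro _ ⟨_, ⟨v, hv, rfl⟩, rfl⟩
    exact ⟨(T.restrict hDinv) v, hM2 v hv, rfl⟩
  refine ⟨M.map D.subtype, ?_, ?_, hMinv, ?_⟩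
  · rintro _ ⟨v, _, rfl⟩
    exact v.2
  · apply nd_of_altF hT hr1 hTr hMinv
    rw [← hω]
    exact sp_nd_map ω D M hM1
  · rw [← hM3]
    exact (Submodule.equivMapOfInjective D.subtype D.injective_subtype M).finrank_eq.symm

/-- an isometry of odd prime order `r ≠ p` fixes a nondegenerate `m`-space of type `ε` under the
arithmetic conditions -/
theorem exists_inv (h2 : (2 : F) ≠ 0) {Q : QuadraticForm F V} (hV : ND Q ⊤)
    {T : Module.End F V} (hT : ∀ v, Q (T v) = Q v)
    (p f' : ℕ) [Fact p.Prime] (hF : Fintype.card F = p ^ f') (r : ℕ) [Fact r.Prime]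
    (hpr : p.Coprime r) (hr2 : r ≠ 2) (hTr : T ^ r = 1) (i c : ℕ)
    (hi : i = orderOf ((Fintype.card F : ℕ) : ZMod r)) (hc : c = if Even i then i else 2 * i)
    (m : ℕ) (hme : Even m) (hmn : m + 1 ≤ Module.finrank F V)
    (hlt : m % c < Module.finrank F V % c) (ε : Prop)
    (hty : m % c = 0 → (ε ↔ (Odd i ∨ Even (m / c)))) :
    ∃ W : Submodule F V, Module.finrank F W = m ∧ ND Q W ∧ (Plus Q W ↔ ε) ∧ W.map T ≤ W := by
  classical
  have hrp : r.Prime := Fact.out
  have hrF : (r : F) ≠ 0 := el_natCast_ne_zero p f' hF r hpr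
  have hq0 := el_card_ne_zero (F := F) p f' hF r hpr
  have hi1 : 1 ≤ i := by
    rw [hi]
    exact sp_order_pos (F := F) r hq0
  have hce : Even c := by
    rw [hc]
    split_ifs with h
    · exact h
    · exact even_two_mul i
  have hparts := nd_inf_parts hT hrF hTr hV (le_top : (⊤ : Submodule F V).map T ≤ ⊤)
  rw [top_inf_eq, top_inf_eq] at hparts
  obtain ⟨hC, hD⟩ := hparts
  have hfin := finrank_split hT hrF hTr hV (le_top : (⊤ : Submodule F V).map T ≤ ⊤)
  rw [top_inf_eq, top_inf_eq, finrank_top] at hfin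
  obtain ⟨⟨j', hj'⟩, -⟩ := free_struct h2 hT r hr2 hTr hq0 hD (mov_map_le hTr)
    (fun v hv h => mov_free hrF hv h) i c hi hc
  obtain ⟨s, hsdef⟩ : ∃ s : ℕ, s = min (m / c) j' := ⟨_, rfl⟩
  have hs : c * s ≤ Module.finrank F (movS T r) := by
    rw [hj', hsdef]
    exact Nat.mul_le_mul_left c (min_le_right _ _)
  obtain ⟨M, hMD, hM, hMinv, hMfin⟩ := peel hT p f' hF r hpr hr2 hTr i c hi hc hD s hs
  have hMfree : ∀ v ∈ M, T v = v → v = 0 := fun v hv h => mov_free hrF (hMD hv) h
  obtain ⟨-, hMty⟩ := free_struct h2 hT r hr2 hTr hq0 hM hMinv hMfree i c hi hc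
  have hcs_le : c * s ≤ m := by
    have h5 : c * s ≤ c * (m / c) := by
      rw [hsdef]
      exact Nat.mul_le_mul_left c (min_le_left _ _)
    exact h5.trans (Nat.mul_div_le m c)
  by_cases hℓ : m - c * s = 0
  · have hm : m = c * s := by omega
    refine ⟨M, by rw [hMfin, hm], hM, ?_, hMinv⟩
    have hmod : m % c = 0 := by
      rw [hm]
      exact Nat.mul_mod_right c s
    have hdiv : Module.finrank F M / c = m / c := by rw [hMfin, hm]
    rw [hMty, hdiv]
    exact (hty hmod).symm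
  · obtain ⟨ℓ₁, hℓ₁⟩ : ∃ ℓ₁, ℓ₁ = m - c * s := ⟨_, rfl⟩
    have hℓ₁e : Even ℓ₁ := by
      have h5 : Even (c * s) := hce.mul_right s
      rw [hℓ₁]
      exact (Nat.even_sub hcs_le).2 ⟨fun _ => h5, fun _ => hme⟩
    have hℓ₁2 : 2 ≤ ℓ₁ := by
      obtain ⟨t, ht⟩ := hℓ₁e
      omega
    have hℓ₁C : ℓ₁ < Module.finrank F (fixS T) := by
      rcases le_total (m / c) j' with h | h
      · have hs' : s = m / c := by rw [hsdef]; exact min_eq_left h
        have h5 : ℓ₁ = m % c := by
          rw [hℓ₁, hs']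
          have := Nat.div_add_mod m c
          omega
        have h6 : Module.finrank F V % c ≤ Module.finrank F (fixS T) := by
          rw [← hfin, hj', Nat.add_mul_mod_self_left]
          exact Nat.mod_le _ _
        omega
      · have hs' : s = j' := by rw [hsdef]; exact min_eq_right h
        rw [hs'] at hℓ₁ hcs_le
        omega
    obtain ⟨WC, hWCC, hWCfin, hWC, hWCε⟩ := typed h2 hC ℓ₁ hℓ₁e hℓ₁2 hℓ₁C (Plus Q M ↔ ε)
    have ho : Orth Q M WC := orth_mono (orth_symm (orth_fix_mov hT hrF)) hMD hWCC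
    have hMe : Even (Module.finrank F M) := by
      rw [hMfin]
      exact hce.mul_right s
    refine ⟨M ⊔ WC, ?_, nd_sup hM hWC ho, ?_, ?_⟩
    · rw [finrank_sup_orth hM ho, hMfin, hWCfin, hℓ₁]
      omega
    · rw [sum_type h2 hM hWC ho hMe (by rw [hWCfin]; exact hℓ₁e), hWCε]
      exact iff_iff_iff_self _ _
    · rw [Submodule.map_sup]
      apply sup_le_sup hMinv
      rintro _ ⟨v, hv, rfl⟩
      rw [mem_fixS.1 (hWCC hv)]
      exact hv

/-- the constraints on an invariant nondegenerate subspace when the fixed space is small -/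
theorem forward (h2 : (2 : F) ≠ 0) {Q : QuadraticForm F V} {T : Module.End F V}
    (hT : ∀ v, Q (T v) = Q v) (r : ℕ) [Fact r.Prime] (hr2 : r ≠ 2) (hTr : T ^ r = 1)
    (hrF : (r : F) ≠ 0) (hq0 : ((Fintype.card F : ℕ) : ZMod r) ≠ 0) (i c : ℕ)
    (hi : i = orderOf ((Fintype.card F : ℕ) : ZMod r)) (hc : c = if Even i then i else 2 * i)
    (hCc : Module.finrank F (fixS T) < c) {W : Submodule F V} (hW : ND Q W)
    (hWinv : W.map T ≤ W) :
    Module.finrank F W % c ≤ Module.finrank F (fixS T) ∧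
    (Module.finrank F W % c = 0 → (Plus Q W ↔ (Odd i ∨ Even (Module.finrank F W / c)))) ∧
    (Module.finrank F W < c → W ≤ fixS T) := by
  obtain ⟨hWC, hWD⟩ := nd_inf_parts hT hrF hTr hW hWinv
  have hfin := finrank_split hT hrF hTr hW hWinv
  obtain ⟨⟨s', hs'⟩, hty⟩ := free_struct h2 hT r hr2 hTr hq0 hWD (inf_mov_inv hTr hWinv)
    (fun v hv h => mov_free hrF (Submodule.mem_inf.1 hv).2 h) i c hi hc
  have hle : Module.finrank F ↥(W ⊓ fixS T) ≤ Module.finrank F (fixS T) :=
    Submodule.finrank_mono inf_le_right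
  have hmod : Module.finrank F W % c = Module.finrank F ↥(W ⊓ fixS T) := by
    rw [← hfin, hs', Nat.add_mul_mod_self_left]
    exact Nat.mod_eq_of_lt (by omega)
  refine ⟨by rw [hmod]; exact hle, fun h0 => ?_, fun hlt => ?_⟩
  · have hbot : W ⊓ fixS T = ⊥ := by
      apply Submodule.finrank_eq_zero.1
      rw [← hmod]
      exact h0
    have hWeq : W ⊓ movS T r = W := by
      have := inv_split hrF hTr hWinv
      rw [hbot, bot_sup_eq] at this
      exact this
    rw [hWeq] at hty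
    exact hty
  · have hs0 : s' = 0 := by
      by_contra hne
      have h5 : c ≤ c * s' := Nat.le_mul_of_pos_right c (Nat.pos_of_ne_zero hne)
      omega
    have hbot : W ⊓ movS T r = ⊥ := by
      apply Submodule.finrank_eq_zero.1
      rw [hs', hs0, mul_zero]
    have hWeq : W ⊓ fixS T = W := by
      have := inv_split hrF hTr hWinv
      rw [hbot, sup_bot_eq] at this
      exact this
    rw [← hWeq]
    exact inf_le_right

end peel

end Cfsg.Agent.Lib.helper99.Ot
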