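import Mathlib
import Cfsg.Agent.Lib.helper99.OtA
import Cfsg.Agent.Lib.helper99.OtB
import Cfsg.Agent.Lib.helper45.OPrimeOrder

/-! An isometry of order dividing `r` of the odd-dimensional standard quadratic space whose fixed
space has dimension at most `(2d+1) % c` (via helper45's realisation of self-dual polynomials). -/

set_option autoImplicit false
set_option linter.unusedSectionVars false
set_option linter.unusedVariables false
set_option linter.style.haveILetI false

namespace Cfsg.Agent.Lib.helper99.Ot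

open Polynomial Cfsg.Agent.Lib.helper45 Cfsg.Agent.Lib.helper49

universe u

section bad

variable {F : Type u} [Field F] [Fintype F]

/-- a self-dual polynomial of degree `c` dividing `(X^r - 1)^2` without the root `1` -/
theorem exists_block (p : ℕ) [Fact p.Prime] [CharP F p] {r : ℕ} [Fact r.Prime] (hrp : r ≠ p)
    (hr2 : r ≠ 2) (i c : ℕ) (hi : i = orderOf ((Fintype.card F : ℕ) : ZMod r))
    (hc : c = if Even i then i else 2 * i) :
    ∃ b : F[X], b.Monic ∧ b.natDegree = c ∧ tdual (RingHom.id F) b = b ∧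
      b ∣ (X ^ r - 1 : F[X]) ^ 2 ∧ b.eval 1 ≠ 0 := by
  classical
  have hrprime : r.Prime := Fact.out
  have hσ := id_frob p (F := F)
  have hi1 : 0 < i := by
    rw [hi]
    exact (card_field_isOfFinOrder p hrp).orderOf_pos
  have hnu : ¬ IsUnit (cyclotomic r F) := by
    intro h
    have h1 := natDegree_eq_zero_of_isUnit h
    rw [natDegree_cyclotomic, Nat.totient_prime hrprime] at h1
    have := hrprime.two_le
    omega
  obtain ⟨P, hPm, hPirr, hPdvd⟩ := exists_monic_irreducible_factor _ hnu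
  have hP : P ∈ cycFactors r F := ⟨hPirr, hPm, hPdvd⟩
  have hdeg := cycFactors_natDegree p hrp hP
  rw [← hi] at hdeg
  have h0 := cycFactors_coeff_zero_ne hP
  have heval : ∀ R ∈ cycFactors r F, R.eval 1 ≠ 0 := by
    intro R hR h
    have h1 : (X - C 1 : F[X]) ∣ R := dvd_iff_isRoot.2 h
    have h2 := eq_of_monic_of_associated (monic_X_sub_C 1) hR.2.1
      ((irreducible_X_sub_C 1).associated_of_dvd hR.1 h1)
    exact X_sub_one_notMem_cycFactors p hrp (h2 ▸ hR)
  by_cases hev : Even i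
  · have hself : tdual (RingHom.id F) P = P := by
      rw [tdual_eq_self_iff p hrp (RingHom.id F) 0 hσ hP]
      obtain ⟨t, ht⟩ := hev
      refine ⟨t, ?_⟩
      have h1 : ((Fintype.card F : ℕ) : ZMod r) ^ t * ((Fintype.card F : ℕ) : ZMod r) ^ t = 1 := by
        rw [← pow_add, ← ht, hi]
        exact pow_orderOf_eq_one _
      have h2 : ((Fintype.card F : ℕ) : ZMod r) ^ t ≠ 1 := by
        apply pow_ne_one_of_lt_orderOf
        · omega
        · rw [← hi]
          omega
      have h3 : (((Fintype.card F : ℕ) : ZMod r) ^ t - 1)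
          * (((Fintype.card F : ℕ) : ZMod r) ^ t + 1) = 0 := by linear_combination h1
      rcases mul_eq_zero.1 h3 with h | h
      · exact absurd (sub_eq_zero.1 h) h2
      · simp only [pow_zero, Nat.cast_one]
        linear_combination -h
    refine ⟨P, hPm, by rw [hdeg, hc, if_pos hev], hself, ?_, heval P hP⟩
    exact Dvd.dvd.trans (cycFactors_dvd_X_pow_sub_one hP) (dvd_pow_self _ (by norm_num))
  · have hP' := tdual_mem_cycFactors p hrp (RingHom.id F) 0 hσ hP
    refine ⟨P * tdual (RingHom.id F) P, hPm.mul (tdual_monic _ h0), ?_, ?_, ?_, ?_⟩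
    · rw [natDegree_mul hPm.ne_zero (tdual_monic _ h0).ne_zero, tdual_natDegree _ h0, hdeg, hc,
        if_neg hev]
      ring
    · rw [tdual_mul, tdual_tdual _ (fun x => rfl) hPm h0, mul_comm]
    · rw [pow_two]
      exact mul_dvd_mul (cycFactors_dvd_X_pow_sub_one hP) (cycFactors_dvd_X_pow_sub_one hP')
    · rw [eval_mul]
      exact mul_ne_zero (heval P hP) (heval _ hP')

/-- PIECE D of the S5992/S5993 split. -/
theorem ot_bad {p : ℕ} [Fact p.Prime] [CharP F p] (hp2 : p ≠ 2) (r : ℕ) [Fact r.Prime]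
    (hrp : r ≠ p) (hr2 : r ≠ 2) (d : ℕ) (i c : ℕ)
    (hi : i = orderOf ((Fintype.card F : ℕ) : ZMod r)) (hc : c = if Even i then i else 2 * i) :
    ∃ x : GL (Unit ⊕ (Fin d ⊕ Fin d)) F, x ∈ Cfsg.isometryGroup F (Cfsg.quadFormOdd d F) ∧
      x ^ r = 1 ∧
      Module.finrank F (LinearMap.ker (Matrix.toLin'
        (x : Matrix (Unit ⊕ (Fin d ⊕ Fin d)) (Unit ⊕ (Fin d ⊕ Fin d)) F) - 1))
          ≤ (2 * d + 1) % c := by
  classical
  have hpp : p.Prime := Fact.out
  have h2 : (2 : F) ≠ 0 := by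
    intro h
    have h3 : ((2 : ℕ) : F) = 0 := by exact_mod_cast h
    rw [CharP.cast_eq_zero_iff F p] at h3
    exact hp2 ((Nat.prime_dvd_prime_iff_eq hpp Nat.prime_two).1 h3)
  obtain ⟨b, hbm, hbdeg, hbτ, hbdvd, hb1⟩ := exists_block p hrp hr2 i c hi hc
  obtain ⟨J, hJ⟩ : ∃ J, J = (2 * d + 1) / c := ⟨_, rfl⟩
  obtain ⟨k, hk⟩ : ∃ k, k = (2 * d + 1) % c := ⟨_, rfl⟩
  have hn : c * J + k = 2 * d + 1 := by
    rw [hJ, hk]
    exact Nat.div_add_mod _ _
  have hsd : b ^ J ∈ sdPolys r (RingHom.id F) (c * J) := by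
    refine ⟨hbm.pow J, ?_, ?_, 2 * J, ?_⟩
    · rw [natDegree_pow, hbdeg, mul_comm]
    · rw [tdual_pow, hbτ]
    · rw [pow_mul]
      exact pow_dvd_pow_of_dvd hbdvd J
  obtain ⟨a₀, g, heq, hQg, -, -, hg1⟩ := qReal_of_sdPolys p hrp hr2 (c * J) hsd
  have ha₀ : a₀ = 0 := by
    by_contra hne
    have h5 := congrArg (eval 1) heq
    rw [eval_pow, eval_mul, eval_pow, eval_sub, eval_X, eval_C, sub_self, zero_pow hne,
      zero_mul] at h5
    exact pow_ne_zero J hb1 h5
  rw [ha₀, pow_zero, one_mul] at heq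
  rw [← heq] at hQg
  obtain ⟨ν, hν⟩ := hQg
  have hQnd := nondegenerate_of_gram (oddForm d F) (gramOdd d F) (gramOddInv d F)
    (gramOdd_mul_inv d h2) (polar_oddForm d)
  have hVtop : ND (oddForm d F) ⊤ := fun w _ hw => hQnd.1 w (fun y => hw y Submodule.mem_top)
  have hfinV : Module.finrank F (Unit ⊕ (Fin d ⊕ Fin d) → F) = 2 * d + 1 := finrank_odd d
  obtain ⟨K, -, hKfin, hK⟩ := nd_sub h2 hVtop k (by rw [finrank_top, hfinV]; omega)
  have hid := qRealP_id r (restrictQ (oddForm d F) K) (nd_restrict hK)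
  rw [hKfin] at hid
  obtain ⟨V', _, _, _, Q', a, a', hnd', hiso', hab', har', hchar', -⟩ := hid.mul hν
  have hfin' : Module.finrank F V' = 2 * d + 1 := by
    rw [← LinearMap.charpoly_natDegree a, hchar',
      natDegree_mul (pow_ne_zero _ (X_sub_C_ne_zero 1)) (pow_ne_zero _ hbm.ne_zero),
      natDegree_pow, natDegree_X_sub_C, natDegree_pow, hbdeg, mul_one, mul_comm J c]
    omega
  obtain ⟨g₀, hg₀pow, hg₀char⟩ := exists_o_matrix_charpoly h2 d Q' a a' hnd' hiso' hab' hfin'
  refine ⟨(g₀ : GL (Unit ⊕ (Fin d ⊕ Fin d)) F), g₀.2, ?_, ?_⟩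
  · have h5 := hg₀pow r har'
    have h6 := congrArg Subtype.val h5
    exact h6
  · obtain ⟨T, hT⟩ : ∃ T : Module.End F (Unit ⊕ (Fin d ⊕ Fin d) → F),
        T = Matrix.toLin' ((g₀ : GL (Unit ⊕ (Fin d ⊕ Fin d)) F) :
          Matrix (Unit ⊕ (Fin d ⊕ Fin d)) (Unit ⊕ (Fin d ⊕ Fin d)) F) := ⟨_, rfl⟩
    rw [← hT, ← hk]
    have hle : LinearMap.ker (T - 1) ≤ Module.End.eigenspace T 1 := by
      intro v hv
      rw [Module.End.mem_eigenspace_iff, one_smul]
      rw [LinearMap.mem_ker, LinearMap.sub_apply, Module.End.one_apply, sub_eq_zero] at hv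
      exact hv
    have h5 := LinearMap.finrank_eigenspace_le T 1
    have h6 : T.charpoly = (X - C 1) ^ k * b ^ J := by
      rw [hT, Matrix.charpoly_toLin', hg₀char, hchar']
    have h7 : (T.charpoly).rootMultiplicity 1 = k := by
      rw [h6, rootMultiplicity_mul (mul_ne_zero (pow_ne_zero _ (X_sub_C_ne_zero 1))
        (pow_ne_zero _ hbm.ne_zero)), rootMultiplicity_X_sub_C_pow,
        rootMultiplicity_eq_zero (by rw [IsRoot, eval_pow]; exact pow_ne_zero _ hb1), add_zero]
    calc Module.finrank F (LinearMap.ker (T - 1))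
        ≤ Module.finrank F (Module.End.eigenspace T 1) := Submodule.finrank_mono hle
      _ ≤ (T.charpoly).rootMultiplicity 1 := h5
      _ = k := h7

end bad

end Cfsg.Agent.Lib.helper99.Ot
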