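import Mathlib
import Cfsg.Agent.Lib.helper99.PsuSpecA

set_option autoImplicit false

/-!
# Spectrum of `PSL_3(q)`: case analysis of the characteristic cubic (helper99)

For `M ∈ SL_3(q)` Cayley-Hamilton gives `f(M) = 0` with `f = X^3 - a X^2 + b X - 1`.  We show
that `f` divides `X^k - c` for one of the exponents of the spectrum.
-/

namespace Cfsg.Agent.Lib.helper99.PslSpec

open Polynomial Cfsg.Agent.Lib.helper99.PsuSpec

variable {F : Type*} [Field F] [Fintype F]

theorem nt_l (q : ℕ) (hq : 1 ≤ q) :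
    q ^ 2 + q + 1 = (q - 1) * (q + 2) + 3 ∧ q + 2 = q - 1 + 3 ∧
      q ^ 2 - 1 = (q - 1) * (q + 1) ∧ q ^ 3 - 1 = (q - 1) * (q ^ 2 + q + 1) := by
  obtain ⟨r, rfl⟩ : ∃ r, q = r + 1 := ⟨q - 1, by omega⟩
  simp only [Nat.add_sub_cancel]
  refine ⟨by ring, trivial, ?_, ?_⟩
  · apply Nat.sub_eq_of_eq_add; ring
  · apply Nat.sub_eq_of_eq_add; ring

/-- no root: the cubic is irreducible -/
theorem lC1 (p : ℕ) [Fact p.Prime] [CharP F p] (q j : ℕ) (hqj : q = p ^ j) (hq : 2 ≤ q)
    (hF : Fintype.card F = q) (a b : F)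
    (hno : ∀ x : F, x ^ 3 - a * x ^ 2 + b * x - 1 ≠ 0) :
    ∃ c : F, cub a b ∣ X ^ ((q ^ 2 + q + 1) / Nat.gcd 3 (q - 1)) - C c := by
  obtain ⟨n1, n2, n3, n4⟩ := nt_l q (by omega)
  set f := cub a b with hf
  have hdeg : f.natDegree = 3 := by
    rw [hf]; unfold cub; compute_degree!
  have hirr : Irreducible f := by
    apply Polynomial.irreducible_of_degree_le_three_of_not_isRoot
    · rw [hdeg]; decide
    · intro x hx
      apply hno x
      rw [← cub_eval]; exact hx
  have : Fact (Irreducible f) := ⟨hirr⟩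
  let E := AdjoinRoot f
  let θ : E := AdjoinRoot.root f
  have hθ : θ ^ 3 - algebraMap F E a * θ ^ 2 + algebraMap F E b * θ - 1 = 0 := by
    have h : aeval θ f = 0 := by rw [AdjoinRoot.aeval_eq, AdjoinRoot.mk_self]
    have h2 : aeval θ f = θ ^ 3 - algebraMap F E a * θ ^ 2 + algebraMap F E b * θ - 1 := by
      change aeval θ (X ^ 3 - C a * X ^ 2 + C b * X - 1) = _
      simp only [map_sub, map_add, map_mul, map_pow, aeval_X, aeval_C, map_one]
    rw [← h2, h]
  have : CharP E p := charP_of_injective_algebraMap (algebraMap F E).injective p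
  let φ : E →+* E := iterateFrobenius E p j
  have hφ : ∀ x, φ x = x ^ q := fun x => by rw [hqj]; rfl
  have hφF : ∀ c : F, φ (algebraMap F E c) = algebraMap F E c := by
    intro c
    rw [hφ, ← map_pow, ← hF, FiniteField.pow_card]
  have hθ0 : θ ≠ 0 := by intro h; rw [h] at hθ; simp at hθ
  have hnoE : ∀ c : F, (algebraMap F E c) ^ 3 - algebraMap F E a * (algebraMap F E c) ^ 2
      + algebraMap F E b * (algebraMap F E c) - 1 ≠ 0 := by
    intro c hc
    apply hno c
    have : algebraMap F E (c ^ 3 - a * c ^ 2 + b * c - 1) = 0 := by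
      simpa only [map_sub, map_add, map_mul, map_pow, map_one] using hc
    exact (map_eq_zero _).1 this
  have hfix : ∀ x : E, φ x = x → ∃ c : F, algebraMap F E c = x := by
    intro x hx
    apply fixF
    rw [hF, ← hφ]; exact hx
  have hroot : ∀ x : E, x ^ 3 - algebraMap F E a * x ^ 2 + algebraMap F E b * x - 1 = 0 →
      (φ x) ^ 3 - algebraMap F E a * (φ x) ^ 2 + algebraMap F E b * (φ x) - 1 = 0 := by
    intro x hx
    have h := congrArg φ hx
    simpa only [map_sub, map_add, map_mul, map_pow, map_one, map_zero, hφF] using h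
  have h12 : θ ≠ φ θ := by
    intro h
    obtain ⟨c, hc⟩ := hfix θ h.symm
    apply hnoE c
    rw [hc]; exact hθ
  have hr2 := hroot θ hθ
  have hr3 := hroot (φ θ) hr2
  obtain ⟨ha, hb, h1⟩ := vieta2 _ _ θ (φ θ) h12 hθ hr2
  have hfacE := cub_factor _ _ θ (φ θ) (θ * φ θ)⁻¹ ha hb h1
  have hev : ∀ x : E, x ^ 3 - algebraMap F E a * x ^ 2 + algebraMap F E b * x - 1
      = (x - θ) * (x - φ θ) * (x - (θ * φ θ)⁻¹) := by
    intro x
    have h := cub_eval (algebraMap F E a) (algebraMap F E b) x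
    rw [hfacE] at h
    simp only [eval_mul, eval_sub, eval_X, eval_C] at h
    exact h.symm
  have hprod : φ (φ θ) = (θ * φ θ)⁻¹ := by
    have h := hev (φ (φ θ))
    rw [hr3] at h
    rcases mul_eq_zero.1 h.symm with h | h
    · rcases mul_eq_zero.1 h with h | h
      · -- φ (φ θ) = θ: then the third root is fixed
        exfalso
        have h2 : φ (φ θ) = θ := sub_eq_zero.1 h
        have hρ : φ ((θ * φ θ)⁻¹) = (θ * φ θ)⁻¹ := by
          rw [map_inv₀, map_mul, h2, mul_comm]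
        obtain ⟨c, hc⟩ := hfix _ hρ
        apply hnoE c
        rw [hc, hev]
        simp
      · exfalso
        exact h12 (φ.injective (sub_eq_zero.1 h)).symm
    · exact sub_eq_zero.1 h
  have hφθ0 : φ θ ≠ 0 := (_root_.map_ne_zero φ).2 hθ0
  have hord : θ ^ (q ^ 2 + q + 1) = 1 := by
    have h : θ * φ θ * φ (φ θ) = 1 := by
      rw [hprod]
      exact mul_inv_cancel₀ (mul_ne_zero hθ0 hφθ0)
    rw [hφ, hφ, ← pow_mul, ← pow_two] at h
    rw [← h]
    ring
  set d := Nat.gcd 3 (q - 1) with hd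
  have hd3 : d ∣ 3 := Nat.gcd_dvd_left _ _
  have hdq : d ∣ q - 1 := Nat.gcd_dvd_right _ _
  have hdN : d ∣ q ^ 2 + q + 1 := by
    rw [n1]
    exact Nat.dvd_add (Dvd.dvd.mul_right hdq _) hd3
  set m := (q ^ 2 + q + 1) / d with hm
  have hdm : d * m = q ^ 2 + q + 1 := Nat.mul_div_cancel' hdN
  obtain ⟨e, he⟩ := hdq
  have hω : (θ ^ m) ^ (q - 1) = 1 := by
    rw [he, ← pow_mul, ← mul_assoc, mul_comm m d, hdm, pow_mul, hord, one_pow]
  obtain ⟨c, hc⟩ := fixF (F := F) (θ ^ m) (by
    rw [hF]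
    have : q = q - 1 + 1 := by omega
    rw [this, pow_succ, hω, one_mul])
  refine ⟨c, ?_⟩
  rw [← AdjoinRoot.mk_eq_zero, map_sub, map_pow, AdjoinRoot.mk_X, AdjoinRoot.mk_C, sub_eq_zero]
  exact hc.symm

omit [Fintype F] in
/-- the cubic as linear times quadratic -/
theorem cub_split (a b l : F) (hl : l ^ 3 - a * l ^ 2 + b * l - 1 = 0) :
    cub a b = (X - C l) * (X ^ 2 - C (a - l) * X + C l⁻¹) := by
  have hl0 : l ≠ 0 := by rintro rfl; simp at hl
  have hb : b = l⁻¹ - l ^ 2 + a * l := by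
    field_simp
    linear_combination hl
  have h1 : (1 : F[X]) = C (l * l⁻¹) := by rw [mul_inv_cancel₀ hl0, C_1]
  unfold cub
  rw [h1, hb]
  simp only [C_add, C_mul, C_sub, C_pow]
  ring

/-- linear factor times an irreducible quadratic -/
theorem lC2a (p : ℕ) [Fact p.Prime] [CharP F p] (q j : ℕ) (hqj : q = p ^ j) (hq : 2 ≤ q)
    (hF : Fintype.card F = q) (a b l : F) (hl : l ^ 3 - a * l ^ 2 + b * l - 1 = 0)
    (hno : ∀ x : F, x ^ 2 - (a - l) * x + l⁻¹ ≠ 0) :
    ∃ c : F, cub a b ∣ X ^ ((q ^ 2 - 1) / Nat.gcd 3 (q - 1)) - C c := by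
  obtain ⟨n1, n2, n3, n4⟩ := nt_l q (by omega)
  have hl0 : l ≠ 0 := by rintro rfl; simp at hl
  set g : F[X] := X ^ 2 - C (a - l) * X + C l⁻¹ with hg
  have hdeg : g.natDegree = 2 := by
    rw [hg]; compute_degree!
  have hirr : Irreducible g := by
    apply Polynomial.irreducible_of_degree_le_three_of_not_isRoot
    · rw [hdeg]; decide
    · intro x hx
      apply hno x
      have : g.eval x = x ^ 2 - (a - l) * x + l⁻¹ := by rw [hg]; simp
      rw [← this]; exact hx
  have : Fact (Irreducible g) := ⟨hirr⟩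
  let E := AdjoinRoot g
  let μ : E := AdjoinRoot.root g
  have hμ : μ ^ 2 - algebraMap F E (a - l) * μ + algebraMap F E l⁻¹ = 0 := by
    have h : aeval μ g = 0 := by rw [AdjoinRoot.aeval_eq, AdjoinRoot.mk_self]
    have h2 : aeval μ g = μ ^ 2 - algebraMap F E (a - l) * μ + algebraMap F E l⁻¹ := by
      change aeval μ (X ^ 2 - C (a - l) * X + C l⁻¹) = _
      simp only [map_sub, map_add, map_mul, map_pow, aeval_X, aeval_C]
    rw [← h2, h]
  have : CharP E p := charP_of_injective_algebraMap (algebraMap F E).injective p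
  let φ : E →+* E := iterateFrobenius E p j
  have hφ : ∀ x, φ x = x ^ q := fun x => by rw [hqj]; rfl
  have hφF : ∀ c : F, φ (algebraMap F E c) = algebraMap F E c := by
    intro c
    rw [hφ, ← map_pow, ← hF, FiniteField.pow_card]
  have hnoE : ∀ c : F, (algebraMap F E c) ^ 2 - algebraMap F E (a - l) * (algebraMap F E c)
      + algebraMap F E l⁻¹ ≠ 0 := by
    intro c hc
    apply hno c
    have : algebraMap F E (c ^ 2 - (a - l) * c + l⁻¹) = 0 := by
      simpa only [map_sub, map_add, map_mul, map_pow] using hc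
    exact (map_eq_zero _).1 this
  have hfix : ∀ x : E, φ x = x → ∃ c : F, algebraMap F E c = x := by
    intro x hx
    apply fixF
    rw [hF, ← hφ]; exact hx
  have hμ2 : (φ μ) ^ 2 - algebraMap F E (a - l) * (φ μ) + algebraMap F E l⁻¹ = 0 := by
    have h := congrArg φ hμ
    simpa only [map_sub, map_add, map_mul, map_pow, map_zero, hφF] using h
  have h12 : μ ≠ φ μ := by
    intro h
    obtain ⟨c, hc⟩ := hfix μ h.symm
    apply hnoE c
    rw [hc]; exact hμ
  have hsum : μ + φ μ = algebraMap F E (a - l) := by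
    have h : (μ - φ μ) * (μ + φ μ - algebraMap F E (a - l)) = 0 := by
      linear_combination hμ - hμ2
    rcases mul_eq_zero.1 h with h | h
    · exact absurd (sub_eq_zero.1 h) h12
    · exact sub_eq_zero.1 h
  have hprod : μ * φ μ = algebraMap F E l⁻¹ := by
    linear_combination μ * hsum - hμ
  have hl0E : algebraMap F E l⁻¹ ≠ 0 := (_root_.map_ne_zero _).2 (inv_ne_zero hl0)
  have hμ0 : μ ≠ 0 := by
    intro h
    rw [h, zero_mul] at hprod
    exact hl0E hprod.symm
  have hφμ0 : φ μ ≠ 0 := (_root_.map_ne_zero φ).2 hμ0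
  have hφφ : φ (φ μ) = μ := by
    have h : φ μ * φ (φ μ) = φ μ * μ := by
      rw [← map_mul, hprod, hφF, ← hprod, mul_comm]
    exact mul_left_cancel₀ hφμ0 h
  have hμq2 : μ ^ (q ^ 2 - 1) = 1 := by
    have h : μ ^ (q ^ 2 - 1) * μ = 1 * μ := by
      have h1 : 1 ≤ q ^ 2 := Nat.one_le_pow _ _ (by omega)
      rw [← pow_succ, Nat.sub_add_cancel h1, pow_two, pow_mul, ← hφ, ← hφ, hφφ, one_mul]
    exact mul_right_cancel₀ hμ0 h
  have hlμ : algebraMap F E l * μ ^ (q + 1) = 1 := by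
    rw [pow_succ, ← hφ, mul_comm (φ μ) μ, hprod, ← map_mul, mul_inv_cancel₀ hl0, map_one]
  set d := Nat.gcd 3 (q - 1) with hd
  have hd3 : d ∣ 3 := Nat.gcd_dvd_left _ _
  have hdq : d ∣ q - 1 := Nat.gcd_dvd_right _ _
  have hdQ : d ∣ q ^ 2 - 1 := by
    rw [n3]
    exact Dvd.dvd.mul_right hdq _
  have hdq2 : d ∣ q + 2 := by
    rw [n2]
    exact Nat.dvd_add hdq hd3
  set k := (q ^ 2 - 1) / d with hk
  have hdk : d * k = q ^ 2 - 1 := Nat.mul_div_cancel' hdQ
  have hp2 : μ ^ ((q + 2) * k) = 1 := by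
    obtain ⟨u, hu⟩ := hdq2
    rw [hu, mul_right_comm, hdk, pow_mul, hμq2, one_pow]
  have hμk : μ ^ k = algebraMap F E (l ^ k) := by
    have h1 : algebraMap F E (l ^ k) * μ ^ ((q + 1) * k) = 1 := by
      rw [map_pow, pow_mul, ← mul_pow, hlμ, one_pow]
    have h2 : (q + 2) * k = k + (q + 1) * k := by ring
    calc μ ^ k = μ ^ k * (algebraMap F E (l ^ k) * μ ^ ((q + 1) * k)) := by rw [h1, mul_one]
      _ = algebraMap F E (l ^ k) * μ ^ ((q + 2) * k) := by rw [h2, pow_add]; ring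
      _ = algebraMap F E (l ^ k) := by rw [hp2, mul_one]
  refine ⟨l ^ k, ?_⟩
  rw [cub_split a b l hl]
  have d1 : (X - C l) ∣ (X ^ k - C (l ^ k) : F[X]) := by
    rw [Polynomial.dvd_iff_isRoot]; simp
  have d2 : g ∣ (X ^ k - C (l ^ k) : F[X]) := by
    rw [← AdjoinRoot.mk_eq_zero, map_sub, map_pow, AdjoinRoot.mk_X, AdjoinRoot.mk_C, sub_eq_zero]
    exact hμk
  have hcop : IsCoprime (X - C l : F[X]) g := by
    rw [(Polynomial.irreducible_X_sub_C l).coprime_iff_not_dvd, Polynomial.dvd_iff_isRoot]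
    intro h
    apply hno l
    have : g.eval l = l ^ 2 - (a - l) * l + l⁻¹ := by rw [hg]; simp
    rw [← this]; exact h
  exact hcop.mul_dvd d1 d2

/-- three roots in the field -/
theorem lC2b (p : ℕ) [Fact p.Prime] [CharP F p] (q : ℕ) (_hq : 2 ≤ q)
    (hF : Fintype.card F = q) (a b l m : F) (hl : l ^ 3 - a * l ^ 2 + b * l - 1 = 0)
    (hm : m ^ 2 - (a - l) * m + l⁻¹ = 0) :
    ∃ (k : ℕ) (c : F), (k = q - 1 ∨ k = p * ((q - 1) / Nat.gcd 3 (q - 1)) ∨ (p = 2 ∧ k = 4)) ∧
      cub a b ∣ X ^ k - C c := by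
  have hl0 : l ≠ 0 := by rintro rfl; simp at hl
  have hb : b = l⁻¹ - l ^ 2 + a * l := by
    field_simp
    linear_combination hl
  set n := a - l - m with hn
  have hmn : m * n = l⁻¹ := by
    rw [hn]; linear_combination -hm
  have ha : a = l + m + n := by rw [hn]; ring
  have hbb : b = l * m + l * n + m * n := by
    rw [hb, hmn, hn]; ring
  have h1 : l * m * n = 1 := by
    rw [mul_assoc, hmn]; field_simp
  have hfac := cub_factor a b l m n ha hbb h1
  have hm0 : m ≠ 0 := by rintro rfl; simp at h1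
  have hn0 : n ≠ 0 := by
    intro h
    rw [h] at h1
    simp at h1
  have hpc : ∀ x : F, x ≠ 0 → x ^ (q - 1) = 1 := by
    intro x hx
    rw [← hF]; exact FiniteField.pow_card_sub_one_eq_one x hx
  by_cases hdist : l ≠ m ∧ l ≠ n ∧ m ≠ n
  · refine ⟨q - 1, 1, Or.inl rfl, ?_⟩
    rw [hfac]
    exact dvd_of_roots_distinct _ _ _ hdist.1 hdist.2.1 hdist.2.2 (q - 1) 1 (hpc l hl0)
      (hpc m hm0) (hpc n hn0)
  · set d := Nat.gcd 3 (q - 1) with hd
    have hd3 : d ∣ 3 := Nat.gcd_dvd_left _ _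
    have hdq : d ∣ q - 1 := Nat.gcd_dvd_right _ _
    set mm := (q - 1) / d with hmm
    have hdm : d * mm = q - 1 := Nat.mul_div_cancel' hdq
    have key : ∀ x y : F, x * x * y = 1 → y ^ mm = x ^ mm := by
      intro x y hxy
      have hx0 : x ≠ 0 := by rintro rfl; simp at hxy
      have hy : y = (x ^ 2)⁻¹ := by
        apply eq_inv_of_mul_eq_one_right
        rw [pow_two]; exact hxy
      have h3 : x ^ (3 * mm) = 1 := by
        obtain ⟨u, hu⟩ := hd3
        rw [hu, mul_right_comm, hdm, pow_mul, hpc x hx0, one_pow]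
      rw [hy, inv_pow, ← pow_mul]
      apply inv_eq_of_mul_eq_one_left
      rw [← pow_add]
      have : mm + 2 * mm = 3 * mm := by ring
      rw [this, h3]
    by_cases hp3 : 3 ≤ p
    · have hex : ∃ c : F, l ^ mm = c ∧ m ^ mm = c ∧ n ^ mm = c := by
        by_cases h12 : l = m
        · refine ⟨l ^ mm, rfl, by rw [h12], ?_⟩
          apply key l n
          rw [← h1, h12]
        · by_cases h13 : l = n
          · refine ⟨l ^ mm, rfl, ?_, by rw [← h13]⟩
            apply key l m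
            rw [← h1, ← h13]; ring
          · have h23 : m = n := by
              by_contra h23
              exact hdist ⟨h12, h13, h23⟩
            refine ⟨m ^ mm, ?_, rfl, by rw [h23]⟩
            apply key m l
            rw [← h1, h23]; ring
      obtain ⟨c, e1, e2, e3⟩ := hex
      refine ⟨p * mm, c ^ p, Or.inr (Or.inl rfl), ?_⟩
      rw [hfac]
      exact dvd_of_roots_char p hp3 _ _ _ mm c e1 e2 e3
    · have hp2 : p = 2 := by
        have := (Fact.out : p.Prime).two_le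
        omega
      subst hp2
      -- two equal roots and a different one
      have two : ∀ x y : F, x ≠ y → x * x * y = 1 →
          (X - C x) ^ 2 * (X - C y) ∣ (X ^ (2 * mm) - C ((x ^ mm) ^ 2) : F[X]) := by
        intro x y hxy h
        have e := key x y h
        have h2 : (X ^ (2 * mm) - C ((x ^ mm) ^ 2) : F[X]) = (X ^ mm - C (x ^ mm)) ^ 2 := by
          rw [sub_pow_char, show (C ((x ^ mm) ^ 2) : F[X]) = (C (x ^ mm)) ^ 2 from C_pow,
            ← pow_mul, mul_comm mm 2]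
        rw [h2]
        have d1 : (X - C x) ∣ (X ^ mm - C (x ^ mm) : F[X]) := by
          rw [Polynomial.dvd_iff_isRoot]; simp
        have d2 : (X - C y) ∣ (X ^ mm - C (x ^ mm) : F[X]) := by
          rw [Polynomial.dvd_iff_isRoot]; simp [e]
        have hc : IsCoprime ((X - C x : F[X]) ^ 2) (X - C y) :=
          (Polynomial.isCoprime_X_sub_C_of_isUnit_sub (sub_ne_zero.2 hxy).isUnit).pow_left
        exact hc.mul_dvd (pow_dvd_pow_of_dvd d1 2) (d2.trans (dvd_pow_self _ (by norm_num)))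
      by_cases h12 : l = m
      · by_cases h13 : l = n
        · -- all equal
          refine ⟨4, l ^ 4, Or.inr (Or.inr ⟨rfl, rfl⟩), ?_⟩
          rw [hfac, ← h12, ← h13]
          have h4 : (X ^ 4 - C (l ^ 4) : F[X]) = (X - C l) ^ 4 := by
            have : (4 : ℕ) = 2 ^ 2 := by norm_num
            rw [this, sub_pow_char_pow, C_pow]
          rw [h4]
          exact ⟨X - C l, by ring⟩
        · refine ⟨2 * mm, (l ^ mm) ^ 2, Or.inr (Or.inl rfl), ?_⟩
          have h := two l n h13 (by rw [← h1, h12])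
          rw [hfac, ← h12]
          have : (X - C l) * (X - C l) * (X - C n) = (X - C l) ^ 2 * (X - C n) := by ring
          rw [this]; exact h
      · by_cases h13 : l = n
        · refine ⟨2 * mm, (l ^ mm) ^ 2, Or.inr (Or.inl rfl), ?_⟩
          have h := two l m h12 (by rw [← h1, ← h13]; ring)
          rw [hfac, ← h13]
          have : (X - C l) * (X - C m) * (X - C l) = (X - C l) ^ 2 * (X - C m) := by ring
          rw [this]; exact h
        · have h23 : m = n := by
            by_contra h23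
            exact hdist ⟨h12, h13, h23⟩
          refine ⟨2 * mm, (m ^ mm) ^ 2, Or.inr (Or.inl rfl), ?_⟩
          have h := two m l (Ne.symm h12) (by rw [← h1, h23]; ring)
          rw [hfac, ← h23]
          have : (X - C l) * (X - C m) * (X - C m) = (X - C m) ^ 2 * (X - C l) := by ring
          rw [this]; exact h

/-- every cubic relation `M^3 - a M^2 + b M - 1 = 0` forces a scalar power -/
theorem spec_sub_alg_psl (p : ℕ) [Fact p.Prime] [CharP F p] (q j : ℕ) (hqj : q = p ^ j)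
    (hF : Fintype.card F = q)
    {R : Type*} [Ring R] [Algebra F R] (M : R) (a b : F) (hM : aeval M (cub a b) = 0) :
    ∃ (k : ℕ) (c : F), (k = (q ^ 2 + q + 1) / Nat.gcd 3 (q - 1) ∨
        k = (q ^ 2 - 1) / Nat.gcd 3 (q - 1) ∨ k = q - 1 ∨
        k = p * ((q - 1) / Nat.gcd 3 (q - 1)) ∨ (p = 2 ∧ k = 4)) ∧
      M ^ k = algebraMap F R c := by
  have hq : 2 ≤ q := by
    rw [← hF]; exact Fintype.one_lt_card
  by_cases hroot : ∃ x : F, x ^ 3 - a * x ^ 2 + b * x - 1 = 0
  · obtain ⟨l, hl⟩ := hroot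
    by_cases hroot2 : ∃ x : F, x ^ 2 - (a - l) * x + l⁻¹ = 0
    · obtain ⟨m, hm⟩ := hroot2
      obtain ⟨k, c, hk, hc⟩ := lC2b p q hq hF a b l m hl hm
      refine ⟨k, c, ?_, pow_eq_of_dvd M _ hM _ c hc⟩
      rcases hk with h | h | h
      · exact Or.inr (Or.inr (Or.inl h))
      · exact Or.inr (Or.inr (Or.inr (Or.inl h)))
      · exact Or.inr (Or.inr (Or.inr (Or.inr h)))
    · have hno : ∀ x : F, x ^ 2 - (a - l) * x + l⁻¹ ≠ 0 := fun x hx => hroot2 ⟨x, hx⟩
      obtain ⟨c, hc⟩ := lC2a p q j hqj hq hF a b l hl hno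
      exact ⟨_, c, Or.inr (Or.inl rfl), pow_eq_of_dvd M _ hM _ c hc⟩
  · have hno : ∀ x : F, x ^ 3 - a * x ^ 2 + b * x - 1 ≠ 0 := fun x hx => hroot ⟨x, hx⟩
    obtain ⟨c, hc⟩ := lC1 p q j hqj hq hF a b hno
    exact ⟨_, c, Or.inl rfl, pow_eq_of_dvd M _ hM _ c hc⟩

end Cfsg.Agent.Lib.helper99.PslSpec
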