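import Mathlib
import Cfsg.Agent.Lib.helper99.PsuSpecB

set_option autoImplicit false

/-!
# Spectrum of `PSU_3(q)`, `q` odd: elements of orders `q+1`, `p(q+1)/d`, `(q^2-1)/d` (helper99)
-/

namespace Cfsg.Agent.Lib.helper99.PsuSpec

open Cfsg Matrix Cfsg.Agent.Lib.helper7 Cfsg.Agent.Lib.helper48

variable {F : Type*} [Field F] [Fintype F]

theorem exists_orderOf (n : ℕ) (hn : n ∣ Fintype.card F - 1) : ∃ x : F, orderOf x = n := by
  classical
  obtain ⟨g, hg⟩ := IsCyclic.exists_ofOrder_eq_natCard (α := Fˣ)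
  rw [Nat.card_eq_fintype_card, Fintype.card_units] at hg
  have hpos : 0 < Fintype.card F - 1 := by
    have := Fintype.one_lt_card (α := F)
    omega
  obtain ⟨m, hm⟩ := hn
  have hm0 : m ≠ 0 := by
    rintro rfl
    simp at hm
    omega
  refine ⟨((g ^ m : Fˣ) : F), ?_⟩
  rw [orderOf_units, orderOf_pow_of_dvd hm0 (by rw [hg, hm]; exact dvd_mul_left m n), hg, hm,
    Nat.mul_div_cancel _ (Nat.pos_of_ne_zero hm0)]

theorem ex1 (q : ℕ) (hq : 2 ≤ q) (hF : Fintype.card F = q ^ 2) :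
    ∃ M : Matrix (Fin 3) (Fin 3) F, IsIsom 3 q M ∧ M.det = 1 ∧
      ∀ (k : ℕ) (c : F), M ^ k = c • (1 : Matrix (Fin 3) (Fin 3) F) → (q + 1) ∣ k := by
  obtain ⟨l, hl⟩ := exists_orderOf (F := F) (q + 1)
    (by rw [hF, nt_sq_sub_one q (by omega)]; exact dvd_mul_right _ _)
  have hl1 : l ^ (q + 1) = 1 := by rw [← hl]; exact pow_orderOf_eq_one l
  have hl0 : l ≠ 0 := by
    rintro rfl
    simp at hl1
  refine ⟨Matrix.diagonal ![l, l⁻¹, 1], ?_, ?_, ?_⟩
  · apply diagonal_isIsom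
    intro i
    fin_cases i
    · simp only [Fin.zero_eta, Matrix.cons_val_zero]
      rw [← pow_succ']; exact hl1
    · simp only [Fin.mk_one, Matrix.cons_val_one, Matrix.cons_val_zero]
      rw [inv_pow, ← mul_inv, ← pow_succ', hl1, inv_one]
    · simp
  · rw [Matrix.det_diagonal, Fin.prod_univ_three]
    simp [hl0]
  · intro k c hk
    rw [Matrix.diagonal_pow] at hk
    have h0 := congrFun (congrFun hk 0) 0
    have h2 := congrFun (congrFun hk 2) 2
    simp at h0 h2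
    rw [← hl]
    apply orderOf_dvd_of_pow_eq_one
    rw [h0, ← h2]

theorem ex3 (q : ℕ) (hq : 3 ≤ q) (hF : Fintype.card F = q ^ 2) (σ : F →+* F)
    (hσ : ∀ x, σ x = x ^ q) (hσne : σ ≠ RingHom.id F) (hσ2 : ∀ a, σ (σ a) = a) :
    ∃ M : Matrix (Fin 3) (Fin 3) F, IsIsom 3 q M ∧ M.det = 1 ∧
      ∀ (k : ℕ) (c : F), M ^ k = c • (1 : Matrix (Fin 3) (Fin 3) F) →
        ((q ^ 2 - 1) / Nat.gcd 3 (q + 1)) ∣ k := by
  obtain ⟨m, hm⟩ := exists_orderOf (F := F) (q ^ 2 - 1) (by rw [hF])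
  have hQ : 0 < q ^ 2 - 1 := by
    have : 1 < q ^ 2 := Nat.one_lt_pow (by norm_num) (by omega)
    omega
  have hm1 : m ^ (q ^ 2 - 1) = 1 := by rw [← hm]; exact pow_orderOf_eq_one m
  have hm0 : m ≠ 0 := by
    rintro rfl
    rw [zero_pow (by omega)] at hm1
    exact zero_ne_one hm1
  have hmq0 : m ^ q ≠ 0 := pow_ne_zero _ hm0
  have hqq : (m ^ q) ^ q = m := by rw [← hσ, ← hσ, hσ2]
  apply exists_of_Jm q (by omega) σ hσ hσne hσ2 (Matrix.diagonal ![m, m ^ q * m⁻¹, (m ^ q)⁻¹])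
  · have hq0 : q ≠ 0 := by omega
    ext i j
    fin_cases i <;> fin_cases j <;>
      simp [cstar, Jm, Matrix.mul_apply, Fin.sum_univ_three, hσ, hqq, mul_pow, hm0, hq0]
    field_simp
  · rw [Matrix.det_diagonal, Fin.prod_univ_three]
    simp
    field_simp
  · intro k c hk
    rw [Matrix.diagonal_pow] at hk
    have h0 := congrFun (congrFun hk 0) 0
    have h1 := congrFun (congrFun hk 1) 1
    have h2 := congrFun (congrFun hk 2) 2
    simp at h0 h1 h2
    have hmk0 : m ^ k ≠ 0 := pow_ne_zero _ hm0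
    have e1 : m ^ ((q + 1) * k) = 1 := by
      have : (m ^ q) ^ k * m ^ k = 1 := by
        rw [h0, ← h2]
        field_simp
      rw [← this, ← pow_mul, ← pow_add]
      congr 1
      ring
    have e2 : m ^ ((q - 2) * k) = 1 := by
      have h3 : (m ^ q) ^ k = m ^ k * m ^ k := by
        rw [mul_pow, inv_pow, ← h0] at h1
        field_simp at h1
        rw [h1]; ring
      have hq2 : (q - 2) * k + 2 * k = q * k := by
        rw [← add_mul]; congr 1; omega
      have h4 : m ^ ((q - 2) * k) * (m ^ k * m ^ k) = m ^ k * m ^ k := by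
        calc m ^ ((q - 2) * k) * (m ^ k * m ^ k) = m ^ ((q - 2) * k + 2 * k) := by
              rw [pow_add, two_mul, pow_add]
          _ = m ^ (q * k) := by rw [hq2]
          _ = (m ^ q) ^ k := by rw [pow_mul]
          _ = m ^ k * m ^ k := h3
      exact mul_right_cancel₀ (mul_ne_zero hmk0 hmk0) (by rw [h4, one_mul])
    have d1 : q ^ 2 - 1 ∣ (q + 1) * k := by rw [← hm]; exact orderOf_dvd_of_pow_eq_one e1
    have d2 : q ^ 2 - 1 ∣ (q - 2) * k := by rw [← hm]; exact orderOf_dvd_of_pow_eq_one e2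
    have d3 := Nat.dvd_gcd d1 d2
    rw [Nat.gcd_mul_right] at d3
    have hg : Nat.gcd (q + 1) (q - 2) = Nat.gcd 3 (q + 1) := by
      have : q + 1 = q - 2 + 3 := by omega
      rw [this, Nat.gcd_self_add_left, Nat.gcd_comm 3 (q - 2 + 3), Nat.gcd_add_self_left,
        Nat.gcd_comm]
    rw [hg] at d3
    set d := Nat.gcd 3 (q + 1) with hd
    have hd3 : d ∣ 3 := Nat.gcd_dvd_left _ _
    have hdq : d ∣ q + 1 := Nat.gcd_dvd_right _ _
    have hd0 : 0 < d := Nat.pos_of_dvd_of_pos hd3 (by norm_num)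
    have hdQ : d ∣ q ^ 2 - 1 := by
      rw [nt_sq_sub_one q (by omega)]
      exact Dvd.dvd.mul_right hdq _
    have hde : d * ((q ^ 2 - 1) / d) = q ^ 2 - 1 := Nat.mul_div_cancel' hdQ
    rw [← hde] at d3
    exact Nat.dvd_of_mul_dvd_mul_left hd0 d3

theorem ex2 (p : ℕ) [Fact p.Prime] [CharP F p] (q : ℕ) (hq : 3 ≤ q) (hpq : p ∣ q)
    (hF : Fintype.card F = q ^ 2) (σ : F →+* F)
    (hσ : ∀ x, σ x = x ^ q) (hσne : σ ≠ RingHom.id F) (hσ2 : ∀ a, σ (σ a) = a) :
    ∃ M : Matrix (Fin 3) (Fin 3) F, IsIsom 3 q M ∧ M.det = 1 ∧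
      ∀ (k : ℕ) (c : F), M ^ k = c • (1 : Matrix (Fin 3) (Fin 3) F) →
        (p * ((q + 1) / Nat.gcd 3 (q + 1))) ∣ k := by
  obtain ⟨l, hl⟩ := exists_orderOf (F := F) (q + 1)
    (by rw [hF, nt_sq_sub_one q (by omega)]; exact dvd_mul_right _ _)
  have hl1 : l ^ (q + 1) = 1 := by rw [← hl]; exact pow_orderOf_eq_one l
  have hl0 : l ≠ 0 := by
    rintro rfl
    simp at hl1
  have hσl : σ l = l⁻¹ := by
    rw [hσ]
    apply eq_inv_of_mul_eq_one_left
    rw [← pow_succ]; exact hl1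
  -- an element with `c ^ q = - c`
  obtain ⟨c, hc0, hσc⟩ : ∃ c : F, c ≠ 0 ∧ σ c = -c := by
    have hex : ∃ x : F, σ x ≠ x := by
      by_contra h
      apply hσne
      ext x
      by_contra hx
      exact h ⟨x, hx⟩
    obtain ⟨x, hx⟩ := hex
    refine ⟨x - σ x, fun h => hx (sub_eq_zero.1 h).symm, ?_⟩
    rw [map_sub, hσ2]; ring
  set D : Matrix (Fin 3) (Fin 3) F := !![l, 0, l * c; 0, (l ^ 2)⁻¹, 0; 0, 0, l] with hD
  apply exists_of_Jm q (by omega) σ hσ hσne hσ2 D
  · ext i j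
    fin_cases i <;> fin_cases j <;>
      simp [hD, cstar, Jm, Matrix.mul_apply, Fin.sum_univ_three, hσl, hσc, hl0]
    field_simp
    ring
  · rw [Matrix.det_fin_three]
    simp [hD]
    field_simp
  · intro k c' hk
    have hpow : ∀ k : ℕ, D ^ k = !![l ^ k, 0, k * l ^ k * c; 0, ((l ^ 2)⁻¹) ^ k, 0; 0, 0, l ^ k] := by
      intro k
      induction k with
      | zero =>
        ext i j
        fin_cases i <;> fin_cases j <;> simp
      | succ k ih =>
        rw [pow_succ, ih, hD]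
        ext i j
        fin_cases i <;> fin_cases j <;>
          simp [Matrix.mul_apply, Fin.sum_univ_three, pow_succ] <;> ring
    rw [hpow] at hk
    have h00 := congrFun (congrFun hk 0) 0
    have h11 := congrFun (congrFun hk 1) 1
    have h02 := congrFun (congrFun hk 0) 2
    simp at h00 h11 h02
    have hlk0 : l ^ k ≠ 0 := pow_ne_zero _ hl0
    have hpk : p ∣ k := by
      rw [← CharP.cast_eq_zero_iff F p]
      rcases h02 with (h | ⟨h, -⟩) | h
      · exact h
      · exact absurd h hl0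
      · exact absurd h hc0
    have e3 : l ^ (3 * k) = 1 := by
      have h : l ^ k * (l ^ 2) ^ k = 1 := by
        rw [h00, ← h11, inv_mul_cancel₀ (pow_ne_zero _ (pow_ne_zero _ hl0))]
      rw [← h, ← pow_mul, ← pow_add]
      congr 1
      ring
    have d1 : q + 1 ∣ 3 * k := by rw [← hl]; exact orderOf_dvd_of_pow_eq_one e3
    set d := Nat.gcd 3 (q + 1) with hd
    have hd3 : d ∣ 3 := Nat.gcd_dvd_left _ _
    have hdq : d ∣ q + 1 := Nat.gcd_dvd_right _ _
    have hd0 : 0 < d := Nat.pos_of_dvd_of_pos hd3 (by norm_num)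
    have hcop : Nat.Coprime (3 / d) ((q + 1) / d) := Nat.coprime_div_gcd_div_gcd hd0
    have hdm : d * ((q + 1) / d) = q + 1 := Nat.mul_div_cancel' hdq
    have hdw : d * (3 / d) = 3 := Nat.mul_div_cancel' hd3
    have d2 : (q + 1) / d ∣ k := by
      rw [← hdm, ← hdw, mul_assoc] at d1
      have := Nat.dvd_of_mul_dvd_mul_left hd0 d1
      exact hcop.symm.dvd_of_dvd_mul_left this
    have hcop2 : Nat.Coprime p ((q + 1) / d) := by
      have h1 : Nat.Coprime p (q + 1) := by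
        rw [Nat.coprime_comm]
        apply Nat.Coprime.coprime_dvd_right hpq
        simp
      exact Nat.Coprime.coprime_dvd_right (Nat.div_dvd_of_dvd hdq) h1
    exact hcop2.mul_dvd_of_dvd_of_dvd hpk d2

end Cfsg.Agent.Lib.helper99.PsuSpec
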