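import Mathlib
import Cfsg.Agent.Lib.helper99.PslSpecA
import Cfsg.Agent.Lib.helper99.PsuSpecC

set_option autoImplicit false

/-!
# Spectrum of `PSL_3(q)`: orders in `PSL_3` and elements of the maximal orders (helper99)
-/

namespace Cfsg.Agent.Lib.helper99.PslSpec

open Polynomial Cfsg.Agent.Lib.helper99.PsuSpec Matrix

variable {F : Type*} [Field F] [Fintype F]

omit [Fintype F] in
theorem psl_pow_eq_one_iff (g : Matrix.SpecialLinearGroup (Fin 3) F) (k : ℕ) :
    (QuotientGroup.mk g : Matrix.ProjectiveSpecialLinearGroup (Fin 3) F) ^ k = 1 ↔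
      ∃ c : F, g.1 ^ k = c • (1 : Matrix (Fin 3) (Fin 3) F) := by
  rw [← QuotientGroup.mk_pow, QuotientGroup.eq_one_iff]
  constructor
  · intro h
    obtain ⟨r, -, hr⟩ := Matrix.SpecialLinearGroup.mem_center_iff.1 h
    refine ⟨r, ?_⟩
    have h2 : ((g ^ k : Matrix.SpecialLinearGroup (Fin 3) F) : Matrix (Fin 3) (Fin 3) F)
        = g.1 ^ k := by simp
    rw [← h2, ← hr]
    ext i j
    simp [Matrix.scalar_apply, Matrix.smul_apply, Matrix.diagonal_apply, Matrix.one_apply]
  · rintro ⟨c, hc⟩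
    rw [Subgroup.mem_center_iff]
    intro h
    apply Subtype.ext
    have h2 : ((g ^ k : Matrix.SpecialLinearGroup (Fin 3) F) : Matrix (Fin 3) (Fin 3) F)
        = g.1 ^ k := by simp
    change h.1 * (g ^ k).1 = (g ^ k).1 * h.1
    rw [show (g ^ k).1 = g.1 ^ k from h2, hc, Matrix.mul_smul, Matrix.smul_mul, mul_one, one_mul]

/-- every element of `SL_3(q)` has a scalar power with one of the exponents of the spectrum -/
theorem spec_sub_mat_psl (p : ℕ) [Fact p.Prime] [CharP F p] (q j : ℕ) (hqj : q = p ^ j)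
    (hF : Fintype.card F = q) (M : Matrix (Fin 3) (Fin 3) F) (hdet : M.det = 1) :
    ∃ (k : ℕ) (c : F), (k = (q ^ 2 + q + 1) / Nat.gcd 3 (q - 1) ∨
        k = (q ^ 2 - 1) / Nat.gcd 3 (q - 1) ∨ k = q - 1 ∨
        k = p * ((q - 1) / Nat.gcd 3 (q - 1)) ∨ (p = 2 ∧ k = 4)) ∧
      M ^ k = c • (1 : Matrix (Fin 3) (Fin 3) F) := by
  have h := ch3 M
  rw [hdet, one_smul] at h
  have hM' : aeval M (cub M.trace M.adjugate.trace) = 0 := by
    unfold cub
    simp only [map_sub, map_add, map_mul, map_pow, aeval_X, aeval_C, map_one]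
    rw [← h]
    simp [Algebra.smul_def]
  obtain ⟨k, c, hk, hc⟩ := spec_sub_alg_psl p q j hqj hF M M.trace M.adjugate.trace hM'
  exact ⟨k, c, hk, by rw [hc, Algebra.algebraMap_eq_smul_one]⟩

theorem pl_ex1 (q : ℕ) (hF : Fintype.card F = q) :
    ∃ M : Matrix (Fin 3) (Fin 3) F, M.det = 1 ∧
      ∀ (k : ℕ) (c : F), M ^ k = c • (1 : Matrix (Fin 3) (Fin 3) F) → (q - 1) ∣ k := by
  obtain ⟨l, hl⟩ := exists_orderOf (F := F) (q - 1) (by rw [hF])
  have hl0 : l ≠ 0 := by
    rintro rfl
    have h1 : (0 : F) ^ (q - 1) = 1 := by rw [← hl]; exact pow_orderOf_eq_one _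
    by_cases hq1 : q - 1 = 0
    · have := Fintype.one_lt_card (α := F)
      omega
    · rw [zero_pow hq1] at h1
      exact zero_ne_one h1
  refine ⟨Matrix.diagonal ![l, l⁻¹, 1], ?_, ?_⟩
  · rw [Matrix.det_diagonal, Fin.prod_univ_three]
    simp [hl0]
  · intro k c hk
    rw [Matrix.diagonal_pow] at hk
    have h0 := congrFun (congrFun hk 0) 0
    have h2 := congrFun (congrFun hk 2) 2
    simp at h0 h2
    rw [← hl]
    apply orderOf_dvd_of_pow_eq_one
    rw [h0, ← h2]

theorem pl_ex2 (p : ℕ) [Fact p.Prime] [CharP F p] (q : ℕ) (hpq : p ∣ q)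
    (hF : Fintype.card F = q) :
    ∃ M : Matrix (Fin 3) (Fin 3) F, M.det = 1 ∧
      ∀ (k : ℕ) (c : F), M ^ k = c • (1 : Matrix (Fin 3) (Fin 3) F) →
        (p * ((q - 1) / Nat.gcd 3 (q - 1))) ∣ k := by
  have hq : 2 ≤ q := by rw [← hF]; exact Fintype.one_lt_card
  obtain ⟨l, hl⟩ := exists_orderOf (F := F) (q - 1) (by rw [hF])
  have hl0 : l ≠ 0 := by
    rintro rfl
    have h1 : (0 : F) ^ (q - 1) = 1 := by rw [← hl]; exact pow_orderOf_eq_one _
    rw [zero_pow (by omega)] at h1
    exact zero_ne_one h1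
  set D : Matrix (Fin 3) (Fin 3) F := !![l, l, 0; 0, l, 0; 0, 0, (l ^ 2)⁻¹] with hD
  refine ⟨D, ?_, ?_⟩
  · rw [Matrix.det_fin_three]
    simp [hD]
    field_simp
  · intro k c' hk
    have hpow : ∀ k : ℕ, D ^ k = !![l ^ k, k * l ^ k, 0; 0, l ^ k, 0; 0, 0, ((l ^ 2)⁻¹) ^ k] := by
      intro k
      induction k with
      | zero =>
        ext i j
        fin_cases i <;> fin_cases j <;> simp
      | succ k ih =>
        rw [pow_succ, ih, hD]
        ext i j
        fin_cases i <;> fin_cases j <;>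
          simp [Matrix.mul_apply, Fin.sum_univ_three, pow_succ] <;> ring
    rw [hpow] at hk
    have h00 := congrFun (congrFun hk 0) 0
    have h22 := congrFun (congrFun hk 2) 2
    have h01 := congrFun (congrFun hk 0) 1
    simp at h00 h22 h01
    have hpk : p ∣ k := by
      rw [← CharP.cast_eq_zero_iff F p]
      rcases h01 with h | ⟨h, -⟩
      · exact h
      · exact absurd h hl0
    have e3 : l ^ (3 * k) = 1 := by
      have h : l ^ k * (l ^ 2) ^ k = 1 := by
        rw [h00, ← h22, inv_mul_cancel₀ (pow_ne_zero _ (pow_ne_zero _ hl0))]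
      rw [← h, ← pow_mul, ← pow_add]
      congr 1
      ring
    have d1 : q - 1 ∣ 3 * k := by rw [← hl]; exact orderOf_dvd_of_pow_eq_one e3
    set d := Nat.gcd 3 (q - 1) with hd
    have hd3 : d ∣ 3 := Nat.gcd_dvd_left _ _
    have hdq : d ∣ q - 1 := Nat.gcd_dvd_right _ _
    have hd0 : 0 < d := Nat.pos_of_dvd_of_pos hd3 (by norm_num)
    have hcop : Nat.Coprime (3 / d) ((q - 1) / d) := Nat.coprime_div_gcd_div_gcd hd0
    have hdm : d * ((q - 1) / d) = q - 1 := Nat.mul_div_cancel' hdq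
    have hdw : d * (3 / d) = 3 := Nat.mul_div_cancel' hd3
    have d2 : (q - 1) / d ∣ k := by
      rw [← hdm, ← hdw, mul_assoc] at d1
      have := Nat.dvd_of_mul_dvd_mul_left hd0 d1
      exact hcop.symm.dvd_of_dvd_mul_left this
    have hcop2 : Nat.Coprime p ((q - 1) / d) := by
      have h1 : Nat.Coprime p (q - 1) := by
        rw [Nat.coprime_comm]
        apply Nat.Coprime.coprime_dvd_right hpq
        have : q = q - 1 + 1 := by omega
        nth_rewrite 2 [this]
        simp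
      exact Nat.Coprime.coprime_dvd_right (Nat.div_dvd_of_dvd hdq) h1
    exact hcop2.mul_dvd_of_dvd_of_dvd hpk d2

theorem pl_ex3 (p : ℕ) [Fact p.Prime] [CharP F p] (q : ℕ) (hF : Fintype.card F = q) :
    ∃ M : Matrix (Fin 3) (Fin 3) F, M.det = 1 ∧
      ∀ (k : ℕ) (c : F), M ^ k = c • (1 : Matrix (Fin 3) (Fin 3) F) →
        ((q ^ 2 - 1) / Nat.gcd 3 (q - 1)) ∣ k := by
  classical
  have hq : 2 ≤ q := by rw [← hF]; exact Fintype.one_lt_card
  obtain ⟨n1, n2, n3, n4⟩ := nt_l q (by omega)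
  let E := FiniteField.Extension F p 2
  have hfr : Module.finrank F E = 2 := FiniteField.finrank_extension F p 2
  let _ : Fintype E := Fintype.ofFinite E
  have hcardE : Fintype.card E = q ^ 2 := by
    rw [Fintype.card_eq_nat_card, FiniteField.natCard_extension, Nat.card_eq_fintype_card, hF]
  let b : Module.Basis (Fin 2) F E := Module.finBasisOfFinrankEq F E hfr
  obtain ⟨ζ, hζ⟩ := IsCyclic.exists_ofOrder_eq_natCard (α := Eˣ)
  rw [Nat.card_eq_fintype_card, Fintype.card_units, hcardE] at hζ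
  let μ : E := (ζ : E)
  have hμ : orderOf μ = q ^ 2 - 1 := by rw [orderOf_units]; exact hζ
  have hμ0 : μ ≠ 0 := ζ.ne_zero
  let L := Algebra.leftMulMatrix b
  set A : Matrix (Fin 2) (Fin 2) F := L μ with hA
  set δ := A.det with hδ
  have hδ0 : δ ≠ 0 := by
    intro h
    have h2 : L μ * L ((ζ⁻¹ : Eˣ) : E) = 1 := by
      rw [← map_mul, Units.mul_inv, map_one]
    have h3 := congrArg Matrix.det h2
    rw [Matrix.det_mul, ← hA, ← hδ, h, zero_mul, Matrix.det_one] at h3
    exact zero_ne_one h3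
  have hnorm : algebraMap F E δ = μ ^ (q + 1) := by
    rw [hδ, hA, ← Algebra.norm_eq_matrix_det b μ, FiniteField.algebraMap_norm_eq_pow_sum, hfr]
    congr 1
    simp [Finset.sum_range_succ, Nat.card_eq_fintype_card, hF]
    ring
  set M : Matrix (Fin 3) (Fin 3) F := !![A 0 0, A 0 1, 0; A 1 0, A 1 1, 0; 0, 0, δ⁻¹] with hM
  refine ⟨M, ?_, ?_⟩
  · rw [Matrix.det_fin_three]
    simp only [hM, Matrix.of_apply, Matrix.cons_val', Matrix.cons_val_zero, Matrix.cons_val_one,
      Matrix.cons_val_two, Matrix.empty_val', Matrix.cons_val_fin_one, Matrix.head_cons,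
      Matrix.tail_cons]
    have hdet2 : A 0 0 * A 1 1 - A 0 1 * A 1 0 = δ := by rw [hδ, Matrix.det_fin_two]
    simp
    rw [← sub_mul, hdet2, mul_inv_cancel₀ hδ0]
  · intro k c hk
    have hpow : ∀ k : ℕ, M ^ k
        = !![(A ^ k) 0 0, (A ^ k) 0 1, 0; (A ^ k) 1 0, (A ^ k) 1 1, 0; 0, 0, (δ⁻¹) ^ k] := by
      intro k
      induction k with
      | zero =>
        ext i j
        fin_cases i <;> fin_cases j <;> simp
      | succ k ih =>
        rw [pow_succ, ih, hM, pow_succ]
        ext i j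
        fin_cases i <;> fin_cases j <;>
          simp [Matrix.mul_apply, Fin.sum_univ_three, Fin.sum_univ_two]
        rw [pow_succ, mul_inv]
    rw [hpow] at hk
    have hAk : A ^ k = c • (1 : Matrix (Fin 2) (Fin 2) F) := by
      ext i j
      fin_cases i <;> fin_cases j
      · have := congrFun (congrFun hk 0) 0
        simpa using this
      · have := congrFun (congrFun hk 0) 1
        simpa using this
      · have := congrFun (congrFun hk 1) 0
        simpa using this
      · have := congrFun (congrFun hk 1) 1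
        simpa using this
    have hδk : (δ⁻¹) ^ k = c := by
      have := congrFun (congrFun hk 2) 2
      simpa using this
    have hμk : μ ^ k = algebraMap F E c := by
      apply Algebra.leftMulMatrix_injective b
      change L (μ ^ k) = L (algebraMap F E c)
      rw [map_pow, ← hA, hAk, AlgHom.commutes, Algebra.algebraMap_eq_smul_one]
    have hc0 : c ≠ 0 := by
      rintro rfl
      rw [map_zero] at hμk
      exact pow_ne_zero k hμ0 hμk
    have e1 : μ ^ (k * (q - 1)) = 1 := by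
      rw [pow_mul, hμk, ← map_pow, ← hF, FiniteField.pow_card_sub_one_eq_one _ hc0, map_one]
    have e2 : μ ^ (k * (q + 2)) = 1 := by
      have h1 : algebraMap F E c * μ ^ ((q + 1) * k) = 1 := by
        rw [← hδk, map_pow, map_inv₀, hnorm, pow_mul, ← mul_pow,
          inv_mul_cancel₀ (pow_ne_zero _ hμ0), one_pow]
      rw [← hμk] at h1
      rw [← h1, ← pow_add]
      congr 1
      ring
    have d1 : q ^ 2 - 1 ∣ k * (q - 1) := by rw [← hμ]; exact orderOf_dvd_of_pow_eq_one e1
    have d2 : q ^ 2 - 1 ∣ k * (q + 2) := by rw [← hμ]; exact orderOf_dvd_of_pow_eq_one e2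
    have d3 := Nat.dvd_gcd d1 d2
    rw [Nat.gcd_mul_left] at d3
    have hg : Nat.gcd (q - 1) (q + 2) = Nat.gcd 3 (q - 1) := by
      rw [n2]
      simp [Nat.gcd_comm]
    rw [hg] at d3
    set d := Nat.gcd 3 (q - 1) with hd
    have hd3 : d ∣ 3 := Nat.gcd_dvd_left _ _
    have hdq : d ∣ q - 1 := Nat.gcd_dvd_right _ _
    have hd0 : 0 < d := Nat.pos_of_dvd_of_pos hd3 (by norm_num)
    have hdQ : d ∣ q ^ 2 - 1 := by
      rw [n3]
      exact Dvd.dvd.mul_right hdq _
    have hde : d * ((q ^ 2 - 1) / d) = q ^ 2 - 1 := Nat.mul_div_cancel' hdQ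
    rw [← hde, mul_comm k d] at d3
    exact Nat.dvd_of_mul_dvd_mul_left hd0 d3

theorem pl_ex4 (p : ℕ) [Fact p.Prime] [CharP F p] (q : ℕ) (hF : Fintype.card F = q) :
    ∃ M : Matrix (Fin 3) (Fin 3) F, M.det = 1 ∧
      ∀ (k : ℕ) (c : F), M ^ k = c • (1 : Matrix (Fin 3) (Fin 3) F) →
        ((q ^ 2 + q + 1) / Nat.gcd 3 (q - 1)) ∣ k := by
  classical
  have hq : 2 ≤ q := by rw [← hF]; exact Fintype.one_lt_card
  obtain ⟨n1, n2, n3, n4⟩ := nt_l q (by omega)
  let E := FiniteField.Extension F p 3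
  have hfr : Module.finrank F E = 3 := FiniteField.finrank_extension F p 3
  let _ : Fintype E := Fintype.ofFinite E
  have hcardE : Fintype.card E = q ^ 3 := by
    rw [Fintype.card_eq_nat_card, FiniteField.natCard_extension, Nat.card_eq_fintype_card, hF]
  let b : Module.Basis (Fin 3) F E := Module.finBasisOfFinrankEq F E hfr
  obtain ⟨ζ, hζ⟩ := IsCyclic.exists_ofOrder_eq_natCard (α := Eˣ)
  rw [Nat.card_eq_fintype_card, Fintype.card_units, hcardE, n4] at hζ
  set N := q ^ 2 + q + 1 with hN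
  have hq10 : q - 1 ≠ 0 := by omega
  let θu : Eˣ := ζ ^ (q - 1)
  have hθu : orderOf θu = N := by
    rw [orderOf_pow_of_dvd hq10 (by rw [hζ]; exact dvd_mul_right _ _), hζ,
      Nat.mul_div_cancel_left _ (Nat.pos_of_ne_zero hq10)]
  let θ : E := (θu : E)
  have hθ : orderOf θ = N := by rw [orderOf_units]; exact hθu
  have hθ0 : θ ≠ 0 := θu.ne_zero
  let L := Algebra.leftMulMatrix b
  set M : Matrix (Fin 3) (Fin 3) F := L θ with hM
  have hdet : M.det = 1 := by
    have h1 : M = (L (ζ : E)) ^ (q - 1) := by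
      rw [hM, ← map_pow]
      congr 1
    have hd0 : (L (ζ : E)).det ≠ 0 := by
      intro h
      have h2 : L (ζ : E) * L ((ζ⁻¹ : Eˣ) : E) = 1 := by
        rw [← map_mul, Units.mul_inv, map_one]
      have h3 := congrArg Matrix.det h2
      rw [Matrix.det_mul, h, zero_mul, Matrix.det_one] at h3
      exact zero_ne_one h3
    rw [h1, Matrix.det_pow, ← hF, FiniteField.pow_card_sub_one_eq_one _ hd0]
  refine ⟨M, hdet, ?_⟩
  intro k c hk
  have hθk : θ ^ k = algebraMap F E c := by
    apply Algebra.leftMulMatrix_injective b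
    change L (θ ^ k) = L (algebraMap F E c)
    rw [map_pow, ← hM, hk, AlgHom.commutes, Algebra.algebraMap_eq_smul_one]
  have hc0 : c ≠ 0 := by
    rintro rfl
    rw [map_zero] at hθk
    exact pow_ne_zero k hθ0 hθk
  have hpow : θ ^ (k * (q - 1)) = 1 := by
    rw [pow_mul, hθk, ← map_pow, ← hF, FiniteField.pow_card_sub_one_eq_one _ hc0, map_one]
  have d1 : N ∣ k * (q - 1) := by rw [← hθ]; exact orderOf_dvd_of_pow_eq_one hpow
  have hg : Nat.gcd N (q - 1) = Nat.gcd 3 (q - 1) := by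
    rw [n1]
    simp
  set d := Nat.gcd 3 (q - 1) with hd
  have hd3 : d ∣ 3 := Nat.gcd_dvd_left _ _
  have hdq : d ∣ q - 1 := Nat.gcd_dvd_right _ _
  have hd0 : 0 < d := Nat.pos_of_dvd_of_pos hd3 (by norm_num)
  have hdN : d ∣ N := by rw [← hg]; exact Nat.gcd_dvd_left _ _
  have hcop : Nat.Coprime (N / d) ((q - 1) / d) := by
    have := Nat.coprime_div_gcd_div_gcd (m := N) (n := q - 1) (by rw [hg]; exact hd0)
    rwa [hg] at this
  have hdm : d * ((q - 1) / d) = q - 1 := Nat.mul_div_cancel' hdq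
  have hdn : d * (N / d) = N := Nat.mul_div_cancel' hdN
  rw [← hdm, ← hdn, mul_left_comm] at d1
  have d3 := Nat.dvd_of_mul_dvd_mul_left hd0 d1
  exact hcop.dvd_of_dvd_mul_right d3

omit [Fintype F] in
theorem pl_ex5 [CharP F 2] :
    ∃ M : Matrix (Fin 3) (Fin 3) F, M.det = 1 ∧
      ∀ (k : ℕ) (c : F), M ^ k = c • (1 : Matrix (Fin 3) (Fin 3) F) → 4 ∣ k := by
  have h2 : (2 : F) = 0 := CharTwo.two_eq_zero
  set u : Matrix (Fin 3) (Fin 3) F := !![1, 1, 0; 0, 1, 1; 0, 0, 1] with hu
  have hu2 : u ^ 2 = !![1, 0, 1; 0, 1, 0; 0, 0, 1] := by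
    rw [pow_two, hu]
    ext i j
    fin_cases i <;> fin_cases j <;> simp [Matrix.mul_apply, Fin.sum_univ_three]
    · linear_combination h2
    · linear_combination h2
  have hu3 : u ^ 3 = !![1, 1, 1; 0, 1, 1; 0, 0, 1] := by
    rw [pow_succ, hu2, hu]
    ext i j
    fin_cases i <;> fin_cases j <;> simp [Matrix.mul_apply, Fin.sum_univ_three]
  have hu4 : u ^ 4 = 1 := by
    rw [pow_succ, hu3, hu]
    ext i j
    fin_cases i <;> fin_cases j <;> simp [Matrix.mul_apply, Fin.sum_univ_three]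
    · linear_combination h2
    · linear_combination h2
    · linear_combination h2
  refine ⟨u, ?_, ?_⟩
  · rw [Matrix.det_fin_three]
    simp [hu]
  · intro k c hk
    rw [pow_eq_pow_mod k hu4] at hk
    have hlt : k % 4 < 4 := Nat.mod_lt _ (by norm_num)
    rw [Nat.dvd_iff_mod_eq_zero]
    interval_cases h : k % 4
    · rfl
    · exfalso
      rw [pow_one, hu] at hk
      have := congrFun (congrFun hk 0) 1
      simp at this
    · exfalso
      rw [hu2] at hk
      have := congrFun (congrFun hk 0) 2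
      simp at this
    · exfalso
      rw [hu3] at hk
      have := congrFun (congrFun hk 0) 1
      simp at this

end Cfsg.Agent.Lib.helper99.PslSpec
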