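import Mathlib
import Cfsg.Agent.Lib.helper99.PsuSpecB

set_option autoImplicit false

/-!
# Spectrum of `PSU_3(q)`, `q` odd: the Singer-type element of order `(q^2-q+1)/d` (helper99)

The cubic extension `E` of `F` carries the Hermitian form `(x, y) ↦ Tr_{E/F}(x^{q^3} y)`;
multiplication by an element of order `q^2 - q + 1` is an isometry of determinant `1`, written
in an orthonormal basis.
-/

namespace Cfsg.Agent.Lib.helper99.PsuSpec

open Cfsg Matrix Cfsg.Agent.Lib.helper7 Cfsg.Agent.Lib.helper48 Cfsg.Agent.Lib.helper17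

variable {F : Type*} [Field F] [Fintype F]

theorem nt_six (q : ℕ) (hq : 1 ≤ q) :
    (q ^ 2) ^ 3 - 1 = (q ^ 3 - 1) * (q + 1) * (q ^ 2 - q + 1) ∧
      (q ^ 3 - 1) * (q + 1) = (q ^ 2 - 1) * (q ^ 2 + q + 1) ∧
      q ^ 3 + 1 = (q + 1) * (q ^ 2 - q + 1) ∧ q ^ 2 - q + 1 = q * (q - 1) + 1 := by
  obtain ⟨r, rfl⟩ : ∃ r, q = r + 1 := ⟨q - 1, by omega⟩
  have h1 : (r + 1) ^ 2 - (r + 1) + 1 = r ^ 2 + r + 1 := by
    have : (r + 1) ^ 2 - (r + 1) = r ^ 2 + r := by
      apply Nat.sub_eq_of_eq_add; ring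
    rw [this]
  have h2 : (r + 1) ^ 3 - 1 = r ^ 3 + 3 * r ^ 2 + 3 * r := by
    apply Nat.sub_eq_of_eq_add; ring
  have h3 : (r + 1) ^ 2 - 1 = r ^ 2 + 2 * r := by
    apply Nat.sub_eq_of_eq_add; ring
  rw [h1, h2, h3]
  refine ⟨?_, by ring, by ring, ?_⟩
  · apply Nat.sub_eq_of_eq_add; ring
  · simp only [Nat.add_sub_cancel]; ring

theorem ex4 (p : ℕ) [Fact p.Prime] [CharP F p] (q j : ℕ) (hqj : q = p ^ j) (hq : 3 ≤ q)
    (hF : Fintype.card F = q ^ 2) (σ : F →+* F)
    (hσ : ∀ x, σ x = x ^ q) (hσne : σ ≠ RingHom.id F) (hσ2 : ∀ a, σ (σ a) = a) :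
    ∃ M : Matrix (Fin 3) (Fin 3) F, IsIsom 3 q M ∧ M.det = 1 ∧
      ∀ (k : ℕ) (c : F), M ^ k = c • (1 : Matrix (Fin 3) (Fin 3) F) →
        ((q ^ 2 - q + 1) / Nat.gcd 3 (q + 1)) ∣ k := by
  classical
  obtain ⟨h6, h6b, h6c, h6d⟩ := nt_six q (by omega)
  let E := FiniteField.Extension F p 3
  have hfr : Module.finrank F E = 3 := FiniteField.finrank_extension F p 3
  let _ : Fintype E := Fintype.ofFinite E
  have hcardE : Fintype.card E = (q ^ 2) ^ 3 := by
    rw [Fintype.card_eq_nat_card, FiniteField.natCard_extension, Nat.card_eq_fintype_card, hF]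
  have : CharP E p := charP_of_injective_algebraMap (algebraMap F E).injective p
  let τ : E →+* E := iterateFrobenius E p (j * 3)
  have hτ : ∀ x, τ x = x ^ (q ^ 3) := fun x => by rw [hqj, ← pow_mul]; rfl
  have hτ2 : ∀ x, τ (τ x) = x := by
    intro x
    have h : q ^ 3 * q ^ 3 = (q ^ 2) ^ 3 := by ring
    rw [hτ, hτ, ← pow_mul, h, ← hcardE, FiniteField.pow_card]
  have hτF : ∀ c : F, τ (algebraMap F E c) = algebraMap F E (σ c) := by
    intro c
    have h : q ^ 3 = q ^ 2 * q := by ring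
    rw [hτ, ← map_pow, hσ, h, pow_mul, ← hF, FiniteField.pow_card]
  have htr : ∀ z : E, σ (Algebra.trace F E z) = Algebra.trace F E (τ z) := by
    intro z
    apply (algebraMap F E).injective
    rw [← hτF, FiniteField.algebraMap_trace_eq_sum_pow, FiniteField.algebraMap_trace_eq_sum_pow,
      map_sum]
    simp only [map_pow]
  let B : E →ₛₗ[σ] E →ₗ[F] F :=
    LinearMap.mk₂'ₛₗ σ (RingHom.id F) (fun x y => Algebra.trace F E (τ x * y))
      (fun x x' y => by simp only [map_add, add_mul])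
      (fun c x y => by
        have h1 : τ (c • x) = σ c • τ x := by
          rw [Algebra.smul_def, map_mul, hτF, ← Algebra.smul_def]
        rw [h1, smul_mul_assoc, map_smul])
      (fun x y y' => by simp only [mul_add, map_add])
      (fun c x y => by simp only [mul_smul_comm, map_smul, RingHom.id_apply])
  have hBapp : ∀ x y, B x y = Algebra.trace F E (τ x * y) := fun _ _ => rfl
  have hBsymm : B.IsSymm := by
    constructor
    intro x y
    rw [hBapp, hBapp, htr, map_mul, hτ2, mul_comm]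
  have hnd := traceForm_nondegenerate F E
  have hBnd : B.Nondegenerate := by
    constructor
    · intro x hx
      have h1 : τ x = 0 := by
        apply hnd.1
        intro y
        rw [Algebra.traceForm_apply]
        exact hx y
      exact (map_eq_zero τ).1 h1
    · intro y hy
      apply hnd.1
      intro z
      rw [Algebra.traceForm_apply, mul_comm]
      have := hy (τ z)
      rw [hBapp, hτ2] at this
      exact this
  obtain ⟨b0, hb0⟩ := exists_orthonormal_basis_herm σ hσne hσ2 B hBsymm hBnd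
  obtain ⟨b, hb⟩ : ∃ b : Module.Basis (Fin 3) F E, ∀ i j, B (b i) (b j) = if i = j then 1 else 0 := by
    revert b0
    rw [hfr]
    intro b0 hb0
    exact ⟨b0, hb0⟩
  -- the element
  obtain ⟨ζ, hζ⟩ := IsCyclic.exists_ofOrder_eq_natCard (α := Eˣ)
  rw [Nat.card_eq_fintype_card, Fintype.card_units, hcardE, h6] at hζ
  set N := q ^ 2 - q + 1 with hN
  set nE := (q ^ 3 - 1) * (q + 1) with hnE
  have hnE0 : nE ≠ 0 := by
    rw [hnE]
    have : 1 < q ^ 3 := Nat.one_lt_pow (by norm_num) (by omega)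
    exact Nat.mul_ne_zero (by omega) (by omega)
  have hN0 : 0 < N := by rw [hN]; omega
  let θu : Eˣ := ζ ^ nE
  have hθu : orderOf θu = N := by
    rw [orderOf_pow_of_dvd hnE0 (by rw [hζ]; exact dvd_mul_right _ _), hζ,
      Nat.mul_div_cancel_left _ (Nat.pos_of_ne_zero hnE0)]
  let θ : E := (θu : E)
  have hθ : orderOf θ = N := by rw [orderOf_units]; exact hθu
  have hθ0 : θ ≠ 0 := θu.ne_zero
  have hθτ : τ θ * θ = 1 := by
    rw [hτ, ← pow_succ, h6c, mul_comm, pow_mul, ← hθ, pow_orderOf_eq_one, one_pow]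
  have hiso : ∀ x y, B (θ * x) (θ * y) = B x y := by
    intro x y
    rw [hBapp, hBapp, map_mul τ]
    have : τ θ * τ x * (θ * y) = (τ θ * θ) * (τ x * y) := by ring
    rw [this, hθτ, one_mul]
  let L := Algebra.leftMulMatrix b
  set M : Matrix (Fin 3) (Fin 3) F := L θ with hM
  have hθb : ∀ j, θ * b j = ∑ k, M k j • b k := by
    intro j
    rw [← b.sum_repr (θ * b j)]
    apply Finset.sum_congr rfl
    intro k _
    rw [hM, Algebra.leftMulMatrix_eq_repr_mul]
  have hunit : cstar σ M * M = 1 := by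
    ext i j
    have h1 : B (θ * b i) (θ * b j) = ∑ k, σ (M k i) * M k j := by
      rw [hθb i, hθb j]
      simp only [map_sum, map_smulₛₗ, LinearMap.sum_apply, LinearMap.smul_apply, hb,
        smul_eq_mul, RingHom.id_apply]
      apply Finset.sum_congr rfl
      intro k _
      simp [mul_comm]
    rw [Matrix.mul_apply]
    simp only [cstar_apply]
    rw [← h1, hiso, hb, Matrix.one_apply]
  have hdet : M.det = 1 := by
    have h1 : M = (L (ζ : E)) ^ nE := by
      rw [hM, ← map_pow]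
      congr 1
    have hd0 : (L (ζ : E)).det ≠ 0 := by
      intro h
      have h2 : L (ζ : E) * L ((ζ⁻¹ : Eˣ) : E) = 1 := by
        rw [← map_mul, Units.mul_inv, map_one]
      have h3 := congrArg Matrix.det h2
      rw [Matrix.det_mul, h, zero_mul, Matrix.det_one] at h3
      exact zero_ne_one h3
    rw [h1, Matrix.det_pow, h6b, pow_mul, ← hF, FiniteField.pow_card_sub_one_eq_one _ hd0,
      one_pow]
  refine ⟨M, (isIsom_iff_cstar q (by omega) σ hσ M).2 hunit, hdet, ?_⟩
  intro k c hk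
  have hθk : θ ^ k = algebraMap F E c := by
    apply Algebra.leftMulMatrix_injective b
    change L (θ ^ k) = L (algebraMap F E c)
    rw [map_pow, ← hM, hk, AlgHom.commutes, Algebra.algebraMap_eq_smul_one]
  have hc0 : c ≠ 0 := by
    rintro rfl
    rw [map_zero] at hθk
    exact pow_ne_zero k hθ0 hθk
  have hpow : θ ^ (k * (q ^ 2 - 1)) = 1 := by
    rw [pow_mul, hθk, ← map_pow, ← hF, FiniteField.pow_card_sub_one_eq_one _ hc0, map_one]
  have d1 : N ∣ k * (q ^ 2 - 1) := by rw [← hθ]; exact orderOf_dvd_of_pow_eq_one hpow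
  rw [nt_sq_sub_one q (by omega), ← mul_assoc] at d1
  have hc1 : Nat.Coprime N (q - 1) := by
    rw [h6d]
    simp
  have d2 : N ∣ k * (q + 1) := hc1.dvd_of_dvd_mul_right d1
  have hg : Nat.gcd N (q + 1) = Nat.gcd 3 (q + 1) := by
    rw [hN, nt_sq_sub_add q (by omega)]
    simp
  set d := Nat.gcd 3 (q + 1) with hd
  have hd3 : d ∣ 3 := Nat.gcd_dvd_left _ _
  have hdq : d ∣ q + 1 := Nat.gcd_dvd_right _ _
  have hd0 : 0 < d := Nat.pos_of_dvd_of_pos hd3 (by norm_num)
  have hdN : d ∣ N := by rw [← hg]; exact Nat.gcd_dvd_left _ _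
  have hcop : Nat.Coprime (N / d) ((q + 1) / d) := by
    have := Nat.coprime_div_gcd_div_gcd (m := N) (n := q + 1) (by rw [hg]; exact hd0)
    rwa [hg] at this
  have hdm : d * ((q + 1) / d) = q + 1 := Nat.mul_div_cancel' hdq
  have hdn : d * (N / d) = N := Nat.mul_div_cancel' hdN
  rw [← hdm, ← hdn, mul_left_comm] at d2
  have d3 := Nat.dvd_of_mul_dvd_mul_left hd0 d2
  exact hcop.dvd_of_dvd_mul_right d3

end Cfsg.Agent.Lib.helper99.PsuSpec
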