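import Mathlib
import Cfsg.Prelude.Def_Classical
import Cfsg.Agent.Lib.helper44.SUODefs
import Cfsg.Agent.Lib.helper9.SUWUMEM

/-!
# S2334 piece OXMEM (helper99 racer, prefixed names): `xtMat` has determinant one and preserves the
Hermitian form.
-/

set_option autoImplicit false
set_option linter.unusedSimpArgs false

namespace Cfsg.Agent.Lib.helper44.SUW

open Matrix

/-- the determinant of a `uMat`-shaped block matrix is one -/
theorem h99_det_blk {K : Type*} [Field K] {n : Type*} [Fintype n] [DecidableEq n]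
    (D : Matrix n n K) (ε e' : K) (hε : ε * e' = -1) :
    (Matrix.fromBlocks (1 + D) (e' • D) (ε • D) (1 - D)).det = 1 := by
  have hεσ : e' * ε = -1 := by rw [mul_comm]; exact hε
  have h1 : Matrix.fromBlocks (1 + D) (e' • D) (ε • D) (1 - D) =
      1 + Matrix.fromRows D (ε • D) * Matrix.fromCols (1 : Matrix n n K)
        (e' • (1 : Matrix n n K)) := by
    rw [Matrix.fromRows_mul_fromCols, ← Matrix.fromBlocks_one, Matrix.fromBlocks_add]
    congr 1
    · simp
    · simp
    · simp
    · rw [Matrix.smul_mul, Matrix.mul_smul, Matrix.mul_one, smul_smul, hε, neg_one_smul,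
        sub_eq_add_neg]
  rw [h1, Matrix.det_one_add_mul_comm, Matrix.fromCols_mul_fromRows]
  have h2 : (1 : Matrix n n K) * D + e' • (1 : Matrix n n K) * ε • D = 0 := by
    rw [Matrix.one_mul, Matrix.smul_mul, Matrix.one_mul, smul_smul, hεσ, neg_one_smul,
      add_neg_cancel]
  rw [h2, add_zero, Matrix.det_one]

/-- the abstract block identity behind the unitarity of `xtMat` -/
theorem h99_xt_blk {K : Type*} [Field K] {n o : Type*} [Fintype n] [DecidableEq n] [Fintype o]
    [DecidableEq o] (X Z : Matrix n n K) (P : Matrix n o K) (Q : Matrix o n K) (ε e' : K)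
    (hε : ε * e' = -1) (hXZ : Z = -(P * Q) - X) :
    Matrix.fromBlocks (Matrix.fromBlocks (1 + X) (ε • X) (e' • X) (1 - X))
        (Matrix.fromRows (-P) (-(e' • P))) (Matrix.fromCols Q (ε • Q)) (1 : Matrix o o K) *
      Matrix.fromBlocks (Matrix.fromBlocks (1 + Z) (ε • Z) (e' • Z) (1 - Z))
        (Matrix.fromRows P (e' • P)) (Matrix.fromCols (-Q) (-(ε • Q))) (1 : Matrix o o K) = 1 := by
  have hba : e' * ε = -1 := by rw [mul_comm]; exact hε
  subst hXZ
  rw [Matrix.fromBlocks_multiply, ← Matrix.fromBlocks_one]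
  congr 1
  · rw [Matrix.fromBlocks_multiply, Matrix.fromRows_mul_fromCols, Matrix.fromBlocks_add,
      ← Matrix.fromBlocks_one]
    congr 1
    · simp only [Matrix.add_mul, Matrix.mul_add, Matrix.sub_mul, Matrix.mul_sub, Matrix.one_mul,
        Matrix.mul_one, Matrix.mul_neg, Matrix.neg_mul, Matrix.smul_mul, Matrix.mul_smul,
        smul_sub, smul_add, smul_neg, smul_smul, hε, hba, neg_neg]
      module
    · simp only [Matrix.add_mul, Matrix.mul_add, Matrix.sub_mul, Matrix.mul_sub, Matrix.one_mul,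
        Matrix.mul_one, Matrix.mul_neg, Matrix.neg_mul, Matrix.smul_mul, Matrix.mul_smul,
        smul_sub, smul_add, smul_neg, smul_smul, hε, hba, neg_neg]
      module
    · simp only [Matrix.add_mul, Matrix.mul_add, Matrix.sub_mul, Matrix.mul_sub, Matrix.one_mul,
        Matrix.mul_one, Matrix.mul_neg, Matrix.neg_mul, Matrix.smul_mul, Matrix.mul_smul,
        smul_sub, smul_add, smul_neg, smul_smul, hε, hba, neg_neg]
      module
    · simp only [Matrix.add_mul, Matrix.mul_add, Matrix.sub_mul, Matrix.mul_sub, Matrix.one_mul,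
        Matrix.mul_one, Matrix.mul_neg, Matrix.neg_mul, Matrix.smul_mul, Matrix.mul_smul,
        smul_sub, smul_add, smul_neg, smul_smul, hε, hba, neg_neg]
      module
  · rw [Matrix.mul_one, ← Matrix.fromRows_neg, add_neg_eq_zero, Matrix.fromBlocks_mul_fromRows]
    congr 1
    · simp only [Matrix.add_mul, Matrix.mul_add, Matrix.sub_mul, Matrix.mul_sub, Matrix.one_mul,
        Matrix.mul_one, Matrix.mul_neg, Matrix.neg_mul, Matrix.smul_mul, Matrix.mul_smul,
        smul_sub, smul_add, smul_neg, smul_smul, hε, hba, neg_neg]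
      module
    · simp only [Matrix.add_mul, Matrix.mul_add, Matrix.sub_mul, Matrix.mul_sub, Matrix.one_mul,
        Matrix.mul_one, Matrix.mul_neg, Matrix.neg_mul, Matrix.smul_mul, Matrix.mul_smul,
        smul_sub, smul_add, smul_neg, smul_smul, hε, hba, neg_neg]
      module
  · rw [Matrix.one_mul, ← Matrix.fromCols_neg, add_neg_eq_zero, Matrix.fromCols_mul_fromBlocks]
    congr 1
    · simp only [Matrix.add_mul, Matrix.mul_add, Matrix.sub_mul, Matrix.mul_sub, Matrix.one_mul,
        Matrix.mul_one, Matrix.mul_neg, Matrix.neg_mul, Matrix.smul_mul, Matrix.mul_smul,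
        smul_sub, smul_add, smul_neg, smul_smul, hε, hba, neg_neg]
      module
    · simp only [Matrix.add_mul, Matrix.mul_add, Matrix.sub_mul, Matrix.mul_sub, Matrix.one_mul,
        Matrix.mul_one, Matrix.mul_neg, Matrix.neg_mul, Matrix.smul_mul, Matrix.mul_smul,
        smul_sub, smul_add, smul_neg, smul_smul, hε, hba, neg_neg]
      module
  · rw [Matrix.fromCols_mul_fromRows, Matrix.one_mul]
    simp only [Matrix.smul_mul, Matrix.mul_smul, smul_sub, smul_add, smul_neg, smul_smul, hε, hba]
    module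

/-- OXMEM (L), the skeleton statement verbatim under a prefixed name -/
theorem h99_xtMat_mem {K : Type*} [Field K] [Fintype K] {q m : ℕ} (hK : Fintype.card K = q ^ 2)
    (σ : K →+* K) (hσ : ∀ x, σ x = x ^ q) (ε η : K) (hε : ε * σ ε = -1) (hη : η + σ η = 1)
    (t : Fin m → K) :
    (xtMat σ ε η t).det = 1 ∧ ∀ u v : Fin (m + m + 1) → K,
      Cfsg.hermForm (m + m + 1) K q (xtMat σ ε η t *ᵥ u) (xtMat σ ε η t *ᵥ v) =
        Cfsg.hermForm (m + m + 1) K q u v := by
  have hσσ : ∀ x, σ (σ x) = x := by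
    intro x
    rw [hσ, hσ, ← pow_mul, ← sq, ← hK, FiniteField.pow_card]
  obtain ⟨D, hD⟩ : ∃ D : Matrix (Fin m) (Fin m) K,
      D = (-η) • Matrix.vecMulVec t (fun j => σ (t j)) := ⟨_, rfl⟩
  obtain ⟨b, hb⟩ : ∃ b : Matrix (Fin m ⊕ Fin m) (Fin 1) K,
      b = fun i _ => Sum.elim t (fun j => ε * t j) i := ⟨_, rfl⟩
  obtain ⟨c, hc⟩ : ∃ c : Matrix (Fin 1) (Fin m ⊕ Fin m) K,
      c = fun _ j => Sum.elim (fun j => - σ (t j)) (fun j => - (σ ε * σ (t j))) j := ⟨_, rfl⟩
  have hx : xtMat σ ε η t = (Matrix.fromBlocks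
      (Matrix.fromBlocks (1 + D) (σ ε • D) (ε • D) (1 - D)) b c
      (1 : Matrix (Fin 1) (Fin 1) K)).submatrix (e3 m) (e3 m) := by
    rw [hD, hb, hc]
    rfl
  obtain ⟨T, hT⟩ : ∃ T : Matrix (Fin m) (Fin 1) K, T = fun i _ => t i := ⟨_, rfl⟩
  obtain ⟨S, hS⟩ : ∃ S : Matrix (Fin 1) (Fin m) K, S = fun _ j => σ (t j) := ⟨_, rfl⟩
  obtain ⟨P, hP⟩ : ∃ P : Matrix (Fin m) (Fin 1) K, P = fun i _ => σ (t i) := ⟨_, rfl⟩
  obtain ⟨Q, hQ⟩ : ∃ Q : Matrix (Fin 1) (Fin m) K, Q = fun _ j => t j := ⟨_, rfl⟩
  have hTS : T * S = Matrix.vecMulVec t (fun j => σ (t j)) := by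
    ext i j
    rw [Matrix.mul_apply, hT, hS]
    simp [Matrix.vecMulVec_apply]
  have hPQ : P * Q = Matrix.vecMulVec (fun j => σ (t j)) t := by
    ext i j
    rw [Matrix.mul_apply, hP, hQ]
    simp [Matrix.vecMulVec_apply]
  have hεσ : σ ε * ε = -1 := by rw [mul_comm]; exact hε
  constructor
  · rw [hx, Matrix.det_submatrix_equiv_self, Matrix.det_fromBlocks_one₂₂]
    have hb' : b = Matrix.fromRows T (ε • T) := by
      rw [hb, hT]
      ext (i | i) j <;> rfl
    have hc' : c = Matrix.fromCols (-S) (-(σ ε • S)) := by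
      rw [hc, hS]
      ext i (j | j) <;> rfl
    have h1 : Matrix.fromBlocks (1 + D) (σ ε • D) (ε • D) (1 - D) - b * c =
        Matrix.fromBlocks (1 + (D + T * S)) (σ ε • (D + T * S)) (ε • (D + T * S))
          (1 - (D + T * S)) := by
      rw [sub_eq_iff_eq_add, hb', hc', Matrix.fromRows_mul_fromCols, Matrix.fromBlocks_add]
      congr 1
      · simp only [Matrix.mul_neg, Matrix.smul_mul, Matrix.mul_smul, smul_sub, smul_add, smul_neg, smul_smul, hε, hεσ]
        module
      · simp only [Matrix.mul_neg, Matrix.smul_mul, Matrix.mul_smul, smul_sub, smul_add, smul_neg, smul_smul, hε, hεσ]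
        module
      · simp only [Matrix.mul_neg, Matrix.smul_mul, Matrix.mul_smul, smul_sub, smul_add, smul_neg, smul_smul, hε, hεσ]
        module
      · simp only [Matrix.mul_neg, Matrix.smul_mul, Matrix.mul_smul, smul_sub, smul_add, smul_neg, smul_smul, hε, hεσ]
        module
    rw [h1]
    exact h99_det_blk _ ε (σ ε) hε
  · have hM : (xtMat σ ε η t)ᵀ * (xtMat σ ε η t).map σ = 1 := by
      obtain ⟨X, hX⟩ : ∃ X : Matrix (Fin m) (Fin m) K, X = (-η) • (P * Q) := ⟨_, rfl⟩
      obtain ⟨Z, hZ⟩ : ∃ Z : Matrix (Fin m) (Fin m) K, Z = -(P * Q) - X := ⟨_, rfl⟩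
      have hDt : Dᵀ = X := by
        rw [hD, hX, hPQ]
        ext i j
        simp only [Matrix.transpose_apply, Matrix.smul_apply, Matrix.vecMulVec_apply, smul_eq_mul]
        ring
      have hDσ : D.map σ = Z := by
        rw [hZ, hX, hD, hPQ]
        ext i j
        simp only [Matrix.map_apply, Matrix.smul_apply, Matrix.vecMulVec_apply, smul_eq_mul,
          Matrix.sub_apply, Matrix.neg_apply, map_mul, map_neg, hσσ]
        linear_combination (-(σ (t i) * t j)) * hη
      have e1 : (1 + D)ᵀ = 1 + X := by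
        rw [Matrix.transpose_add, Matrix.transpose_one, hDt]
      have e2 : (ε • D)ᵀ = ε • X := by
        rw [Matrix.transpose_smul, hDt]
      have e3' : (σ ε • D)ᵀ = σ ε • X := by
        rw [Matrix.transpose_smul, hDt]
      have e4 : (1 - D)ᵀ = 1 - X := by
        rw [Matrix.transpose_sub, Matrix.transpose_one, hDt]
      have f1 : (1 + D).map σ = 1 + Z := by
        rw [← hDσ]
        ext i j
        simp only [Matrix.map_apply, Matrix.add_apply, Matrix.one_apply, map_add]
        split_ifs <;> simp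
      have f2 : (σ ε • D).map σ = ε • Z := by
        rw [← hDσ]
        ext i j
        simp only [Matrix.map_apply, Matrix.smul_apply, smul_eq_mul, map_mul, hσσ]
      have f3 : (ε • D).map σ = σ ε • Z := by
        rw [← hDσ]
        ext i j
        simp only [Matrix.map_apply, Matrix.smul_apply, smul_eq_mul, map_mul]
      have f4 : (1 - D).map σ = 1 - Z := by
        rw [← hDσ]
        ext i j
        simp only [Matrix.map_apply, Matrix.sub_apply, Matrix.one_apply, map_sub]
        split_ifs <;> simp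
      have g1 : bᵀ = Matrix.fromCols Q (ε • Q) := by
        rw [hb, hQ]
        ext i (j | j) <;> rfl
      have g2 : b.map σ = Matrix.fromRows P (σ ε • P) := by
        rw [hb, hP]
        ext (i | i) j
        · rfl
        · exact map_mul σ ε (t i)
      have g3 : cᵀ = Matrix.fromRows (-P) (-(σ ε • P)) := by
        rw [hc, hP]
        ext (i | i) j <;> rfl
      have g4 : c.map σ = Matrix.fromCols (-Q) (-(ε • Q)) := by
        rw [hc, hQ]
        ext i (j | j)
        · show σ (- σ (t j)) = - t j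
          rw [map_neg, hσσ]
        · show σ (-(σ ε * σ (t j))) = -(ε * t j)
          rw [map_neg, map_mul, hσσ, hσσ]
      rw [hx, Matrix.transpose_submatrix, ← Matrix.submatrix_map, Matrix.submatrix_mul_equiv]
      simp only [Matrix.fromBlocks_transpose, Matrix.fromBlocks_map]
      rw [e1, e2, e3', e4, f1, f2, f3, f4, g1, g2, g3, g4, Matrix.transpose_one,
        Matrix.map_one σ (map_zero σ) (map_one σ), h99_xt_blk X Z P Q ε (σ ε) hε hZ,
        Matrix.submatrix_one_equiv]
    intro u v
    exact helper9_form_of_unitary σ hσ _ hM u v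

end Cfsg.Agent.Lib.helper44.SUW
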