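import Mathlib
import Cfsg.Agent.Lib.helper44.SUWDefs
import Cfsg.Agent.Lib.helper17.HermForm
import Cfsg.Agent.Lib.helper17.UEichler

/-!
# S2335 piece COLNZ, core (helper99 racer): every first column with non-zero skew top entry occurs
in a set of skew-Hermitian matrices stable under `Y ↦ B† Y B` (`det B = 1`) with a non-zero member.
The pieces ANISO and SLTR enter as hypotheses.
-/

set_option autoImplicit false

namespace Cfsg.Agent.Lib.helper44.SUW

open Matrix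

/-- second step: from a member with non-zero `(0,0)` entry -/
theorem h99_col_nonzero_step {K : Type*} [Field K] [Fintype K] [DecidableEq K] {q m : ℕ}
    (hK : Fintype.card K = q ^ 2) (hm : 2 ≤ m) (σ : K →+* K) (hσ : ∀ x, σ x = x ^ q)
    (S : Set (Matrix (Fin m) (Fin m) K)) (hS : ∀ Y ∈ S, Y ∈ skewH σ m)
    (hstab : ∀ Y ∈ S, ∀ B : Matrix (Fin m) (Fin m) K, B.det = 1 → (B.map σ)ᵀ * Y * B ∈ S)
    (Y₁ : Matrix (Fin m) (Fin m) K) (hY₁ : Y₁ ∈ S) (ha : Y₁ ⟨0, by omega⟩ ⟨0, by omega⟩ ≠ 0)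
    (b : Fin m → K) (hb0 : b ⟨0, by omega⟩ ≠ 0)
    (hbs : σ (b ⟨0, by omega⟩) = - b ⟨0, by omega⟩) :
    ∃ Y ∈ S, ∀ i, Y i ⟨0, by omega⟩ = b i := by
  classical
  have hσσ : ∀ x, σ (σ x) = x := fun x => by
    rw [hσ, hσ, Cfsg.Agent.Lib.helper17.pow_q_pow_q hK]
  have hσne : σ ≠ RingHom.id K := by
    intro h
    obtain ⟨c, hc⟩ := Cfsg.Agent.Lib.helper17.exists_pow_q_ne hK
    apply hc
    rw [← hσ, h]
    rfl
  obtain ⟨i0, hi0⟩ : ∃ i0 : Fin m, i0 = ⟨0, by omega⟩ := ⟨_, rfl⟩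
  obtain ⟨i1, hi1⟩ : ∃ i1 : Fin m, i1 = ⟨1, by omega⟩ := ⟨_, rfl⟩
  rw [← hi0] at ha hb0 hbs ⊢
  have h01 : i0 ≠ i1 := by
    intro h
    rw [hi0, hi1] at h
    have := congrArg Fin.val h
    simp at this
  obtain ⟨a, haa⟩ : ∃ a : K, a = Y₁ i0 i0 := ⟨_, rfl⟩
  rw [← haa] at ha
  have hskew : σ a = -a := by
    rw [haa]
    exact hS Y₁ hY₁ i0 i0
  have hβ0 : b i0 / a ≠ 0 := div_ne_zero hb0 ha
  have hβσ : σ (b i0 / a) = b i0 / a := by
    rw [map_div₀, hbs, hskew, neg_div_neg_eq]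
  obtain ⟨α, hα⟩ := Cfsg.Agent.Lib.helper17.norm_surj σ hσne hσσ (b i0 / a) hβ0 hβσ
  have hα0 : α ≠ 0 := by
    rintro rfl
    rw [zero_mul] at hα
    exact hβ0 hα.symm
  obtain ⟨d, hd⟩ : ∃ d : Fin m → K, d = fun j => if j = i0 then α else if j = i1 then α⁻¹ else 1 :=
    ⟨_, rfl⟩
  obtain ⟨r, hr⟩ : ∃ r : Fin m → K, r = fun j => σ ((b j / α - σ (d j) * Y₁ j i0) / a) := ⟨_, rfl⟩
  obtain ⟨B, hB⟩ : ∃ B : Matrix (Fin m) (Fin m) K,
      B = Matrix.of fun i j => if i = j then d j else if i = i0 then r j else 0 := ⟨_, rfl⟩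
  have hBapp : ∀ i j, B i j = if i = j then d j else if i = i0 then r j else 0 := by
    intro i j
    rw [hB]
    rfl
  have htri : B.BlockTriangular id := by
    intro i j hij
    have hij' : (j : ℕ) < (i : ℕ) := hij
    rw [hBapp, if_neg (by intro h; rw [h] at hij'; omega), if_neg]
    intro h
    rw [h, hi0] at hij'
    simp at hij'
  have hdet : B.det = 1 := by
    rw [Matrix.det_of_isUpperTriangular htri]
    have h1 : ∀ j, B j j = (if j = i0 then α else 1) * (if j = i1 then α⁻¹ else 1) := by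
      intro j
      rw [hBapp, if_pos rfl, hd]
      beta_reduce
      by_cases hj0 : j = i0
      · subst hj0
        simp [h01]
      · by_cases hj1 : j = i1
        · subst hj1
          simp [hj0]
        · simp [hj0, hj1]
    simp only [h1]
    rw [Finset.prod_mul_distrib, Finset.prod_ite_eq' Finset.univ i0, Finset.prod_ite_eq' Finset.univ i1]
    simp [hα0]
  refine ⟨(B.map σ)ᵀ * Y₁ * B, hstab Y₁ hY₁ B hdet, ?_⟩
  intro i
  have hcol : ∀ l, B l i0 = if l = i0 then α else 0 := by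
    intro l
    rw [hBapp]
    by_cases hl : l = i0
    · rw [if_pos hl, if_pos hl, hd]
      simp
    · rw [if_neg hl, if_neg hl, if_neg hl]
  have h2 : ((B.map σ)ᵀ * Y₁ * B) i i0 = (∑ k, σ (B k i) * Y₁ k i0) * α := by
    rw [Matrix.mul_apply]
    simp only [hcol, mul_ite, mul_zero, Finset.sum_ite_eq', Finset.mem_univ, if_true]
    rw [Matrix.mul_apply]
    simp only [Matrix.transpose_apply, Matrix.map_apply]
  rw [h2]
  by_cases hi : i = i0
  · subst hi
    have h3 : ∀ k, σ (B k i) * Y₁ k i = if k = i then σ α * a else 0 := by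
      intro k
      rw [hcol]
      by_cases hk : k = i
      · rw [if_pos hk, if_pos hk, hk, haa]
      · rw [if_neg hk, if_neg hk, map_zero, zero_mul]
    simp only [h3, Finset.sum_ite_eq', Finset.mem_univ, if_true]
    have : σ α * a * α = (α * σ α) * a := by ring
    rw [this, hα, div_mul_cancel₀ _ ha]
  · have h3 : ∀ k, σ (B k i) * Y₁ k i0 =
        (if k = i then σ (d i) * Y₁ i i0 else 0) + (if k = i0 then σ (r i) * a else 0) := by
      intro k
      rw [hBapp]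
      by_cases hk : k = i
      · rw [if_pos hk, if_pos hk, if_neg (by rw [hk]; exact hi), add_zero, hk]
      · rw [if_neg hk, if_neg hk, zero_add]
        by_cases hk0 : k = i0
        · rw [if_pos hk0, if_pos hk0, hk0, haa]
        · rw [if_neg hk0, if_neg hk0, map_zero, zero_mul]
    simp only [h3, Finset.sum_add_distrib, Finset.sum_ite_eq', Finset.mem_univ, if_true]
    have hri : σ (r i) = (b i / α - σ (d i) * Y₁ i i0) / a := by
      rw [hr, hσσ]
    rw [hri, div_mul_cancel₀ _ ha]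
    field_simp
    ring

/-- COLNZ with ANISO and SLTR as hypotheses -/
theorem h99_col_nonzero_core {K : Type*} [Field K] [Fintype K] [DecidableEq K] {q m : ℕ}
    (hK : Fintype.card K = q ^ 2) (hm : 2 ≤ m) (σ : K →+* K) (hσ : ∀ x, σ x = x ^ q)
    (hANISO : ∀ Y : Matrix (Fin m) (Fin m) K, Y ∈ skewH σ m → Y ≠ 0 →
      ∃ v : Fin m → K, hval σ Y v ≠ 0)
    (hSLTR : ∀ x y : Fin m → K, x ≠ 0 → y ≠ 0 →
      ∃ B : Matrix (Fin m) (Fin m) K, B.det = 1 ∧ B *ᵥ x = y)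
    (S : Set (Matrix (Fin m) (Fin m) K)) (hS : ∀ Y ∈ S, Y ∈ skewH σ m)
    (hstab : ∀ Y ∈ S, ∀ B : Matrix (Fin m) (Fin m) K, B.det = 1 → (B.map σ)ᵀ * Y * B ∈ S)
    (hne : ∃ Y ∈ S, Y ≠ 0) (b : Fin m → K) (hb0 : b ⟨0, by omega⟩ ≠ 0)
    (hbs : σ (b ⟨0, by omega⟩) = - b ⟨0, by omega⟩) :
    ∃ Y ∈ S, ∀ i, Y i ⟨0, by omega⟩ = b i := by
  classical
  obtain ⟨Y, hYS, hY0⟩ := hne
  obtain ⟨v, hv⟩ := hANISO Y (hS Y hYS) hY0
  have hv0 : v ≠ 0 := by
    rintro rfl
    apply hv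
    simp [hval]
  obtain ⟨i0, hi0⟩ : ∃ i0 : Fin m, i0 = ⟨0, by omega⟩ := ⟨_, rfl⟩
  have he0 : (Pi.single i0 (1 : K) : Fin m → K) ≠ 0 := by
    intro h
    have := congrFun h i0
    simp at this
  obtain ⟨B₁, hB₁det, hB₁⟩ := hSLTR (Pi.single i0 1) v he0 hv0
  have hB₁col : ∀ l, B₁ l i0 = v l := by
    intro l
    have h := congrFun hB₁ l
    rw [Matrix.mulVec, dotProduct] at h
    simpa [Pi.single_apply] using h
  have hmem := hstab Y hYS B₁ hB₁det
  have h00 : ((B₁.map σ)ᵀ * Y * B₁) i0 i0 = hval σ Y v := by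
    rw [Matrix.mul_apply]
    simp only [Matrix.mul_apply, Matrix.transpose_apply, Matrix.map_apply, hB₁col]
    unfold hval
    rw [Finset.sum_comm]
    apply Finset.sum_congr rfl
    intro l _
    rw [Finset.sum_mul]
  refine h99_col_nonzero_step hK hm σ hσ S hS hstab _ hmem ?_ b hb0 hbs
  rw [← hi0, h00]
  exact hv

end Cfsg.Agent.Lib.helper44.SUW
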