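import Mathlib
import Cfsg.Agent.Lib.helper44.SUWDefs
import Cfsg.Agent.Lib.helper99.SUWCOLNZcore
import Cfsg.Agent.Lib.helper57.SUWANISO
import Cfsg.Agent.Lib.helper75.SUWSLTR

/-!
# S2335 piece COLNZ (helper99 racer, prefixed name): the skeleton statement of `col_nonzero`,
from the core `h99_col_nonzero_core` and the landed pieces ANISO and SLTR.
-/

set_option autoImplicit false

namespace Cfsg.Agent.Lib.helper44.SUW

open Matrix

/-- COLNZ (L), the skeleton statement verbatim under a prefixed name -/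
theorem h99_col_nonzero {K : Type*} [Field K] [Fintype K] [DecidableEq K] {q m : ℕ}
    (hK : Fintype.card K = q ^ 2) (hm : 2 ≤ m) (σ : K →+* K) (hσ : ∀ x, σ x = x ^ q)
    (S : Set (Matrix (Fin m) (Fin m) K)) (hS : ∀ Y ∈ S, Y ∈ skewH σ m)
    (hstab : ∀ Y ∈ S, ∀ B : Matrix (Fin m) (Fin m) K, B.det = 1 → (B.map σ)ᵀ * Y * B ∈ S)
    (hne : ∃ Y ∈ S, Y ≠ 0) (b : Fin m → K) (hb0 : b ⟨0, by omega⟩ ≠ 0)
    (hbs : σ (b ⟨0, by omega⟩) = - b ⟨0, by omega⟩) :
    ∃ Y ∈ S, ∀ i, Y i ⟨0, by omega⟩ = b i :=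
  h99_col_nonzero_core hK hm σ hσ
    (fun Y hY hY0 => exists_aniso hK σ hσ Y hY hY0)
    (fun x y hx hy => sl_trans hm x y hx hy) S hS hstab hne b hb0 hbs

end Cfsg.Agent.Lib.helper44.SUW
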