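import Mathlib
import Cfsg.Agent.Lib.helper99.SffPC

/-!
S5965 split (architect helper24), racing copy of piece PB by helper99: a matrix `y` with
`y ^ r = 1` (`r` invertible in `F`) is conjugate to a matrix with entries in the subfield `F₀`,
provided the monic irreducible factors of `X ^ r - 1` over `F` have coefficients in `F₀`.
The names are prefixed with `h99_`.
-/

set_option autoImplicit false
set_option linter.unusedSectionVars false
set_option linter.unusedVariables false
set_option linter.style.haveILetI false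
set_option linter.deprecated false

namespace Cfsg.Agent.Lib.helper24

open Polynomial

universe u v

/-- powers of a restricted operator -/
theorem h99_restrict_pow {F : Type u} [Field F] {V : Type v} [AddCommGroup V] [Module F V]
    (f : Module.End F V) (W : Submodule F V) (fW : Module.End F W)
    (hfW : ∀ w : W, ((fW w : W) : V) = f w) (k : ℕ) :
    ∀ w : W, (((fW ^ k) w : W) : V) = (f ^ k) w := by
  induction k with
  | zero =>
    intro w
    rw [pow_zero, pow_zero, Module.End.one_apply, Module.End.one_apply]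
  | succ k ih =>
    intro w
    rw [pow_succ, pow_succ, Module.End.mul_apply, Module.End.mul_apply, ih, hfW]

/-- on an irreducible piece there is a basis in which the operator has a matrix over `F₀` -/
theorem h99_basis_irr {F : Type u} [Field F] (F₀ : Subfield F) (r : ℕ)
    (hpoly : ∀ g : F[X], g.Monic → Irreducible g → g ∣ (X ^ r - 1 : F[X]) → ∀ a, g.coeff a ∈ F₀)
    {V : Type v} [AddCommGroup V] [Module F V] [FiniteDimensional F V] [Nontrivial V]
    (f : Module.End F V) (hf : f ^ r = 1)
    (hmin : ∀ W : Submodule F V, (∀ w ∈ W, f w ∈ W) → W = ⊥ ∨ W = ⊤) :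
    ∃ (ι : Type) (_ : Fintype ι) (b : Module.Basis ι F V), ∀ j, ∃ c : ι → F,
      (∀ i, c i ∈ F₀) ∧ f (b j) = ∑ i, c i • b i := by
  classical
  obtain ⟨hirr, e, he⟩ := h99_irr_model f hmin
  have hint : IsIntegral F f := Algebra.IsIntegral.isIntegral f
  have hmonic : (minpoly F f).Monic := minpoly.monic hint
  have hg0 : minpoly F f ≠ 0 := minpoly.ne_zero hint
  have hdvd : minpoly F f ∣ (X ^ r - 1 : F[X]) := by
    apply minpoly.dvd
    rw [map_sub, map_pow, Polynomial.aeval_X, map_one, hf, sub_self]
  have hcoef := hpoly _ hmonic hirr hdvd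
  obtain ⟨pb, hpb⟩ : ∃ pb : PowerBasis F (AdjoinRoot (minpoly F f)),
      pb = AdjoinRoot.powerBasis hg0 := ⟨_, rfl⟩
  have hgen : pb.gen = AdjoinRoot.root (minpoly F f) := by
    rw [hpb]
    exact AdjoinRoot.powerBasis_gen hg0
  have hmg : pb.minpolyGen = minpoly F f := by
    rw [pb.minpolyGen_eq, hpb]
    exact AdjoinRoot.minpoly_powerBasis_gen_of_monic hmonic hg0
  refine ⟨Fin pb.dim, inferInstance, pb.basis.map e, ?_⟩
  intro j
  refine ⟨fun i => pb.basis.repr (pb.gen * pb.basis j) i, ?_, ?_⟩
  · intro i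
    have h1 : pb.basis.repr (pb.gen * pb.basis j) i
        = Algebra.leftMulMatrix pb.basis pb.gen i j := by
      rw [Algebra.leftMulMatrix_apply, LinearMap.toMatrix_apply]
      rfl
    show pb.basis.repr (pb.gen * pb.basis j) i ∈ F₀
    rw [h1, pb.leftMulMatrix, Matrix.of_apply]
    split_ifs
    · rw [hmg]
      exact neg_mem (hcoef _)
    · exact one_mem _
    · exact zero_mem _
  · rw [Module.Basis.map_apply, ← he, ← hgen]
    have h2 := pb.basis.sum_repr (pb.gen * pb.basis j)
    conv_lhs => rw [← h2]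
    rw [map_sum]
    apply Finset.sum_congr rfl
    intro i _
    rw [map_smul, Module.Basis.map_apply]

/-- the inductive statement: a basis in which the operator has a matrix over `F₀` -/
theorem h99_basis_aux {F : Type u} [Field F] (F₀ : Subfield F) (r : ℕ) (hrF : (r : F) ≠ 0)
    (hpoly : ∀ g : F[X], g.Monic → Irreducible g → g ∣ (X ^ r - 1 : F[X]) → ∀ a, g.coeff a ∈ F₀) :
    ∀ (d : ℕ) (V : Type v) [AddCommGroup V] [Module F V] [FiniteDimensional F V]
      (f : Module.End F V), f ^ r = 1 → Module.finrank F V = d →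
      ∃ (ι : Type) (_ : Fintype ι) (b : Module.Basis ι F V), ∀ j, ∃ c : ι → F,
        (∀ i, c i ∈ F₀) ∧ f (b j) = ∑ i, c i • b i := by
  intro d
  induction d using Nat.strong_induction_on with
  | _ d ih =>
    intro V _ _ _ f hf hdim
    classical
    rcases Nat.eq_zero_or_pos d with hd0 | hdpos
    · haveI : Subsingleton V := Module.finrank_zero_iff.mp (by rw [hdim, hd0])
      exact ⟨Empty, inferInstance, Module.Basis.empty V, fun j => j.elim⟩
    · haveI : Nontrivial V :=
        Module.nontrivial_of_finrank_pos (R := F) (by rw [hdim]; exact hdpos)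
      obtain ⟨W, ⟨hWne, hWinv⟩, hWmin⟩ := wellFounded_lt.has_min
        {W : Submodule F V | W ≠ ⊥ ∧ ∀ w ∈ W, f w ∈ W}
        ⟨⊤, top_ne_bot, fun _ _ => Submodule.mem_top⟩
      have hWmin' : ∀ U : Submodule F V, U ≤ W → (∀ u ∈ U, f u ∈ U) → U = ⊥ ∨ U = W := by
        intro U hUW hU
        by_cases hU0 : U = ⊥
        · exact Or.inl hU0
        · right
          by_contra hne
          exact hWmin U ⟨hU0, hU⟩ (lt_of_le_of_ne hUW hne)
      obtain ⟨W', hcompl, hW'inv⟩ := dec_maschke f r 1 one_ne_zero hrF
        (by rw [hf, one_smul]) W hWinv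
      obtain ⟨fW, hfW⟩ : ∃ fW : Module.End F W, ∀ w : W, ((fW w : W) : V) = f w :=
        ⟨f.restrict hWinv, fun w => rfl⟩
      obtain ⟨fW', hfW'⟩ : ∃ fW' : Module.End F W', ∀ w : W', ((fW' w : W') : V) = f w :=
        ⟨f.restrict hW'inv, fun w => rfl⟩
      haveI : Nontrivial W := Submodule.nontrivial_iff_ne_bot.mpr hWne
      have hminW : ∀ U : Submodule F W, (∀ u ∈ U, fW u ∈ U) → U = ⊥ ∨ U = ⊤ := by
        intro U hU
        have h1 : ∀ u ∈ U.map W.subtype, f u ∈ U.map W.subtype := by
          rintro _ ⟨u, hu, rfl⟩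
          exact ⟨fW u, hU u hu, hfW u⟩
        rcases hWmin' (U.map W.subtype) (Submodule.map_subtype_le W U) h1 with h | h
        · left
          apply Submodule.map_injective_of_injective W.injective_subtype
          rw [h, Submodule.map_bot]
        · right
          apply Submodule.map_injective_of_injective W.injective_subtype
          rw [h, Submodule.map_subtype_top]
      have hfWr : fW ^ r = 1 := by
        apply LinearMap.ext
        intro w
        apply Subtype.ext
        rw [h99_restrict_pow f W fW hfW r w, hf]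
        rfl
      have hfW'r : fW' ^ r = 1 := by
        apply LinearMap.ext
        intro w
        apply Subtype.ext
        rw [h99_restrict_pow f W' fW' hfW' r w, hf]
        rfl
      obtain ⟨ι₁, hι₁, b₁, hb₁⟩ := h99_basis_irr F₀ r hpoly fW hfWr hminW
      have hdimsum := Submodule.finrank_add_eq_of_isCompl hcompl
      have hWpos : 0 < Module.finrank F W := Module.finrank_pos
      obtain ⟨ι₂, hι₂, b₂, hb₂⟩ := ih (Module.finrank F W') (by omega) W' fW' hfW'r rfl
      obtain ⟨Φ, hΦ⟩ : ∃ Φ : (W × W') ≃ₗ[F] V, ∀ x : W × W', Φ x = (x.1 : V) + x.2 :=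
        ⟨Submodule.prodEquivOfIsCompl W W' hcompl,
          fun x => Submodule.coe_prodEquivOfIsCompl' W W' hcompl x⟩
      have hB1 : ∀ j, ((b₁.prod b₂).map Φ) (Sum.inl j) = (b₁ j : V) := by
        intro j
        rw [Module.Basis.map_apply, hΦ]
        simp
      have hB2 : ∀ j, ((b₁.prod b₂).map Φ) (Sum.inr j) = (b₂ j : V) := by
        intro j
        rw [Module.Basis.map_apply, hΦ]
        simp
      refine ⟨ι₁ ⊕ ι₂, inferInstance, (b₁.prod b₂).map Φ, ?_⟩
      rintro (j | j)
      · obtain ⟨c, hc, hcj⟩ := hb₁ j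
        refine ⟨Sum.elim c (fun _ => 0), ?_, ?_⟩
        · rintro (i | i)
          · exact hc i
          · exact zero_mem _
        · rw [Fintype.sum_sum_type]
          simp only [Sum.elim_inl, Sum.elim_inr, hB1, hB2, zero_smul, Finset.sum_const_zero,
            add_zero]
          have h1 := congrArg (fun w : W => (w : V)) hcj
          simp only [hfW, Submodule.coe_sum, Submodule.coe_smul] at h1
          exact h1
      · obtain ⟨c, hc, hcj⟩ := hb₂ j
        refine ⟨Sum.elim (fun _ => 0) c, ?_, ?_⟩
        · rintro (i | i)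
          · exact zero_mem _
          · exact hc i
        · rw [Fintype.sum_sum_type]
          simp only [Sum.elim_inl, Sum.elim_inr, hB1, hB2, zero_smul, Finset.sum_const_zero,
            zero_add]
          have h1 := congrArg (fun w : W' => (w : V)) hcj
          simp only [hfW', Submodule.coe_sum, Submodule.coe_smul] at h1
          exact h1

/-- PB (racing copy): `y ^ r = 1` is conjugate to a matrix over `F₀`. -/
theorem h99_sff_basis_sub {F : Type*} [Field F] (F₀ : Subfield F) {n : ℕ} (r : ℕ)
    (hrF : (r : F) ≠ 0)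
    (hpoly : ∀ g : F[X], g.Monic → Irreducible g → g ∣ (X ^ r - 1 : F[X]) → ∀ a, g.coeff a ∈ F₀)
    (y : Matrix (Fin n) (Fin n) F) (hy : y ^ r = 1) :
    ∃ P M₀ : Matrix (Fin n) (Fin n) F, P.det ≠ 0 ∧ (∀ i j, M₀ i j ∈ F₀) ∧ y * P = P * M₀ := by
  classical
  obtain ⟨f, hf⟩ : ∃ f : Module.End F (Fin n → F), f = Matrix.toLinAlgEquiv' y := ⟨_, rfl⟩
  have hfr : f ^ r = 1 := by rw [hf, ← map_pow, hy, map_one]
  obtain ⟨ι, hι, b, hb⟩ := h99_basis_aux F₀ r hrF hpoly n (Fin n → F) f hfr
    (Module.finrank_fin_fun F)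
  have hcard : Fintype.card ι = n := by
    have h1 := Module.finrank_eq_card_basis b
    rw [Module.finrank_fin_fun F] at h1
    exact h1.symm
  obtain ⟨σ⟩ : Nonempty (Fin n ≃ ι) := ⟨(Fintype.equivFinOfCardEq hcard).symm⟩
  choose c hc hcb using hb
  refine ⟨Matrix.of (fun i j => b (σ j) i), Matrix.of (fun i j => c (σ j) (σ i)), ?_, ?_, ?_⟩
  · have hli : LinearIndependent F (fun j => b (σ j)) :=
      b.linearIndependent.comp σ σ.injective
    have hunit : IsUnit (Matrix.of (fun i j => b (σ j) i) : Matrix (Fin n) (Fin n) F) :=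
      Matrix.linearIndependent_cols_iff_isUnit.mp hli
    exact ((Matrix.isUnit_iff_isUnit_det _).mp hunit).ne_zero
  · intro i j
    exact hc (σ j) (σ i)
  · ext i j
    rw [Matrix.mul_apply, Matrix.mul_apply]
    simp only [Matrix.of_apply]
    have h1 : ∑ k, y i k * b (σ j) k = f (b (σ j)) i := by
      rw [hf, Matrix.toLinAlgEquiv'_apply]
      rfl
    rw [h1, hcb (σ j), Finset.sum_apply, ← Equiv.sum_comp σ]
    apply Finset.sum_congr rfl
    intro i' _
    rw [Pi.smul_apply, smul_eq_mul, mul_comm]

end Cfsg.Agent.Lib.helper24
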