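import Mathlib
import Cfsg.Prelude.Def_Classical
import Cfsg.Prelude.Def_GeometricClasses
import Cfsg.Agent.Lib.helper53.SfoBINREP

/-!
# S5977 / S5978 block [A], leaf KAPPA1 (racing copy by helper99)
-/

set_option autoImplicit false

namespace Cfsg.Agent.Lib.helper59.Sfk

open Matrix Cfsg.Geo

/-- KAPPA1 (L): a self-adjoint square root of `δ` commuting with `x`, built on the planes `<e i, e (π i)>`. -/
theorem h99_sfk_kappa_one {F : Type*} [Field F] [Fintype F] {ι : Type} [Fintype ι] [DecidableEq ι]
    (h2 : (2 : F) ≠ 0) (Q : QuadraticForm F (ι → F))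
    (hQ : (QuadraticMap.polarBilin Q).Nondegenerate) (δ : F) (x : GL ι F)
    (e : Fin (Fintype.card ι) → (ι → F)) (ε : Fin (Fintype.card ι) → F)
    (he : LinearIndependent F e)
    (horth : ∀ i j, i ≠ j → QuadraticMap.polar (⇑Q) (e i) (e j) = 0) (hne : ∀ i, Q (e i) ≠ 0)
    (hxe : ∀ i, (x : Matrix ι ι F) *ᵥ e i = ε i • e i)
    (π : Fin (Fintype.card ι) → Fin (Fintype.card ι)) (hπ : ∀ i, π (π i) = i)
    (hπ' : ∀ i, π i ≠ i) (hεπ : ∀ i, ε (π i) = ε i) :
    ∃ κ' : Matrix ι ι F, κ' * κ' = δ • (1 : Matrix ι ι F) ∧
      (∀ u v : ι → F, QuadraticMap.polar (⇑Q) (κ' *ᵥ u) v = QuadraticMap.polar (⇑Q) u (κ' *ᵥ v)) ∧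
      (x : Matrix ι ι F) * κ' = κ' * (x : Matrix ι ι F) := by
  classical
  rcases isEmpty_or_nonempty ι with hemp | hnon
  · refine ⟨0, Subsingleton.elim _ _, fun u v => ?_, Subsingleton.elim _ _⟩
    rw [Subsingleton.elim (0 *ᵥ u) u, Subsingleton.elim ((0 : Matrix ι ι F) *ᵥ v) v]
  haveI : Nonempty (Fin (Fintype.card ι)) := by
    rw [← Fin.pos_iff_nonempty]
    exact Fintype.card_pos
  -- basis
  let b : Module.Basis (Fin (Fintype.card ι)) F (ι → F) :=
    basisOfLinearIndependentOfCardEqFinrank he
      (by rw [Fintype.card_fin, Module.finrank_fintype_fun_eq_card])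
  have hb : ∀ i, b i = e i := fun i => by
    simp [b]
  -- choice of coefficients
  have hex : ∀ j : Fin (Fintype.card ι),
      ∃ p : F × F, p.1 ^ 2 + (Q (e j) * Q (e (π j))) * p.2 ^ 2 = δ := by
    intro j
    obtain ⟨a, c, h⟩ := Cfsg.Agent.Lib.helper24.sfo_bin_rep h2 1 (Q (e j) * Q (e (π j))) δ
      one_ne_zero (mul_ne_zero (hne j) (hne (π j)))
    exact ⟨(a, c), by simpa using h⟩
  choose p hp using hex
  let m : Fin (Fintype.card ι) → Fin (Fintype.card ι) := fun i => if i < π i then i else π i
  have hm : ∀ i, m (π i) = m i := by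
    intro i
    simp only [m, hπ]
    have := hπ' i
    rcases lt_trichotomy i (π i) with h | h | h
    · rw [if_pos h, if_neg (not_lt.2 h.le)]
    · exact absurd h.symm this
    · rw [if_neg (not_lt.2 h.le), if_pos h]
  have hmQ : ∀ i, Q (e (m i)) * Q (e (π (m i))) = Q (e i) * Q (e (π i)) := by
    intro i
    simp only [m]
    split_ifs with h
    · rfl
    · rw [hπ, mul_comm]
  let s : Fin (Fintype.card ι) → F := fun i => if i < π i then 1 else -1
  have hs : ∀ i, s (π i) = - s i := by
    intro i
    simp only [s, hπ]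
    have := hπ' i
    rcases lt_trichotomy i (π i) with h | h | h
    · rw [if_pos h, if_neg (not_lt.2 h.le)]
    · exact absurd h.symm this
    · rw [if_neg (not_lt.2 h.le), if_pos h, neg_neg]
  have hs2 : ∀ i, s i * s i = 1 := by
    intro i
    simp only [s]
    split_ifs <;> ring
  let A : Fin (Fintype.card ι) → F := fun i => s i * (p (m i)).1
  let C : Fin (Fintype.card ι) → F := fun i => (p (m i)).2 * Q (e i)
  have hAπ : ∀ i, A (π i) = - A i := by
    intro i
    simp only [A, hs, hm]
    ring
  have hAC : ∀ i, A i * A i + C i * C (π i) = δ := by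
    intro i
    have h := hp (m i)
    rw [hmQ] at h
    simp only [A, C, hm]
    have h3 := hs2 i
    linear_combination h + (p (m i)).1 ^ 2 * h3
  have hCQ : ∀ i, C i * Q (e (π i)) = C (π i) * Q (e i) := by
    intro i
    simp only [C, hm]
    ring
  -- the linear map
  let L : (ι → F) →ₗ[F] (ι → F) := b.constr F (fun i => A i • e i + C i • e (π i))
  have hL : ∀ i, L (e i) = A i • e i + C i • e (π i) := by
    intro i
    rw [← hb i]
    simp only [L]
    rw [Module.Basis.constr_basis, hb]
  refine ⟨LinearMap.toMatrix' L, ?_, ?_, ?_⟩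
  · -- square
    have hLL : L * L = δ • (1 : (ι → F) →ₗ[F] (ι → F)) := by
      apply b.ext
      intro i
      rw [hb]
      simp only [Module.End.mul_apply, LinearMap.smul_apply, Module.End.one_apply]
      rw [hL, map_add, map_smul, map_smul, hL, hL, hπ, hAπ]
      have h3 := hAC i
      rw [← h3]
      module
    rw [← LinearMap.toMatrix'_mul, hLL]
    simp
  · -- self-adjoint
    intro u v
    rw [LinearMap.toMatrix'_mulVec, LinearMap.toMatrix'_mulVec]
    have key : (QuadraticMap.polarBilin Q).compl₁₂ L LinearMap.id =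
        (QuadraticMap.polarBilin Q).compl₁₂ LinearMap.id L := by
      apply LinearMap.ext_basis b b
      intro i j
      simp only [LinearMap.compl₁₂_apply, LinearMap.id_apply, hb,
        QuadraticMap.polarBilin_apply_apply]
      rw [hL, hL]
      simp only [QuadraticMap.polar_add_left, QuadraticMap.polar_add_right,
        QuadraticMap.polar_smul_left, QuadraticMap.polar_smul_right, smul_eq_mul]
      by_cases hji : j = i
      · subst hji
        rw [horth (π j) j (hπ' j), horth j (π j) (fun h => hπ' j h.symm)]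
      · by_cases hjp : j = π i
        · subst hjp
          rw [horth i (π i) (fun h => hπ' i h.symm), hπ, QuadraticMap.polar_self,
            QuadraticMap.polar_self]
          have h3 := hCQ i
          simp only [nsmul_eq_mul, Nat.cast_ofNat]
          linear_combination 2 * h3
        · have h4 : i ≠ π j := by
            intro h
            apply hjp
            rw [h, hπ]
          rw [horth i j (fun h => hji h.symm), horth (π i) j (fun h => hjp h.symm),
            horth i (π j) h4]
          ring
    have h5 := congrArg (fun f => f u v) key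
    simpa [LinearMap.compl₁₂_apply, QuadraticMap.polarBilin_apply_apply] using h5
  · -- commutes
    have hcomm : Matrix.toLin' (x : Matrix ι ι F) * L = L * Matrix.toLin' (x : Matrix ι ι F) := by
      apply b.ext
      intro i
      rw [hb]
      simp only [Module.End.mul_apply, Matrix.toLin'_apply]
      rw [hL, Matrix.mulVec_add, Matrix.mulVec_smul, Matrix.mulVec_smul, hxe, hxe, hεπ, map_smul,
        hL]
      module
    have h6 := congrArg LinearMap.toMatrix' hcomm
    rw [LinearMap.toMatrix'_mul, LinearMap.toMatrix'_mul, LinearMap.toMatrix'_toLin'] at h6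
    exact h6

end Cfsg.Agent.Lib.helper59.Sfk
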