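import Cfsg.Prelude.Def_GeometricClasses
import Cfsg.Prelude.Def_Classical
import Cfsg.Agent.Lib.helper17.HermForm
import Cfsg.Agent.Lib.helper17.UEichler

/-!
Every non-degenerate unitary form `f` (for `x ↦ x ^ q₀`) on `F^n`, `|F| = q₀ ^ 2`, is equivalent to the
standard Hermitian form `hermForm n F q₀`: there is `P ∈ GL_n(F)` with `f (P u) (P v) = hermForm u v`.
-/

set_option autoImplicit false
open scoped MatrixGroups

namespace Cfsg.Agent.Lib.helper99

open Cfsg Matrix

section
variable {F : Type*} [Field F] [Fintype F] {q₀ : ℕ}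

/-- additivity of a unitary form in the second argument -/
theorem uf_add_right (hF : Fintype.card F = q₀ ^ 2) {n : ℕ} {f : (Fin n → F) → (Fin n → F) → F}
    (hf : Cfsg.Geo.IsUnitaryFormPow q₀ f) (v x y : Fin n → F) : f v (x + y) = f v x + f v y := by
  rw [hf.herm v (x + y), hf.add_left, Cfsg.Agent.Lib.helper17.add_pow_q hF, ← hf.herm, ← hf.herm]

omit [Fintype F] in
/-- semilinearity of a unitary form in the second argument -/
theorem uf_smul_right {n : ℕ} {f : (Fin n → F) → (Fin n → F) → F}
    (hf : Cfsg.Geo.IsUnitaryFormPow q₀ f) (c : F) (v x : Fin n → F) : f v (c • x) = c ^ q₀ * f v x := by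
  rw [hf.herm v (c • x), hf.smul_left, mul_pow, ← hf.herm]

/-- A unitary form has an orthonormal basis, i.e. it is equivalent to the standard Hermitian form. -/
theorem uf_std (hF : Fintype.card F = q₀ ^ 2) {n : ℕ} (f : (Fin n → F) → (Fin n → F) → F)
    (hf : Cfsg.Geo.IsUnitaryFormPow q₀ f) :
    ∃ P : GL (Fin n) F, ∀ u v : Fin n → F,
      f ((P : Matrix (Fin n) (Fin n) F) *ᵥ u) ((P : Matrix (Fin n) (Fin n) F) *ᵥ v) =
        Cfsg.hermForm n F q₀ u v := by
  classical
  obtain ⟨σ, hσ, hne, hinv⟩ := Cfsg.Agent.Lib.helper17.exists_frob' hF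
  let B : (Fin n → F) →ₛₗ[σ] (Fin n → F) →ₗ[F] F :=
    LinearMap.mk₂'ₛₗ σ (RingHom.id F) (fun u w => f w u)
      (fun u u' w => uf_add_right hF hf w u u')
      (fun c u w => by
        show f w (c • u) = σ c • f w u
        rw [uf_smul_right hf, hσ, smul_eq_mul])
      (fun u w w' => hf.add_left w w' u)
      (fun c u w => by
        show f (c • w) u = (RingHom.id F) c • f w u
        rw [hf.smul_left, RingHom.id_apply, smul_eq_mul])
  have hB : ∀ u w, B u w = f w u := fun u w => rfl
  have hS : B.IsSymm := ⟨fun x y => by rw [hB, hB, hσ, ← hf.herm]⟩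
  have hN : B.Nondegenerate := by
    constructor
    · intro x hx
      by_contra hx0
      obtain ⟨y, hy⟩ := (hf.nondegenerate x hx0).1
      exact hy (hx y)
    · intro y hy
      by_contra hy0
      obtain ⟨x, hx⟩ := (hf.nondegenerate y hy0).2
      exact hx (hy x)
  obtain ⟨b, hb⟩ := Cfsg.Agent.Lib.helper17.exists_orthonormal_basis_herm σ hne hinv B hS hN
  have hn : Module.finrank F (Fin n → F) = n := by simp
  let b' : Module.Basis (Fin n) F (Fin n → F) := b.reindex (finCongr hn)
  have hb' : ∀ i j, f (b' i) (b' j) = if i = j then 1 else 0 := by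
    intro i j
    have h := hb ((finCongr hn).symm j) ((finCongr hn).symm i)
    rw [hB] at h
    simp only [b', Module.Basis.reindex_apply]
    rw [h]
    simp only [EmbeddingLike.apply_eq_iff_eq]
    by_cases hij : i = j
    · simp [hij]
    · rw [if_neg hij, if_neg (fun h => hij h.symm)]
  let e : (Fin n → F) ≃ₗ[F] (Fin n → F) := b'.equivFun.symm
  have he : ∀ u : Fin n → F, e u = ∑ i, u i • b' i := fun u => by
    simp [e, Module.Basis.equivFun_symm_apply]
  refine ⟨Matrix.GeneralLinearGroup.toLin.symm (LinearMap.GeneralLinearGroup.ofLinearEquiv e), ?_⟩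
  have hP : ∀ u : Fin n → F,
      ((Matrix.GeneralLinearGroup.toLin.symm (LinearMap.GeneralLinearGroup.ofLinearEquiv e) : GL (Fin n) F) :
        Matrix (Fin n) (Fin n) F) *ᵥ u = e u := by
    intro u
    have h1 : Matrix.GeneralLinearGroup.toLin
        (Matrix.GeneralLinearGroup.toLin.symm (LinearMap.GeneralLinearGroup.ofLinearEquiv e)) =
        LinearMap.GeneralLinearGroup.ofLinearEquiv e := MulEquiv.apply_symm_apply _ _
    have h2 : (Matrix.GeneralLinearGroup.toLin
        (Matrix.GeneralLinearGroup.toLin.symm (LinearMap.GeneralLinearGroup.ofLinearEquiv e)) :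
          (Fin n → F) →ₗ[F] (Fin n → F)) u = e u := by
      rw [h1]
      rfl
    rw [Matrix.GeneralLinearGroup.coe_toLin] at h2
    exact h2
  intro u v
  rw [hP, hP, he, he]
  have hsum_left : ∀ (w : Fin n → F) (s : Finset (Fin n)) (c : Fin n → F),
      f (∑ i ∈ s, c i • b' i) w = ∑ i ∈ s, c i * f (b' i) w := by
    intro w s c
    have : ∀ x : Fin n → F, f x w = B w x := fun x => rfl
    rw [this, map_sum]
    simp [hB, hf.smul_left]
  have hsum_right : ∀ (w : Fin n → F) (s : Finset (Fin n)) (c : Fin n → F),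
      f w (∑ i ∈ s, c i • b' i) = ∑ i ∈ s, c i ^ q₀ * f w (b' i) := by
    intro w s c
    have : ∀ x : Fin n → F, f w x = B x w := fun x => rfl
    rw [this, map_sum, LinearMap.sum_apply]
    simp [hB, hσ]
  rw [hsum_left]
  unfold Cfsg.hermForm
  apply Finset.sum_congr rfl
  intro i _
  rw [hsum_right]
  simp [hb']

end

end Cfsg.Agent.Lib.helper99
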