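import Mathlib
import Cfsg.Agent.Lib.helper24.SfuDefs
import Cfsg.Agent.Lib.helper99.UfStd
import Cfsg.Agent.Lib.helper7.Herm

/-!
# S5982 pieces CNTSTD and COUNT (helper99 racers): the number of norm-1 vectors of a unitary form,
from the landed count for the standard Hermitian form (`helper7.card_herm_eq`, `hermCount_closed`)
and the equivalence of every unitary form with the standard one (`uf_std`).
-/

set_option autoImplicit false

namespace Cfsg.Agent.Lib.helper24

open Module Matrix Cfsg.Geo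

/-- CNTSTD -/
theorem h99_sfu_count_std {F : Type*} [Field F] [Fintype F] [DecidableEq F] (q₀ : ℕ)
    (hcard : Fintype.card F = q₀ ^ 2) (m : ℕ) :
    ((Finset.univ.filter (fun v : Fin m → F => ∑ k, v k ^ (q₀ + 1) = 1)).card : ℤ) =
      (q₀ : ℤ) ^ (m - 1) * ((q₀ : ℤ) ^ m - (-1) ^ m) := by
  classical
  have hq2 : 2 ≤ q₀ := by
    have h1 : 1 < Fintype.card F := Fintype.one_lt_card
    rw [hcard] at h1
    by_contra hlt
    have : q₀ ≤ 1 := by omega
    have : q₀ ^ 2 ≤ 1 ^ 2 := Nat.pow_le_pow_left this 2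
    omega
  cases m with
  | zero => simp
  | succ n =>
    have h1 := Cfsg.Agent.Lib.helper7.card_herm_eq hcard (n + 1) (1 : F) (one_pow q₀)
    rw [if_neg one_ne_zero] at h1
    have h2 : (Finset.univ.filter (fun v : Fin (n + 1) → F => ∑ k, v k ^ (q₀ + 1) = 1)).card =
        Nat.card {v : Fin (n + 1) → F // ∑ i, v i * v i ^ q₀ = 1} := by
      rw [Nat.card_eq_fintype_card, Fintype.card_subtype]
      congr 1
      ext v
      simp only [Finset.mem_filter, Finset.mem_univ, true_and]
      have : ∀ k, v k ^ (q₀ + 1) = v k * v k ^ q₀ := fun k => by rw [pow_succ, mul_comm]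
      simp only [this]
    rw [h2, h1, (Cfsg.Agent.Lib.helper7.hermCount_closed q₀ hq2 n).1]
    rw [Nat.add_sub_cancel, pow_succ (-1 : ℤ) n]
    ring

/-- COUNT -/
theorem h99_sfu_count {F : Type*} [Field F] [Fintype F] [DecidableEq F] {m : ℕ} (q₀ : ℕ)
    (hcard : Fintype.card F = q₀ ^ 2) (f : (Fin m → F) → (Fin m → F) → F)
    (hf : IsUnitaryFormPow q₀ f) :
    ((Finset.univ.filter (fun v : Fin m → F => f v v = 1)).card : ℤ) =
      (q₀ : ℤ) ^ (m - 1) * ((q₀ : ℤ) ^ m - (-1) ^ m) := by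
  classical
  obtain ⟨P, hP⟩ := Cfsg.Agent.Lib.helper99.uf_std hcard f hf
  rw [← h99_sfu_count_std q₀ hcard m]
  congr 1
  have hherm : ∀ u : Fin m → F, Cfsg.hermForm m F q₀ u u = ∑ k, u k ^ (q₀ + 1) := by
    intro u
    unfold Cfsg.hermForm
    exact Finset.sum_congr rfl (fun k _ => by rw [pow_succ, mul_comm])
  refine Finset.card_bij' (fun v _ => ((P⁻¹ : GL (Fin m) F) : Matrix (Fin m) (Fin m) F) *ᵥ v)
    (fun u _ => (P : Matrix (Fin m) (Fin m) F) *ᵥ u) ?_ ?_ ?_ ?_
  · intro v hv
    simp only [Finset.mem_filter, Finset.mem_univ, true_and] at hv ⊢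
    rw [← hherm, ← hP, Matrix.mulVec_mulVec, ← Units.val_mul, mul_inv_cancel, Units.val_one,
      Matrix.one_mulVec]
    exact hv
  · intro u hu
    simp only [Finset.mem_filter, Finset.mem_univ, true_and] at hu ⊢
    rw [hP, hherm]
    exact hu
  · intro v _
    rw [Matrix.mulVec_mulVec, ← Units.val_mul, mul_inv_cancel, Units.val_one, Matrix.one_mulVec]
  · intro u _
    rw [Matrix.mulVec_mulVec, ← Units.val_mul, inv_mul_cancel, Units.val_one, Matrix.one_mulVec]

end Cfsg.Agent.Lib.helper24
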