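import Cfsg.Agent.Lib.helper99.UfStd
import Cfsg.Agent.Lib.helper7.SU
import Cfsg.Agent.Lib.helper6.SLCard

/-!
Index arithmetic for the unitary-type subgroup `similarityGroup f ⊓ SL_n(F)` of `SL_n(F)`, `|F| = q₀ ^ 2`:
an odd prime `r` not dividing `q₀` that divides the index satisfies `r ∤ q₀ ^ m + 1` for every odd `m`
(the order of `-q₀` modulo `r` is even), and `r ∣ q ^ k - 1` for some `1 ≤ k ≤ n`.
-/

set_option autoImplicit false
open scoped MatrixGroups

namespace Cfsg.Agent.Lib.helper99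

open Cfsg Matrix

theorem uf_padic_prod {ι : Type*} (p : ℕ) [hp : Fact p.Prime] (s : Finset ι)
    (f : ι → ℕ) (hf : ∀ i ∈ s, f i ≠ 0) :
    padicValNat p (∏ i ∈ s, f i) = ∑ i ∈ s, padicValNat p (f i) := by
  classical
  induction s using Finset.induction_on with
  | empty => simp
  | insert a s ha ih =>
    rw [Finset.prod_insert ha, Finset.sum_insert ha,
      padicValNat.mul (hf a (Finset.mem_insert_self a s))
        (Finset.prod_ne_zero_iff.2 (fun i hi => hf i (Finset.mem_insert_of_mem hi))),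
      ih (fun i hi => hf i (Finset.mem_insert_of_mem hi))]

/-- the unitary factor: `q₀ ^ k + 1` for odd `k`, `q₀ ^ k - 1` for even `k` (indexed by `i = k - 1`) -/
theorem uf_val_term (q₀ r m k : ℕ) [hr : Fact r.Prime] (hr2 : r ≠ 2) (hq2 : 2 ≤ q₀) (hm : Odd m)
    (hrm : r ∣ q₀ ^ m + 1) :
    padicValNat r ((q₀ ^ 2) ^ (k + 1) - 1) =
      padicValNat r (if Even k then q₀ ^ (k + 1) + 1 else q₀ ^ (k + 1) - 1) := by
  have hX2 : 2 ≤ q₀ ^ (k + 1) := le_trans hq2 (Nat.le_self_pow (by omega) q₀)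
  have hfac : (q₀ ^ 2) ^ (k + 1) - 1 = (q₀ ^ (k + 1) - 1) * (q₀ ^ (k + 1) + 1) := by
    have h1 : (q₀ ^ 2) ^ (k + 1) = q₀ ^ (k + 1) * q₀ ^ (k + 1) := by ring
    rw [h1]
    obtain ⟨X, hX⟩ : ∃ X, q₀ ^ (k + 1) = X + 2 := ⟨q₀ ^ (k + 1) - 2, by omega⟩
    rw [hX]
    have : (X + 2) * (X + 2) - 1 = (X + 1) * (X + 2 + 1) := by
      have : (X + 2) * (X + 2) = (X + 1) * (X + 2 + 1) + 1 := by ring
      omega
    rw [this]
    congr 1
  have ha : ((q₀ : ZMod r)) ^ m = -1 := by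
    have h := (ZMod.natCast_eq_zero_iff (q₀ ^ m + 1) r).mpr hrm
    push_cast at h
    exact eq_neg_of_add_eq_zero_left h
  have hne : (1 : ZMod r) ≠ -1 := by
    intro h
    have h2 : ((2 : ℕ) : ZMod r) = 0 := by
      push_cast
      have : (1 : ZMod r) + 1 = 0 := by
        nth_rewrite 1 [h]
        ring
      rw [← this]; ring
    have h3 := (ZMod.natCast_eq_zero_iff 2 r).mp h2
    exact hr2 ((Nat.prime_dvd_prime_iff_eq hr.out Nat.prime_two).mp h3)
  rw [hfac, padicValNat.mul (by omega) (by omega)]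
  by_cases hk : Even k
  · rw [if_pos hk]
    have hodd : Odd (k + 1) := hk.add_one
    have hnd : ¬ r ∣ q₀ ^ (k + 1) - 1 := by
      intro h
      have h1 : ((q₀ : ZMod r)) ^ (k + 1) = 1 := by
        have h := (ZMod.natCast_eq_zero_iff (q₀ ^ (k + 1) - 1) r).mpr h
        rw [Nat.cast_sub (by omega)] at h
        push_cast at h
        exact sub_eq_zero.mp h
      apply hne
      calc (1 : ZMod r) = (((q₀ : ZMod r)) ^ (k + 1)) ^ m := by rw [h1, one_pow]
        _ = (((q₀ : ZMod r)) ^ m) ^ (k + 1) := by rw [← pow_mul, ← pow_mul, mul_comm]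
        _ = -1 := by rw [ha, hodd.neg_one_pow]
    rw [padicValNat.eq_zero_of_not_dvd hnd, zero_add]
  · rw [if_neg hk]
    have hev : Even (k + 1) := Nat.even_add_one.mpr hk
    have hnd : ¬ r ∣ q₀ ^ (k + 1) + 1 := by
      intro h
      have h1 : ((q₀ : ZMod r)) ^ (k + 1) = -1 := by
        have h := (ZMod.natCast_eq_zero_iff (q₀ ^ (k + 1) + 1) r).mpr h
        push_cast at h
        exact eq_neg_of_add_eq_zero_left h
      apply hne
      calc (1 : ZMod r) = (((q₀ : ZMod r)) ^ m) ^ (k + 1) := by rw [ha, hev.neg_one_pow]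
        _ = (((q₀ : ZMod r)) ^ (k + 1)) ^ m := by rw [← pow_mul, ← pow_mul, mul_comm]
        _ = -1 := by rw [h1, hm.neg_one_pow]
    rw [padicValNat.eq_zero_of_not_dvd hnd, add_zero]

section
variable {F : Type*} [Field F] [Fintype F] {q₀ : ℕ}

/-- `|SL_n(F)|` as the cardinality of the subgroup `specialLinear` of `GL_n(F)` -/
theorem uf_card_specialLinear (n : ℕ) (hn : 1 ≤ n) :
    (Fintype.card F - 1) * Nat.card (Cfsg.Geo.specialLinear (Fin n) F) =
      ∏ i : Fin n, (Fintype.card F ^ n - Fintype.card F ^ (i : ℕ)) := by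
  rw [← Cfsg.Agent.Lib.helper6.card_SL n hn]
  congr 1
  exact (Nat.card_congr (Cfsg.Agent.Lib.helper6.slEquivKerDet (F := F) n)).symm

/-- `SU_n(q₀)` embeds in `similarityGroup f ⊓ SL_n(F)` -/
theorem uf_card_SU_dvd (hF : Fintype.card F = q₀ ^ 2) {n : ℕ} (f : (Fin n → F) → (Fin n → F) → F)
    (hf : Cfsg.Geo.IsUnitaryFormPow q₀ f) :
    Nat.card (Cfsg.SU n F q₀) ∣
      Nat.card ((Cfsg.Geo.similarityGroup f).subgroupOf (Cfsg.Geo.specialLinear (Fin n) F)) := by
  classical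
  obtain ⟨P, hP⟩ := uf_std hF f hf
  let φ : Cfsg.SU n F q₀ →* GL (Fin n) F :=
    ((MulAut.conj P).toMonoidHom.comp Matrix.SpecialLinearGroup.toGL).comp (Cfsg.SU n F q₀).subtype
  have hφ : ∀ A : Cfsg.SU n F q₀, φ A =
      P * Matrix.SpecialLinearGroup.toGL (A : Matrix.SpecialLinearGroup (Fin n) F) * P⁻¹ := fun A => rfl
  have hK : ∀ A, φ A ∈ Cfsg.Geo.specialLinear (Fin n) F := by
    intro A
    show φ A ∈ (Matrix.GeneralLinearGroup.det : GL (Fin n) F →* Fˣ).ker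
    rw [MonoidHom.mem_ker, hφ, map_mul, map_mul, map_inv, Matrix.SpecialLinearGroup.coeToGL_det]
    simp
  have hH : ∀ A, φ A ∈ Cfsg.Geo.similarityGroup f := by
    intro A
    refine ⟨1, fun u v => ?_⟩
    have hA : ∀ u v : Fin n → F,
        Cfsg.hermForm n F q₀
          (((Matrix.SpecialLinearGroup.toGL (A : Matrix.SpecialLinearGroup (Fin n) F) : GL (Fin n) F) :
            Matrix (Fin n) (Fin n) F) *ᵥ u)
          (((Matrix.SpecialLinearGroup.toGL (A : Matrix.SpecialLinearGroup (Fin n) F) : GL (Fin n) F) :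
            Matrix (Fin n) (Fin n) F) *ᵥ v) = Cfsg.hermForm n F q₀ u v := A.2
    have hmv : ∀ u : Fin n → F, ((φ A : GL (Fin n) F) : Matrix (Fin n) (Fin n) F) *ᵥ u =
        (P : Matrix (Fin n) (Fin n) F) *ᵥ
          (((Matrix.SpecialLinearGroup.toGL (A : Matrix.SpecialLinearGroup (Fin n) F) : GL (Fin n) F) :
            Matrix (Fin n) (Fin n) F) *ᵥ (((P⁻¹ : GL (Fin n) F) : Matrix (Fin n) (Fin n) F) *ᵥ u)) := by
      intro u
      rw [hφ, Units.val_mul, Units.val_mul, Matrix.mulVec_mulVec, Matrix.mulVec_mulVec, Matrix.mul_assoc]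
    have hback : ∀ u : Fin n → F, (P : Matrix (Fin n) (Fin n) F) *ᵥ
        (((P⁻¹ : GL (Fin n) F) : Matrix (Fin n) (Fin n) F) *ᵥ u) = u := by
      intro u
      rw [Matrix.mulVec_mulVec, ← Units.val_mul, mul_inv_cancel, Units.val_one, Matrix.one_mulVec]
    rw [hmv, hmv, hP, hA, ← hP, hback, hback, Units.val_one, one_mul]
  have hφinj : Function.Injective φ := by
    intro A B hAB
    rw [hφ, hφ] at hAB
    have h1 : Matrix.SpecialLinearGroup.toGL (A : Matrix.SpecialLinearGroup (Fin n) F) =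
        Matrix.SpecialLinearGroup.toGL (B : Matrix.SpecialLinearGroup (Fin n) F) := by
      have := mul_left_cancel (mul_right_cancel hAB)
      exact this
    apply Subtype.ext
    apply Matrix.SpecialLinearGroup.ext
    intro i j
    have h2 := congrArg (fun g : GL (Fin n) F => (g : Matrix (Fin n) (Fin n) F) i j) h1
    exact h2
  let ψ : Cfsg.SU n F q₀ →* (Cfsg.Geo.specialLinear (Fin n) F) := φ.codRestrict _ hK
  have hψ : ∀ A, ψ A ∈ (Cfsg.Geo.similarityGroup f).subgroupOf (Cfsg.Geo.specialLinear (Fin n) F) := by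
    intro A
    rw [Subgroup.mem_subgroupOf]
    exact hH A
  refine Subgroup.card_dvd_of_injective (ψ.codRestrict _ hψ) ?_
  intro A B hAB
  apply hφinj
  have h1 := congrArg (fun x : ((Cfsg.Geo.similarityGroup f).subgroupOf (Cfsg.Geo.specialLinear (Fin n) F)) =>
    ((x : (Cfsg.Geo.specialLinear (Fin n) F)) : GL (Fin n) F)) hAB
  exact h1

/-- IDX (unitary), first part: `r` divides `q ^ k - 1` for some `1 ≤ k ≤ n`. -/
theorem uf_idx_ord (hF : Fintype.card F = q₀ ^ 2) {n : ℕ} (hn : 1 ≤ n)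
    (f : (Fin n → F) → (Fin n → F) → F) (r : ℕ) [Fact r.Prime] (hrF : (r : F) ≠ 0)
    (hΩ : r ∣ (Cfsg.Geo.similarityGroup f).relIndex (Cfsg.Geo.specialLinear (Fin n) F)) :
    ∃ k, 1 ≤ k ∧ k ≤ n ∧ r ∣ (q₀ ^ 2) ^ k - 1 := by
  classical
  have hr : r.Prime := Fact.out
  have h1 : r ∣ Nat.card (Cfsg.Geo.specialLinear (Fin n) F) :=
    hΩ.trans (Subgroup.relIndex_dvd_card _ _)
  have h2 : r ∣ ∏ i : Fin n, (Fintype.card F ^ n - Fintype.card F ^ (i : ℕ)) := by
    rw [← uf_card_specialLinear n hn]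
    exact h1.mul_left _
  obtain ⟨i, -, hi⟩ := (hr.prime.dvd_finsetProd_iff _).mp h2
  have hrq : ¬ r ∣ Fintype.card F := by
    intro h
    obtain ⟨p, hpc⟩ := CharP.exists F
    have hpp : p.Prime := CharP.char_is_prime F p
    obtain ⟨e, -, he⟩ := FiniteField.card F p
    rw [he] at h
    have h3 := (Nat.prime_dvd_prime_iff_eq hr hpp).mp (hr.dvd_of_dvd_pow h)
    apply hrF
    rw [h3]
    exact CharP.cast_eq_zero F p
  have hsplit : Fintype.card F ^ n - Fintype.card F ^ (i : ℕ) =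
      Fintype.card F ^ (i : ℕ) * (Fintype.card F ^ (n - (i : ℕ)) - 1) := by
    rw [Nat.mul_sub, mul_one, ← pow_add, Nat.add_sub_cancel' (le_of_lt i.2)]
  rw [hsplit] at hi
  rcases hr.dvd_mul.mp hi with h | h
  · exact absurd (hr.dvd_of_dvd_pow h) hrq
  · refine ⟨n - (i : ℕ), by have := i.2; omega, by omega, ?_⟩
    rw [← hF]
    exact h

/-- IDX (unitary), second part: the order of `-q₀` modulo `r` is even. -/
theorem uf_idx_odd (hF : Fintype.card F = q₀ ^ 2) {n : ℕ} (hn : 1 ≤ n)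
    (f : (Fin n → F) → (Fin n → F) → F) (hf : Cfsg.Geo.IsUnitaryFormPow q₀ f) (r : ℕ) [Fact r.Prime]
    (hr2 : r ≠ 2) (hrF : (r : F) ≠ 0)
    (hΩ : r ∣ (Cfsg.Geo.similarityGroup f).relIndex (Cfsg.Geo.specialLinear (Fin n) F)) :
    ∀ m, Odd m → ¬ r ∣ q₀ ^ m + 1 := by
  classical
  intro m hm hrm
  have hr : r.Prime := Fact.out
  have hq2 : 2 ≤ q₀ := by
    have h1 : 1 < Fintype.card F := Fintype.one_lt_card
    rw [hF] at h1
    by_contra hlt
    have : q₀ ≤ 1 := by omega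
    have : q₀ ^ 2 ≤ 1 ^ 2 := Nat.pow_le_pow_left this 2
    omega
  have hrq₀ : ¬ r ∣ q₀ := by
    intro h
    have hrq : r ∣ Fintype.card F := by rw [hF]; exact dvd_pow h (by norm_num)
    obtain ⟨p, hpc⟩ := CharP.exists F
    have hpp : p.Prime := CharP.char_is_prime F p
    obtain ⟨e, -, he⟩ := FiniteField.card F p
    rw [he] at hrq
    have h3 := (Nat.prime_dvd_prime_iff_eq hr hpp).mp (hr.dvd_of_dvd_pow hrq)
    apply hrF
    rw [h3]
    exact CharP.cast_eq_zero F p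
  have hrq : ¬ r ∣ q₀ ^ 2 := fun h => hrq₀ (hr.dvd_of_dvd_pow h)
  have hQ2 : 2 ≤ q₀ ^ 2 := le_trans hq2 (Nat.le_self_pow (by norm_num) q₀)
  -- valuations
  have hSL := uf_card_specialLinear (F := F) n hn
  have hSU := Cfsg.Agent.Lib.helper7.card_SU hF n hn
  rw [hF] at hSL
  have hKpos : Nat.card (Cfsg.Geo.specialLinear (Fin n) F) ≠ 0 := Nat.card_pos.ne'
  have hSUpos : Nat.card (Cfsg.SU n F q₀) ≠ 0 := Nat.card_pos.ne'
  have hv1 : padicValNat r (q₀ ^ 2 - 1) + padicValNat r (Nat.card (Cfsg.Geo.specialLinear (Fin n) F)) =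
      ∑ i ∈ Finset.range n, padicValNat r ((q₀ ^ 2) ^ (i + 1) - 1) := by
    rw [← padicValNat.mul (by omega) hKpos, hSL]
    have hne : ∀ i ∈ (Finset.univ : Finset (Fin n)), (q₀ ^ 2) ^ n - (q₀ ^ 2) ^ (i : ℕ) ≠ 0 := by
      intro i _
      have := Nat.pow_lt_pow_right (by omega : 1 < q₀ ^ 2) i.2
      omega
    rw [uf_padic_prod r _ _ hne]
    have hsplit : ∀ i : Fin n, padicValNat r ((q₀ ^ 2) ^ n - (q₀ ^ 2) ^ (i : ℕ)) =
        padicValNat r ((q₀ ^ 2) ^ (n - 1 - (i : ℕ) + 1) - 1) := by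
      intro i
      have hi := i.2
      have h1 : (q₀ ^ 2) ^ n - (q₀ ^ 2) ^ (i : ℕ) =
          (q₀ ^ 2) ^ (i : ℕ) * ((q₀ ^ 2) ^ (n - 1 - (i : ℕ) + 1) - 1) := by
        rw [Nat.mul_sub, mul_one, ← pow_add]
        congr 2
        omega
      have h2 : (q₀ ^ 2) ^ (n - 1 - (i : ℕ) + 1) - 1 ≠ 0 := by
        have := Nat.pow_lt_pow_right (by omega : 1 < q₀ ^ 2) (by omega : 0 < n - 1 - (i : ℕ) + 1)
        rw [pow_zero] at this
        omega
      have h4 : (q₀ ^ 2) ^ (i : ℕ) ≠ 0 := by positivity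
      rw [h1, padicValNat.mul h4 h2,
        padicValNat.eq_zero_of_not_dvd (fun h => hrq (hr.dvd_of_dvd_pow h)), zero_add]
    simp only [hsplit]
    rw [Fin.sum_univ_eq_sum_range (fun i => padicValNat r ((q₀ ^ 2) ^ (n - 1 - i + 1) - 1)) n]
    exact Finset.sum_range_reflect (fun i => padicValNat r ((q₀ ^ 2) ^ (i + 1) - 1)) n
  have hv2 : padicValNat r (q₀ + 1) + padicValNat r (Nat.card (Cfsg.SU n F q₀)) =
      ∑ i ∈ Finset.range n, padicValNat r (if Even i then q₀ ^ (i + 1) + 1 else q₀ ^ (i + 1) - 1) := by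
    rw [← padicValNat.mul (by omega) hSUpos, hSU]
    have hne : ∀ i ∈ Finset.range n, (if Even i then q₀ ^ (i + 1) + 1 else q₀ ^ (i + 1) - 1) ≠ 0 := by
      intro i _
      have hX2 : 2 ≤ q₀ ^ (i + 1) := le_trans hq2 (Nat.le_self_pow (by omega) q₀)
      split_ifs <;> omega
    have hprod : (∏ i ∈ Finset.range n, (if Even i then q₀ ^ (i + 1) + 1 else q₀ ^ (i + 1) - 1)) ≠ 0 :=
      Finset.prod_ne_zero_iff.mpr hne
    rw [padicValNat.mul (by positivity) hprod,
      padicValNat.eq_zero_of_not_dvd (fun h => hrq₀ (hr.dvd_of_dvd_pow h)), zero_add,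
      uf_padic_prod r _ _ hne]
  have hterm : ∑ i ∈ Finset.range n, padicValNat r ((q₀ ^ 2) ^ (i + 1) - 1) =
      ∑ i ∈ Finset.range n, padicValNat r (if Even i then q₀ ^ (i + 1) + 1 else q₀ ^ (i + 1) - 1) :=
    Finset.sum_congr rfl (fun i _ => uf_val_term q₀ r m i hr2 hq2 hm hrm)
  have h0 := uf_val_term q₀ r m 0 hr2 hq2 hm hrm
  simp only [zero_add, pow_one, Even.zero, if_true] at h0
  have hveq : padicValNat r (Nat.card (Cfsg.Geo.specialLinear (Fin n) F)) =
      padicValNat r (Nat.card (Cfsg.SU n F q₀)) := by omega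
  -- the index
  have hdvd := uf_card_SU_dvd hF f hf
  have hidx := Subgroup.card_mul_index
    ((Cfsg.Geo.similarityGroup f).subgroupOf (Cfsg.Geo.specialLinear (Fin n) F))
  obtain ⟨c, hc⟩ := hdvd
  obtain ⟨d, hd⟩ : r ∣ ((Cfsg.Geo.similarityGroup f).subgroupOf (Cfsg.Geo.specialLinear (Fin n) F)).index := hΩ
  have h4 : r ^ (padicValNat r (Nat.card (Cfsg.SU n F q₀)) + 1) ∣
      Nat.card (Cfsg.Geo.specialLinear (Fin n) F) := by
    rw [← hidx, hc, hd, pow_succ]
    have h5 := pow_padicValNat_dvd (p := r) (n := Nat.card (Cfsg.SU n F q₀))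
    obtain ⟨e, he⟩ := h5
    exact ⟨e * c * d, by
      nth_rewrite 1 [he]
      ring⟩
  have h6 := (padicValNat_dvd_iff_le (p := r) hKpos).1 h4
  omega

end

end Cfsg.Agent.Lib.helper99
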