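import Mathlib
import Cfsg.Agent.Lib.helper24.SfuDefs
import Cfsg.Agent.Lib.helper99.UfIdx

/-!
# S5982 piece IDXU (helper99 racer): index arithmetic for the unitary-type subgroup, odd `r ≠ p`,
directly from the landed order of `SU_n(q₀)` (S0278, `helper7.card_SU`) and an orthonormal basis.
-/

set_option autoImplicit false

namespace Cfsg.Agent.Lib.helper24

open Module Matrix Cfsg.Geo

/-- termwise valuation equality when `(-q₀)^(k+1) ≠ -1` modulo `r` -/
theorem h99_uf_val_term (q₀ r k : ℕ) [hr : Fact r.Prime] (hq2 : 2 ≤ q₀)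
    (hnd : (-(q₀ : ZMod r)) ^ (k + 1) ≠ -1) :
    padicValNat r ((q₀ ^ 2) ^ (k + 1) - 1) =
      padicValNat r (if Even k then q₀ ^ (k + 1) + 1 else q₀ ^ (k + 1) - 1) := by
  have hX2 : 2 ≤ q₀ ^ (k + 1) := le_trans hq2 (Nat.le_self_pow (by omega) q₀)
  have hfac : (q₀ ^ 2) ^ (k + 1) - 1 = (q₀ ^ (k + 1) - 1) * (q₀ ^ (k + 1) + 1) := by
    have h1 : (q₀ ^ 2) ^ (k + 1) = q₀ ^ (k + 1) * q₀ ^ (k + 1) := by ring
    rw [h1]
    obtain ⟨X, hX⟩ : ∃ X, q₀ ^ (k + 1) = X + 2 := ⟨q₀ ^ (k + 1) - 2, by omega⟩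
    rw [hX]
    have : (X + 2) * (X + 2) - 1 = (X + 1) * (X + 2 + 1) := by
      have : (X + 2) * (X + 2) = (X + 1) * (X + 2 + 1) + 1 := by ring
      omega
    rw [this]
    congr 1
  rw [hfac, padicValNat.mul (by omega) (by omega)]
  by_cases hk : Even k
  · rw [if_pos hk]
    have hodd : Odd (k + 1) := hk.add_one
    have hnd' : ¬ r ∣ q₀ ^ (k + 1) - 1 := by
      intro h
      have h1 : ((q₀ : ZMod r)) ^ (k + 1) = 1 := by
        have h := (ZMod.natCast_eq_zero_iff (q₀ ^ (k + 1) - 1) r).mpr h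
        rw [Nat.cast_sub (by omega)] at h
        push_cast at h
        exact sub_eq_zero.mp h
      apply hnd
      rw [neg_pow, h1, hodd.neg_one_pow, mul_one]
    rw [padicValNat.eq_zero_of_not_dvd hnd', zero_add]
  · rw [if_neg hk]
    have hev : Even (k + 1) := Nat.even_add_one.mpr hk
    have hnd' : ¬ r ∣ q₀ ^ (k + 1) + 1 := by
      intro h
      have h1 : ((q₀ : ZMod r)) ^ (k + 1) = -1 := by
        have h := (ZMod.natCast_eq_zero_iff (q₀ ^ (k + 1) + 1) r).mpr h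
        push_cast at h
        exact eq_neg_of_add_eq_zero_left h
      apply hnd
      rw [neg_pow, h1, hev.neg_one_pow, one_mul]
    rw [padicValNat.eq_zero_of_not_dvd hnd', add_zero]

/-- IDXU -/
theorem h99_sfu_idx {F : Type*} [Field F] [Fintype F] {n : ℕ} (hn : 1 ≤ n) (q₀ : ℕ)
    (hcard : Fintype.card F = q₀ ^ 2) (f : (Fin n → F) → (Fin n → F) → F)
    (hf : IsUnitaryFormPow q₀ f) (r : ℕ) [Fact r.Prime] (hr2 : r ≠ 2) (hrF : (r : F) ≠ 0)
    (hΩ : r ∣ (similarityGroup f).relIndex (specialLinear (Fin n) F)) :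
    ∃ j, 2 ≤ j ∧ j ≤ n ∧ (-(q₀ : ZMod r)) ^ j = -1 := by
  classical
  by_contra hcon
  have hno : ∀ j, 2 ≤ j → j ≤ n → (-(q₀ : ZMod r)) ^ j ≠ -1 := by
    intro j h2 hjn hd
    exact hcon ⟨j, h2, hjn, hd⟩
  have hr : r.Prime := Fact.out
  have hq2 : 2 ≤ q₀ := by
    have h1 : 1 < Fintype.card F := Fintype.one_lt_card
    rw [hcard] at h1
    by_contra hlt
    have : q₀ ≤ 1 := by omega
    have : q₀ ^ 2 ≤ 1 ^ 2 := Nat.pow_le_pow_left this 2
    omega
  have hrq₀ : ¬ r ∣ q₀ := by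
    intro h
    have hrq : r ∣ Fintype.card F := by rw [hcard]; exact dvd_pow h (by norm_num)
    obtain ⟨p, hpc⟩ := CharP.exists F
    have hpp : p.Prime := CharP.char_is_prime F p
    obtain ⟨e, -, he⟩ := FiniteField.card F p
    rw [he] at hrq
    have h3 := (Nat.prime_dvd_prime_iff_eq hr hpp).mp (hr.dvd_of_dvd_pow hrq)
    apply hrF
    rw [h3]
    exact CharP.cast_eq_zero F p
  have hrq : ¬ r ∣ q₀ ^ 2 := fun h => hrq₀ (hr.dvd_of_dvd_pow h)
  have hQ2 : 2 ≤ q₀ ^ 2 := le_trans hq2 (Nat.le_self_pow (by norm_num) q₀)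
  -- valuations
  have hSL := Cfsg.Agent.Lib.helper99.uf_card_specialLinear (F := F) n hn
  have hSU := Cfsg.Agent.Lib.helper7.card_SU hcard n hn
  rw [hcard] at hSL
  have hKpos : Nat.card (specialLinear (Fin n) F) ≠ 0 := Nat.card_pos.ne'
  have hSUpos : Nat.card (Cfsg.SU n F q₀) ≠ 0 := Nat.card_pos.ne'
  have hv1 : padicValNat r (q₀ ^ 2 - 1) + padicValNat r (Nat.card (specialLinear (Fin n) F)) =
      ∑ i ∈ Finset.range n, padicValNat r ((q₀ ^ 2) ^ (i + 1) - 1) := by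
    rw [← padicValNat.mul (by omega) hKpos, hSL]
    have hne : ∀ i ∈ (Finset.univ : Finset (Fin n)), (q₀ ^ 2) ^ n - (q₀ ^ 2) ^ (i : ℕ) ≠ 0 := by
      intro i _
      have := Nat.pow_lt_pow_right (by omega : 1 < q₀ ^ 2) i.2
      omega
    rw [Cfsg.Agent.Lib.helper99.uf_padic_prod r _ _ hne]
    have hsplit : ∀ i : Fin n, padicValNat r ((q₀ ^ 2) ^ n - (q₀ ^ 2) ^ (i : ℕ)) =
        padicValNat r ((q₀ ^ 2) ^ (n - 1 - (i : ℕ) + 1) - 1) := by
      intro i
      have hi := i.2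
      have h1 : (q₀ ^ 2) ^ n - (q₀ ^ 2) ^ (i : ℕ) =
          (q₀ ^ 2) ^ (i : ℕ) * ((q₀ ^ 2) ^ (n - 1 - (i : ℕ) + 1) - 1) := by
        rw [Nat.mul_sub, mul_one, ← pow_add]
        congr 2
        omega
      have h2 : (q₀ ^ 2) ^ (n - 1 - (i : ℕ) + 1) - 1 ≠ 0 := by
        have := Nat.pow_lt_pow_right (by omega : 1 < q₀ ^ 2) (by omega : 0 < n - 1 - (i : ℕ) + 1)
        rw [pow_zero] at this
        omega
      have h4 : (q₀ ^ 2) ^ (i : ℕ) ≠ 0 := by positivity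
      rw [h1, padicValNat.mul h4 h2,
        padicValNat.eq_zero_of_not_dvd (fun h => hrq (hr.dvd_of_dvd_pow h)), zero_add]
    simp only [hsplit]
    rw [Fin.sum_univ_eq_sum_range (fun i => padicValNat r ((q₀ ^ 2) ^ (n - 1 - i + 1) - 1)) n]
    exact Finset.sum_range_reflect (fun i => padicValNat r ((q₀ ^ 2) ^ (i + 1) - 1)) n
  have hv2 : padicValNat r (q₀ + 1) + padicValNat r (Nat.card (Cfsg.SU n F q₀)) =
      ∑ i ∈ Finset.range n, padicValNat r (if Even i then q₀ ^ (i + 1) + 1 else q₀ ^ (i + 1) - 1) := by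
    rw [← padicValNat.mul (by omega) hSUpos, hSU]
    have hne : ∀ i ∈ Finset.range n, (if Even i then q₀ ^ (i + 1) + 1 else q₀ ^ (i + 1) - 1) ≠ 0 := by
      intro i _
      have hX2 : 2 ≤ q₀ ^ (i + 1) := le_trans hq2 (Nat.le_self_pow (by omega) q₀)
      split_ifs <;> omega
    have hprod : (∏ i ∈ Finset.range n, (if Even i then q₀ ^ (i + 1) + 1 else q₀ ^ (i + 1) - 1)) ≠ 0 :=
      Finset.prod_ne_zero_iff.mpr hne
    rw [padicValNat.mul (by positivity) hprod,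
      padicValNat.eq_zero_of_not_dvd (fun h => hrq₀ (hr.dvd_of_dvd_pow h)), zero_add,
      Cfsg.Agent.Lib.helper99.uf_padic_prod r _ _ hne]
  obtain ⟨n', rfl⟩ : ∃ n', n = n' + 1 := ⟨n - 1, by omega⟩
  rw [Finset.sum_range_succ'] at hv1 hv2
  have hterm : ∑ i ∈ Finset.range n', padicValNat r ((q₀ ^ 2) ^ (i + 1 + 1) - 1) =
      ∑ i ∈ Finset.range n', padicValNat r
        (if Even (i + 1) then q₀ ^ (i + 1 + 1) + 1 else q₀ ^ (i + 1 + 1) - 1) :=
    Finset.sum_congr rfl (fun i hi => h99_uf_val_term q₀ r (i + 1) hq2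
      (hno (i + 1 + 1) (by omega) (by have := Finset.mem_range.mp hi; omega)))
  simp only [zero_add, pow_one, Even.zero, if_true] at hv1 hv2
  have hveq : padicValNat r (Nat.card (specialLinear (Fin (n' + 1)) F)) =
      padicValNat r (Nat.card (Cfsg.SU (n' + 1) F q₀)) := by omega
  -- the index
  have hdvd := Cfsg.Agent.Lib.helper99.uf_card_SU_dvd hcard f hf
  have hidx := Subgroup.card_mul_index
    ((similarityGroup f).subgroupOf (specialLinear (Fin (n' + 1)) F))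
  obtain ⟨c, hc⟩ := hdvd
  obtain ⟨d, hd⟩ : r ∣ ((similarityGroup f).subgroupOf (specialLinear (Fin (n' + 1)) F)).index := hΩ
  have h4 : r ^ (padicValNat r (Nat.card (Cfsg.SU (n' + 1) F q₀)) + 1) ∣
      Nat.card (specialLinear (Fin (n' + 1)) F) := by
    rw [← hidx, hc, hd, pow_succ]
    have h5 := pow_padicValNat_dvd (p := r) (n := Nat.card (Cfsg.SU (n' + 1) F q₀))
    obtain ⟨e, he⟩ := h5
    exact ⟨e * c * d, by
      nth_rewrite 1 [he]
      ring⟩
  have h6 := (padicValNat_dvd_iff_le (p := r) hKpos).1 h4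
  omega

end Cfsg.Agent.Lib.helper24
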