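import Mathlib
import Cfsg.Agent.Lib.helper50.OGCount
import Cfsg.Agent.Lib.helper99.SpDerA

set_option autoImplicit false

/-!
# Matrices that are not similarities of any symplectic Gram matrix (helper99)

* `no_sim_unip`: `1 + E₀₁ + E₁₂` in odd characteristic;
* `no_sim_diag`: `diag(l, l, ν, 1, …, 1)`;
* `no_sim_block`: `A ⊕ 1` with `A - 1` invertible and an odd number of ones.
-/

namespace Cfsg.Agent.Lib.helper99.SpDer

open Matrix

variable {F : Type*} [Field F] {n : ℕ}

section Unip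

/-- the nilpotent part `E₀₁ + E₁₂` -/
def Nu (i0 i1 i2 : Fin n) : Matrix (Fin n) (Fin n) F :=
  Matrix.single i0 i1 1 + Matrix.single i1 i2 1

theorem Nu_sq (i0 i1 i2 : Fin n) (h01 : i0 ≠ i1) (h02 : i0 ≠ i2) (h12 : i1 ≠ i2) :
    (Nu i0 i1 i2 : Matrix (Fin n) (Fin n) F) * Nu i0 i1 i2 = Matrix.single i0 i2 1 := by
  unfold Nu
  rw [add_mul, mul_add, mul_add, Matrix.single_mul_single_of_ne (h := h01.symm),
    Matrix.single_mul_single_same, Matrix.single_mul_single_of_ne (h := h02.symm),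
    Matrix.single_mul_single_of_ne (h := h12.symm)]
  simp

theorem Nu_cube (i0 i1 i2 : Fin n) (h01 : i0 ≠ i1) (h02 : i0 ≠ i2) (h12 : i1 ≠ i2) :
    (Nu i0 i1 i2 : Matrix (Fin n) (Fin n) F) * Nu i0 i1 i2 * Nu i0 i1 i2 = 0 := by
  rw [Nu_sq i0 i1 i2 h01 h02 h12]
  unfold Nu
  rw [mul_add, Matrix.single_mul_single_of_ne (h := h02.symm),
    Matrix.single_mul_single_of_ne (h := h12.symm), add_zero]

theorem Nu_pow_char {p : ℕ} [Fact p.Prime] [CharP F p] (hp : p ≠ 2) (i0 i1 i2 : Fin n)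
    (h01 : i0 ≠ i1) (h02 : i0 ≠ i2) (h12 : i1 ≠ i2) :
    (1 + Nu i0 i1 i2 : Matrix (Fin n) (Fin n) F) ^ p = 1 := by
  classical
  have : Nonempty (Fin n) := ⟨i0⟩
  have hcomm : Commute (1 : Matrix (Fin n) (Fin n) F) (Nu i0 i1 i2) := Commute.one_left _
  have hp3 : 3 ≤ p := by
    have := (Fact.out : p.Prime).two_le
    omega
  have h3 : (Nu i0 i1 i2 : Matrix (Fin n) (Fin n) F) ^ 3 = 0 := by
    rw [pow_succ, pow_succ, pow_one, Nu_cube i0 i1 i2 h01 h02 h12]
  have hNp : (Nu i0 i1 i2 : Matrix (Fin n) (Fin n) F) ^ p = 0 := by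
    obtain ⟨k, rfl⟩ : ∃ k, p = 3 + k := ⟨p - 3, by omega⟩
    rw [pow_add, h3, zero_mul]
  rw [add_pow_char_of_commute _ hcomm, one_pow, hNp, add_zero]

/-- `1 + E₀₁ + E₁₂` is not a similarity of an invertible skew-symmetric matrix in odd
characteristic -/
theorem no_sim_unip {p : ℕ} [Fact p.Prime] [CharP F p] (hp : p ≠ 2) (i0 i1 i2 : Fin n)
    (h01 : i0 ≠ i1) (h02 : i0 ≠ i2) (h12 : i1 ≠ i2)
    (Γ : Matrix (Fin n) (Fin n) F) (hdet : Γ.det ≠ 0) (hskew : Γᵀ = -Γ) (c : F)
    (h : (1 + Nu i0 i1 i2 : Matrix (Fin n) (Fin n) F)ᵀ * Γ * (1 + Nu i0 i1 i2) = c • Γ) :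
    False := by
  classical
  have hne : Nonempty (Fin n) := ⟨i0⟩
  have hxp := Nu_pow_char (F := F) hp i0 i1 i2 h01 h02 h12
  obtain ⟨N, hN⟩ : ∃ N : Matrix (Fin n) (Fin n) F, N = Nu i0 i1 i2 := ⟨_, rfl⟩
  have hN2 : N * N = Matrix.single i0 i2 1 := by rw [hN]; exact Nu_sq i0 i1 i2 h01 h02 h12
  have hN3 : N * N * N = 0 := by rw [hN]; exact Nu_cube i0 i1 i2 h01 h02 h12
  rw [← hN] at h hxp
  have hΓ0 : Γ ≠ 0 := by
    rintro rfl
    exact hdet Matrix.det_zero
  -- the multiplier is one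
  have hc1 : c = 1 := by
    have hpow := sim_pow (1 + N) Γ c h p
    rw [hxp, Matrix.transpose_one, Matrix.one_mul, Matrix.mul_one] at hpow
    have h1 : (c ^ p - 1) • Γ = 0 := by rw [sub_smul, one_smul, ← hpow, sub_self]
    have h2 : c ^ p - 1 = 0 := by
      rcases smul_eq_zero.mp h1 with h | h
      · exact h
      · exact absurd h hΓ0
    have h3 : (c - 1) ^ p = 0 := by rw [sub_pow_char, one_pow, h2]
    exact sub_eq_zero.mp (pow_eq_zero_iff (Fact.out : p.Prime).ne_zero |>.mp h3)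
  rw [hc1, one_smul] at h
  obtain ⟨T, hT⟩ : ∃ T : Matrix (Fin n) (Fin n) F, T = Nᵀ := ⟨_, rfl⟩
  have hT3 : T * T * T = 0 := by
    rw [hT, ← Matrix.transpose_mul, ← Matrix.transpose_mul, ← Matrix.mul_assoc, hN3,
      Matrix.transpose_zero]
  have hstar : T * Γ + Γ * N + T * (Γ * N) = 0 := by
    rw [Matrix.transpose_add, Matrix.transpose_one, ← hT] at h
    have e1 : (1 + T) * Γ * (1 + N) = Γ + (T * Γ + Γ * N + T * (Γ * N)) := by
      noncomm_ring
    rw [e1] at h
    exact add_eq_left.mp h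
  have hN3' : N * (N * N) = 0 := by rw [← Matrix.mul_assoc, hN3]
  have hT3' : ∀ X : Matrix (Fin n) (Fin n) F, T * (T * (T * X)) = 0 := by
    intro X
    rw [← Matrix.mul_assoc, ← Matrix.mul_assoc, hT3, Matrix.zero_mul]
  have h6 : T * (Γ * (N * N)) = 0 := by
    have := congrArg (fun M => M * (N * N)) hstar
    simp only [add_mul, zero_mul, Matrix.mul_assoc] at this
    rw [hN3', Matrix.mul_zero, Matrix.mul_zero, add_zero, add_zero] at this
    exact this
  have h5 : T * (T * (Γ * N)) = 0 := by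
    have := congrArg (fun M => T * (T * M)) hstar
    simp only [mul_add, mul_zero] at this
    rw [hT3', hT3', zero_add, add_zero] at this
    exact this
  have key1 : T * (Γ * N) + Γ * (N * N) = 0 := by
    have := congrArg (fun M => M * N) hstar
    simp only [add_mul, zero_mul, Matrix.mul_assoc] at this
    rw [h6, add_zero] at this
    exact this
  have key2 : T * (T * Γ) + T * (Γ * N) = 0 := by
    have := congrArg (fun M => T * M) hstar
    simp only [mul_add, mul_zero] at this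
    rw [h5, add_zero] at this
    exact this
  have hkey : Γ * Matrix.single i0 i2 (1 : F) = (Matrix.single i0 i2 (1 : F))ᵀ * Γ := by
    rw [← hN2, Matrix.transpose_mul, ← hT, Matrix.mul_assoc]
    have e1 : Γ * (N * N) = -(T * (Γ * N)) := eq_neg_of_add_eq_zero_right key1
    have e2 : T * (T * Γ) = -(T * (Γ * N)) := eq_neg_of_add_eq_zero_left key2
    rw [e1, e2]
  have h2F : (2 : F) ≠ 0 := by
    intro h2
    have h3 : ((2 : ℕ) : F) = 0 := by exact_mod_cast h2
    rw [CharP.cast_eq_zero_iff F p 2] at h3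
    exact hp ((Nat.prime_dvd_prime_iff_eq (Fact.out : p.Prime) Nat.prime_two).mp h3)
  have hcol : ∀ i, Γ i i0 = 0 := by
    intro i
    have hent := congrFun (congrFun hkey i) i2
    rw [Matrix.mul_single_apply_same, mul_one] at hent
    by_cases hi : i = i2
    · subst hi
      have e3 : ((Matrix.single i0 i (1 : F))ᵀ * Γ) i i = Γ i0 i := by
        simp [Matrix.mul_apply, Matrix.single_apply]
      rw [e3] at hent
      have e4 : Γ i0 i = -Γ i i0 := by
        have := congrFun (congrFun hskew i) i0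
        rw [Matrix.transpose_apply, Matrix.neg_apply] at this
        exact this
      rw [e4] at hent
      have : (2 : F) * Γ i i0 = 0 := by linear_combination hent
      rcases mul_eq_zero.mp this with h | h
      · exact absurd h h2F
      · exact h
    · have e3 : ((Matrix.single i0 i2 (1 : F))ᵀ * Γ) i i2 = 0 := by
        simp [Matrix.mul_apply, Ne.symm hi]
      rw [e3] at hent
      exact hent
  exact hdet (Matrix.det_eq_zero_of_column_eq_zero i0 hcol)

end Unip

section Diag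

/-- multiplicities of the diagonal entries of a diagonal similarity are symmetric under
`α ↦ c / α` -/
theorem diag_count {ι : Type*} [Fintype ι] [DecidableEq ι] (Γ : Matrix ι ι F) (hdet : Γ.det ≠ 0)
    (dg : ι → F) (hdg : ∀ i, dg i ≠ 0) (c : F)
    (h : (Matrix.diagonal dg)ᵀ * Γ * Matrix.diagonal dg = c • Γ) (α : F) :
    Nat.card {i // dg i ≠ α} = Nat.card {i // c ≠ α * dg i} := by
  classical
  have hent : ∀ i j, dg i * Γ i j * dg j = c * Γ i j := by
    intro i j
    have := congrFun (congrFun h i) j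
    rw [Matrix.diagonal_transpose, Matrix.mul_diagonal, Matrix.diagonal_mul, Matrix.smul_apply,
      smul_eq_mul] at this
    exact this
  have hkey : Matrix.diagonal (fun i => dg i - α) * (Γ * Matrix.diagonal dg)
      = Γ * Matrix.diagonal (fun i => c - α * dg i) := by
    ext i j
    rw [Matrix.diagonal_mul, Matrix.mul_diagonal, Matrix.mul_diagonal]
    linear_combination hent i j
  have hu : IsUnit (Γ * Matrix.diagonal dg).det := by
    rw [Matrix.det_mul, Matrix.det_diagonal]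
    exact isUnit_iff_ne_zero.mpr (mul_ne_zero hdet (Finset.prod_ne_zero_iff.mpr fun i _ => hdg i))
  have h1 := Matrix.rank_mul_eq_left_of_isUnit_det (Γ * Matrix.diagonal dg)
    (Matrix.diagonal (fun i => dg i - α)) hu
  have h2 := Matrix.rank_mul_eq_right_of_isUnit_det Γ (Matrix.diagonal (fun i => c - α * dg i))
    (isUnit_iff_ne_zero.mpr hdet)
  rw [hkey, h2, Matrix.rank_diagonal, Matrix.rank_diagonal, ← Nat.card_eq_fintype_card,
    ← Nat.card_eq_fintype_card] at h1
  rw [Nat.card_congr (Equiv.subtypeEquivRight (fun i => (sub_ne_zero (a := dg i) (b := α)).symm)),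
    ← h1]
  exact Nat.card_congr (Equiv.subtypeEquivRight (fun i => (sub_ne_zero (a := c) (b := α * dg i))))

/-- the diagonal entries `(l, l, ν, 1, …, 1)` -/
def dgf {m : ℕ} (e : Fin n ≃ Fin 3 ⊕ Fin m) (l ν : F) : Fin n → F :=
  fun i => Sum.elim ![l, l, ν] (fun _ => 1) (e i)

theorem card_dgf {m : ℕ} (e : Fin n ≃ Fin 3 ⊕ Fin m) (l ν : F) (P : F → Prop) [DecidablePred P] :
    Nat.card {i // P (dgf e l ν i)}
      = (if P l then 2 else 0) + (if P ν then 1 else 0) + (if P 1 then m else 0) := by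
  classical
  rw [Nat.card_eq_fintype_card, Fintype.card_subtype, Finset.card_filter]
  have e1 : ∑ i : Fin n, (if P (dgf e l ν i) then 1 else 0)
      = ∑ s : Fin 3 ⊕ Fin m, (if P (Sum.elim ![l, l, ν] (fun _ => (1 : F)) s) then 1 else 0) :=
    Equiv.sum_comp e (fun s => if P (Sum.elim ![l, l, ν] (fun _ => (1 : F)) s) then 1 else 0)
  rw [e1, Fintype.sum_sum_type, Fin.sum_univ_three]
  simp only [Sum.elim_inl, Sum.elim_inr, Matrix.cons_val_zero, Matrix.cons_val_one,
    Matrix.cons_val_two]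
  by_cases h1 : P l <;> by_cases h2 : P ν <;> by_cases h3 : P 1 <;> simp [h1, h2, h3]

/-- `diag(l, l, ν, 1, …, 1)` is not a similarity of an invertible matrix -/
theorem no_sim_diag (m : ℕ) (hm : Odd m) (e : Fin n ≃ Fin 3 ⊕ Fin m) (l ν : F) (hl0 : l ≠ 0)
    (hν0 : ν ≠ 0) (h1 : l ≠ 1) (h2 : l * l ≠ 1) (hν1 : ν ≠ 1) (hν2 : ν ≠ l * l)
    (hgap : ν = l → m ≠ 3)
    (Γ : Matrix (Fin n) (Fin n) F) (hdet : Γ.det ≠ 0) (c : F)
    (h : (Matrix.diagonal (dgf e l ν))ᵀ * Γ * Matrix.diagonal (dgf e l ν) = c • Γ) : False := by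
  classical
  have hdg : ∀ i, dgf e l ν i ≠ 0 := by
    intro i
    unfold dgf
    rcases e i with a | b
    · fin_cases a <;> simp [hl0, hν0]
    · simp
  have key : ∀ α : F,
      (if l ≠ α then 2 else 0) + (if ν ≠ α then 1 else 0) + (if (1 : F) ≠ α then m else 0)
      = (if c ≠ α * l then 2 else 0) + (if c ≠ α * ν then 1 else 0)
        + (if c ≠ α * 1 then m else 0) := fun α =>
    (card_dgf e l ν (fun t => t ≠ α)).symm.trans
      ((diag_count Γ hdet (dgf e l ν) hdg c h α).trans (card_dgf e l ν (fun t => c ≠ α * t)))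
  obtain ⟨t, ht⟩ := hm
  have k1 := key 1
  have kl := key l
  rw [if_pos h1, if_pos hν1, if_neg (by simp), one_mul, one_mul, one_mul] at k1
  rw [if_neg (by simp), if_pos (Ne.symm h1), mul_one] at kl
  by_cases hc1 : c = 1
  · subst hc1
    rw [if_pos (Ne.symm h2), if_pos (Ne.symm h1)] at kl
    split_ifs at kl <;> omega
  · rw [if_pos hc1] at k1
    by_cases hcl : c = l
    · subst hcl
      rw [if_neg (by simp)] at k1
      by_cases hcν : c = ν
      · rw [if_neg (by simp [hcν])] at k1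
        exact hgap hcν.symm (by omega)
      · rw [if_pos hcν] at k1
        omega
    · rw [if_pos hcl] at k1
      by_cases hcν : c = ν
      · subst hcν
        have h3 : c ≠ l * c := by
          intro h3
          have h4 : (1 - l) * c = 0 := by linear_combination h3
          rcases mul_eq_zero.mp h4 with h5 | h5
          · exact h1 (sub_eq_zero.mp h5).symm
          · exact hν0 h5
        rw [if_pos hcl, if_pos hν2, if_pos h3, if_pos hcl] at kl
        omega
      · rw [if_pos hcν] at k1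
        omega

end Diag

section Block

/-- `A ⊕ 1` with `A - 1` invertible and an odd number of ones is not an isometry of an invertible
alternating matrix -/
theorem no_sim_block (k m : ℕ) (hm : Odd m) (e : Fin n ≃ Fin k ⊕ Fin m)
    (A : Matrix (Fin k) (Fin k) F) (hA : IsUnit (A - 1))
    (Γ : Matrix (Fin n) (Fin n) F) (hdet : Γ.det ≠ 0) (halt : ∀ u, u ⬝ᵥ Γ *ᵥ u = 0)
    (h : ((Matrix.fromBlocks A 0 0 (1 : Matrix (Fin m) (Fin m) F)).submatrix e e)ᵀ * Γ *
      (Matrix.fromBlocks A 0 0 (1 : Matrix (Fin m) (Fin m) F)).submatrix e e = Γ) : False := by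
  classical
  obtain ⟨Γ', hΓ'⟩ : ∃ Γ' : Matrix (Fin k ⊕ Fin m) (Fin k ⊕ Fin m) F,
      Γ' = Γ.submatrix e.symm e.symm := ⟨_, rfl⟩
  have hdet' : Γ'.det ≠ 0 := by
    rw [hΓ', Matrix.det_submatrix_equiv_self]
    exact hdet
  have halt' : ∀ v, v ⬝ᵥ Γ' *ᵥ v = 0 := by
    intro v
    have h1 := halt (v ∘ e)
    rw [hΓ', Matrix.submatrix_mulVec_equiv, dotProduct_comp_equiv_symm]
    exact h1
  have hΓe : Γ = Γ'.submatrix e e := by
    rw [hΓ', Matrix.submatrix_submatrix]
    simp
  obtain ⟨X, hX⟩ : ∃ X : Matrix (Fin k ⊕ Fin m) (Fin k ⊕ Fin m) F,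
      X = Matrix.fromBlocks A 0 0 (1 : Matrix (Fin m) (Fin m) F) := ⟨_, rfl⟩
  rw [← hX] at h
  have h' : Xᵀ * Γ' * X = Γ' := by
    rw [hΓe, Matrix.transpose_submatrix, Matrix.submatrix_mul_equiv,
      Matrix.submatrix_mul_equiv] at h
    have h2 := congrArg (fun M => M.submatrix e.symm e.symm) h
    simp only [Matrix.submatrix_submatrix, Equiv.self_comp_symm, Matrix.submatrix_id_id] at h2
    exact h2
  obtain ⟨G11, G12, G21, G22, hG⟩ : ∃ G11 G12 G21 G22, Γ' = Matrix.fromBlocks G11 G12 G21 G22 :=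
    ⟨_, _, _, _, (Matrix.fromBlocks_toBlocks Γ').symm⟩
  rw [hX, hG, Matrix.fromBlocks_transpose, Matrix.fromBlocks_multiply,
    Matrix.fromBlocks_multiply] at h'
  obtain ⟨-, h12, h21, -⟩ := Matrix.fromBlocks_inj.mp h'
  simp only [Matrix.transpose_zero, Matrix.zero_mul, Matrix.mul_zero, add_zero, zero_add,
    Matrix.mul_one, Matrix.transpose_one, Matrix.one_mul] at h12 h21
  have hAu : IsUnit (A - 1).det := (Matrix.isUnit_iff_isUnit_det _).mp hA
  have hB : IsUnit (Aᵀ - 1).det := by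
    have : Aᵀ - 1 = (A - 1)ᵀ := by rw [Matrix.transpose_sub, Matrix.transpose_one]
    rw [this, Matrix.det_transpose]
    exact hAu
  have hG12 : G12 = 0 := by
    have e1 : (Aᵀ - 1) * G12 = 0 := by rw [Matrix.sub_mul, Matrix.one_mul, h12, sub_self]
    calc G12 = (Aᵀ - 1)⁻¹ * ((Aᵀ - 1) * G12) := by
          rw [← Matrix.mul_assoc, Matrix.nonsing_inv_mul _ hB, Matrix.one_mul]
      _ = 0 := by rw [e1, Matrix.mul_zero]
  have hG21 : G21 = 0 := by
    have e1 : G21 * (A - 1) = 0 := by rw [Matrix.mul_sub, Matrix.mul_one, h21, sub_self]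
    calc G21 = (G21 * (A - 1)) * (A - 1)⁻¹ := by
          rw [Matrix.mul_assoc, Matrix.mul_nonsing_inv _ hAu, Matrix.mul_one]
      _ = 0 := by rw [e1, Matrix.zero_mul]
  have hdet22 : G22.det ≠ 0 := by
    intro h0
    apply hdet'
    rw [hG, hG21, Matrix.det_fromBlocks_zero₂₁, h0, mul_zero]
  have halt22 : ∀ w : Fin m → F, w ⬝ᵥ G22 *ᵥ w = 0 := by
    intro w
    have h1 := halt' (Sum.elim 0 w)
    rw [hG, Matrix.fromBlocks_mulVec, sumElim_dotProduct_sumElim] at h1
    simpa using h1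
  have hev := Cfsg.Agent.Lib.helper50.even_finrank_of_alt_nondeg m (Fin m → F)
    (Cfsg.Agent.Lib.helper50.gform G22)
    (fun v => by rw [Cfsg.Agent.Lib.helper50.gform_apply]; exact halt22 v)
    (fun v hv => Cfsg.Agent.Lib.helper50.gform_nondeg G22 hdet22 v hv) (by simp)
  exact (Nat.not_even_iff_odd.mpr hm) hev

end Block

end Cfsg.Agent.Lib.helper99.SpDer
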