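import Mathlib
import Cfsg.Agent.Lib.helper50.OGCount2
import Cfsg.Agent.Lib.helper99.SpDerA

set_option autoImplicit false

/-!
# The index of a symplectic similarity group in `SL_n(q)` (helper99)

`index_dvd`: the index of `GSp(f) ∩ SL_n(q)` in `SL_n(q)`, `n = 2d`, divides
`q^* ∏_{i<d} (q^(2i+1) - 1)`.  Also: fixed-point-free matrices of prime order, powers of block
matrices.
-/

namespace Cfsg.Agent.Lib.helper99.SpDer

open Matrix Cfsg Cfsg.Geo
open scoped MatrixGroups

section Arith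

theorem prod_odd_even (q d : ℕ) :
    ∏ j ∈ Finset.range (2 * d), (q ^ (j + 1) - 1)
      = (∏ i ∈ Finset.range d, (q ^ (2 * i + 1) - 1))
        * ∏ i ∈ Finset.range d, (q ^ (2 * (i + 1)) - 1) := by
  induction d with
  | zero => simp
  | succ d ih =>
    rw [show 2 * (d + 1) = 2 * d + 1 + 1 by ring, Finset.prod_range_succ, Finset.prod_range_succ,
      ih, Finset.prod_range_succ, Finset.prod_range_succ]
    have : 2 * d + 1 + 1 = 2 * (d + 1) := by ring
    rw [this]
    ring

theorem prod_gl_split (q d : ℕ) :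
    ∏ i : Fin (2 * d), (q ^ (2 * d) - q ^ (i : ℕ))
      = (∏ i ∈ Finset.range (2 * d), q ^ i) *
        ((∏ i ∈ Finset.range d, (q ^ (2 * i + 1) - 1))
          * ∏ i ∈ Finset.range d, (q ^ (2 * (i + 1)) - 1)) := by
  rw [Fin.prod_univ_eq_prod_range (fun i => q ^ (2 * d) - q ^ i) (2 * d), ← prod_odd_even,
    ← Finset.prod_range_reflect (fun j => q ^ (j + 1) - 1) (2 * d), ← Finset.prod_mul_distrib]
  apply Finset.prod_congr rfl
  intro i hi
  rw [Finset.mem_range] at hi
  have e1 : 2 * d - 1 - i + 1 = 2 * d - i := by omega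
  rw [e1, Nat.mul_sub, mul_one, ← pow_add]
  congr 2
  omega

theorem index_arith (q d X t : ℕ) (hq : 2 ≤ q)
    (h : X * (t * (q ^ (d ^ 2) * ∏ i ∈ Finset.range d, (q ^ (2 * (i + 1)) - 1)))
      = ∏ i : Fin (2 * d), (q ^ (2 * d) - q ^ (i : ℕ))) :
    X ∣ (∏ i ∈ Finset.range (2 * d), q ^ i) * ∏ i ∈ Finset.range d, (q ^ (2 * i + 1) - 1) := by
  rw [prod_gl_split q d] at h
  have hE : 0 < ∏ i ∈ Finset.range d, (q ^ (2 * (i + 1)) - 1) := by
    apply Finset.prod_pos
    intro i _
    have : 2 ≤ q ^ (2 * (i + 1)) := by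
      calc 2 ≤ q := hq
        _ = q ^ 1 := (pow_one q).symm
        _ ≤ q ^ (2 * (i + 1)) := Nat.pow_le_pow_right (by omega) (by omega)
    omega
  refine ⟨t * q ^ (d ^ 2), ?_⟩
  apply Nat.eq_of_mul_eq_mul_right hE
  rw [mul_assoc, ← h]
  ring

end Arith

section Index

variable {F : Type*} [Field F] {n : ℕ}

/-- the isometry group of a Gram matrix -/
def isoSub (Γ : Matrix (Fin n) (Fin n) F) : Subgroup (GL (Fin n) F) where
  carrier := {g | (g : Matrix (Fin n) (Fin n) F)ᵀ * Γ * (g : Matrix (Fin n) (Fin n) F) = Γ}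
  mul_mem' {a b} ha hb := by
    have ha' : (a : Matrix (Fin n) (Fin n) F)ᵀ * Γ * (a : Matrix (Fin n) (Fin n) F) = Γ := ha
    have hb' : (b : Matrix (Fin n) (Fin n) F)ᵀ * Γ * (b : Matrix (Fin n) (Fin n) F) = Γ := hb
    show ((a * b : GL (Fin n) F) : Matrix (Fin n) (Fin n) F)ᵀ * Γ
      * ((a * b : GL (Fin n) F) : Matrix (Fin n) (Fin n) F) = Γ
    rw [Units.val_mul, Matrix.transpose_mul]
    calc (b : Matrix (Fin n) (Fin n) F)ᵀ * (a : Matrix (Fin n) (Fin n) F)ᵀ * Γ
          * ((a : Matrix (Fin n) (Fin n) F) * (b : Matrix (Fin n) (Fin n) F))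
        = (b : Matrix (Fin n) (Fin n) F)ᵀ * ((a : Matrix (Fin n) (Fin n) F)ᵀ * Γ
          * (a : Matrix (Fin n) (Fin n) F)) * (b : Matrix (Fin n) (Fin n) F) := by
          simp only [Matrix.mul_assoc]
      _ = Γ := by rw [ha', hb']
  one_mem' := by
    show ((1 : GL (Fin n) F) : Matrix (Fin n) (Fin n) F)ᵀ * Γ
      * ((1 : GL (Fin n) F) : Matrix (Fin n) (Fin n) F) = Γ
    simp
  inv_mem' {a} ha := by
    have ha' : (a : Matrix (Fin n) (Fin n) F)ᵀ * Γ * (a : Matrix (Fin n) (Fin n) F) = Γ := ha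
    show ((a⁻¹ : GL (Fin n) F) : Matrix (Fin n) (Fin n) F)ᵀ * Γ
      * ((a⁻¹ : GL (Fin n) F) : Matrix (Fin n) (Fin n) F) = Γ
    have h1 : (a : Matrix (Fin n) (Fin n) F) * ((a⁻¹ : GL (Fin n) F) : Matrix (Fin n) (Fin n) F)
        = 1 := by rw [← Units.val_mul, mul_inv_cancel, Units.val_one]
    calc ((a⁻¹ : GL (Fin n) F) : Matrix (Fin n) (Fin n) F)ᵀ * Γ
          * ((a⁻¹ : GL (Fin n) F) : Matrix (Fin n) (Fin n) F)
        = ((a⁻¹ : GL (Fin n) F) : Matrix (Fin n) (Fin n) F)ᵀ
          * ((a : Matrix (Fin n) (Fin n) F)ᵀ * Γ * (a : Matrix (Fin n) (Fin n) F))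
          * ((a⁻¹ : GL (Fin n) F) : Matrix (Fin n) (Fin n) F) := by rw [ha']
      _ = ((a : Matrix (Fin n) (Fin n) F)
            * ((a⁻¹ : GL (Fin n) F) : Matrix (Fin n) (Fin n) F))ᵀ * Γ
          * ((a : Matrix (Fin n) (Fin n) F)
            * ((a⁻¹ : GL (Fin n) F) : Matrix (Fin n) (Fin n) F)) := by
          rw [Matrix.transpose_mul]
          simp only [Matrix.mul_assoc]
      _ = Γ := by rw [h1, Matrix.transpose_one, Matrix.one_mul, Matrix.mul_one]

theorem card_isoSub [Fintype F] (d : ℕ) (Γ : Matrix (Fin (2 * d)) (Fin (2 * d)) F)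
    (hdet : Γ.det ≠ 0) (halt : ∀ u, u ⬝ᵥ Γ *ᵥ u = 0) :
    Nat.card (isoSub Γ) = Cfsg.Agent.Lib.helper50.spOrd (Fintype.card F) d := by
  classical
  have e0 : Fin (2 * d) ≃ Fin d ⊕ Fin d :=
    (finCongr (two_mul d)).trans finSumFinEquiv.symm
  have h1 : Nat.card (isoSub Γ)
      = Nat.card {A : Matrix (Fin (2 * d)) (Fin (2 * d)) F // Aᵀ * Γ * A = Γ} := by
    refine Nat.card_congr ⟨fun g => ⟨(g.1 : Matrix (Fin (2 * d)) (Fin (2 * d)) F), g.2⟩,
      fun A => ⟨Matrix.GeneralLinearGroup.mkOfDetNeZero A.1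
        (Cfsg.Agent.Lib.helper50.det_ne_zero_of_OG Γ A.1 hdet A.2), A.2⟩, ?_, ?_⟩
    · intro g
      apply Subtype.ext
      apply Units.ext
      rfl
    · intro A
      rfl
  have h2 : Nat.card {A : Matrix (Fin (2 * d)) (Fin (2 * d)) F // Aᵀ * Γ * A = Γ}
      = Nat.card {A : Matrix (Fin d ⊕ Fin d) (Fin d ⊕ Fin d) F //
          Aᵀ * Γ.submatrix e0.symm e0.symm * A = Γ.submatrix e0.symm e0.symm} := by
    refine Nat.card_congr (Equiv.subtypeEquiv (Matrix.reindex e0 e0) (fun A => ?_))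
    constructor
    · intro hA
      rw [Matrix.reindex_apply, Matrix.transpose_submatrix, Matrix.submatrix_mul_equiv,
        Matrix.submatrix_mul_equiv, hA]
    · intro hA
      rw [Matrix.reindex_apply, Matrix.transpose_submatrix, Matrix.submatrix_mul_equiv,
        Matrix.submatrix_mul_equiv] at hA
      exact (Matrix.reindex e0 e0).injective hA
  rw [h1, h2]
  apply Cfsg.Agent.Lib.helper50.card_OG_alt
  · rw [Matrix.det_submatrix_equiv_self]
    exact hdet
  · intro v
    rw [Cfsg.Agent.Lib.helper50.gform_apply, Matrix.submatrix_mulVec_equiv,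
      dotProduct_comp_equiv_symm]
    exact halt _

theorem toGL_range_normal {ι : Type*} [Fintype ι] [DecidableEq ι] :
    (Matrix.SpecialLinearGroup.toGL : Matrix.SpecialLinearGroup ι F →* GL ι F).range.Normal := by
  constructor
  intro a ha g
  obtain ⟨s, rfl⟩ := ha
  have hdet : ((g * Matrix.SpecialLinearGroup.toGL s * g⁻¹ : GL ι F) : Matrix ι ι F).det = 1 := by
    rw [Units.val_mul, Units.val_mul, Matrix.det_mul, Matrix.det_mul,
      Matrix.SpecialLinearGroup.coe_GL_coe_matrix, s.det_coe, mul_one, ← Matrix.det_mul,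
      ← Units.val_mul, mul_inv_cancel, Units.val_one, Matrix.det_one]
  refine ⟨⟨_, hdet⟩, ?_⟩
  apply Units.ext
  rfl

theorem relIndex_dvd_index_of_normal_right {G : Type*} [Group G] [Finite G] (H K : Subgroup G)
    [K.Normal] : H.relIndex K ∣ H.index := by
  have h1 : K.relIndex (H ⊔ K) = K.relIndex H := Subgroup.relIndex_sup_right H K
  have h2 : (H ⊓ K).relIndex K * K.index = (H ⊓ K).index :=
    Subgroup.relIndex_mul_index inf_le_right
  have h3 : (H ⊓ K).relIndex H * H.index = (H ⊓ K).index :=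
    Subgroup.relIndex_mul_index inf_le_left
  rw [Subgroup.inf_relIndex_right] at h2
  rw [Subgroup.inf_relIndex_left] at h3
  have h4 : K.relIndex (H ⊔ K) * (H ⊔ K).index = K.index :=
    Subgroup.relIndex_mul_index le_sup_right
  rw [h1] at h4
  have hb : K.relIndex H ≠ 0 := by
    unfold Subgroup.relIndex
    exact Subgroup.index_ne_zero_of_finite
  refine ⟨(H ⊔ K).index, ?_⟩
  apply Nat.eq_of_mul_eq_mul_left (Nat.pos_of_ne_zero hb)
  rw [h3, ← h2, ← h4]
  ring

/-- the index of `GSp(f) ∩ SL_n` in `SL_n` -/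
theorem index_dvd [Fintype F] (f : (Fin n → F) → (Fin n → F) → F) (hf : IsSymplecticForm f)
    (d : ℕ) (hn : n = 2 * d) :
    ((similarityGroup f).comap (Matrix.SpecialLinearGroup.toGL :
        Matrix.SpecialLinearGroup (Fin n) F →* GL (Fin n) F)).index ∣
      (∏ i ∈ Finset.range (2 * d), Fintype.card F ^ i)
        * ∏ i ∈ Finset.range d, (Fintype.card F ^ (2 * i + 1) - 1) := by
  classical
  subst hn
  obtain ⟨Γ, hdet, halt, hskew, hrep⟩ := exists_gram f hf
  have hnorm := toGL_range_normal (F := F) (ι := Fin (2 * d))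
  have h1 : ((similarityGroup f).comap (Matrix.SpecialLinearGroup.toGL :
      Matrix.SpecialLinearGroup (Fin (2 * d)) F →* GL (Fin (2 * d)) F)).index
      ∣ (similarityGroup f).index := by
    rw [Subgroup.index_comap]
    exact relIndex_dvd_index_of_normal_right _ _
  refine h1.trans ?_
  have h2 : (similarityGroup f).index * Nat.card (similarityGroup f)
      = Nat.card (GL (Fin (2 * d)) F) := Subgroup.index_mul_card _
  rw [Matrix.card_GL_field] at h2
  have h3 : Nat.card (isoSub Γ) ∣ Nat.card (similarityGroup f) :=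
    Subgroup.card_dvd_of_le (fun g hg => mem_sim_of_gram f Γ hrep g hg)
  obtain ⟨t, ht⟩ := h3
  rw [ht, card_isoSub d Γ hdet halt] at h2
  unfold Cfsg.Agent.Lib.helper50.spOrd at h2
  exact index_arith (Fintype.card F) d _ t Fintype.one_lt_card (by rw [← h2]; ring)

end Index

section Elements

variable {F : Type*} [Field F]

/-- a fixed-point-free matrix of prime order `r` dividing `q^d - 1` (as in helper7's
`exists_fpf_matrix`, restated here to keep the import closure small) -/
theorem exists_fpf_mat [Fintype F] {p : ℕ} [Fact p.Prime] [CharP F p]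
    (d : ℕ) (hd : 0 < d) (r : ℕ) [Fact r.Prime] (hr : r ∣ Fintype.card F ^ d - 1) :
    ∃ A : Matrix (Fin d) (Fin d) F, A ^ r = 1 ∧ IsUnit (A - 1) := by
  classical
  have : NeZero d := ⟨hd.ne'⟩
  have : Fintype (FiniteField.Extension F p d) := Fintype.ofFinite _
  have hcard : Fintype.card (FiniteField.Extension F p d)ˣ = Fintype.card F ^ d - 1 := by
    rw [Fintype.card_units, Fintype.card_eq_nat_card, FiniteField.natCard_extension,
      Nat.card_eq_fintype_card]
  obtain ⟨α, hα⟩ := exists_prime_orderOf_dvd_card r (by rw [hcard]; exact hr)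
  let b : Module.Basis (Fin d) F (FiniteField.Extension F p d) :=
    Module.finBasisOfFinrankEq F _ (FiniteField.finrank_extension F p d)
  refine ⟨Algebra.leftMulMatrix b (α : FiniteField.Extension F p d), ?_, ?_⟩
  · rw [← map_pow, ← Units.val_pow_eq_pow_val, ← hα, pow_orderOf_eq_one, Units.val_one, map_one]
  · have h1 : ((α : FiniteField.Extension F p d) - 1) ≠ 0 := by
      intro h
      have h2 : α = 1 := Units.ext (by rw [Units.val_one]; exact sub_eq_zero.mp h)
      rw [h2, orderOf_one] at hα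
      exact (Fact.out : r.Prime).one_lt.ne hα
    have h3 : Algebra.leftMulMatrix b (α : FiniteField.Extension F p d) - 1
        = Algebra.leftMulMatrix b ((α : FiniteField.Extension F p d) - 1) := by
      rw [map_sub, map_one]
    rw [h3]
    exact (IsUnit.mk0 _ h1).map (Algebra.leftMulMatrix b)

/-- an `r`-th root of unity in a finite field whose multiplicative group has order prime to `r`
is trivial -/
theorem eq_one_of_pow_prime [Fintype F] (a : F) (r : ℕ) (hr : r.Prime)
    (hq1 : ¬ r ∣ Fintype.card F - 1) (h : a ^ r = 1) : a = 1 := by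
  have ha : a ≠ 0 := by
    rintro rfl
    rw [zero_pow hr.ne_zero] at h
    exact zero_ne_one h
  have h2 : a ^ (Fintype.card F - 1) = 1 := FiniteField.pow_card_sub_one_eq_one a ha
  exact (pow_eq_one_iff_of_coprime ((Nat.Prime.coprime_iff_not_dvd hr).mpr hq1)).mp ⟨h, h2⟩

/-- the multiplier of a similarity of finite order -/
theorem mult_pow_eq_one {ι : Type*} [Fintype ι] [DecidableEq ι] [Nonempty ι] (x Γ : Matrix ι ι F)
    (hdet : Γ.det ≠ 0) (c : F) (h : xᵀ * Γ * x = c • Γ) (j : ℕ) (hx : x ^ j = 1) : c ^ j = 1 := by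
  have hΓ0 : Γ ≠ 0 := by
    rintro rfl
    exact hdet Matrix.det_zero
  have hpow := sim_pow x Γ c h j
  rw [hx, Matrix.transpose_one, Matrix.one_mul, Matrix.mul_one] at hpow
  have h1 : (c ^ j - 1) • Γ = 0 := by rw [sub_smul, one_smul, ← hpow, sub_self]
  rcases smul_eq_zero.mp h1 with h | h
  · exact sub_eq_zero.mp h
  · exact absurd h hΓ0

theorem fb_pow {k m : ℕ} (A : Matrix (Fin k) (Fin k) F) (B : Matrix (Fin m) (Fin m) F) (j : ℕ) :
    (Matrix.fromBlocks A 0 0 B) ^ j = Matrix.fromBlocks (A ^ j) 0 0 (B ^ j) := by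
  induction j with
  | zero => simp [Matrix.fromBlocks_one]
  | succ j ih =>
    rw [pow_succ, ih, Matrix.fromBlocks_multiply]
    simp [pow_succ]

theorem submatrix_pow {ι κ : Type*} [Fintype ι] [DecidableEq ι] [Fintype κ] [DecidableEq κ]
    (e : ι ≃ κ) (M : Matrix κ κ F) (j : ℕ) : (M.submatrix e e) ^ j = (M ^ j).submatrix e e := by
  induction j with
  | zero => simp
  | succ j ih => rw [pow_succ, ih, Matrix.submatrix_mul_equiv, pow_succ]

end Elements

end Cfsg.Agent.Lib.helper99.SpDer
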