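import Mathlib
import Cfsg.Agent.Lib.helper99.SuInvB

set_option autoImplicit false

/-!
# Involutions of `SU_3(q)`, `q` odd: commuting reflections and orthogonality (helper99)
-/

namespace Cfsg.Agent.Lib.helper99.SuInv

open Cfsg Matrix Cfsg.Agent.Lib.helper7

variable {F : Type*} [Field F] [Fintype F] {q : ℕ}

/-- the reflection in a norm one vector as an element of `SU_3` -/
def suRf (hF : Fintype.card F = q ^ 2) (w : Fin 3 → F) (hw : hermForm 3 F q w w = 1) :
    SU 3 F q :=
  (suEquiv 3).symm ⟨rf q w, rf_isIsom hF w (by rw [hw]; exact one_ne_zero),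
    rf_det w (by rw [hw]; exact one_ne_zero)⟩

omit [Fintype F] in
lemma su_ext (x y : SU 3 F q) (h : x.1.1 = y.1.1) : x = y := Subtype.ext (Subtype.ext h)

lemma suRf_eq_iff (hF : Fintype.card F = q ^ 2) (v w : Fin 3 → F)
    (hv : hermForm 3 F q v v = 1) (hw : hermForm 3 F q w w = 1) :
    suRf hF v hv = suRf hF w hw ↔ rf q v = rf q w :=
  ⟨fun h => congrArg (fun g : SU 3 F q => g.1.1) h, fun h => su_ext _ _ h⟩

lemma suRf_ne_one (hF : Fintype.card F = q ^ 2) (hq : Odd q) (w : Fin 3 → F)
    (hw : hermForm 3 F q w w = 1) : suRf hF w hw ≠ 1 := by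
  intro h
  exact rf_ne_one hF hq w (by rw [hw]; exact one_ne_zero)
    (congrArg (fun g : SU 3 F q => g.1.1) h)

lemma suRf_sq (hF : Fintype.card F = q ^ 2) (w : Fin 3 → F)
    (hw : hermForm 3 F q w w = 1) : suRf hF w hw * suRf hF w hw = 1 :=
  su_ext _ _ (rf_sq hF w (by rw [hw]; exact one_ne_zero))

lemma exists_suRf (hF : Fintype.card F = q ^ 2) (hq : Odd q) (x : SU 3 F q) (hx : x ≠ 1)
    (hx2 : x * x = 1) :
    ∃ (w : Fin 3 → F) (hw : hermForm 3 F q w w = 1), x = suRf hF w hw := by
  obtain ⟨w, hw, h⟩ := invol_eq_rf hF hq x.1.1 ((mem_SU_iff 3 x.1).1 x.2)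
    (congrArg (fun g : SU 3 F q => g.1.1) hx2) x.1.2 (fun h => hx (su_ext x 1 h))
  exact ⟨w, hw, su_ext _ _ h⟩

omit [Fintype F] in
lemma mul_eq_of_one_add (A B : Matrix (Fin 3) (Fin 3) F) (h : (1 + A) * (1 + B) = 0) :
    A * B = -1 - A - B := by
  have h' : (1 + A) * (1 + B) = 1 + A + B + A * B := by
    rw [Matrix.add_mul, Matrix.mul_add, Matrix.mul_add]
    simp only [one_mul, mul_one]
    abel
  rw [h'] at h
  apply eq_of_sub_eq_zero
  rw [← h]
  abel

omit [Fintype F] in
lemma one_add_rf_mul (v w : Fin 3 → F) (hv : hermForm 3 F q v v = 1)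
    (hw : hermForm 3 F q w w = 1) :
    (1 + rf q v) * (1 + rf q w)
      = (4 * hermForm 3 F q w v) • Matrix.vecMulVec v (fun j => w j ^ q) := by
  have h1v : 1 + rf q v = (2 : F) • Matrix.vecMulVec v (fun j => v j ^ q) := by
    unfold rf
    rw [hv, inv_one, mul_one]
    abel
  have h1w : 1 + rf q w = (2 : F) • Matrix.vecMulVec w (fun j => w j ^ q) := by
    unfold rf
    rw [hw, inv_one, mul_one]
    abel
  rw [h1v, h1w, Matrix.smul_mul, Matrix.mul_smul, Matrix.vecMulVec_mul_vecMulVec, cj_dot,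
    Matrix.vecMulVec_smul, smul_smul, smul_smul]
  congr 1
  ring

lemma herm_zero_comm (hF : Fintype.card F = q ^ 2) (u w : Fin 3 → F)
    (h : hermForm 3 F q u w = 0) : hermForm 3 F q w u = 0 := by
  have hq2 := two_le_of_card_sq hF
  rw [← herm_conj hF, h, zero_pow (by omega)]

/-- reflections in norm one vectors commute iff they are equal or the vectors are orthogonal -/
theorem rf_comm_iff (hF : Fintype.card F = q ^ 2) (hq : Odd q) (v w : Fin 3 → F)
    (hv : hermForm 3 F q v v = 1) (hw : hermForm 3 F q w w = 1) :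
    rf q v * rf q w = rf q w * rf q v ↔ rf q v = rf q w ∨ hermForm 3 F q w v = 0 := by
  have hq2 := two_le_of_card_sq hF
  have h20 := two_ne_zero_of_odd hF hq
  constructor
  · intro hc
    by_cases hne : rf q v = rf q w
    · exact Or.inl hne
    · right
      have h0 := comm_rf hF hq v w hv hw hc hne
      rw [one_add_rf_mul v w hv hw] at h0
      have htr := congrArg Matrix.trace h0
      rw [Matrix.trace_smul, Matrix.trace_vecMulVec, Matrix.trace_zero] at htr
      have hd : v ⬝ᵥ (fun j => w j ^ q) = hermForm 3 F q v w := rfl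
      rw [hd, smul_eq_mul] at htr
      have h4 : (2 : F) * 2 * hermForm 3 F q w v * hermForm 3 F q v w = 0 := by
        linear_combination htr
      rcases mul_eq_zero.1 h4 with h5 | h5
      · rcases mul_eq_zero.1 h5 with h6 | h6
        · exact absurd (mul_self_eq_zero.1 h6) h20
        · exact h6
      · exact herm_zero_comm hF v w h5
  · rintro (h | h)
    · rw [h]
    · have h' : hermForm 3 F q v w = 0 := herm_zero_comm hF w v h
      have e1 := one_add_rf_mul v w hv hw
      have e2 := one_add_rf_mul w v hw hv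
      rw [h, mul_zero, zero_smul] at e1
      rw [h', mul_zero, zero_smul] at e2
      rw [mul_eq_of_one_add _ _ e1, mul_eq_of_one_add _ _ e2]
      abel

lemma rf_ne_of_ortho (hF : Fintype.card F = q ^ 2) (hq : Odd q) (v w : Fin 3 → F)
    (hv : hermForm 3 F q v v = 1) (hw : hermForm 3 F q w w = 1)
    (h : hermForm 3 F q w v = 0) : rf q w ≠ rf q v := by
  intro he
  obtain ⟨a, ha, rfl⟩ := (rf_eq_iff hF hq v w hv hw).1 he
  rw [herm_smul_left, hv, mul_one] at h
  rw [h, zero_mul] at ha
  exact zero_ne_one ha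

/-- commuting criterion in `SU_3` -/
theorem commute_suRf_iff (hF : Fintype.card F = q ^ 2) (hq : Odd q) (v w : Fin 3 → F)
    (hv : hermForm 3 F q v v = 1) (hw : hermForm 3 F q w w = 1) :
    Commute (suRf hF v hv) (suRf hF w hw) ↔ rf q v = rf q w ∨ hermForm 3 F q w v = 0 := by
  rw [← rf_comm_iff hF hq v w hv hw]
  constructor
  · intro h
    exact congrArg (fun g : SU 3 F q => g.1.1) h
  · intro h
    exact su_ext _ _ h

/-- product of two commuting distinct reflections: data -/
lemma prod_rf_invol (hF : Fintype.card F = q ^ 2) (hq : Odd q) (v w : Fin 3 → F)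
    (hv : hermForm 3 F q v v = 1) (hw : hermForm 3 F q w w = 1)
    (h : hermForm 3 F q w v = 0) :
    ∃ u : Fin 3 → F, hermForm 3 F q u u = 1 ∧ rf q v * rf q w = rf q u ∧
      hermForm 3 F q u v = 0 ∧ hermForm 3 F q u w = 0 := by
  have hv0 : hermForm 3 F q v v ≠ 0 := by rw [hv]; exact one_ne_zero
  have hw0 : hermForm 3 F q w w ≠ 0 := by rw [hw]; exact one_ne_zero
  have hTX : rf q v * rf q w = rf q w * rf q v :=
    (rf_comm_iff hF hq v w hv hw).2 (Or.inr h)
  have hne : rf q w ≠ rf q v := rf_ne_of_ortho hF hq v w hv hw h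
  have hT2 := rf_sq hF v hv0
  have hX2 := rf_sq hF w hw0
  have hZ : IsIsom 3 q (rf q v * rf q w) := (rf_isIsom hF v hv0).mul (rf_isIsom hF w hw0)
  have hZ2 : (rf q v * rf q w) * (rf q v * rf q w) = 1 := by
    calc (rf q v * rf q w) * (rf q v * rf q w) = rf q v * (rf q w * rf q v) * rf q w := by
          simp only [Matrix.mul_assoc]
      _ = rf q v * (rf q v * rf q w) * rf q w := by rw [hTX]
      _ = (rf q v * rf q v) * (rf q w * rf q w) := by simp only [Matrix.mul_assoc]
      _ = 1 := by rw [hT2, hX2, mul_one]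
  have hZdet : (rf q v * rf q w).det = 1 := by
    rw [Matrix.det_mul, rf_det v hv0, rf_det w hw0, mul_one]
  have hZne : rf q v * rf q w ≠ 1 := by
    intro h1
    apply hne
    calc rf q w = (rf q v * rf q v) * rf q w := by rw [hT2, one_mul]
      _ = rf q v * (rf q v * rf q w) := by rw [mul_assoc]
      _ = rf q v := by rw [h1, mul_one]
  obtain ⟨u, hu, hZu⟩ := invol_eq_rf hF hq _ hZ hZ2 hZdet hZne
  refine ⟨u, hu, hZu, ?_, ?_⟩
  · have hc : rf q u * rf q v = rf q v * rf q u := by
      rw [← hZu, Matrix.mul_assoc, ← hTX]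
    have hneq : rf q u ≠ rf q v := by
      intro h1
      rw [← hZu] at h1
      apply rf_ne_one hF hq w hw0
      calc rf q w = (rf q v * rf q v) * rf q w := by rw [hT2, one_mul]
        _ = rf q v * (rf q v * rf q w) := by rw [mul_assoc]
        _ = 1 := by rw [h1, hT2]
    rcases (rf_comm_iff hF hq u v hu hv).1 hc with h1 | h1
    · exact absurd h1 hneq
    · exact herm_zero_comm hF v u h1
  · have hc : rf q u * rf q w = rf q w * rf q u := by
      rw [← hZu, Matrix.mul_assoc, hX2, mul_one, ← Matrix.mul_assoc, ← hTX, Matrix.mul_assoc, hX2,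
        mul_one]
    have hneq : rf q u ≠ rf q w := by
      intro h1
      rw [← hZu] at h1
      apply rf_ne_one hF hq v hv0
      calc rf q v = rf q v * (rf q w * rf q w) := by rw [hX2, mul_one]
        _ = (rf q v * rf q w) * rf q w := by rw [mul_assoc]
        _ = 1 := by rw [h1, hX2]
    rcases (rf_comm_iff hF hq u w hu hw).1 hc with h1 | h1
    · exact absurd h1 hneq
    · exact herm_zero_comm hF w u h1

/-- a norm one vector orthogonal to `v` and to a non-isotropic `n ⟂ v` -/
theorem exists_perp (hF : Fintype.card F = q ^ 2) (hq : Odd q) (v n : Fin 3 → F)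
    (hv : hermForm 3 F q v v = 1) (hnv : hermForm 3 F q n v = 0)
    (hn : hermForm 3 F q n n ≠ 0) :
    ∃ u : Fin 3 → F, hermForm 3 F q u u = 1 ∧ hermForm 3 F q u v = 0 ∧
      hermForm 3 F q u n = 0 := by
  obtain ⟨a, ha, han⟩ := exists_norm_one hF n hn
  have hn1v : hermForm 3 F q (a • n) v = 0 := by rw [herm_smul_left, hnv, mul_zero]
  obtain ⟨u, hu, -, huv, hun⟩ := prod_rf_invol hF hq v (a • n) hv han hn1v
  refine ⟨u, hu, huv, ?_⟩
  rw [herm_smul_right] at hun
  rcases mul_eq_zero.1 hun with h | h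
  · exact absurd h (pow_ne_zero _ ha)
  · exact h

/-- for norm one `v, w` spanning a non-degenerate plane there is a norm one vector orthogonal
to both -/
theorem exists_perp' (hF : Fintype.card F = q ^ 2) (hq : Odd q) (v w : Fin 3 → F)
    (hv : hermForm 3 F q v v = 1) (hw : hermForm 3 F q w w = 1)
    (hN : hermForm 3 F q w v * hermForm 3 F q w v ^ q ≠ 1) :
    ∃ u : Fin 3 → F, hermForm 3 F q u u = 1 ∧ hermForm 3 F q u v = 0 ∧
      hermForm 3 F q u w = 0 := by
  set α := hermForm 3 F q w v with hα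
  have hvw : hermForm 3 F q v w = α ^ q := by rw [hα, herm_conj hF]
  have hnv : hermForm 3 F q (w - α • v) v = 0 := by
    rw [herm_sub_left, herm_smul_left, hv, mul_one, ← hα, sub_self]
  have hnn : hermForm 3 F q (w - α • v) (w - α • v) = 1 - α * α ^ q := by
    rw [herm_sub_left, herm_sub_right hF, herm_sub_right hF, herm_smul_left, herm_smul_left,
      herm_smul_right, herm_smul_right, hv, hw, hvw, ← hα]
    ring
  have hn0 : hermForm 3 F q (w - α • v) (w - α • v) ≠ 0 := by
    rw [hnn]
    intro h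
    apply hN
    linear_combination -h
  obtain ⟨u, hu, huv, hun⟩ := exists_perp hF hq v (w - α • v) hv hnv hn0
  refine ⟨u, hu, huv, ?_⟩
  rw [herm_sub_right hF, herm_smul_right, huv, mul_zero, sub_zero] at hun
  exact hun

/-- an isotropic vector orthogonal to two orthogonal norm one vectors vanishes -/
theorem no_perp (hF : Fintype.card F = q ^ 2) (hq : Odd q) (v u n : Fin 3 → F)
    (hv : hermForm 3 F q v v = 1) (hu : hermForm 3 F q u u = 1)
    (huv : hermForm 3 F q u v = 0) (hnv : hermForm 3 F q n v = 0)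
    (hnu : hermForm 3 F q n u = 0) (hnn : hermForm 3 F q n n = 0) : n = 0 := by
  have h20 := two_ne_zero_of_odd hF hq
  obtain ⟨w, hw, hZw, -, -⟩ := prod_rf_invol hF hq v u hv hu huv
  have hZn : (rf q v * rf q u) *ᵥ n = n := by
    have e1 : rf q u *ᵥ n = -n := by rw [rf_mulVec, hnu, mul_zero, zero_smul, add_zero]
    have e2 : rf q v *ᵥ n = -n := by rw [rf_mulVec, hnv, mul_zero, zero_smul, add_zero]
    rw [← Matrix.mulVec_mulVec, e1, Matrix.mulVec_neg, e2, neg_neg]
  rw [hZw, rf_mulVec, hw, inv_one, mul_one] at hZn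
  have h2 : n = hermForm 3 F q n w • w := by
    ext i
    have h3 := congrFun hZn i
    simp only [Pi.add_apply, Pi.neg_apply, Pi.smul_apply, smul_eq_mul] at h3 ⊢
    have h4 : (2 : F) * (n i - hermForm 3 F q n w * w i) = 0 := by linear_combination -h3
    rcases mul_eq_zero.1 h4 with h5 | h5
    · exact absurd h5 h20
    · linear_combination h5
  have h3 : hermForm 3 F q n w = 0 := by
    have h6 := hnn
    rw [h2, herm_smul_left, herm_smul_right, hw, mul_one] at h6
    exact (norm_eq_zero_iff hF _).1 h6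
  rw [h2, h3, zero_smul]

end Cfsg.Agent.Lib.helper99.SuInv
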