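import Mathlib
import Cfsg.Agent.Lib.helper99.SuInvC

set_option autoImplicit false

/-!
# Involutions of `SU_3(q)`, `q` odd: counting in the orthogonal complement (helper99)
-/

namespace Cfsg.Agent.Lib.helper99.SuInv

open Cfsg Matrix Cfsg.Agent.Lib.helper7

variable {F : Type*} [Field F] [Fintype F] {q : ℕ}

/-- vectors of given norm in the orthogonal complement of a norm one vector -/
theorem card_perp (hF : Fintype.card F = q ^ 2) (v0 : Fin 3 → F)
    (hv0 : hermForm 3 F q v0 v0 = 1) (c : F) :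
    Nat.card {n : Fin 3 → F // hermForm 3 F q n v0 = 0 ∧ hermForm 3 F q n n = c}
      = Nat.card {u : Fin 2 → F // ∑ i, u i * u i ^ q = c} := by
  classical
  have hq2 := two_le_of_card_sq hF
  have hq0 : q ≠ 0 := by omega
  have he0 : hermForm 3 F q (Pi.single 0 1) (Pi.single 0 1) = 1 := by
    rw [herm_single_right hq0]
    simp
  obtain ⟨M, hM, hMe⟩ := exists_isIsom_map hF 3 (Pi.single 0 1) v0 he0 hv0
  have hMu := hM.isUnit hq0
  have hinj : Function.Injective M.mulVec := Matrix.mulVec_injective_iff_isUnit.2 hMu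
  symm
  refine Nat.card_congr (Equiv.ofBijective
    (fun u : {u : Fin 2 → F // ∑ i, u i * u i ^ q = c} =>
      (⟨M *ᵥ (Fin.cons 0 u.1 : Fin 3 → F), ?_, ?_⟩ :
        {n : Fin 3 → F // hermForm 3 F q n v0 = 0 ∧ hermForm 3 F q n n = c})) ⟨?_, ?_⟩)
  · rw [← hMe, hM, herm_single_right hq0]
    rfl
  · rw [hM, herm_succ]
    simp only [Fin.cons_zero, zero_mul, zero_add, Fin.cons_succ]
    exact u.2
  · intro u u' h
    have h1 : (Fin.cons 0 u.1 : Fin 3 → F) = Fin.cons 0 u'.1 := hinj (congrArg Subtype.val h)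
    apply Subtype.ext
    funext j
    have h2 := congrFun h1 j.succ
    simpa using h2
  · rintro ⟨n, hn1, hn2⟩
    obtain ⟨x, hx⟩ : ∃ x, M *ᵥ x = n :=
      ⟨M⁻¹ *ᵥ n, by
        rw [Matrix.mulVec_mulVec, Matrix.mul_nonsing_inv _ ((Matrix.isUnit_iff_isUnit_det M).1 hMu),
          Matrix.one_mulVec]⟩
    subst hx
    have hx0 : x 0 = 0 := by
      rw [← hMe, hM, herm_single_right hq0] at hn1
      exact hn1
    refine ⟨⟨fun j => x j.succ, ?_⟩, ?_⟩
    · rw [hM, herm_succ, hx0, zero_mul, zero_add] at hn2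
      exact hn2
    · apply Subtype.ext
      change M *ᵥ (Fin.cons 0 (fun j => x j.succ) : Fin 3 → F) = M *ᵥ x
      congr 1
      funext i
      refine Fin.cases ?_ (fun j => ?_) i
      · simp [hx0]
      · simp

theorem card_perp_one (hF : Fintype.card F = q ^ 2) (v0 : Fin 3 → F)
    (hv0 : hermForm 3 F q v0 v0 = 1) :
    Nat.card {n : Fin 3 → F // hermForm 3 F q n v0 = 0 ∧ hermForm 3 F q n n = 1}
      = q * (q ^ 2 - 1) := by
  classical
  have hq := two_le_of_card_sq hF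
  rw [card_perp hF v0 hv0, card_herm_eq hF 2 (1 : F) (one_pow q), if_neg one_ne_zero]
  have h2 := (hermCount_closed q hq 1).1
  have hle1 : 1 ≤ q ^ 2 := by nlinarith
  have h4 : ((hermCount q 2).1 : ℤ) = ((q * (q ^ 2 - 1) : ℕ) : ℤ) := by
    rw [h2]
    push_cast [Nat.cast_sub hle1]
    ring
  exact_mod_cast h4

theorem card_perp_zero (hF : Fintype.card F = q ^ 2) (v0 : Fin 3 → F)
    (hv0 : hermForm 3 F q v0 v0 = 1) :
    Nat.card {n : Fin 3 → F // hermForm 3 F q n v0 = 0 ∧ hermForm 3 F q n n = 0}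
      = q ^ 3 + q ^ 2 - q := by
  classical
  have hq := two_le_of_card_sq hF
  have hq0 : q ≠ 0 := by omega
  rw [card_perp hF v0 hv0, card_herm_eq hF 2 (0 : F) (zero_pow hq0), if_pos rfl]
  have h2 := (hermCount_closed q hq 1).2
  have hle1 : q ≤ q ^ 3 + q ^ 2 := by nlinarith
  have h4 : ((hermCount q 2).2 : ℤ) = ((q ^ 3 + q ^ 2 - q : ℕ) : ℤ) := by
    rw [h2]
    push_cast [Nat.cast_sub hle1]
    ring
  exact_mod_cast h4

/-- counting a set of involutions through the norm one vectors defining them -/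
theorem card_su_rf (hF : Fintype.card F = q ^ 2) (hq : Odd q) (P : SU 3 F q → Prop)
    (Q : (Fin 3 → F) → Prop)
    (hQ : ∀ (a : F) (u : Fin 3 → F), a * a ^ q = 1 → Q u → Q (a • u))
    (h1 : ∀ (v : Fin 3 → F) (hv : hermForm 3 F q v v = 1), Q v → P (suRf hF v hv))
    (h2 : ∀ x, P x → ∃ (v : Fin 3 → F) (hv : hermForm 3 F q v v = 1), Q v ∧ x = suRf hF v hv) :
    Nat.card {x : SU 3 F q // P x} * (q + 1)
      = Nat.card {v : Fin 3 → F // hermForm 3 F q v v = 1 ∧ Q v} := by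
  classical
  symm
  apply card_eq_mul_of_fibers
    (fun v : {v : Fin 3 → F // hermForm 3 F q v v = 1 ∧ Q v} =>
      (⟨suRf hF v.1 v.2.1, h1 v.1 v.2.1 v.2.2⟩ : {x : SU 3 F q // P x}))
  rintro ⟨x, hx⟩
  obtain ⟨w, hw, hQw, rfl⟩ := h2 x hx
  have hcard : Nat.card {a : F // a * a ^ q = 1} = q + 1 := by
    rw [Nat.card_eq_fintype_card, Fintype.card_subtype]
    exact card_norm_fiber hF 1 one_ne_zero (one_pow q)
  rw [← hcard]
  have hfib : ∀ v : {v : {v : Fin 3 → F // hermForm 3 F q v v = 1 ∧ Q v} //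
      (⟨suRf hF v.1 v.2.1, h1 v.1 v.2.1 v.2.2⟩ : {x : SU 3 F q // P x})
        = ⟨suRf hF w hw, hx⟩}, ∃ a : F, a * a ^ q = 1 ∧ v.1.1 = a • w := by
    intro v
    have h3 : suRf hF v.1.1 v.1.2.1 = suRf hF w hw := congrArg Subtype.val v.2
    exact (rf_eq_iff hF hq w v.1.1 hw v.1.2.1).1 ((suRf_eq_iff hF _ _ _ _).1 h3)
  have ha0 : ∀ a : {a : F // a * a ^ q = 1}, a.1 ≠ 0 := by
    intro a h
    have := a.2
    rw [h, zero_mul] at this
    exact zero_ne_one this
  have hnorm : ∀ a : {a : F // a * a ^ q = 1}, hermForm 3 F q (a.1 • w) (a.1 • w) = 1 := by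
    intro a
    rw [herm_smul_left, herm_smul_right, hw, mul_one, a.2]
  have heq : ∀ a : {a : F // a * a ^ q = 1}, suRf hF (a.1 • w) (hnorm a) = suRf hF w hw :=
    fun a => (suRf_eq_iff hF _ _ (hnorm a) hw).2 (rf_smul a.1 (ha0 a) w)
  refine Nat.card_congr ⟨fun v => ⟨(hfib v).choose, (hfib v).choose_spec.1⟩,
    fun a => ⟨⟨a.1 • w, hnorm a, hQ a.1 w a.2 hQw⟩, Subtype.ext (heq a)⟩, ?_, ?_⟩
  · intro v
    apply Subtype.ext
    apply Subtype.ext
    exact ((hfib v).choose_spec.2).symm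
  · intro a
    apply Subtype.ext
    have hw0 : w ≠ 0 := by
      rintro rfl
      simp [hermForm] at hw
    have hspec := (hfib ⟨⟨a.1 • w, hnorm a, hQ a.1 w a.2 hQw⟩,
      Subtype.ext (heq a)⟩).choose_spec.2
    obtain ⟨i, hi⟩ : ∃ i, w i ≠ 0 := by
      by_contra hcon
      push Not at hcon
      exact hw0 (funext hcon)
    have h3 := congrFun hspec i
    simp only [Pi.smul_apply, smul_eq_mul] at h3
    exact (mul_right_cancel₀ hi h3).symm

end Cfsg.Agent.Lib.helper99.SuInv
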