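import Mathlib
import Cfsg.Agent.Lib.helper99.SubfD

set_option autoImplicit false

/-!
# A square-class invariant of matrices with `M² = 0` and `ker M = im M` (helper99)

For `M` of size `2m` with `M² = 0` and an `n × m` matrix `B`, `dl e M B` is the determinant of
`[M B | B]`.  It changes by a square when `B` changes.
-/

namespace Cfsg.Agent.Lib.helper99.Subf

open Matrix

variable {K : Type*} [Field K] {n m : ℕ}

/-- the determinant of `[M B | B]` -/
noncomputable def dl (e : Fin n ≃ Fin m ⊕ Fin m) (M : Matrix (Fin n) (Fin n) K)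
    (B : Matrix (Fin n) (Fin m) K) : K :=
  ((Matrix.fromCols (M * B) B).submatrix id e).det

theorem dl_change (e : Fin n ≃ Fin m ⊕ Fin m) (M : Matrix (Fin n) (Fin n) K) (hM : M * M = 0)
    (B B' : Matrix (Fin n) (Fin m) K) (h : dl e M B ≠ 0) :
    ∃ t : K, dl e M B' = dl e M B * t ^ 2 := by
  obtain ⟨X, hX⟩ : ∃ X : Matrix (Fin n) (Fin n) K,
      X = (Matrix.fromCols (M * B) B).submatrix id e := ⟨_, rfl⟩
  have hXu : IsUnit X.det := by
    rw [hX]
    exact IsUnit.mk0 _ h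
  obtain ⟨W, hW⟩ : ∃ W : Matrix (Fin m ⊕ Fin m) (Fin m) K, W = (X⁻¹ * B').submatrix e.symm id :=
    ⟨_, rfl⟩
  obtain ⟨S, hS⟩ : ∃ S : Matrix (Fin m) (Fin m) K, S = W.submatrix Sum.inl id := ⟨_, rfl⟩
  obtain ⟨T, hT⟩ : ∃ T : Matrix (Fin m) (Fin m) K, T = W.submatrix Sum.inr id := ⟨_, rfl⟩
  have hWST : W = Matrix.fromRows S T := by
    ext (i | i) j
    · rw [hS]; rfl
    · rw [hT]; rfl
  have hB' : B' = M * B * S + B * T := by
    have e1 : B' = X * (X⁻¹ * B') := by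
      rw [← Matrix.mul_assoc, Matrix.mul_nonsing_inv _ hXu, Matrix.one_mul]
    have hXik : ∀ i k, X i k = (Matrix.fromCols (M * B) B) i (e k) := by
      intro i k
      rw [hX]
      rfl
    have e2 : X * (X⁻¹ * B') = Matrix.fromCols (M * B) B * W := by
      ext i j
      rw [Matrix.mul_apply, Matrix.mul_apply, ← Equiv.sum_comp e]
      apply Finset.sum_congr rfl
      intro k _
      rw [hW, Matrix.submatrix_apply, Equiv.symm_apply_apply, hXik]
      rfl
    rw [e1, e2, hWST, Matrix.fromCols_mul_fromRows]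
  have hMB' : M * B' = M * B * T := by
    rw [hB', Matrix.mul_add, ← Matrix.mul_assoc, ← Matrix.mul_assoc, ← Matrix.mul_assoc, hM,
      Matrix.zero_mul, Matrix.zero_mul, zero_add]
  have hfc : Matrix.fromCols (M * B') B'
      = Matrix.fromCols (M * B) B * Matrix.fromBlocks T S 0 T := by
    rw [Matrix.fromCols_mul_fromBlocks, hMB', Matrix.mul_zero, add_zero, ← hB']
  refine ⟨T.det, ?_⟩
  unfold dl
  rw [hfc, ← Matrix.submatrix_mul_equiv _ _ (id : Fin n → Fin n) e e, Matrix.det_mul,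
    Matrix.det_submatrix_equiv_self, Matrix.det_fromBlocks_zero₂₁, pow_two]

theorem dl_conj (e : Fin n ≃ Fin m ⊕ Fin m) (M Q : Matrix (Fin n) (Fin n) K)
    (hQ : IsUnit Q.det) (B : Matrix (Fin n) (Fin m) K) :
    dl e (Q⁻¹ * M * Q) (Q⁻¹ * B) = Q⁻¹.det * dl e M B := by
  unfold dl
  have e1 : Q⁻¹ * M * Q * (Q⁻¹ * B) = Q⁻¹ * (M * B) := by
    rw [Matrix.mul_assoc, ← Matrix.mul_assoc Q, Matrix.mul_nonsing_inv _ hQ, Matrix.one_mul,
      Matrix.mul_assoc]
  rw [e1, ← Matrix.mul_fromCols, ← Matrix.det_mul]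
  rfl

theorem dl_smul (e : Fin n ≃ Fin m ⊕ Fin m) (M : Matrix (Fin n) (Fin n) K) (ζ : K)
    (B : Matrix (Fin n) (Fin m) K) : dl e (ζ • M) B = ζ ^ m * dl e M B := by
  unfold dl
  have e1 : Matrix.fromCols (ζ • M * B) B
      = Matrix.fromCols (M * B) B * (Matrix.fromBlocks (ζ • (1 : Matrix (Fin m) (Fin m) K))
        (0 : Matrix (Fin m) (Fin m) K) (0 : Matrix (Fin m) (Fin m) K)
        (1 : Matrix (Fin m) (Fin m) K)) := by
    rw [Matrix.fromCols_mul_fromBlocks]
    simp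
  rw [e1, ← Matrix.submatrix_mul_equiv _ _ (id : Fin n → Fin n) e e, Matrix.det_mul,
    Matrix.det_submatrix_equiv_self, Matrix.det_fromBlocks_zero₂₁, Matrix.det_smul, Matrix.det_one,
    Fintype.card_fin]
  ring

/-- if `[M B | B]` is invertible then `ker M ≤ im M` -/
theorem ker_le_im_of_dl (e : Fin n ≃ Fin m ⊕ Fin m) (M : Matrix (Fin n) (Fin n) K)
    (hM : M * M = 0) (B : Matrix (Fin n) (Fin m) K) (h : dl e M B ≠ 0) (v : Fin n → K)
    (hv : M *ᵥ v = 0) : ∃ y : Fin n → K, v = M *ᵥ y := by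
  obtain ⟨X, hX⟩ : ∃ X : Matrix (Fin n) (Fin n) K,
      X = (Matrix.fromCols (M * B) B).submatrix id e := ⟨_, rfl⟩
  have hXu : IsUnit X.det := by
    rw [hX]
    exact IsUnit.mk0 _ h
  have hXmul : ∀ w : Fin n → K, X *ᵥ w
      = (M * B) *ᵥ (w ∘ e.symm ∘ Sum.inl) + B *ᵥ (w ∘ e.symm ∘ Sum.inr) := by
    intro w
    rw [hX, Matrix.submatrix_mulVec_equiv, Matrix.fromCols_mulVec]
    rfl
  obtain ⟨w, hw⟩ : ∃ w : Fin n → K, w = X⁻¹ *ᵥ v := ⟨_, rfl⟩
  have hXw : X *ᵥ w = v := by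
    rw [hw, Matrix.mulVec_mulVec, Matrix.mul_nonsing_inv _ hXu, Matrix.one_mulVec]
  obtain ⟨s, hs⟩ : ∃ s : Fin m → K, s = w ∘ e.symm ∘ Sum.inl := ⟨_, rfl⟩
  obtain ⟨t, ht⟩ : ∃ t : Fin m → K, t = w ∘ e.symm ∘ Sum.inr := ⟨_, rfl⟩
  have hv2 : v = (M * B) *ᵥ s + B *ᵥ t := by rw [← hXw, hXmul, hs, ht]
  have hMBt : (M * B) *ᵥ t = 0 := by
    have h1 : M *ᵥ v = (M * B) *ᵥ t := by
      rw [hv2, Matrix.mulVec_add, Matrix.mulVec_mulVec, Matrix.mulVec_mulVec, ← Matrix.mul_assoc,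
        hM, Matrix.zero_mul, Matrix.zero_mulVec, zero_add]
    rw [← h1, hv]
  have ht0 : t = 0 := by
    have h1 : X *ᵥ ((Sum.elim t (0 : Fin m → K)) ∘ e) = 0 := by
      rw [hXmul]
      have e1 : ((Sum.elim t (0 : Fin m → K)) ∘ e) ∘ e.symm ∘ Sum.inl = t := by
        funext i
        simp
      have e2 : ((Sum.elim t (0 : Fin m → K)) ∘ e) ∘ e.symm ∘ Sum.inr = 0 := by
        funext i
        simp
      rw [e1, e2, Matrix.mulVec_zero, add_zero, hMBt]
    have h2 : (Sum.elim t (0 : Fin m → K)) ∘ e = 0 := by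
      have h3 : X⁻¹ *ᵥ (X *ᵥ ((Sum.elim t (0 : Fin m → K)) ∘ e)) = 0 := by
        rw [h1, Matrix.mulVec_zero]
      rwa [Matrix.mulVec_mulVec, Matrix.nonsing_inv_mul _ hXu, Matrix.one_mulVec] at h3
    funext i
    have h4 := congrFun h2 (e.symm (Sum.inl i))
    simpa using h4
  refine ⟨B *ᵥ s, ?_⟩
  rw [hv2, ht0, Matrix.mulVec_zero, add_zero, Matrix.mulVec_mulVec]

/-- over a field: `M² = 0` and `ker M ≤ im M` give `B₀` with `[M B₀ | B₀]` invertible -/
theorem exists_dl_ne_zero (e : Fin n ≃ Fin m ⊕ Fin m) (M : Matrix (Fin n) (Fin n) K)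
    (hM : M * M = 0) (hker : ∀ v : Fin n → K, M *ᵥ v = 0 → ∃ y : Fin n → K, v = M *ᵥ y) :
    ∃ B₀ : Matrix (Fin n) (Fin m) K, dl e M B₀ ≠ 0 := by
  classical
  have hMM : ∀ v : Fin n → K, M *ᵥ (M *ᵥ v) = 0 := by
    intro v
    rw [Matrix.mulVec_mulVec, hM, Matrix.zero_mulVec]
  obtain ⟨r3, r2, r1, a, b, c, hb2, hc1, hind, hspan⟩ := jb3 (Matrix.mulVecLin M) (by
    intro v
    simp only [Matrix.mulVecLin_apply]
    rw [hMM])
  simp only [Matrix.mulVecLin_apply] at hb2 hc1 hind hspan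
  have hr3 : r3 = 0 := by
    by_contra h0
    have hpos : 0 < r3 := Nat.pos_of_ne_zero h0
    obtain ⟨-, -, h3, -, -, -⟩ := hind 0 0 (Pi.single ⟨0, hpos⟩ 1) 0 0 0 (by simp [hMM])
    have h4 := congrFun h3 ⟨0, hpos⟩
    simp at h4
  subst hr3
  have hr1 : r1 = 0 := by
    by_contra h0
    have hpos : 0 < r1 := Nat.pos_of_ne_zero h0
    obtain ⟨y, hy⟩ := hker (c ⟨0, hpos⟩) (hc1 _)
    obtain ⟨α, α', α'', β, β', γ, hyv⟩ := hspan y
    have h1 : c ⟨0, hpos⟩ = ∑ j, β j • M *ᵥ b j := by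
      rw [hy, hyv]
      simp [Matrix.mulVec_add, Matrix.mulVec_sum, Matrix.mulVec_smul, hMM, hc1]
    obtain ⟨-, -, -, -, -, h6⟩ := hind 0 0 0 0 β (-Pi.single ⟨0, hpos⟩ 1) (by
      simp only [Finset.univ_eq_empty, Finset.sum_empty, zero_add, Pi.zero_apply, zero_smul,
        Pi.neg_apply, neg_smul, Finset.sum_neg_distrib]
      rw [← h1]
      simp [Pi.single_apply])
    have h7 := congrFun h6 ⟨0, hpos⟩
    simp at h7
  subst hr1
  obtain ⟨g, hg⟩ : ∃ g : Fin r2 ⊕ Fin r2 → (Fin n → K),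
      g = Sum.elim (fun j => M *ᵥ b j) b := ⟨_, rfl⟩
  have hli : LinearIndependent K g := by
    rw [Fintype.linearIndependent_iff]
    intro cf hcf
    rw [Fintype.sum_sum_type, hg] at hcf
    simp only [Sum.elim_inl, Sum.elim_inr] at hcf
    obtain ⟨-, -, -, h4, h5, -⟩ := hind 0 0 0 (fun j => cf (Sum.inr j)) (fun j => cf (Sum.inl j)) 0
      (by
        simp only [Finset.univ_eq_empty, Finset.sum_empty, zero_add, add_zero,
          Finset.sum_add_distrib]
        rw [add_comm]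
        exact hcf)
    rintro (j | j)
    · exact congrFun h5 j
    · exact congrFun h4 j
  have hsp : ⊤ ≤ Submodule.span K (Set.range g) := by
    intro v _
    obtain ⟨α, α', α'', β, β', γ, hv⟩ := hspan v
    rw [hv]
    simp only [Finset.univ_eq_empty, Finset.sum_empty, zero_add, add_zero]
    refine Submodule.sum_mem _ fun j _ => Submodule.add_mem _ (Submodule.smul_mem _ _ ?_)
      (Submodule.smul_mem _ _ ?_)
    · exact Submodule.subset_span ⟨Sum.inr j, by rw [hg]; rfl⟩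
    · exact Submodule.subset_span ⟨Sum.inl j, by rw [hg]; rfl⟩
  have hcard : r2 = m := by
    have h := Module.finrank_eq_card_basis (Module.Basis.mk hli hsp)
    rw [Module.finrank_fin_fun] at h
    have h2 := Fintype.card_congr e
    simp only [Fintype.card_sum, Fintype.card_fin] at h h2
    omega
  subst hcard
  refine ⟨Matrix.of (fun i j => b j i), ?_⟩
  unfold dl
  have hu : IsUnit ((Matrix.fromCols (M * Matrix.of (fun i j => b j i))
      (Matrix.of (fun i j => b j i))).submatrix id e) := by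
    rw [← Matrix.linearIndependent_cols_iff_isUnit]
    have e1 : ((Matrix.fromCols (M * Matrix.of (fun i j => b j i))
        (Matrix.of (fun i j => b j i))).submatrix id e).col = g ∘ e := by
      funext k
      funext i
      rw [hg]
      simp only [Matrix.col_apply, Matrix.submatrix_apply, id_eq, Function.comp_apply]
      rcases e k with j | j
      · rfl
      · rfl
    rw [e1]
    exact hli.comp _ e.injective
  exact ((Matrix.isUnit_iff_isUnit_det _).1 hu).ne_zero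

end Cfsg.Agent.Lib.helper99.Subf
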