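import Mathlib
import Cfsg.Prelude.Def_GeometricClasses
import Cfsg.Agent.Lib.helper99.SubfE

set_option autoImplicit false

/-!
# Unipotent elements of type `J_2^m` not conjugate into a subfield group (helper99)
-/

namespace Cfsg.Agent.Lib.helper99.Subf

open Matrix

variable {F : Type*} [Field F] {n m : ℕ}

theorem dl_map (F₀ : Subfield F) (e : Fin n ≃ Fin m ⊕ Fin m) (M₀ : Matrix (Fin n) (Fin n) F₀)
    (B₀ : Matrix (Fin n) (Fin m) F₀) :
    dl e (M₀.map F₀.subtype) (B₀.map F₀.subtype) = F₀.subtype (dl e M₀ B₀) := by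
  unfold dl
  rw [RingHom.map_det]
  congr 1
  ext i j
  simp only [Matrix.submatrix_apply, id_eq, RingHom.mapMatrix_apply, Matrix.map_apply]
  rcases e j with a | a
  · simp [Matrix.mul_apply]
  · simp

/-- descent of the invariant to a subfield -/
theorem descent (F₀ : Subfield F) (e : Fin n ≃ Fin m ⊕ Fin m) (N' : Matrix (Fin n) (Fin n) F)
    (hrat : ∀ i j, N' i j ∈ F₀) (hN : N' * N' = 0) (B : Matrix (Fin n) (Fin m) F)
    (h : dl e N' B ≠ 0) :
    ∃ (B₀ : Matrix (Fin n) (Fin m) F) (d₀ : F), d₀ ∈ F₀ ∧ d₀ ≠ 0 ∧ dl e N' B₀ = d₀ := by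
  classical
  obtain ⟨N₀, hN₀⟩ : ∃ N₀ : Matrix (Fin n) (Fin n) F₀, N₀.map F₀.subtype = N' :=
    ⟨fun i j => ⟨N' i j, hrat i j⟩, by ext i j; rfl⟩
  have hinj : Function.Injective (F₀.subtype) := Subtype.val_injective
  have hN₀sq : N₀ * N₀ = 0 := by
    ext i j
    have h0 := congrFun (congrFun hN i) j
    rw [← hN₀] at h0
    simpa [Matrix.mul_apply] using h0
  obtain ⟨π, hπ⟩ := LinearMap.exists_leftInverse_of_injective (Algebra.linearMap F₀ F)
    (LinearMap.ker_eq_bot.2 (algebraMap F₀ F).injective)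
  have hπ' : ∀ c : F₀, π (c : F) = c := fun c => LinearMap.congr_fun hπ c
  have hker : ∀ v₀ : Fin n → F₀, N₀ *ᵥ v₀ = 0 → ∃ y₀ : Fin n → F₀, v₀ = N₀ *ᵥ y₀ := by
    intro v₀ hv₀
    have h1 : N' *ᵥ (fun i => (v₀ i : F)) = 0 := by
      funext i
      have h2 : (N₀ *ᵥ v₀) i = 0 := congrFun hv₀ i
      have h2' : (((N₀ *ᵥ v₀) i : F₀) : F) = 0 := by rw [h2]; rfl
      rw [← hN₀, Pi.zero_apply, ← h2']
      simp only [Matrix.mulVec, dotProduct, Matrix.map_apply]
      push_cast
      rfl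
    obtain ⟨y, hy⟩ := ker_le_im_of_dl e N' hN B h _ h1
    refine ⟨fun i => π (y i), ?_⟩
    funext i
    have h3 := congrFun hy i
    have h4 : π ((N' *ᵥ y) i) = (N₀ *ᵥ fun i => π (y i)) i := by
      simp only [Matrix.mulVec, dotProduct, map_sum]
      apply Finset.sum_congr rfl
      intro k _
      rw [← hN₀]
      have e1 : (N₀.map F₀.subtype) i k * y k = (N₀ i k) • (y k) := rfl
      rw [e1, map_smul, smul_eq_mul]
    rw [← h4, ← h3, hπ']
  obtain ⟨B₀₀, hB₀₀⟩ := exists_dl_ne_zero e N₀ hN₀sq hker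
  refine ⟨B₀₀.map F₀.subtype, F₀.subtype (dl e N₀ B₀₀), (dl e N₀ B₀₀).2, ?_, ?_⟩
  · intro h0
    exact hB₀₀ (hinj (by rw [h0, map_zero]))
  · rw [← hN₀, dl_map]

/-- the nilpotent matrix with chains `inr j ↦ d j • inl j` -/
def Nx (e : Fin n ≃ Fin m ⊕ Fin m) (d : Fin m → F) : Matrix (Fin n) (Fin n) F :=
  (Matrix.fromBlocks (0 : Matrix (Fin m) (Fin m) F) (Matrix.diagonal d) 0 0).submatrix e e

/-- the heads of the chains -/
def Bx (F : Type*) [Field F] (e : Fin n ≃ Fin m ⊕ Fin m) : Matrix (Fin n) (Fin m) F :=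
  (Matrix.fromRows (0 : Matrix (Fin m) (Fin m) F) 1).submatrix e id

theorem Nx_sq (e : Fin n ≃ Fin m ⊕ Fin m) (d : Fin m → F) : Nx e d * Nx e d = 0 := by
  unfold Nx
  rw [Matrix.submatrix_mul_equiv, Matrix.fromBlocks_multiply]
  simp

theorem dl_Nx (e : Fin n ≃ Fin m ⊕ Fin m) (d : Fin m → F) :
    dl e (Nx e d) (Bx F e) = ∏ i, d i := by
  unfold dl Nx Bx
  rw [Matrix.submatrix_mul_equiv, Matrix.fromBlocks_mul_fromRows]
  have e1 : (Matrix.fromCols ((Matrix.fromRows ((0 : Matrix (Fin m) (Fin m) F) * 0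
      + Matrix.diagonal d * 1) ((0 : Matrix (Fin m) (Fin m) F) * 0 + 0 * 1)).submatrix e id)
      ((Matrix.fromRows (0 : Matrix (Fin m) (Fin m) F) 1).submatrix e id)).submatrix id e
      = (Matrix.fromBlocks (Matrix.diagonal d) (0 : Matrix (Fin m) (Fin m) F) 0 1).submatrix e e := by
    ext i j
    simp only [Matrix.submatrix_apply, id_eq]
    rcases e j with a | a <;> rcases hi : e i with b | b <;> simp [hi]
  rw [e1, Matrix.det_submatrix_equiv_self, Matrix.det_fromBlocks_zero₂₁, Matrix.det_diagonal,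
    Matrix.det_one, mul_one]

theorem det_one_add_Nx (e : Fin n ≃ Fin m ⊕ Fin m) (d : Fin m → F) : (1 + Nx e d).det = 1 := by
  have e1 : 1 + Nx e d
      = (Matrix.fromBlocks (1 : Matrix (Fin m) (Fin m) F) (Matrix.diagonal d) 0 1).submatrix e e := by
    unfold Nx
    ext i j
    simp only [Matrix.add_apply, Matrix.submatrix_apply, Matrix.one_apply]
    rcases hi : e i with a | a <;> rcases hj : e j with b | b
    · have : i = j ↔ a = b := by
        constructor
        · intro h
          rw [h, hj] at hi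
          exact (Sum.inl.inj hi).symm
        · intro h
          rw [h, ← hj] at hi
          exact e.injective hi
      simp [Matrix.one_apply, this]
    · have : i ≠ j := by
        rintro rfl
        rw [hi] at hj
        exact Sum.inl_ne_inr hj
      simp [this]
    · have : i ≠ j := by
        rintro rfl
        rw [hi] at hj
        exact Sum.inr_ne_inl hj
      simp [this]
    · have : i = j ↔ a = b := by
        constructor
        · intro h
          rw [h, hj] at hi
          exact (Sum.inr.inj hi).symm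
        · intro h
          rw [h, ← hj] at hi
          exact e.injective hi
      simp [Matrix.one_apply, this]
  rw [e1, Matrix.det_submatrix_equiv_self, Matrix.det_fromBlocks_zero₂₁, Matrix.det_one, mul_one]

theorem Nx_apply_off (e : Fin n ≃ Fin m ⊕ Fin m) (d : Fin m → F) (j : Fin m) :
    Nx e d (e.symm (Sum.inl j)) (e.symm (Sum.inr j)) = d j := by
  unfold Nx
  simp

end Cfsg.Agent.Lib.helper99.Subf
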