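import Mathlib
import Cfsg.Prelude.Def_GeometricClasses
import Cfsg.Agent.Lib.helper99.SubfF

set_option autoImplicit false

/-!
# Subfield groups: membership, and unipotent elements not conjugate into them (helper99)
-/

namespace Cfsg.Agent.Lib.helper99.Subf

open Matrix Cfsg Cfsg.Geo
open scoped MatrixGroups

variable {F : Type*} [Field F] {n m : ℕ}

/-- `1 + Nx e d` with `∏ d` a non-square is not conjugate, by a matrix of determinant one, to a
scalar multiple of a matrix over a subfield all of whose elements are squares -/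
theorem no_conj (F₀ : Subfield F) (h2 : (2 : F) ≠ 0) (hsq : ∀ y ∈ F₀, IsSquare y)
    (e : Fin n ≃ Fin m ⊕ Fin m) (d : Fin m → F) (hd : ¬ IsSquare (∏ i, d i))
    (Q : Matrix (Fin n) (Fin n) F) (hQ : Q.det = 1) (ζ : F) (hζ : ζ ≠ 0)
    (hrat : ∀ i j, ζ * (Q⁻¹ * (1 + Nx e d) * Q) i j ∈ F₀) : False := by
  classical
  have hQu : IsUnit Q.det := by rw [hQ]; exact isUnit_one
  have hm : 0 < m := by
    by_contra h0
    have : m = 0 := by omega
    subst this
    apply hd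
    simp
  have hprod0 : ∏ i, d i ≠ 0 := by
    intro h0
    apply hd
    rw [h0]
    exact ⟨0, by simp⟩
  have hd0 : d ⟨0, hm⟩ ≠ 0 := by
    intro h0
    apply hprod0
    exact Finset.prod_eq_zero (Finset.mem_univ _) h0
  obtain ⟨N', hN'⟩ : ∃ N' : Matrix (Fin n) (Fin n) F, N' = ζ • (Q⁻¹ * Nx e d * Q) := ⟨_, rfl⟩
  have hconj1 : Q⁻¹ * (1 + Nx e d) * Q = 1 + Q⁻¹ * Nx e d * Q := by
    rw [Matrix.mul_add, Matrix.add_mul, Matrix.mul_one, Matrix.nonsing_inv_mul _ hQu]
  have hA : ∀ i j, (ζ • (1 : Matrix (Fin n) (Fin n) F) + N') i j ∈ F₀ := by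
    intro i j
    have h1 := hrat i j
    rw [hconj1] at h1
    rw [hN']
    have e1 : (ζ • (1 : Matrix (Fin n) (Fin n) F) + ζ • (Q⁻¹ * Nx e d * Q)) i j
        = ζ * (1 + Q⁻¹ * Nx e d * Q) i j := by
      simp only [Matrix.add_apply, Matrix.smul_apply, smul_eq_mul]
      ring
    rw [e1]
    exact h1
  have hN'sq : N' * N' = 0 := by
    rw [hN', Matrix.smul_mul, Matrix.mul_smul]
    have h1 : Q⁻¹ * Nx e d * Q * (Q⁻¹ * Nx e d * Q) = 0 := by
      calc Q⁻¹ * Nx e d * Q * (Q⁻¹ * Nx e d * Q)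
          = Q⁻¹ * (Nx e d * (Q * Q⁻¹) * Nx e d) * Q := by simp only [Matrix.mul_assoc]
        _ = 0 := by
            rw [Matrix.mul_nonsing_inv _ hQu, Matrix.mul_one, Nx_sq, Matrix.mul_zero,
              Matrix.zero_mul]
    rw [h1, smul_zero, smul_zero]
  have hoff : ∃ i j, i ≠ j ∧ N' i j ≠ 0 := by
    by_contra hcon
    push Not at hcon
    have hdiag : ∀ i, N' i i = 0 := by
      intro i
      have h1 := congrFun (congrFun hN'sq i) i
      rw [Matrix.mul_apply, Finset.sum_eq_single i] at h1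
      · simpa using h1
      · intro k _ hk
        rw [hcon i k (Ne.symm hk), zero_mul]
      · intro h
        exact absurd (Finset.mem_univ _) h
    have hzero : N' = 0 := by
      ext i j
      by_cases hij : i = j
      · rw [hij]
        exact hdiag j
      · exact hcon i j hij
    have hNx : Nx e d = 0 := by
      have h1 : Q⁻¹ * Nx e d * Q = 0 := by
        rw [hN'] at hzero
        rcases smul_eq_zero.1 hzero with h | h
        · exact absurd h hζ
        · exact h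
      calc Nx e d = (Q * Q⁻¹) * Nx e d * (Q * Q⁻¹) := by
            rw [Matrix.mul_nonsing_inv _ hQu, Matrix.one_mul, Matrix.mul_one]
        _ = Q * (Q⁻¹ * Nx e d * Q) * Q⁻¹ := by simp only [Matrix.mul_assoc]
        _ = 0 := by rw [h1, Matrix.mul_zero, Matrix.zero_mul]
    have h3 := Nx_apply_off e d ⟨0, hm⟩
    rw [hNx] at h3
    exact hd0 h3.symm
  obtain ⟨i0, j0, hij, hne⟩ := hoff
  have hoffA : ∀ i j, i ≠ j → (ζ • (1 : Matrix (Fin n) (Fin n) F) + N') i j = N' i j := by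
    intro i j hij'
    simp [Matrix.add_apply, Matrix.smul_apply, Matrix.one_apply_ne hij']
  have hNij : N' i0 j0 ∈ F₀ := by
    rw [← hoffA i0 j0 hij]
    exact hA i0 j0
  have hζF : ζ ∈ F₀ := by
    have hAA : (ζ • (1 : Matrix (Fin n) (Fin n) F) + N') * (ζ • 1 + N')
        = (ζ * ζ) • (1 : Matrix (Fin n) (Fin n) F) + (2 * ζ) • N' := by
      rw [Matrix.add_mul, Matrix.mul_add, Matrix.mul_add, hN'sq]
      simp only [Matrix.smul_mul, Matrix.mul_smul, Matrix.one_mul, Matrix.mul_one, smul_smul]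
      rw [two_mul, add_smul]
      abel
    have h1 : ((ζ • (1 : Matrix (Fin n) (Fin n) F) + N') * (ζ • 1 + N')) i0 j0 ∈ F₀ := by
      rw [Matrix.mul_apply]
      exact F₀.sum_mem (fun k _ => F₀.mul_mem (hA i0 k) (hA k j0))
    rw [hAA] at h1
    have h2' : (2 * ζ) * N' i0 j0 ∈ F₀ := by
      have e1 : ((ζ * ζ) • (1 : Matrix (Fin n) (Fin n) F) + (2 * ζ) • N') i0 j0
          = (2 * ζ) * N' i0 j0 := by
        simp [Matrix.add_apply, Matrix.smul_apply, Matrix.one_apply_ne hij]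
      rw [← e1]
      exact h1
    have h3 : 2 * ζ ∈ F₀ := by
      have := F₀.mul_mem h2' (F₀.inv_mem hNij)
      rwa [mul_assoc, mul_inv_cancel₀ hne, mul_one] at this
    have h4 : (2 : F) ∈ F₀ := by
      have := F₀.add_mem F₀.one_mem F₀.one_mem
      rwa [one_add_one_eq_two] at this
    have := F₀.mul_mem (F₀.inv_mem h4) h3
    rwa [← mul_assoc, inv_mul_cancel₀ h2, one_mul] at this
  have hN'rat : ∀ i j, N' i j ∈ F₀ := by
    intro i j
    have h1 := hA i j
    by_cases hij' : i = j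
    · subst hij'
      have e1 : N' i i = (ζ • (1 : Matrix (Fin n) (Fin n) F) + N') i i - ζ := by simp
      rw [e1]
      exact F₀.sub_mem h1 hζF
    · rw [← hoffA i j hij']
      exact h1
  have hΔ : dl e N' (Q⁻¹ * Bx F e) = ζ ^ m * ∏ i, d i := by
    rw [hN', dl_smul, dl_conj e _ Q hQu, dl_Nx, Matrix.det_nonsing_inv, hQ]
    simp
  have hΔ0 : dl e N' (Q⁻¹ * Bx F e) ≠ 0 := by
    rw [hΔ]
    exact mul_ne_zero (pow_ne_zero _ hζ) hprod0
  obtain ⟨B₀, d₀, hd₀F, hd₀0, hd₀⟩ := descent F₀ e N' hN'rat hN'sq _ hΔ0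
  obtain ⟨t, ht⟩ := dl_change e N' hN'sq (Q⁻¹ * Bx F e) B₀ hΔ0
  rw [hd₀, hΔ] at ht
  have ht0 : t ≠ 0 := by
    rintro rfl
    apply hd₀0
    rw [ht]
    simp
  have hζm : ζ ^ m ≠ 0 := pow_ne_zero _ hζ
  obtain ⟨s, hs⟩ := hsq (d₀ * (ζ ^ m)⁻¹) (F₀.mul_mem hd₀F (F₀.inv_mem (F₀.pow_mem hζF m)))
  apply hd
  refine ⟨s * t⁻¹, ?_⟩
  have e1 : s * s = (∏ i, d i) * t ^ 2 := by
    rw [← hs, ht]
    field_simp
  calc ∏ i, d i = ((∏ i, d i) * t ^ 2) * (t⁻¹) ^ 2 := by field_simp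
    _ = s * t⁻¹ * (s * t⁻¹) := by
        rw [← e1]
        ring

section Membership

variable {ι : Type} [Fintype ι] [DecidableEq ι]

theorem subfieldSubgroup_one (F₀ : Subfield F) :
    Cfsg.Geo.subfieldSubgroup F₀ (1 : GL ι F)
      = (Matrix.GeneralLinearGroup.map (F₀.subtype : F₀ →+* F)).range ⊔ Cfsg.Geo.scalars ι F := by
  unfold Cfsg.Geo.subfieldSubgroup
  have e1 : (MulAut.conj (1 : GL ι F)).toMonoidHom = MonoidHom.id _ := by
    ext g : 1
    simp
  rw [e1, Subgroup.map_id]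

theorem sfr_mem_range (F₀ : Subfield F) (g : GL ι F)
    (hg : ∀ k l, (g : Matrix ι ι F) k l ∈ F₀) :
    g ∈ (Matrix.GeneralLinearGroup.map (F₀.subtype : F₀ →+* F)).range := by
  let A₀ : Matrix ι ι F₀ := fun k l => ⟨(g : Matrix ι ι F) k l, hg k l⟩
  have hA : (F₀.subtype : F₀ →+* F).mapMatrix A₀ = (g : Matrix ι ι F) := by
    ext k l
    rfl
  have hdet : A₀.det ≠ 0 := by
    intro h0
    have h1 : (F₀.subtype : F₀ →+* F) A₀.det = 0 := by rw [h0, map_zero]
    rw [RingHom.map_det, hA] at h1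
    exact ((Matrix.isUnit_iff_isUnit_det _).mp g.isUnit).ne_zero h1
  refine ⟨Matrix.GeneralLinearGroup.mkOfDetNeZero A₀ hdet, ?_⟩
  apply Units.ext
  exact hA

/-- membership in the subfield group of the standard basis -/
theorem mem_subfieldSubgroup_one_iff (F₀ : Subfield F) (g : GL ι F) :
    g ∈ Cfsg.Geo.subfieldSubgroup F₀ (1 : GL ι F)
      ↔ ∃ ζ : F, ζ ≠ 0 ∧ ∀ k l, ζ * (g : Matrix ι ι F) k l ∈ F₀ := by
  rw [subfieldSubgroup_one]
  constructor
  · intro hg
    have h1 : g ∈ ((((Matrix.GeneralLinearGroup.map (F₀.subtype : F₀ →+* F)).range ⊔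
        scalars ι F : Subgroup (GL ι F)) : Set (GL ι F))) := hg
    rw [Subgroup.mul_normal] at h1
    obtain ⟨x, hx, s, hs, rfl⟩ := Set.mem_mul.mp h1
    obtain ⟨g₀, rfl⟩ := hx
    obtain ⟨c, hc⟩ := (mem_scalars_iff s).mp hs
    refine ⟨(c : F)⁻¹, inv_ne_zero c.ne_zero, fun k l => ?_⟩
    rw [Units.val_mul, hc, Matrix.mul_smul, Matrix.mul_one, Matrix.smul_apply, smul_eq_mul,
      inv_mul_cancel_left₀ c.ne_zero]
    exact ((g₀ : Matrix ι ι F₀) k l).2
  · rintro ⟨ζ, hζ, hg⟩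
    obtain ⟨z, hz, hzv⟩ : ∃ z : GL ι F, z ∈ scalars ι F ∧
        (z : Matrix ι ι F) = ζ • (1 : Matrix ι ι F) := by
      have h1 : (Units.map (Matrix.scalar ι : F →+* Matrix ι ι F).toMonoidHom (Units.mk0 ζ hζ)) ∈
          scalars ι F := ⟨Units.mk0 ζ hζ, rfl⟩
      refine ⟨_, h1, ?_⟩
      simp [Matrix.smul_one_eq_diagonal]
    have hzg : z * g ∈ (Matrix.GeneralLinearGroup.map (F₀.subtype : F₀ →+* F)).range := by
      apply sfr_mem_range
      intro k l
      rw [Units.val_mul, hzv, Matrix.smul_mul, Matrix.one_mul, Matrix.smul_apply, smul_eq_mul]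
      exact hg k l
    have e : g = z⁻¹ * (z * g) := by group
    rw [e]
    exact Subgroup.mul_mem _ (Subgroup.mem_sup_right (inv_mem hz)) (Subgroup.mem_sup_left hzg)

end Membership

end Cfsg.Agent.Lib.helper99.Subf
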