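import Mathlib
import Cfsg.Agent.Lib.helper99.TsE

/-!
# Forward direction: derangements of the tensor product subgroup `GL_a ⊗ GL_b` in `Sp_{ab}(q)`
-/

set_option autoImplicit false

namespace Cfsg.Agent.Lib.helper99

open Module Matrix Cfsg Cfsg.Geo
open scoped Kronecker
open Cfsg.Agent.Lib.helper24

variable {F : Type*} [Field F]

theorem ts_forward [Fintype F] {p : ℕ} [Fact p.Prime] [CharP F p] (hodd : Odd (Fintype.card F))
    (d a b : ℕ) (hab : 2 * d = a * b) (ha : Even a) (ha2 : 2 ≤ a) (hb : 3 ≤ b)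
    (e : (Fin d ⊕ Fin d) ≃ Fin a × Fin b) (P : GL (Fin d ⊕ Fin d) F)
    (f₁ : (Fin a → F) → (Fin a → F) → F) (f₂ : (Fin b → F) → (Fin b → F) → F)
    (hf₁ : IsSymplecticForm f₁) (hf₂ : IsSymmetricForm f₂)
    (hS : IsTensorFormStructure id (sympForm d F) f₁ f₂ e P)
    (r : ℕ) [hr : Fact r.Prime]
    (hΩ : r ∣ (tensorProductSubgroup a b e P).relIndex (spGL d F))
    (hall : ∀ x ∈ spGL d F, (∃ z : F, ((x ^ r : GL (Fin d ⊕ Fin d) F) :
        Matrix (Fin d ⊕ Fin d) (Fin d ⊕ Fin d) F) =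
          z • (1 : Matrix (Fin d ⊕ Fin d) (Fin d ⊕ Fin d) F)) →
      (∀ z : F, (x : Matrix (Fin d ⊕ Fin d) (Fin d ⊕ Fin d) F) ≠
        z • (1 : Matrix (Fin d ⊕ Fin d) (Fin d ⊕ Fin d) F)) →
      ∃ g ∈ spGL d F, g⁻¹ * x * g ∈ tensorProductSubgroup a b e P) :
    r = 2 ∧ a = 2 := by
  classical
  have h2F : (2 : F) ≠ 0 := qe_two_ne_zero_iff_odd.2 hodd
  have hd3 : 3 ≤ d := by nlinarith
  obtain ⟨c, hc0, hSc⟩ := hS
  obtain ⟨J₁, hJ₁⟩ : ∃ J₁ : Matrix (Fin a) (Fin a) F, J₁ = gramMatrix f₁ := ⟨_, rfl⟩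
  obtain ⟨S₂, hS₂⟩ : ∃ S₂ : Matrix (Fin b) (Fin b) F, S₂ = gramMatrix f₂ := ⟨_, rfl⟩
  rw [← hJ₁, ← hS₂] at hSc
  have hJne : J₁ ≠ 0 := by
    intro h0
    have h1 := ts_gram_det f₁ hf₁.bilinear hf₁.nondegenerate
    rw [← hJ₁, h0] at h1
    have hne : Nonempty (Fin a) := ⟨⟨0, by omega⟩⟩
    exact h1 Matrix.det_zero
  have hSsym : S₂ᵀ = S₂ := by
    rw [hS₂]
    ext i j
    exact hf₂.symm _ _
  have hSdet : S₂.det ≠ 0 := by
    rw [hS₂]
    exact ts_gram_det f₂ hf₂.bilinear hf₂.nondegenerate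
  have hext : ∀ x ∈ spGL d F, (∃ z : F, ((x ^ r : GL (Fin d ⊕ Fin d) F) :
        Matrix (Fin d ⊕ Fin d) (Fin d ⊕ Fin d) F) =
          z • (1 : Matrix (Fin d ⊕ Fin d) (Fin d ⊕ Fin d) F)) →
      (∀ z : F, (x : Matrix (Fin d ⊕ Fin d) (Fin d ⊕ Fin d) F) ≠
        z • (1 : Matrix (Fin d ⊕ Fin d) (Fin d ⊕ Fin d) F)) →
      ∃ (g₁ : GL (Fin a) F) (g₂ : GL (Fin b) F),
        (∀ (m : ℕ) (ν : F), (((x ^ m : GL (Fin d ⊕ Fin d) F) :
            Matrix (Fin d ⊕ Fin d) (Fin d ⊕ Fin d) F) - ν • 1).rank =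
          (((g₁ : Matrix (Fin a) (Fin a) F) ^ m) ⊗ₖ ((g₂ : Matrix (Fin b) (Fin b) F) ^ m) -
            ν • (1 : Matrix (Fin a × Fin b) (Fin a × Fin b) F)).rank) ∧
        ((g₁ : Matrix (Fin a) (Fin a) F) ⊗ₖ (g₂ : Matrix (Fin b) (Fin b) F))ᵀ * (J₁ ⊗ₖ S₂) *
          ((g₁ : Matrix (Fin a) (Fin a) F) ⊗ₖ (g₂ : Matrix (Fin b) (Fin b) F)) = J₁ ⊗ₖ S₂ := by
    intro x hx hxz hxns
    obtain ⟨g, hg, hmem⟩ := hall x hx hxz hxns
    obtain ⟨g₁, g₂, hshape⟩ := ts_conj_shape e P _ hmem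
    refine ⟨g₁, g₂, fun m ν => ts_conj_rank e P x g _ _ hshape m ν, ?_⟩
    have hy : g⁻¹ * x * g ∈ spGL d F :=
      Subgroup.mul_mem _ (Subgroup.mul_mem _ (Subgroup.inv_mem _ hg) hx) hg
    exact ts_form_rel e P (J₁ ⊗ₖ S₂) c hc0 hSc _ hy _ hshape
  rcases ts_prime_cases d r _ hΩ with hrp | ⟨hrq, i, hi, hri⟩
  · exfalso
    obtain ⟨x, hx, hxp, hxns, hle, hne⟩ := ts_exists_transv (F := F) (p := p) d (by omega)
    obtain ⟨g₁, g₂, hrank, -⟩ := hext x hx ⟨1, by rw [hrp, hxp, one_smul]⟩ hxns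
    have h1 := hrank 1 1
    rw [pow_one, pow_one, pow_one] at h1
    rw [h1] at hle hne
    exact ts_small_contra g₁ g₂ 1 (by omega) (by omega) hne hle
  · by_cases hr2 : r = 2
    · refine ⟨hr2, ?_⟩
      by_contra ha2'
      have ha4 : 4 ≤ a := by
        obtain ⟨k, hk⟩ := ha
        omega
      obtain ⟨d', rfl⟩ : ∃ d', d = 1 + d' := ⟨d - 1, by omega⟩
      obtain ⟨A, hAdef⟩ : ∃ A : Matrix.symplecticGroup (Fin 1) F,
          (A : Matrix (Fin 1 ⊕ Fin 1) (Fin 1 ⊕ Fin 1) F) = -1 :=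
        ⟨⟨-1, SymplecticGroup.neg_mem (one_mem _)⟩, rfl⟩
      have hA1 : A ≠ 1 := by
        intro h
        have h3 := congrArg (fun B : Matrix.symplecticGroup (Fin 1) F =>
          (B : Matrix (Fin 1 ⊕ Fin 1) (Fin 1 ⊕ Fin 1) F) (Sum.inl 0) (Sum.inl 0)) h
        simp only [hAdef] at h3
        have h4 : ((1 : Matrix.symplecticGroup (Fin 1) F) :
            Matrix (Fin 1 ⊕ Fin 1) (Fin 1 ⊕ Fin 1) F) = 1 := rfl
        rw [h4, Matrix.neg_apply, Matrix.one_apply_eq] at h3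
        apply h2F
        linear_combination -h3
      have hA2 : A ^ 2 = 1 := by
        apply Subtype.ext
        rw [SubmonoidClass.coe_pow, hAdef]
        simp
      obtain ⟨x, hx, hxpow, hxns, -, hle, hne⟩ := ts_exists_block 1 d' (by omega) A hA1
      obtain ⟨g₁, g₂, hrank, -⟩ :=
        hext x hx ⟨1, by rw [hr2, hxpow 2 hA2, one_smul]⟩ (hxns (by omega))
      have h1 := hrank 1 1
      rw [pow_one, pow_one, pow_one] at h1
      rw [h1] at hle hne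
      exact ts_small_contra g₁ g₂ 2 (by omega) (by omega) hne (le_trans hle (by norm_num))
    · exfalso
      have hrodd : Odd r := hr.out.odd_of_ne_two hr2
      obtain ⟨e', he1, hed, hre, hse, hso⟩ :=
        ts_order_data (Fintype.card F) r Fintype.card_pos d i hi hri
      obtain ⟨A, hA⟩ := lag_exists_order (F := F) e' r he1 hre
      obtain ⟨d', rfl⟩ : ∃ d', d = e' + d' := ⟨d - e', by omega⟩
      have hA1 : A ≠ 1 := by
        rintro rfl
        rw [orderOf_one] at hA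
        exact hr.out.one_lt.ne hA
      have hAr : A ^ r = 1 := by
        rw [← hA]
        exact pow_orderOf_eq_one A
      obtain ⟨x, hx, hxpow, -, hxns, hle, hne⟩ := ts_exists_block e' d' he1 A hA1
      obtain ⟨g₁, g₂, hrank, hform⟩ :=
        hext x hx ⟨1, by rw [hxpow r hAr, one_smul]⟩ (hxns r hrodd hAr)
      have h1 := hrank 1 1
      rw [pow_one, pow_one, pow_one] at h1
      have hr0 := hrank r 1
      rw [hxpow r hAr, one_smul, sub_self, Matrix.rank_zero] at hr0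
      rw [h1] at hle hne
      exact ts_odd_contra h2F r hrodd hrq (2 * e') hse hso ha ha2 hb J₁ hJne S₂ hSsym hSdet
        g₁ g₂ hform hr0.symm hle hne

end Cfsg.Agent.Lib.helper99
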