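import Mathlib
import Cfsg.Agent.Lib.helper99.TsC
import Cfsg.Agent.Lib.helper99.TsG

/-!
# Diagonalisation of symmetric forms and conjugating into a tensor product subgroup of `Sp`
-/

set_option autoImplicit false

namespace Cfsg.Agent.Lib.helper99

open Module Matrix Cfsg Cfsg.Geo
open scoped Kronecker
open Cfsg.Agent.Lib.helper24

variable {F : Type*} [Field F]

theorem ts_entry {ι κ : Type*} [Fintype ι] [Fintype κ] (M : Matrix ι κ F) (S : Matrix ι ι F)
    (q q' : κ) : (Mᵀ * S * M) q q' = (fun i => M i q) ⬝ᵥ S *ᵥ (fun i => M i q') := by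
  simp only [Matrix.mul_apply, Matrix.transpose_apply, dotProduct, Matrix.mulVec, Finset.sum_mul,
    Finset.mul_sum]
  rw [Finset.sum_comm]
  apply Finset.sum_congr rfl
  intro i _
  apply Finset.sum_congr rfl
  intro k _
  ring

/-- diagonalisation of a non-degenerate symmetric matrix in odd characteristic -/
theorem ts_diag {b : ℕ} (h2 : (2 : F) ≠ 0) (S : Matrix (Fin b) (Fin b) F) (hS : Sᵀ = S)
    (hdet : S.det ≠ 0) :
    ∃ (C : Matrix (Fin b) (Fin b) F) (s : Fin b → F), C.det ≠ 0 ∧ (∀ j, s j ≠ 0) ∧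
      Cᵀ * S * C = Matrix.diagonal s := by
  classical
  obtain ⟨B, hB⟩ : ∃ B : LinearMap.BilinForm F (Fin b → F), B = Matrix.toBilin' S := ⟨_, rfl⟩
  have hBapp : ∀ u v, B u v = u ⬝ᵥ S *ᵥ v := by
    intro u v
    rw [hB, Matrix.toBilin'_apply']
  have hBsymm : B.IsSymm := by
    refine ⟨fun u v => ?_⟩
    rw [hBapp, hBapp, Matrix.dotProduct_mulVec, ← Matrix.mulVec_transpose, hS, dotProduct_comm]
  letI : Invertible (2 : F) := invertibleOfNonzero h2
  obtain ⟨v, hv⟩ := LinearMap.BilinForm.exists_orthogonal_basis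
    (LinearMap.BilinForm.isSymm_iff.1 hBsymm)
  have hfin : finrank F (Fin b → F) = b := Module.finrank_fin_fun F
  obtain ⟨v', hv'⟩ : ∃ v' : Fin b → (Fin b → F), v' = fun j => v (finCongr hfin.symm j) :=
    ⟨_, rfl⟩
  have hortho : ∀ j j', j ≠ j' → B (v' j) (v' j') = 0 := by
    intro j j' hjj
    rw [hv']
    apply LinearMap.isOrthoᵢ_def.1 hv
    intro h
    exact hjj ((finCongr hfin.symm).injective h)
  obtain ⟨C, hC⟩ : ∃ C : Matrix (Fin b) (Fin b) F, C = Matrix.of fun i j => v' j i := ⟨_, rfl⟩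
  have hcol : ∀ j, (fun i => C i j) = v' j := by
    intro j
    rw [hC]
    rfl
  have hCS : Cᵀ * S * C = Matrix.diagonal (fun j => B (v' j) (v' j)) := by
    ext j j'
    rw [ts_entry, hcol, hcol, ← hBapp, Matrix.diagonal_apply]
    by_cases hjj : j = j'
    · rw [if_pos hjj, hjj]
    · rw [if_neg hjj]
      exact hortho j j' hjj
  have hdetC : (Cᵀ * S * C).det ≠ 0 → C.det ≠ 0 := by
    intro h h0
    apply h
    rw [Matrix.det_mul, Matrix.det_mul, h0, mul_zero]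
  have hsne : ∀ j, B (v' j) (v' j) ≠ 0 := by
    intro j h0
    have h1 : ∀ w, B (v' j) w = 0 := by
      intro w
      have h3 : B (v' j) = 0 := by
        apply v.ext
        intro k
        rw [LinearMap.zero_apply]
        by_cases hk : finCongr hfin.symm j = k
        · rw [← hk]
          have h5 : v (finCongr hfin.symm j) = v' j := by rw [hv']
          rw [h5]
          exact h0
        · have h5 : v' j = v (finCongr hfin.symm j) := by rw [hv']
          rw [h5]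
          exact LinearMap.isOrthoᵢ_def.1 hv _ _ hk
      rw [h3, LinearMap.zero_apply]
    have h4 : Sᵀ *ᵥ v' j = 0 := by
      ext i
      have h5 := h1 (Pi.single i 1)
      rw [hBapp, Matrix.dotProduct_mulVec, ← Matrix.mulVec_transpose, dotProduct_single_one] at h5
      exact h5
    rw [hS] at h4
    have h6 : v' j = 0 := by
      by_contra hne
      exact hdet (Matrix.exists_mulVec_eq_zero_iff.1 ⟨v' j, hne, h4⟩)
    have h7 : v (finCongr hfin.symm j) = 0 := by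
      rw [← h6, hv']
    exact v.ne_zero _ h7
  refine ⟨C, fun j => B (v' j) (v' j), ?_, hsne, hCS⟩
  apply hdetC
  rw [hCS, Matrix.det_diagonal]
  exact Finset.prod_ne_zero_iff.2 (fun j _ => hsne j)

/-- conjugating into the tensor product subgroup by an element of `Sp` -/
theorem ts_conj_mem_sp {d a b : ℕ} (e : (Fin d ⊕ Fin d) ≃ Fin a × Fin b)
    (P x : GL (Fin d ⊕ Fin d) F) (g₁ : GL (Fin a) F) (g₂ : GL (Fin b) F)
    (A₀ : Matrix (Fin d ⊕ Fin d) (Fin d ⊕ Fin d) F)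
    (hA : A₀ᵀ * Matrix.J (Fin d) F * A₀ =
      (P : Matrix (Fin d ⊕ Fin d) (Fin d ⊕ Fin d) F)ᵀ * Matrix.J (Fin d) F *
        (P : Matrix (Fin d ⊕ Fin d) (Fin d ⊕ Fin d) F))
    (hconj : (x : Matrix (Fin d ⊕ Fin d) (Fin d ⊕ Fin d) F) * A₀ =
      A₀ * ((g₁ : Matrix (Fin a) (Fin a) F) ⊗ₖ (g₂ : Matrix (Fin b) (Fin b) F)).submatrix e e) :
    ∃ g ∈ spGL d F, g⁻¹ * x * g ∈ tensorProductSubgroup a b e P := by
  classical
  have hJdet : (Matrix.J (Fin d) F).det ≠ 0 :=
    (SymplecticGroup.symplectic_det (SymplecticGroup.J_mem (Fin d) F)).ne_zero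
  have hPP : ((P⁻¹ : GL (Fin d ⊕ Fin d) F) : Matrix (Fin d ⊕ Fin d) (Fin d ⊕ Fin d) F).det *
      (P : Matrix (Fin d ⊕ Fin d) (Fin d ⊕ Fin d) F).det = 1 := by
    rw [← Matrix.det_mul, ← Units.val_mul, inv_mul_cancel, Units.val_one, Matrix.det_one]
  have hPdet : (P : Matrix (Fin d ⊕ Fin d) (Fin d ⊕ Fin d) F).det ≠ 0 := by
    intro h0
    rw [h0, mul_zero] at hPP
    exact zero_ne_one hPP
  have hAdet : A₀.det ≠ 0 := by
    intro h0
    have h1 := congrArg Matrix.det hA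
    rw [Matrix.det_mul, Matrix.det_mul, Matrix.det_mul, Matrix.det_mul, Matrix.det_transpose,
      Matrix.det_transpose, h0, zero_mul, zero_mul] at h1
    exact mul_ne_zero (mul_ne_zero hPdet hJdet) hPdet h1.symm
  obtain ⟨A, hAv⟩ : ∃ A : GL (Fin d ⊕ Fin d) F,
      (A : Matrix (Fin d ⊕ Fin d) (Fin d ⊕ Fin d) F) = A₀ :=
    ⟨Matrix.GeneralLinearGroup.mkOfDetNeZero A₀ hAdet, rfl⟩
  obtain ⟨k₀, hk₀⟩ : ∃ k₀ : GL (Fin a × Fin b) F,
      (k₀ : Matrix (Fin a × Fin b) (Fin a × Fin b) F) =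
        (g₁ : Matrix (Fin a) (Fin a) F) ⊗ₖ (g₂ : Matrix (Fin b) (Fin b) F) := by
    refine ⟨⟨(g₁ : Matrix (Fin a) (Fin a) F) ⊗ₖ (g₂ : Matrix (Fin b) (Fin b) F),
      ((g₁⁻¹ : GL (Fin a) F) : Matrix (Fin a) (Fin a) F) ⊗ₖ
        ((g₂⁻¹ : GL (Fin b) F) : Matrix (Fin b) (Fin b) F), ?_, ?_⟩, rfl⟩
    · rw [← Matrix.mul_kronecker_mul, ← Units.val_mul, ← Units.val_mul, mul_inv_cancel,
        mul_inv_cancel, Units.val_one, Units.val_one, Matrix.one_kronecker_one]
    · rw [← Matrix.mul_kronecker_mul, ← Units.val_mul, ← Units.val_mul, inv_mul_cancel,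
        inv_mul_cancel, Units.val_one, Units.val_one, Matrix.one_kronecker_one]
  have hk₀mem : k₀ ∈ kroneckerSubgroup a b F := ⟨g₁, g₂, hk₀⟩
  refine ⟨A * P⁻¹, ?_, ?_⟩
  · rw [Cfsg.Agent.Lib.helper95.mem_spGL_iff]
    intro u v
    rw [Units.val_mul, ← Matrix.mulVec_mulVec, ← Matrix.mulVec_mulVec, hAv]
    unfold sympForm
    rw [SpDer.dot_conj, hA, ← SpDer.dot_conj, Cfsg.Agent.Lib.helper95.gl_mulVec_inv_mulVec,
      Cfsg.Agent.Lib.helper95.gl_mulVec_inv_mulVec]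
  · unfold tensorProductSubgroup
    rw [Subgroup.mem_map]
    refine ⟨glReindex e.symm k₀, Subgroup.mem_map_of_mem _ hk₀mem, ?_⟩
    show P * glReindex e.symm k₀ * P⁻¹ = (A * P⁻¹)⁻¹ * x * (A * P⁻¹)
    have hxA : x * A = A * glReindex e.symm k₀ := by
      apply Units.ext
      rw [Units.val_mul, Units.val_mul, hAv]
      show (x : Matrix (Fin d ⊕ Fin d) (Fin d ⊕ Fin d) F) * A₀ =
        A₀ * Matrix.reindexAlgEquiv F F e.symm
          (k₀ : Matrix (Fin a × Fin b) (Fin a × Fin b) F)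
      rw [Matrix.coe_reindexAlgEquiv, hk₀, hconj]
      rfl
    have h3 : glReindex e.symm k₀ = A⁻¹ * x * A := by
      rw [mul_assoc, hxA, inv_mul_cancel_left]
    rw [h3]
    group

end Cfsg.Agent.Lib.helper99
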