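import Mathlib
import Cfsg.Agent.Lib.helper99.TsH

/-!
# Assembling a conjugating element from an adapted frame
-/

set_option autoImplicit false

namespace Cfsg.Agent.Lib.helper99

open Module Matrix Cfsg Cfsg.Geo
open scoped Kronecker
open Cfsg.Agent.Lib.helper24

variable {F : Type*} [Field F]

theorem ts_assemble {d : ℕ} (e : (Fin d ⊕ Fin d) ≃ Fin 2 × Fin d) (P x : GL (Fin d ⊕ Fin d) F)
    (J₁ : Matrix (Fin 2) (Fin 2) F) (S₂ : Matrix (Fin d) (Fin d) F) (c : F)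
    (hJ00 : J₁ 0 0 = 0) (hJ11 : J₁ 1 1 = 0) (hJ10 : J₁ 1 0 = -J₁ 0 1)
    (hP : (P : Matrix (Fin d ⊕ Fin d) (Fin d ⊕ Fin d) F)ᵀ * Matrix.J (Fin d) F *
      (P : Matrix (Fin d ⊕ Fin d) (Fin d ⊕ Fin d) F) = c • (J₁ ⊗ₖ S₂).submatrix e e)
    (C : Matrix (Fin d) (Fin d) F) (s : Fin d → F) (hCdet : C.det ≠ 0)
    (hCS : Cᵀ * S₂ * C = Matrix.diagonal s)
    (m₀₀ m₁₀ m₀₁ m₁₁ : F) (hm : m₀₀ * m₁₁ - m₀₁ * m₁₀ ≠ 0)
    (ef ff : Fin d → (Fin d ⊕ Fin d → F)) (ε : Fin d → F) (hε : ∀ j, ε j ≠ 0)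
    (hee : ∀ j k, sympForm d F (ef j) (ef k) = 0) (hff : ∀ j k, sympForm d F (ff j) (ff k) = 0)
    (hef : ∀ j k, sympForm d F (ef j) (ff k) = if j = k then c * J₁ 0 1 * s j else 0)
    (hXe : ∀ j, (x : Matrix (Fin d ⊕ Fin d) (Fin d ⊕ Fin d) F) *ᵥ ef j
      = ε j • (m₀₀ • ef j + m₁₀ • ff j))
    (hXf : ∀ j, (x : Matrix (Fin d ⊕ Fin d) (Fin d ⊕ Fin d) F) *ᵥ ff j
      = ε j • (m₀₁ • ef j + m₁₁ • ff j)) :
    ∃ g ∈ spGL d F, g⁻¹ * x * g ∈ tensorProductSubgroup 2 d e P := by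
  classical
  obtain ⟨J, hJ⟩ : ∃ J : Matrix (Fin d ⊕ Fin d) (Fin d ⊕ Fin d) F, J = Matrix.J (Fin d) F :=
    ⟨_, rfl⟩
  rw [← hJ] at hP
  have hsymp : ∀ u v : Fin d ⊕ Fin d → F, u ⬝ᵥ J *ᵥ v = sympForm d F u v := by
    intro u v
    rw [hJ]
    rfl
  obtain ⟨M', hM'⟩ : ∃ M' : Matrix (Fin d ⊕ Fin d) (Fin 2 × Fin d) F,
      M' = Matrix.of (fun i (q : Fin 2 × Fin d) => if q.1 = 0 then ef q.2 i else ff q.2 i) :=
    ⟨_, rfl⟩
  have hcol0 : ∀ j, (fun k => M' k (0, j)) = ef j := by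
    intro j
    ext k
    rw [hM']
    simp
  have hcol1 : ∀ j, (fun k => M' k (1, j)) = ff j := by
    intro j
    ext k
    rw [hM']
    simp
  obtain ⟨m, hmdef⟩ : ∃ m : Matrix (Fin 2) (Fin 2) F, m = !![m₀₀, m₀₁; m₁₀, m₁₁] := ⟨_, rfl⟩
  have hm00 : m 0 0 = m₀₀ := by rw [hmdef]; rfl
  have hm01 : m 0 1 = m₀₁ := by rw [hmdef]; rfl
  have hm10 : m 1 0 = m₁₀ := by rw [hmdef]; rfl
  have hm11 : m 1 1 = m₁₁ := by rw [hmdef]; rfl
  -- Gram matrix of the frame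
  have hF1 : M'ᵀ * J * M' = c • (J₁ ⊗ₖ Matrix.diagonal s) := by
    have h : ∀ (i i' : Fin 2) (j j' : Fin d), (M'ᵀ * J * M') (i, j) (i', j') =
        (c • (J₁ ⊗ₖ Matrix.diagonal s)) (i, j) (i', j') := by
      rw [Fin.forall_fin_two]
      refine ⟨?_, ?_⟩ <;> rw [Fin.forall_fin_two] <;> refine ⟨?_, ?_⟩
      · intro j j'
        rw [ts_entry, hcol0, hcol0, hsymp, hee, Matrix.smul_apply, Matrix.kroneckerMap_apply, hJ00,
          zero_mul, smul_zero]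
      · intro j j'
        rw [ts_entry, hcol0, hcol1, hsymp, hef, Matrix.smul_apply, Matrix.kroneckerMap_apply,
          Matrix.diagonal_apply, smul_eq_mul]
        by_cases hjj : j = j'
        · rw [if_pos hjj, if_pos hjj]
          ring
        · rw [if_neg hjj, if_neg hjj, mul_zero, mul_zero]
      · intro j j'
        rw [ts_entry, hcol1, hcol0, hsymp, Cfsg.Agent.Lib.helper17.sympForm_swap d (ef j') (ff j),
          hef, Matrix.smul_apply, Matrix.kroneckerMap_apply, Matrix.diagonal_apply, smul_eq_mul,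
          hJ10]
        by_cases hjj : j = j'
        · rw [if_pos hjj, if_pos hjj.symm, hjj]
          ring
        · rw [if_neg hjj, if_neg (fun h => hjj h.symm), mul_zero, mul_zero, neg_zero]
      · intro j j'
        rw [ts_entry, hcol1, hcol1, hsymp, hff, Matrix.smul_apply, Matrix.kroneckerMap_apply, hJ11,
          zero_mul, smul_zero]
    ext ⟨i, j⟩ ⟨i', j'⟩
    exact h i i' j j'
  -- action of `x` on the frame
  have hsum : ∀ (φ : Fin d → F) (j : Fin d),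
      ∑ j', φ j' * (if j' = j then ε j' else 0) = φ j * ε j := by
    intro φ j
    rw [Finset.sum_eq_single j]
    · rw [if_pos rfl]
    · intro j' _ hj'
      rw [if_neg hj', mul_zero]
    · intro h
      exact absurd (Finset.mem_univ j) h
  have hF2 : (x : Matrix (Fin d ⊕ Fin d) (Fin d ⊕ Fin d) F) * M' =
      M' * (m ⊗ₖ Matrix.diagonal ε) := by
    have h : ∀ (i : Fin 2) (j : Fin d) (k : Fin d ⊕ Fin d),
        ((x : Matrix (Fin d ⊕ Fin d) (Fin d ⊕ Fin d) F) * M') k (i, j) =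
          (M' * (m ⊗ₖ Matrix.diagonal ε)) k (i, j) := by
      rw [Fin.forall_fin_two]
      refine ⟨?_, ?_⟩
      · intro j k
        have h1 : ((x : Matrix (Fin d ⊕ Fin d) (Fin d ⊕ Fin d) F) * M') k (0, j) =
            ((x : Matrix (Fin d ⊕ Fin d) (Fin d ⊕ Fin d) F) *ᵥ (fun l => M' l (0, j))) k := rfl
        rw [h1, hcol0, hXe, Matrix.mul_apply, Fintype.sum_prod_type, Fin.sum_univ_two]
        simp only [Matrix.kroneckerMap_apply, Matrix.diagonal_apply, ← mul_assoc]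
        rw [hsum (fun j' => M' k (0, j') * m 0 0) j, hsum (fun j' => M' k (1, j') * m 1 0) j,
          hm00, hm10]
        have h3 : M' k (0, j) = ef j k := congrFun (hcol0 j) k
        have h4 : M' k (1, j) = ff j k := congrFun (hcol1 j) k
        rw [h3, h4]
        simp only [Pi.smul_apply, Pi.add_apply, smul_eq_mul]
        ring
      · intro j k
        have h1 : ((x : Matrix (Fin d ⊕ Fin d) (Fin d ⊕ Fin d) F) * M') k (1, j) =
            ((x : Matrix (Fin d ⊕ Fin d) (Fin d ⊕ Fin d) F) *ᵥ (fun l => M' l (1, j))) k := rfl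
        rw [h1, hcol1, hXf, Matrix.mul_apply, Fintype.sum_prod_type, Fin.sum_univ_two]
        simp only [Matrix.kroneckerMap_apply, Matrix.diagonal_apply, ← mul_assoc]
        rw [hsum (fun j' => M' k (0, j') * m 0 1) j, hsum (fun j' => M' k (1, j') * m 1 1) j,
          hm01, hm11]
        have h3 : M' k (0, j) = ef j k := congrFun (hcol0 j) k
        have h4 : M' k (1, j) = ff j k := congrFun (hcol1 j) k
        rw [h3, h4]
        simp only [Pi.smul_apply, Pi.add_apply, smul_eq_mul]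
        ring
    ext k ⟨i, j⟩
    exact h i j k
  -- change of basis in the second factor
  obtain ⟨Ci, hCi⟩ : ∃ Ci : Matrix (Fin d) (Fin d) F, Ci = C⁻¹ := ⟨_, rfl⟩
  have hCCi : C * Ci = 1 := by
    rw [hCi]
    exact Matrix.mul_nonsing_inv C (isUnit_iff_ne_zero.2 hCdet)
  have hCiC : Ci * C = 1 := by
    rw [hCi]
    exact Matrix.nonsing_inv_mul C (isUnit_iff_ne_zero.2 hCdet)
  obtain ⟨M, hM⟩ : ∃ M : Matrix (Fin d ⊕ Fin d) (Fin 2 × Fin d) F,
      M = M' * ((1 : Matrix (Fin 2) (Fin 2) F) ⊗ₖ Ci) := ⟨_, rfl⟩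
  obtain ⟨G₂, hG₂⟩ : ∃ G₂ : Matrix (Fin d) (Fin d) F, G₂ = C * Matrix.diagonal ε * Ci :=
    ⟨_, rfl⟩
  have hS₂' : Ciᵀ * Matrix.diagonal s * Ci = S₂ := by
    rw [← hCS]
    calc Ciᵀ * (Cᵀ * S₂ * C) * Ci = (C * Ci)ᵀ * S₂ * (C * Ci) := by
          rw [Matrix.transpose_mul]
          simp only [Matrix.mul_assoc]
      _ = S₂ := by rw [hCCi, Matrix.transpose_one, Matrix.one_mul, Matrix.mul_one]
  have hG1 : Mᵀ * J * M = c • (J₁ ⊗ₖ S₂) := by
    calc Mᵀ * J * M = ((1 : Matrix (Fin 2) (Fin 2) F) ⊗ₖ Ci)ᵀ * (M'ᵀ * J * M') *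
          ((1 : Matrix (Fin 2) (Fin 2) F) ⊗ₖ Ci) := by
          rw [hM, Matrix.transpose_mul]
          simp only [Matrix.mul_assoc]
      _ = ((1 : Matrix (Fin 2) (Fin 2) F) ⊗ₖ Ciᵀ) * (c • (J₁ ⊗ₖ Matrix.diagonal s)) *
          ((1 : Matrix (Fin 2) (Fin 2) F) ⊗ₖ Ci) := by
          rw [hF1, ← Matrix.kroneckerMap_transpose, Matrix.transpose_one]
      _ = c • (((1 : Matrix (Fin 2) (Fin 2) F) * J₁ * 1) ⊗ₖ (Ciᵀ * Matrix.diagonal s * Ci)) := by
          rw [Matrix.mul_smul, Matrix.smul_mul, ← Matrix.mul_kronecker_mul,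
            ← Matrix.mul_kronecker_mul]
      _ = c • (J₁ ⊗ₖ S₂) := by rw [Matrix.one_mul, Matrix.mul_one, hS₂']
  have h9 : Ci * G₂ = Matrix.diagonal ε * Ci := by
    rw [hG₂]
    simp only [← Matrix.mul_assoc]
    rw [hCiC, Matrix.one_mul]
  have hG2 : (x : Matrix (Fin d ⊕ Fin d) (Fin d ⊕ Fin d) F) * M = M * (m ⊗ₖ G₂) := by
    calc (x : Matrix (Fin d ⊕ Fin d) (Fin d ⊕ Fin d) F) * M
        = ((x : Matrix (Fin d ⊕ Fin d) (Fin d ⊕ Fin d) F) * M') *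
            ((1 : Matrix (Fin 2) (Fin 2) F) ⊗ₖ Ci) := by rw [hM, Matrix.mul_assoc]
      _ = M' * ((m * 1) ⊗ₖ (Matrix.diagonal ε * Ci)) := by
          rw [hF2, Matrix.mul_assoc, ← Matrix.mul_kronecker_mul]
      _ = M' * (((1 : Matrix (Fin 2) (Fin 2) F) * m) ⊗ₖ (Ci * G₂)) := by
          rw [Matrix.mul_one, Matrix.one_mul, h9]
      _ = M * (m ⊗ₖ G₂) := by rw [Matrix.mul_kronecker_mul, ← Matrix.mul_assoc, hM]
  -- the GL elements
  obtain ⟨g₁, hg₁⟩ : ∃ g₁ : GL (Fin 2) F, (g₁ : Matrix (Fin 2) (Fin 2) F) = m := by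
    refine ⟨Matrix.GeneralLinearGroup.mkOfDetNeZero m ?_, rfl⟩
    rw [Matrix.det_fin_two, hm00, hm01, hm10, hm11]
    exact hm
  obtain ⟨g₂, hg₂⟩ : ∃ g₂ : GL (Fin d) F, (g₂ : Matrix (Fin d) (Fin d) F) = G₂ := by
    refine ⟨⟨G₂, C * Matrix.diagonal (fun j => (ε j)⁻¹) * Ci, ?_, ?_⟩, rfl⟩
    · rw [hG₂]
      calc C * Matrix.diagonal ε * Ci * (C * Matrix.diagonal (fun j => (ε j)⁻¹) * Ci)
          = C * (Matrix.diagonal ε * (Ci * C) * Matrix.diagonal (fun j => (ε j)⁻¹)) * Ci := by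
            simp only [Matrix.mul_assoc]
        _ = 1 := by
            rw [hCiC, Matrix.mul_one, Matrix.diagonal_mul_diagonal]
            have h1 : (fun i => ε i * (ε i)⁻¹) = fun _ => (1 : F) := by
              ext i
              exact mul_inv_cancel₀ (hε i)
            rw [h1, Matrix.diagonal_one, Matrix.mul_one, hCCi]
    · rw [hG₂]
      calc C * Matrix.diagonal (fun j => (ε j)⁻¹) * Ci * (C * Matrix.diagonal ε * Ci)
          = C * (Matrix.diagonal (fun j => (ε j)⁻¹) * (Ci * C) * Matrix.diagonal ε) * Ci := by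
            simp only [Matrix.mul_assoc]
        _ = 1 := by
            rw [hCiC, Matrix.mul_one, Matrix.diagonal_mul_diagonal]
            have h1 : (fun i => (ε i)⁻¹ * ε i) = fun _ => (1 : F) := by
              ext i
              exact inv_mul_cancel₀ (hε i)
            rw [h1, Matrix.diagonal_one, Matrix.mul_one, hCCi]
  -- reindex
  obtain ⟨A₀, hA₀⟩ : ∃ A₀ : Matrix (Fin d ⊕ Fin d) (Fin d ⊕ Fin d) F, A₀ = M.submatrix id e :=
    ⟨_, rfl⟩
  have hcolA : ∀ i, (fun l => A₀ l i) = fun l => M l (e i) := by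
    intro i
    rw [hA₀]
    rfl
  have hH1 : A₀ᵀ * J * A₀ = (P : Matrix (Fin d ⊕ Fin d) (Fin d ⊕ Fin d) F)ᵀ * J *
      (P : Matrix (Fin d ⊕ Fin d) (Fin d ⊕ Fin d) F) := by
    rw [hP]
    ext i k
    rw [ts_entry, hcolA, hcolA, ← ts_entry, hG1]
    rfl
  have hH2 : (x : Matrix (Fin d ⊕ Fin d) (Fin d ⊕ Fin d) F) * A₀ =
      A₀ * ((g₁ : Matrix (Fin 2) (Fin 2) F) ⊗ₖ (g₂ : Matrix (Fin d) (Fin d) F)).submatrix e e := by
    rw [hg₁, hg₂]
    ext i k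
    have h1 : ((x : Matrix (Fin d ⊕ Fin d) (Fin d ⊕ Fin d) F) * A₀) i k =
        ((x : Matrix (Fin d ⊕ Fin d) (Fin d ⊕ Fin d) F) * M) i (e k) := by
      rw [hA₀]
      rfl
    rw [h1, hG2, Matrix.mul_apply, Matrix.mul_apply, hA₀]
    exact (Equiv.sum_comp e (fun q => M i q * (m ⊗ₖ G₂) q (e k))).symm
  rw [hJ] at hH1
  exact ts_conj_mem_sp e P x g₁ g₂ A₀ hH1 hH2

end Cfsg.Agent.Lib.helper99
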