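import Mathlib
import Cfsg.Agent.Lib.helper99.TsI
import Cfsg.Agent.Lib.helper24.LagCountB

/-!
# Backward direction: elements with scalar square lie in a conjugate of `GL_2 ⊗ GL_b` in `Sp_{2b}(q)`
-/

set_option autoImplicit false

namespace Cfsg.Agent.Lib.helper99

open Module Matrix Cfsg Cfsg.Geo
open scoped Kronecker
open Cfsg.Agent.Lib.helper24

variable {F : Type*} [Field F]

theorem ts_backward [Fintype F] (hodd : Odd (Fintype.card F)) (d b : ℕ) (hab : 2 * d = 2 * b)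
    (hb : 1 ≤ b)
    (e : (Fin d ⊕ Fin d) ≃ Fin 2 × Fin b) (P : GL (Fin d ⊕ Fin d) F)
    (f₁ : (Fin 2 → F) → (Fin 2 → F) → F) (f₂ : (Fin b → F) → (Fin b → F) → F)
    (hf₁ : IsSymplecticForm f₁) (hf₂ : IsSymmetricForm f₂)
    (hS : IsTensorFormStructure id (sympForm d F) f₁ f₂ e P)
    (x : GL (Fin d ⊕ Fin d) F) (hx : x ∈ spGL d F)
    (hxz : ∃ z : F, ((x ^ 2 : GL (Fin d ⊕ Fin d) F) :
      Matrix (Fin d ⊕ Fin d) (Fin d ⊕ Fin d) F) =
        z • (1 : Matrix (Fin d ⊕ Fin d) (Fin d ⊕ Fin d) F)) :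
    ∃ g ∈ spGL d F, g⁻¹ * x * g ∈ tensorProductSubgroup 2 b e P := by
  classical
  obtain rfl : d = b := by omega
  have h2F : (2 : F) ≠ 0 := qe_two_ne_zero_iff_odd.2 hodd
  obtain ⟨c, hc0, hSc⟩ := hS
  obtain ⟨J₁, hJ₁⟩ : ∃ J₁ : Matrix (Fin 2) (Fin 2) F, J₁ = gramMatrix f₁ := ⟨_, rfl⟩
  obtain ⟨S₂, hS₂⟩ : ∃ S₂ : Matrix (Fin d) (Fin d) F, S₂ = gramMatrix f₂ := ⟨_, rfl⟩
  rw [← hJ₁, ← hS₂] at hSc
  have hJ00 : J₁ 0 0 = 0 := by
    rw [hJ₁]
    exact hf₁.alternating _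
  have hJ11 : J₁ 1 1 = 0 := by
    rw [hJ₁]
    exact hf₁.alternating _
  have hJ10 : J₁ 1 0 = -J₁ 0 1 := by
    rw [hJ₁]
    exact hf₁.skew _ _
  have hJ01 : J₁ 0 1 ≠ 0 := by
    intro h0
    have h1 := ts_gram_det f₁ hf₁.bilinear hf₁.nondegenerate
    rw [← hJ₁, Matrix.det_fin_two, hJ00, hJ11, h0] at h1
    simp at h1
  have hSsym : S₂ᵀ = S₂ := by
    rw [hS₂]
    ext i j
    exact hf₂.symm _ _
  have hSdet : S₂.det ≠ 0 := by
    rw [hS₂]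
    exact ts_gram_det f₂ hf₂.bilinear hf₂.nondegenerate
  obtain ⟨C, s, hCdet, hs, hCS⟩ := ts_diag h2F S₂ hSsym hSdet
  have hP : (P : Matrix (Fin d ⊕ Fin d) (Fin d ⊕ Fin d) F)ᵀ * Matrix.J (Fin d) F *
      (P : Matrix (Fin d ⊕ Fin d) (Fin d ⊕ Fin d) F) = c • (J₁ ⊗ₖ S₂).submatrix e e := by
    apply (Matrix.toBilin' (R₁ := F) (n := Fin d ⊕ Fin d)).injective
    apply LinearMap.ext₂
    intro u v
    rw [Matrix.toBilin'_apply', Matrix.toBilin'_apply', ← SpDer.dot_conj]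
    have h1 := hSc (u ∘ e.symm) (v ∘ e.symm)
    rw [Function.comp_assoc, Function.comp_assoc, Equiv.symm_comp_self, Function.comp_id,
      Function.comp_id, ts_formOfGram] at h1
    have h3 : ((P : Matrix (Fin d ⊕ Fin d) (Fin d ⊕ Fin d) F) *ᵥ u) ⬝ᵥ Matrix.J (Fin d) F *ᵥ
        ((P : Matrix (Fin d ⊕ Fin d) (Fin d ⊕ Fin d) F) *ᵥ v) =
        sympForm d F ((P : Matrix (Fin d ⊕ Fin d) (Fin d ⊕ Fin d) F) *ᵥ u)
          ((P : Matrix (Fin d ⊕ Fin d) (Fin d ⊕ Fin d) F) *ᵥ v) := rfl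
    rw [h3, h1, Matrix.smul_mulVec, dotProduct_smul, smul_eq_mul, Matrix.submatrix_mulVec_equiv,
      ← comp_equiv_symm_dotProduct]
  obtain ⟨z, hz⟩ := hxz
  have hzz : z * z = 1 := by
    obtain ⟨u, hu⟩ : ∃ u : Fin d ⊕ Fin d → F, u ≠ 0 := by
      refine ⟨Pi.single (Sum.inl ⟨0, hb⟩) 1, ?_⟩
      intro h
      have h1 := congrFun h (Sum.inl ⟨0, hb⟩)
      rw [Pi.single_eq_same] at h1
      exact one_ne_zero h1
    obtain ⟨w, hw⟩ := Cfsg.Agent.Lib.helper17.exists_sympForm_ne_zero d u hu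
    have hx2 : x ^ 2 ∈ spGL d F := Subgroup.pow_mem _ hx 2
    have h1 := (Cfsg.Agent.Lib.helper95.mem_spGL_iff d (x ^ 2)).1 hx2 u w
    rw [hz, Matrix.smul_mulVec, Matrix.one_mulVec, Matrix.smul_mulVec, Matrix.one_mulVec,
      Cfsg.Agent.Lib.helper17.sympForm_smul_left, Cfsg.Agent.Lib.helper17.sympForm_smul_right,
      ← mul_assoc] at h1
    have h3 : (z * z - 1) * sympForm d F u w = 0 := by rw [sub_mul, h1, one_mul, sub_self]
    rcases mul_eq_zero.1 h3 with h4 | h4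
    · exact sub_eq_zero.1 h4
    · exact absurd h4 hw
  obtain ⟨ω, hω⟩ : ∃ ω : (Fin d ⊕ Fin d → F) →ₗ[F] (Fin d ⊕ Fin d → F) →ₗ[F] F,
      ω = Cfsg.Agent.S0245.omegaJ d F := ⟨_, rfl⟩
  have hωapp : ∀ u v, ω u v = sympForm d F u v := by
    intro u v
    rw [hω, Cfsg.Agent.S0245.omegaJ_apply]
    rfl
  have halt : ∀ v, ω v v = 0 := by
    rw [hω]
    exact Cfsg.Agent.S0245.omegaJ_alt d F
  have hnd : ∀ v, (∀ w, ω v w = 0) → v = 0 := by
    rw [hω]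
    exact Cfsg.Agent.S0245.omegaJ_nondeg d F
  obtain ⟨X, hXdef⟩ : ∃ X : (Fin d ⊕ Fin d → F) →ₗ[F] (Fin d ⊕ Fin d → F),
      X = Matrix.toLin' (x : Matrix (Fin d ⊕ Fin d) (Fin d ⊕ Fin d) F) := ⟨_, rfl⟩
  have hXa : ∀ v, X v = (x : Matrix (Fin d ⊕ Fin d) (Fin d ⊕ Fin d) F) *ᵥ v := fun v => by
    rw [hXdef, Matrix.toLin'_apply]
  have hXiso : ∀ u v, ω (X u) (X v) = ω u v := by
    intro u v
    rw [hωapp, hωapp, hXa, hXa]
    exact (Cfsg.Agent.Lib.helper95.mem_spGL_iff d x).1 hx u v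
  have hXX : ∀ v, X (X v) = z • v := by
    intro v
    rw [hXa, hXa, Matrix.mulVec_mulVec, ← pow_two, ← Units.val_pow_eq_pow_val, hz,
      Matrix.smul_mulVec, Matrix.one_mulVec]
  have hfin : Module.finrank F (Fin d ⊕ Fin d → F) = 2 * d := by
    rw [Module.finrank_fintype_fun_eq_card, Fintype.card_sum, Fintype.card_fin]
    ring
  obtain ⟨κ, hκdef⟩ : ∃ κ : Fin d → F, κ = fun j => c * J₁ 0 1 * s j := ⟨_, rfl⟩
  have hκ : ∀ j, κ j ≠ 0 := by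
    intro j
    rw [hκdef]
    exact mul_ne_zero (mul_ne_zero hc0 hJ01) (hs j)
  have hz' : z = 1 ∨ z = -1 := by
    have h1 : (z - 1) * (z + 1) = 0 := by linear_combination hzz
    rcases mul_eq_zero.1 h1 with h | h
    · left
      exact sub_eq_zero.1 h
    · right
      exact eq_neg_of_add_eq_zero_left h
  rcases hz' with rfl | rfl
  · obtain ⟨ef, ff, ε, hε, hee, hff, hef, hXe, hXf⟩ := ts_frame (1 : F) 0 0 1 1 one_ne_zero
      (fun V _ _ _ _ ω X halt hnd hX hXX κ hκ => ts_loc_one h2F V ω X halt hnd hX hXX κ hκ)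
      d (Fin d ⊕ Fin d → F) ω X halt hnd hXiso hXX hfin κ hκ
    refine ts_assemble e P x J₁ S₂ c hJ00 hJ11 hJ10 hP C s hCdet hCS 1 0 0 1 (by norm_num)
      ef ff ε hε ?_ ?_ ?_ ?_ ?_
    · intro j k
      rw [← hωapp]
      exact hee j k
    · intro j k
      rw [← hωapp]
      exact hff j k
    · intro j k
      rw [← hωapp, hef, hκdef]
    · intro j
      rw [← hXa]
      exact hXe j
    · intro j
      rw [← hXa]
      exact hXf j
  · obtain ⟨ef, ff, ε, hε, hee, hff, hef, hXe, hXf⟩ := ts_frame (0 : F) 1 (-1) 0 (-1)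
      (neg_ne_zero.2 one_ne_zero)
      (fun V _ _ _ _ ω X halt hnd hX hXX κ hκ => ts_loc_neg h2F V ω X halt hnd hX hXX κ hκ)
      d (Fin d ⊕ Fin d → F) ω X halt hnd hXiso hXX hfin κ hκ
    refine ts_assemble e P x J₁ S₂ c hJ00 hJ11 hJ10 hP C s hCdet hCS 0 1 (-1) 0 (by norm_num)
      ef ff ε hε ?_ ?_ ?_ ?_ ?_
    · intro j k
      rw [← hωapp]
      exact hee j k
    · intro j k
      rw [← hωapp]
      exact hff j k
    · intro j k
      rw [← hωapp, hef, hκdef]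
    · intro j
      rw [← hXa]
      exact hXe j
    · intro j
      rw [← hXa]
      exact hXf j

end Cfsg.Agent.Lib.helper99
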