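import Mathlib
import Cfsg.Agent.Lib.helper99.UCentB
import Cfsg.Agent.Lib.helper99.PsuSpecB
import Cfsg.Agent.Lib.helper17.UEichler

set_option autoImplicit false

/-!
# Primes of centralizers of unipotent isometries (helper99)
-/

namespace Cfsg.Agent.Lib.helper99.UCent

open Cfsg Matrix Cfsg.Agent.Lib.helper7 Cfsg.Agent.Lib.helper48 Module

variable {F : Type*} [Field F] [Fintype F] {q : ℕ}

theorem not_dvd_q (hF : Fintype.card F = q ^ 2) (p : ℕ) [Fact p.Prime] [CharP F p]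
    (r : ℕ) [Fact r.Prime] (hrp : r ≠ p) : ¬ r ∣ q := by
  have hp : p.Prime := Fact.out
  have hr : r.Prime := Fact.out
  intro hdiv
  obtain ⟨k, -, hk⟩ := FiniteField.card F p
  have h2 : r ∣ Fintype.card F := by rw [hF]; exact dvd_pow hdiv (by norm_num)
  rw [hk] at h2
  exact hrp ((Nat.prime_dvd_prime_iff_eq hr hp).mp (hr.dvd_of_dvd_pow h2))

theorem char_dvd_q (hF : Fintype.card F = q ^ 2) (p : ℕ) [Fact p.Prime] [CharP F p] : p ∣ q := by
  have hp : p.Prime := Fact.out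
  obtain ⟨k, -, hk⟩ := FiniteField.card F p
  have h2 : p ∣ Fintype.card F := by
    rw [hk]; exact dvd_pow_self p (by simp)
  rw [hF] at h2
  exact hp.dvd_of_dvd_pow h2

omit [Fintype F] in
theorem iterate_mulVec {m : ℕ} (C : Matrix (Fin m) (Fin m) F) (k : ℕ) (x : Fin m → F) :
    (fun y : Fin m → F => C *ᵥ y)^[k] x = (C ^ k) *ᵥ x := by
  induction k with
  | zero => simp
  | succ k ih =>
    rw [Function.iterate_succ_apply', ih, pow_succ', Matrix.mulVec_mulVec]

/-- the key arithmetic statement: a prime `r ≠ p` with an isometry of order `r` commuting with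
a non-scalar isometry `A` with `A - μ` nilpotent -/
theorem key_mat (hF : Fintype.card F = q ^ 2) (p : ℕ) [Fact p.Prime] [CharP F p] {m : ℕ}
    (hm : 4 ≤ m) (r : ℕ) [Fact r.Prime] (hrp : r ≠ p)
    (A C : Matrix (Fin m) (Fin m) F) (hA : IsIsom m q A) (hC : IsIsom m q C)
    (hCr : C ^ r = 1) (hC1 : C ≠ 1) (hAC : A * C = C * A) (μ : F) (hμ0 : μ ≠ 0)
    (hNp : (A - μ • (1 : Matrix (Fin m) (Fin m) F)) ^ p = 0)
    (hN0 : A - μ • (1 : Matrix (Fin m) (Fin m) F) ≠ 0) :
    ∃ w, 1 ≤ w ∧ w ≤ m - 2 ∧ ((q : ZMod r) = 1 ∨ (q : ZMod r) ^ w = (-1) ^ w) := by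
  classical
  have hp : p.Prime := Fact.out
  have hr : r.Prime := Fact.out
  have hq2 := two_le_of_card_sq hF
  obtain ⟨σ, hσ, hσne, hσ2⟩ := Cfsg.Agent.Lib.helper17.exists_frob' hF
  have hAs : cstar σ A * A = 1 := (PsuSpec.isIsom_iff_cstar q (by omega) σ hσ A).1 hA
  have hCs : cstar σ C * C = 1 := (PsuSpec.isIsom_iff_cstar q (by omega) σ hσ C).1 hC
  have hμn : σ μ * μ = 1 := mu_norm p σ (by omega) A hAs μ hNp
  set N := μ⁻¹ • (A - μ • (1 : Matrix (Fin m) (Fin m) F)) with hN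
  have h1N : 1 + N = μ⁻¹ • A := by
    rw [hN, smul_sub, smul_smul, inv_mul_cancel₀ hμ0, one_smul]; abel
  have hμi : σ μ⁻¹ * μ⁻¹ = 1 := by
    rw [map_inv₀, ← mul_inv, hμn, inv_one]
  have hu : cstar σ (1 + N) * (1 + N) = 1 := by
    rw [h1N, cstar_smul, Matrix.smul_mul, Matrix.mul_smul, smul_smul, hAs, hμi, one_smul]
  have hNp' : N ^ p = 0 := by rw [hN, smul_pow, hNp, smul_zero]
  have hN0' : N ≠ 0 := by
    rw [hN]; exact smul_ne_zero (inv_ne_zero hμ0) hN0
  have hNC : N * C = C * N := by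
    rw [hN, Matrix.smul_mul, Matrix.mul_smul, sub_mul, mul_sub, hAC]; simp
  have hrF : (r : F) ≠ 0 := by
    intro h0
    have := (CharP.cast_eq_zero_iff F p r).1 h0
    exact hrp ((Nat.prime_dvd_prime_iff_eq hp hr).1 this).symm
  obtain ⟨X, hX, hCX, hfixX, hX0, hker⟩ :=
    exists_herm σ hσne hσ2 p hm r hrF N C hu hNp' hN0' hCs hCr hC1 hNC
  obtain ⟨w, hw, hcard⟩ := card_isotropic hF σ hσ hσne hσ2 X hX
  -- fixed points
  have hmod := card_modEq_of_fix r (fun x : Fin m → F => C *ᵥ x)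
    (by intro x; rw [iterate_mulVec, hCr, Matrix.one_mulVec])
    {x : Fin m → F | hermForm m F q (X *ᵥ x) x = 0}
    (by
      intro x hx
      show hermForm m F q (X *ᵥ (C *ᵥ x)) (C *ᵥ x) = 0
      have hx' : hermForm m F q (X *ᵥ x) x = 0 := hx
      rw [Matrix.mulVec_mulVec, ← hCX, ← Matrix.mulVec_mulVec, hC, hx'])
    (by
      intro x hx
      show hermForm m F q (X *ᵥ x) x = 0
      rw [hfixX x hx]
      simp [hermForm])
  have hcard2 : Nat.card {x : Fin m → F | hermForm m F q (X *ᵥ x) x = 0}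
      = (q ^ 2) ^ (m - w) * (hermCount q w).2 := hcard
  have hcard3 : Nat.card (Fin m → F) = (q ^ 2) ^ m := by
    rw [Nat.card_eq_fintype_card, Fintype.card_fun, hF, Fintype.card_fin]
  rw [hcard2, hcard3] at hmod
  -- w ≥ 1
  have hw1 : 1 ≤ w := by
    by_contra hcon
    have hw0 : w = 0 := by omega
    rw [hw0, zero_add] at hw
    have htop : LinearMap.ker (Matrix.toLin' X) = ⊤ := by
      apply Submodule.eq_top_of_finrank_eq
      rw [hw, Module.finrank_fin_fun]
    apply hX0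
    have h0 : Matrix.toLin' X = 0 := LinearMap.ker_eq_top.1 htop
    have := congrArg (LinearMap.toMatrix' ) h0
    simpa using this
  have hw2 : w ≤ m - 2 := by omega
  refine ⟨w, hw1, hw2, ?_⟩
  -- arithmetic
  have hQ0 : (q : ZMod r) ≠ 0 := by
    rw [Ne, ZMod.natCast_eq_zero_iff]
    exact not_dvd_q hF p r hrp
  have hz := (ZMod.natCast_eq_natCast_iff _ _ r).2 hmod
  push_cast at hz
  obtain ⟨n, rfl⟩ : ∃ n, w = n + 1 := ⟨w - 1, by omega⟩
  have hcl := (hermCount_closed q hq2 n).2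
  have hcl2 : ((hermCount q (n + 1)).2 : ZMod r)
      = (q : ZMod r) ^ (2 * n + 1) - (-1) ^ n * (q : ZMod r) ^ (n + 1)
        + (-1) ^ n * (q : ZMod r) ^ n := by
    have := congrArg (Int.cast : ℤ → ZMod r) hcl
    push_cast at this
    exact this
  rw [hcl2] at hz
  have hsplit : ((q : ZMod r) ^ 2) ^ m
      = ((q : ZMod r) ^ 2) ^ (m - (n + 1)) * ((q : ZMod r) ^ 2) ^ (n + 1) := by
    rw [← pow_add]
    congr 1
    omega
  rw [hsplit] at hz
  have hz2 := mul_left_cancel₀ (pow_ne_zero _ (pow_ne_zero 2 hQ0)) hz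
  have hz3 : (q : ZMod r) ^ n * (((q : ZMod r) - 1) * ((q : ZMod r) ^ (n + 1) + (-1) ^ n)) = 0 := by
    have : (q : ZMod r) ^ n * (((q : ZMod r) - 1) * ((q : ZMod r) ^ (n + 1) + (-1) ^ n))
        = ((q : ZMod r) ^ 2) ^ (n + 1) - ((q : ZMod r) ^ (2 * n + 1)
          - (-1) ^ n * (q : ZMod r) ^ (n + 1) + (-1) ^ n * (q : ZMod r) ^ n) := by
      ring
    rw [this, hz2, sub_self]
  rcases mul_eq_zero.1 hz3 with h | h
  · exact absurd h (pow_ne_zero _ hQ0)
  · rcases mul_eq_zero.1 h with h | h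
    · left; exact sub_eq_zero.1 h
    · right
      rw [pow_succ (-1 : ZMod r) n]
      linear_combination h

/-- the order of `SU_n(q)` without the factor `q + 1` -/
theorem card_SU' (hF : Fintype.card F = q ^ 2) (n : ℕ) :
    Nat.card (SU (n + 1) F q)
      = q ^ ((n + 1) * n / 2)
        * ∏ i ∈ Finset.range n, (if Even (i + 1) then q ^ (i + 2) + 1 else q ^ (i + 2) - 1) := by
  have h := card_SU hF (n + 1) (by omega)
  rw [Finset.prod_range_succ'] at h
  simp only [Nat.add_sub_cancel, Even.zero, if_true, zero_add, pow_one] at h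
  have hq : 0 < q + 1 := by omega
  apply Nat.eq_of_mul_eq_mul_left hq
  rw [h]
  ring

/-- the primes found by `key_mat` divide the order of `SU_n(q)` -/
theorem dvd_card_SU (hF : Fintype.card F = q ^ 2) (n : ℕ) (hn : 2 ≤ n) (r : ℕ) [Fact r.Prime]
    (w : ℕ) (hw1 : 1 ≤ w) (hwn : w ≤ n)
    (h : (q : ZMod r) = 1 ∨ (q : ZMod r) ^ w = (-1) ^ w) :
    r ∣ Nat.card (SU n F q) := by
  have hq2 := two_le_of_card_sq hF
  obtain ⟨k, rfl⟩ : ∃ k, n = k + 1 := ⟨n - 1, by omega⟩
  rw [card_SU' hF k]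
  apply Dvd.dvd.mul_left
  have hq1 : ∀ j, 1 ≤ q ^ j := fun j => Nat.one_le_pow _ _ (by omega)
  -- the factor for `q ^ 2 - 1`
  have hsq : r ∣ q ^ 2 - 1 →
      r ∣ ∏ i ∈ Finset.range k, (if Even (i + 1) then q ^ (i + 2) + 1 else q ^ (i + 2) - 1) := by
    intro hdiv
    have hmem : 0 ∈ Finset.range k := Finset.mem_range.2 (by omega)
    refine Dvd.dvd.trans ?_ (Finset.dvd_prod_of_mem _ hmem)
    simpa using hdiv
  have hcast : ∀ j, ((q ^ j - 1 : ℕ) : ZMod r) = (q : ZMod r) ^ j - 1 := by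
    intro j
    rw [Nat.cast_sub (hq1 j)]
    push_cast
    ring
  rcases h with h | h
  · apply hsq
    rw [← ZMod.natCast_eq_zero_iff, hcast, h]
    ring
  · rcases Nat.lt_or_ge w 2 with hw | hw
    · have : w = 1 := by omega
      subst this
      apply hsq
      rw [← ZMod.natCast_eq_zero_iff, hcast]
      rw [pow_one, pow_one] at h
      rw [h]
      ring
    · have hmem : w - 2 ∈ Finset.range k := Finset.mem_range.2 (by omega)
      refine Dvd.dvd.trans ?_ (Finset.dvd_prod_of_mem _ hmem)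
      have e1 : w - 2 + 1 = w - 1 := by omega
      have e2 : w - 2 + 2 = w := by omega
      rw [e1, e2]
      by_cases hev : Even (w - 1)
      · rw [if_pos hev]
        have hodd : Odd w := by
          obtain ⟨t, ht⟩ := hev
          exact ⟨t, by omega⟩
        rw [hodd.neg_one_pow] at h
        rw [← ZMod.natCast_eq_zero_iff]
        push_cast
        rw [h]
        ring
      · rw [if_neg hev]
        have hev2 : Even w := by
          rcases Nat.even_or_odd w with h1 | h1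
          · exact h1
          · exfalso
            apply hev
            obtain ⟨t, ht⟩ := h1
            exact ⟨t, by omega⟩
        rw [hev2.neg_one_pow] at h
        rw [← ZMod.natCast_eq_zero_iff, hcast, h]
        ring

/-- the characteristic divides the order of `SU_n(q)`, `n ≥ 2` -/
theorem char_dvd_card_SU (hF : Fintype.card F = q ^ 2) (p : ℕ) [Fact p.Prime] [CharP F p]
    (n : ℕ) (hn : 2 ≤ n) : p ∣ Nat.card (SU n F q) := by
  obtain ⟨k, rfl⟩ : ∃ k, n = k + 1 := ⟨n - 1, by omega⟩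
  rw [card_SU' hF k]
  apply Dvd.dvd.mul_right
  have h1 : 1 ≤ (k + 1) * k / 2 := by
    rw [Nat.le_div_iff_mul_le (by norm_num)]
    nlinarith
  exact (char_dvd_q hF p).trans (dvd_pow_self q (by omega))

end Cfsg.Agent.Lib.helper99.UCent
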