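import Cfsg.Agent.Lib.helper99.UGen1

/-!
Generation of `SU_n(q)` by unitary transvections, part 2: field facts, hyperbolic partners, non-isotropic
vectors in orthogonal complements.
-/

set_option autoImplicit false

namespace Cfsg.Agent.Lib.helper99

open Cfsg Matrix Cfsg.Agent.Lib.helper17

section
variable {F : Type*} [Field F] [Fintype F] {q : ℕ} (hF : Fintype.card F = q ^ 2)
include hF

/-- A non-zero element with `κ ^ q = -κ`. -/
theorem exists_skew_ne_zero : ∃ κ : F, κ ≠ 0 ∧ κ ^ q = -κ := by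
  obtain ⟨a, ha⟩ := exists_pow_q_ne hF
  refine ⟨a - a ^ q, sub_ne_zero.mpr (Ne.symm ha), ?_⟩
  rw [sub_pow_q hF, pow_q_pow_q hF]
  ring

theorem exists_trace_one : ∃ α : F, α + α ^ q = 1 := exists_trace_eq hF 1 (one_pow q)

/-- Surjectivity of the norm onto the non-zero fixed elements. -/
theorem exists_norm_eq (β : F) (hβ0 : β ≠ 0) (hβ : β ^ q = β) : ∃ c : F, c * c ^ q = β := by
  obtain ⟨σ, hσ, hne, hinv⟩ := exists_frob' hF
  obtain ⟨c, hc⟩ := norm_surj σ hne hinv β hβ0 (by rw [hσ, hβ])
  exact ⟨c, by rw [← hσ]; exact hc⟩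

/-- For `q ≥ 3` the fixed field has an element other than `0` and `1`. -/
theorem exists_fixed_ne (hq : 3 ≤ q) : ∃ a : F, a ^ q = a ∧ a ≠ 0 ∧ a ≠ 1 := by
  classical
  have h := Cfsg.Agent.Lib.helper7.card_norm_fiber hF (1 : F) one_ne_zero (one_pow q)
  obtain ⟨x, hx⟩ : ∃ x : F, x ∉ insert (0 : F) (Finset.univ.filter (fun x : F => x * x ^ q = 1)) := by
    by_contra hcon
    push Not at hcon
    have h1 : (Finset.univ : Finset F) ⊆
        insert (0 : F) (Finset.univ.filter (fun x : F => x * x ^ q = 1)) := fun x _ => hcon x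
    have h2 := Finset.card_le_card h1
    have h3 := Finset.card_insert_le (0 : F) (Finset.univ.filter (fun x : F => x * x ^ q = 1))
    rw [Finset.card_univ, hF] at h2
    rw [h] at h3
    nlinarith
  rw [Finset.mem_insert, not_or] at hx
  obtain ⟨hx0, hx1⟩ := hx
  refine ⟨x * x ^ q, ?_, ?_, ?_⟩
  · rw [mul_pow, pow_q_pow_q hF, mul_comm]
  · exact mul_ne_zero hx0 (pow_ne_zero _ hx0)
  · intro h1
    apply hx1
    simp [h1]

theorem hermForm_self_fixed (n : ℕ) (v : Fin n → F) :
    (hermForm n F q v v) ^ q = hermForm n F q v v := hermForm_conj hF n v v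

/-- Making a vector pairing to `1` with an isotropic vector `u` isotropic, by adding a multiple of
`u`. -/
theorem exists_iso_shift (n : ℕ) (u v : Fin n → F) (huu : hermForm n F q u u = 0)
    (hvu : hermForm n F q v u = 1) :
    ∃ a : F, hermForm n F q (v + a • u) (v + a • u) = 0 := by
  have huv := hermForm_eq_one_symm hF n v u hvu
  obtain ⟨a, ha⟩ := exists_trace_eq hF (-(hermForm n F q v v))
    (by rw [neg_pow_q hF, hermForm_self_fixed hF])
  refine ⟨a, ?_⟩
  simp only [hermForm_add_left, hermForm_add_right hF, hermForm_smul_left, hermForm_smul_right, huu,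
    hvu, huv]
  linear_combination ha

omit [Fintype F] hF in
/-- A vector pairing to `1` with a given non-zero vector. -/
theorem exists_pair_one (n : ℕ) (u : Fin n → F) (hu : u ≠ 0) :
    ∃ v : Fin n → F, hermForm n F q v u = 1 := by
  classical
  obtain ⟨i, hi⟩ : ∃ i, u i ≠ 0 := by
    by_contra hcon
    push Not at hcon
    exact hu (funext hcon)
  refine ⟨((u i) ^ q)⁻¹ • Pi.single i 1, ?_⟩
  rw [hermForm_smul_left, hermForm_single_left, inv_mul_cancel₀ (pow_ne_zero _ hi)]

/-- An isotropic hyperbolic partner of `u` orthogonal to a non-isotropic `y ⊥ u`. -/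
theorem exists_partner_orth (n : ℕ) (u y : Fin n → F) (hu : u ≠ 0)
    (huu : hermForm n F q u u = 0) (hyu : hermForm n F q y u = 0)
    (hyy : hermForm n F q y y ≠ 0) :
    ∃ w : Fin n → F, hermForm n F q w w = 0 ∧ hermForm n F q u w = 1 ∧ hermForm n F q y w = 0 := by
  obtain ⟨v₀, hv₀⟩ := exists_pair_one (q := q) n u hu
  have huy := hermForm_eq_zero_symm hF n y u hyu
  obtain ⟨v, hv⟩ : ∃ v : Fin n → F,
      v = v₀ - (hermForm n F q v₀ y / hermForm n F q y y) • y := ⟨_, rfl⟩
  have hvu : hermForm n F q v u = 1 := by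
    rw [hv, hermForm_sub_left, hermForm_smul_left, hv₀, hyu]
    ring
  have hvy : hermForm n F q v y = 0 := by
    rw [hv, hermForm_sub_left, hermForm_smul_left]
    field_simp
    ring
  obtain ⟨a, ha⟩ := exists_iso_shift hF n u v huu hvu
  refine ⟨v + a • u, ha, ?_, ?_⟩
  · apply hermForm_eq_one_symm hF
    rw [hermForm_add_left, hermForm_smul_left, hvu, huu]
    ring
  · apply hermForm_eq_zero_symm hF
    rw [hermForm_add_left, hermForm_smul_left, hvy, huy]
    ring

/-- An isotropic hyperbolic partner of a non-zero isotropic vector. -/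
theorem exists_partner (n : ℕ) (u : Fin n → F) (hu : u ≠ 0) (huu : hermForm n F q u u = 0) :
    ∃ w : Fin n → F, hermForm n F q w w = 0 ∧ hermForm n F q u w = 1 := by
  obtain ⟨v, hvu⟩ := exists_pair_one (q := q) n u hu
  obtain ⟨a, ha⟩ := exists_iso_shift hF n u v huu hvu
  refine ⟨v + a • u, ha, ?_⟩
  apply hermForm_eq_one_symm hF
  rw [hermForm_add_left, hermForm_smul_left, hvu, huu]
  ring

/-- Orthogonality to a set passes to its span. -/
theorem orth_span (n : ℕ) (z : Fin n → F) (s : Set (Fin n → F))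
    (h : ∀ x ∈ s, hermForm n F q z x = 0) :
    ∀ x ∈ Submodule.span F s, hermForm n F q z x = 0 := by
  intro x hx
  induction hx using Submodule.span_induction with
  | mem x hx => exact h x hx
  | zero => exact hermForm_zero_right hF n z
  | add a b _ _ ha hb => rw [hermForm_add_right hF, ha, hb, add_zero]
  | smul a x _ hx => rw [hermForm_smul_right, hx, mul_zero]

/-- A non-isotropic vector orthogonal to a proper subspace `S` admitting a projection onto its
orthogonal complement. -/
theorem exists_orth_noniso (n : ℕ) (S : Submodule F (Fin n → F)) (hS : Module.finrank F S < n)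
    (π : (Fin n → F) → (Fin n → F)) (h1 : ∀ x, x - π x ∈ S)
    (h2 : ∀ x, ∀ s ∈ S, hermForm n F q (π x) s = 0) :
    ∃ s₀ : Fin n → F, (∀ s ∈ S, hermForm n F q s₀ s = 0) ∧ hermForm n F q s₀ s₀ ≠ 0 := by
  classical
  have hq2 := two_le_of_card_eq_sq hF
  obtain ⟨x, hx⟩ : ∃ x : Fin n → F, x ∉ S := by
    by_contra hcon
    push Not at hcon
    have : S = ⊤ := Submodule.eq_top_iff'.mpr hcon
    rw [this, finrank_top, Module.finrank_fin_fun] at hS
    exact lt_irrefl _ hS
  have hx0 : π x ≠ 0 := by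
    intro h
    apply hx
    have := h1 x
    rwa [h, sub_zero] at this
  obtain ⟨i, hi⟩ : ∃ i, π x i ≠ 0 := by
    by_contra hcon
    push Not at hcon
    exact hx0 (funext hcon)
  have hr : hermForm n F q (π x) (π (Pi.single i 1)) ≠ 0 := by
    have e : π (Pi.single i 1) = Pi.single i 1 - (Pi.single i 1 - π (Pi.single i 1)) := by abel
    rw [e, hermForm_sub_right hF, h2 x _ (h1 _),
      Cfsg.Agent.Lib.helper7.herm_single_right (by omega), sub_zero]
    exact hi
  by_cases h00 : hermForm n F q (π x) (π x) = 0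
  swap
  · exact ⟨π x, h2 x, h00⟩
  by_cases h11 : hermForm n F q (π (Pi.single i 1)) (π (Pi.single i 1)) = 0
  swap
  · exact ⟨π (Pi.single i 1), h2 _, h11⟩
  obtain ⟨α, hα⟩ := exists_trace_one hF
  obtain ⟨r, hr'⟩ : ∃ r : F, r = hermForm n F q (π x) (π (Pi.single i 1)) := ⟨_, rfl⟩
  rw [← hr'] at hr
  have hr2 : hermForm n F q (π (Pi.single i 1)) (π x) = r ^ q := by
    rw [hr', hermForm_conj hF]
  refine ⟨π x + ((α / r) ^ q) • π (Pi.single i 1), ?_, ?_⟩
  · intro s hs
    rw [hermForm_add_left, hermForm_smul_left, h2 x s hs, h2 _ s hs]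
    ring
  · simp only [hermForm_add_left, hermForm_add_right hF, hermForm_smul_left, hermForm_smul_right,
      h00, h11, ← hr', hr2, pow_q_pow_q hF, div_pow]
    have hrq : r ^ q ≠ 0 := pow_ne_zero _ hr
    intro hzero
    have e : (1 : F) = 0 := by
      rw [← hα, ← hzero]
      field_simp
      ring
    exact one_ne_zero e

/-- A vector of prescribed norm orthogonal to such a subspace. -/
theorem exists_orth_norm (n : ℕ) (S : Submodule F (Fin n → F)) (hS : Module.finrank F S < n)
    (π : (Fin n → F) → (Fin n → F)) (h1 : ∀ x, x - π x ∈ S)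
    (h2 : ∀ x, ∀ s ∈ S, hermForm n F q (π x) s = 0) (γ : F) (hγ : γ ^ q = γ) :
    ∃ s₀ : Fin n → F, (∀ s ∈ S, hermForm n F q s₀ s = 0) ∧ hermForm n F q s₀ s₀ = γ := by
  by_cases hγ0 : γ = 0
  · refine ⟨0, fun s _ => hermForm_zero_left n q s, ?_⟩
    rw [hermForm_zero_left, hγ0]
  obtain ⟨s₁, hs₁, hs₁n⟩ := exists_orth_noniso hF n S hS π h1 h2
  obtain ⟨c, hc⟩ := exists_norm_eq hF (γ / hermForm n F q s₁ s₁) (div_ne_zero hγ0 hs₁n)
    (by rw [div_pow, hγ, hermForm_self_fixed hF])
  refine ⟨c • s₁, ?_, ?_⟩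
  · intro s hs
    rw [hermForm_smul_left, hs₁ s hs, mul_zero]
  · rw [hermForm_smul_left, hermForm_smul_right, ← mul_assoc, hc]
    field_simp

end

end Cfsg.Agent.Lib.helper99
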