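import Cfsg.Agent.Lib.helper99.UGen2

/-!
Generation of `SU_n(q)` by unitary transvections, part 3: the Eichler elements `E(u; y, β)` lie in the
subgroup `TU` generated by the transvections (`n ≥ 4`, or `q ≥ 3`).
-/

set_option autoImplicit false

namespace Cfsg.Agent.Lib.helper99

open Cfsg Matrix Cfsg.Agent.Lib.helper17

section
variable {F : Type*} [Field F] [Fintype F] {q : ℕ} (hF : Fintype.card F = q ^ 2)
include hF

/-- Changing the scalar parameter of an Eichler element inside `TU`. -/
theorem InT_eich_adjust (n : ℕ) (u y : Fin n → F) (β β' : F) (huu : hermForm n F q u u = 0)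
    (hyu : hermForm n F q y u = 0) (hβ : β + β ^ q + hermForm n F q y y = 0)
    (hβ' : β' + β' ^ q + hermForm n F q y y = 0) (h : InT n q (eichlerU n q u y β)) :
    InT n q (eichlerU n q u y β') := by
  have h0u : hermForm n F q (0 : Fin n → F) u = 0 := hermForm_zero_left n q u
  have e : eichlerU n q u y β' = eichlerU n q u y β * eichlerU n q u 0 (β' - β) := by
    rw [eichlerU_mul hF n u y 0 β (β' - β) huu hyu h0u, add_zero, hermForm_zero_left]
    congr 1
    ring
  rw [e, eichlerU_zero hF]
  refine h.mul (transv_InT hF n u (β' - β) huu ?_)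
  rw [sub_pow_q hF]
  linear_combination hβ' - hβ

/-- Eichler elements with isotropic `y` are products of transvections. -/
theorem eich_InT_iso (n : ℕ) (u y : Fin n → F) (β : F) (huu : hermForm n F q u u = 0)
    (hyu : hermForm n F q y u = 0) (hyy : hermForm n F q y y = 0)
    (hβ : β + β ^ q + hermForm n F q y y = 0) : InT n q (eichlerU n q u y β) := by
  obtain ⟨c, hc0, hc⟩ := exists_skew_ne_zero hF
  have huy := hermForm_eq_zero_symm hF n y u hyu
  have hci : (c⁻¹) ^ q = -c⁻¹ := by rw [inv_pow, hc, inv_neg]
  have hiso : hermForm n F q (u + c⁻¹ • y) (u + c⁻¹ • y) = 0 := by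
    simp only [hermForm_add_left, hermForm_add_right hF, hermForm_smul_left, hermForm_smul_right,
      huu, hyu, huy, hyy]
    ring
  have e : eichlerU n q u y c =
      unitaryTransvection n q (u + c⁻¹ • y) c * unitaryTransvection n q y c⁻¹ := by
    rw [Matrix.ext_iff_mulVec]
    intro x
    rw [← Matrix.mulVec_mulVec]
    simp only [eichlerU_mulVec, unitaryTransvection_mulVec, hermForm_add_left,
      hermForm_add_right hF, hermForm_smul_left, hermForm_smul_right, huu, hyu, huy, hyy, hci]
    ext i
    simp only [Pi.add_apply, Pi.sub_apply, Pi.smul_apply, smul_eq_mul]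
    field_simp
    ring
  have h1 : InT n q (eichlerU n q u y c) := by
    rw [e]
    exact (transv_InT hF n _ c hiso hc).mul (transv_InT hF n y c⁻¹ hyy hci)
  exact InT_eich_adjust hF n u y c β huu hyu (by rw [hc, hyy]; ring) hβ h1

/-- In dimension at least four all Eichler elements are products of transvections. -/
theorem eich_InT_n4 (n : ℕ) (hn : 4 ≤ n) (u y : Fin n → F) (β : F) (hu : u ≠ 0)
    (huu : hermForm n F q u u = 0) (hyu : hermForm n F q y u = 0)
    (hβ : β + β ^ q + hermForm n F q y y = 0) : InT n q (eichlerU n q u y β) := by
  classical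
  have hq2 := two_le_of_card_eq_sq hF
  by_cases hyy : hermForm n F q y y = 0
  · exact eich_InT_iso hF n u y β huu hyu hyy hβ
  have huy := hermForm_eq_zero_symm hF n y u hyu
  obtain ⟨w, hww, huw, hyw⟩ := exists_partner_orth hF n u y hu huu hyu hyy
  have hwu := hermForm_eq_one_symm hF n u w huw
  have hwy := hermForm_eq_zero_symm hF n y w hyw
  obtain ⟨s, hs, hss⟩ := exists_orth_norm hF n
    (Submodule.span F (({u, w, y} : Finset (Fin n → F)) : Set (Fin n → F)))
    (lt_of_le_of_lt (finrank_span_finset_le_card _)
      (lt_of_le_of_lt Finset.card_le_three (by omega)))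
    (fun x => x - hermForm n F q x w • u - hermForm n F q x u • w -
      (hermForm n F q x y / hermForm n F q y y) • y)
    (fun x => by
      have : x - (x - hermForm n F q x w • u - hermForm n F q x u • w -
          (hermForm n F q x y / hermForm n F q y y) • y) =
          hermForm n F q x w • u + hermForm n F q x u • w +
            (hermForm n F q x y / hermForm n F q y y) • y := by abel
      rw [this]
      exact Submodule.add_mem _ (Submodule.add_mem _
        (Submodule.smul_mem _ _ (Submodule.subset_span (by simp)))
        (Submodule.smul_mem _ _ (Submodule.subset_span (by simp))))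
        (Submodule.smul_mem _ _ (Submodule.subset_span (by simp))))
    (fun x => orth_span hF n _ _ (by
      intro z hz
      simp only [Finset.coe_insert, Finset.coe_singleton, Set.mem_insert_iff,
        Set.mem_singleton_iff] at hz
      rcases hz with hz | hz | hz
      · rw [hz]
        simp only [hermForm_sub_left, hermForm_smul_left, huu, hwu, hyu]
        ring
      · rw [hz]
        simp only [hermForm_sub_left, hermForm_smul_left, huw, hww, hyw]
        ring
      · rw [hz]
        simp only [hermForm_sub_left, hermForm_smul_left, huy, hwy]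
        field_simp
        ring))
    (-(hermForm n F q y y)) (by rw [neg_pow_q hF, hermForm_self_fixed hF])
  have hsu : hermForm n F q s u = 0 := hs u (Submodule.subset_span (by simp))
  have hsy : hermForm n F q s y = 0 := hs y (Submodule.subset_span (by simp))
  have hus := hermForm_eq_zero_symm hF n s u hsu
  have hys := hermForm_eq_zero_symm hF n s y hsy
  obtain ⟨l, hl⟩ := exists_trace_one hF
  have hz : hermForm n F q (y + s) (y + s) = 0 := by
    simp only [hermForm_add_left, hermForm_add_right hF, hsy, hys, hss]
    ring
  have hzu : hermForm n F q (y + s) u = 0 := by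
    rw [hermForm_add_left, hyu, hsu, add_zero]
  have h2u : hermForm n F q (l • (y + s)) u = 0 := by rw [hermForm_smul_left, hzu, mul_zero]
  have h22 : hermForm n F q (l • (y + s)) (l • (y + s)) = 0 := by
    rw [hermForm_smul_left, hermForm_smul_right, hz]
    ring
  have h1u : hermForm n F q (y - l • (y + s)) u = 0 := by
    rw [hermForm_sub_left, hyu, h2u, sub_zero]
  have h11 : hermForm n F q (y - l • (y + s)) (y - l • (y + s)) = 0 := by
    simp only [hermForm_sub_left, hermForm_sub_right hF, hermForm_add_left, hermForm_add_right hF,
      hermForm_smul_left, hermForm_smul_right, hsy, hys, hss]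
    linear_combination (-(hermForm n F q y y)) * hl
  have hE1 := eich_InT_iso hF n u (y - l • (y + s)) 0 huu h1u h11
    (by rw [h11, zero_pow (by omega)]; ring)
  have hE2 := eich_InT_iso hF n u (l • (y + s)) 0 huu h2u h22
    (by rw [h22, zero_pow (by omega)]; ring)
  have hmul := eichlerU_mul hF n u (y - l • (y + s)) (l • (y + s)) 0 0 huu h1u h2u
  have hsum : y - l • (y + s) + l • (y + s) = y := by abel
  rw [hsum] at hmul
  have h3 : InT n q (eichlerU n q u y
      (0 + 0 - hermForm n F q (l • (y + s)) (y - l • (y + s)))) := by
    rw [← hmul]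
    exact hE1.mul hE2
  refine InT_eich_adjust hF n u y _ β huu hyu ?_ hβ h3
  have hval : hermForm n F q (l • (y + s)) (y - l • (y + s)) = l * hermForm n F q y y := by
    simp only [hermForm_sub_right hF, hermForm_add_left, hermForm_add_right hF, hermForm_smul_left,
      hermForm_smul_right, hsy, hys, hss]
    ring
  rw [hval, zero_add, zero_sub, neg_pow_q hF, mul_pow, hermForm_self_fixed hF]
  linear_combination (-(hermForm n F q y y)) * hl

end

end Cfsg.Agent.Lib.helper99
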