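import Cfsg.Agent.Lib.helper99.UGen3

/-!
Generation of `SU_n(q)` by unitary transvections, part 4: the torus elements of a hyperbolic pair lie in
`TU`; for `q ≥ 3` all Eichler elements lie in `TU`.
-/

set_option autoImplicit false

namespace Cfsg.Agent.Lib.helper99

open Cfsg Matrix Cfsg.Agent.Lib.helper17

section
variable {F : Type*} [Field F] [Fintype F] {q : ℕ} (hF : Fintype.card F = q ^ 2)
include hF

/-- The torus element `u ↦ a u`, `w ↦ a⁻¹ w` of a hyperbolic pair `(u, w)`, for `a` in the fixed field,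
is a product of transvections. -/
theorem exists_torus (n : ℕ) (u w : Fin n → F) (huu : hermForm n F q u u = 0)
    (hww : hermForm n F q w w = 0) (huw : hermForm n F q u w = 1) (a : F) (ha0 : a ≠ 0)
    (ha : a ^ q = a) :
    ∃ D : Matrix (Fin n) (Fin n) F, InT n q D ∧ D *ᵥ u = a • u ∧ D *ᵥ w = a⁻¹ • w ∧
      ∀ x, hermForm n F q x u = 0 → hermForm n F q x w = 0 → D *ᵥ x = x := by
  obtain ⟨κ, hκ0, hκ⟩ := exists_skew_ne_zero hF
  have hwu := hermForm_eq_one_symm hF n u w huw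
  refine ⟨unitaryTransvection n q u (κ * a) * unitaryTransvection n q w (-(κ * a)⁻¹) *
    unitaryTransvection n q u (κ * (a - 1)) * unitaryTransvection n q w κ⁻¹ *
    unitaryTransvection n q u (-κ), ?_, ?_, ?_, ?_⟩
  · refine ((((transv_InT hF n u _ huu ?_).mul (transv_InT hF n w _ hww ?_)).mul
      (transv_InT hF n u _ huu ?_)).mul (transv_InT hF n w _ hww ?_)).mul
      (transv_InT hF n u _ huu ?_)
    · rw [mul_pow, hκ, ha]
      ring
    · rw [neg_pow_q hF, inv_pow, mul_pow, hκ, ha]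
      field_simp
    · rw [mul_pow, hκ, sub_pow_q hF, ha, one_pow]
      ring
    · rw [inv_pow, hκ, inv_neg]
    · rw [neg_pow_q hF, hκ]
  · simp only [← Matrix.mulVec_mulVec, unitaryTransvection_mulVec, hermForm_add_left,
      hermForm_smul_left, huu, hww, huw, hwu]
    ext i
    simp only [Pi.add_apply, Pi.smul_apply, smul_eq_mul]
    field_simp
    ring
  · simp only [← Matrix.mulVec_mulVec, unitaryTransvection_mulVec, hermForm_add_left,
      hermForm_smul_left, huu, hww, huw, hwu]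
    ext i
    simp only [Pi.add_apply, Pi.smul_apply, smul_eq_mul]
    field_simp
    ring
  · intro x hxu hxw
    simp only [← Matrix.mulVec_mulVec, unitaryTransvection_mulVec, hermForm_add_left,
      hermForm_smul_left, huu, hww, huw, hwu, hxu, hxw]
    ext i
    simp only [Pi.add_apply, Pi.smul_apply, smul_eq_mul]
    ring

/-- For `q ≥ 3` all Eichler elements are products of transvections. -/
theorem eich_InT_q3 (n : ℕ) (hq : 3 ≤ q) (u y : Fin n → F) (β : F) (hu : u ≠ 0)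
    (huu : hermForm n F q u u = 0) (hyu : hermForm n F q y u = 0)
    (hβ : β + β ^ q + hermForm n F q y y = 0) : InT n q (eichlerU n q u y β) := by
  by_cases hyy : hermForm n F q y y = 0
  · exact eich_InT_iso hF n u y β huu hyu hyy hβ
  obtain ⟨a, ha, ha0, ha1⟩ := exists_fixed_ne hF hq
  have ha1' : a - 1 ≠ 0 := sub_ne_zero.mpr ha1
  have ha2 : (a ^ 2) ^ q = a ^ 2 := by rw [← pow_mul, mul_comm, pow_mul, ha]
  have huy := hermForm_eq_zero_symm hF n y u hyu
  obtain ⟨w, hww, huw, hyw⟩ := exists_partner_orth hF n u y hu huu hyu hyy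
  have hwu := hermForm_eq_one_symm hF n u w huw
  have hwy := hermForm_eq_zero_symm hF n y w hyw
  obtain ⟨D, hD, hDu, hDw, hDx⟩ := exists_torus hF n u w huu hww huw a ha0 ha
  obtain ⟨y₀, hy₀⟩ : ∃ y₀ : Fin n → F, y₀ = (a - 1)⁻¹ • y := ⟨_, rfl⟩
  have hy₀u : hermForm n F q y₀ u = 0 := by rw [hy₀, hermForm_smul_left, hyu, mul_zero]
  have huy₀ := hermForm_eq_zero_symm hF n y₀ u hy₀u
  have hy₀w : hermForm n F q y₀ w = 0 := by rw [hy₀, hermForm_smul_left, hyw, mul_zero]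
  have hwy₀ := hermForm_eq_zero_symm hF n y₀ w hy₀w
  obtain ⟨ν, hν⟩ : ∃ ν : F, ν = hermForm n F q y₀ y₀ := ⟨_, rfl⟩
  have hνq : ν ^ q = ν := by rw [hν]; exact hermForm_self_fixed hF n y₀
  obtain ⟨β₀, hβ₀⟩ := exists_trace_eq hF (-ν) (by rw [neg_pow_q hF, hνq])
  have hβ₀' : β₀ + β₀ ^ q + hermForm n F q y₀ y₀ = 0 := by
    rw [← hν]
    linear_combination hβ₀
  have hay₀u : hermForm n F q (a • y₀) u = 0 := by rw [hermForm_smul_left, hy₀u, mul_zero]
  have hβ₁ : a ^ 2 * β₀ + (a ^ 2 * β₀) ^ q + hermForm n F q (a • y₀) (a • y₀) = 0 := by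
    rw [mul_pow, ha2, hermForm_smul_left, hermForm_smul_right, ha, ← hν]
    linear_combination a ^ 2 * hβ₀
  obtain ⟨d, hd, hdD⟩ := hD
  have hconj : d * eichSU hF n u y₀ β₀ huu hy₀u hβ₀' =
      eichSU hF n u (a • y₀) (a ^ 2 * β₀) huu hay₀u hβ₁ * d := by
    apply suMat_inj
    rw [suMat_mul, suMat_mul, hdD]
    change D * eichlerU n q u y₀ β₀ = eichlerU n q u (a • y₀) (a ^ 2 * β₀) * D
    have hEu : eichlerU n q u y₀ β₀ *ᵥ u = u := by
      rw [eichlerU_mulVec, huu, huy₀]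
      simp
    have hE'u : eichlerU n q u (a • y₀) (a ^ 2 * β₀) *ᵥ u = u := by
      rw [eichlerU_mulVec, huu, hermForm_smul_right, huy₀]
      simp
    have hEw : eichlerU n q u y₀ β₀ *ᵥ w = w + y₀ + β₀ • u := by
      rw [eichlerU_mulVec, hwu, hwy₀]
      simp
    have hE'w : eichlerU n q u (a • y₀) (a ^ 2 * β₀) *ᵥ w = w + a • y₀ + (a ^ 2 * β₀) • u := by
      rw [eichlerU_mulVec, hwu, hermForm_smul_right, hwy₀]
      simp
    apply mat_ext_hyp hF n u w huu hww huw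
    · rw [← Matrix.mulVec_mulVec, ← Matrix.mulVec_mulVec, hEu, hDu, Matrix.mulVec_smul, hE'u]
    · rw [← Matrix.mulVec_mulVec, ← Matrix.mulVec_mulVec, hEw, hDw, Matrix.mulVec_smul, hE'w,
        Matrix.mulVec_add, Matrix.mulVec_add, Matrix.mulVec_smul, hDw, hDu, hDx y₀ hy₀u hy₀w]
      ext i
      simp only [Pi.add_apply, Pi.smul_apply, smul_eq_mul]
      field_simp
    · intro x hxu hxw
      rw [← Matrix.mulVec_mulVec, ← Matrix.mulVec_mulVec, hDx x hxu hxw, eichlerU_mulVec,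
        eichlerU_mulVec, hxu, hermForm_smul_right, ha]
      simp only [zero_smul, add_zero, mul_zero, Matrix.mulVec_sub, Matrix.mulVec_smul, hDu,
        hDx x hxu hxw]
      ext i
      simp only [Pi.sub_apply, Pi.smul_apply, smul_eq_mul]
      ring
  have hy : y = (a - 1) • y₀ := by rw [hy₀, smul_smul, mul_inv_cancel₀ ha1', one_smul]
  obtain ⟨β₂, hβ₂⟩ : ∃ β₂ : F, β₂ = a ^ 2 * β₀ - β₀ + (a - 1) * ν := ⟨_, rfl⟩
  have hyy' : hermForm n F q y y = (a - 1) ^ 2 * ν := by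
    rw [hy, hermForm_smul_left, hermForm_smul_right, sub_pow_q hF, ha, one_pow, ← hν]
    ring
  have hβ₂' : β₂ + β₂ ^ q + hermForm n F q y y = 0 := by
    rw [hyy', hβ₂, add_pow_q hF, sub_pow_q hF, mul_pow, mul_pow, ha2, sub_pow_q hF, ha, one_pow,
      hνq]
    linear_combination (a ^ 2 - 1) * hβ₀
  have hfe : eichSU hF n u y β₂ huu hyu hβ₂' * eichSU hF n u y₀ β₀ huu hy₀u hβ₀' =
      eichSU hF n u (a • y₀) (a ^ 2 * β₀) huu hay₀u hβ₁ := by
    apply suMat_inj
    change eichlerU n q u y β₂ * eichlerU n q u y₀ β₀ = eichlerU n q u (a • y₀) (a ^ 2 * β₀)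
    rw [eichlerU_mul hF n u y y₀ β₂ β₀ huu hyu hy₀u]
    congr 1
    · rw [hy]
      module
    · rw [hy, hermForm_smul_right, sub_pow_q hF, ha, one_pow, ← hν, hβ₂]
      ring
  have hf : eichSU hF n u y β₂ huu hyu hβ₂' ∈ TU n F q := by
    have h1 : eichSU hF n u y β₂ huu hyu hβ₂' =
        d * (eichSU hF n u y₀ β₀ huu hy₀u hβ₀' * d⁻¹ * (eichSU hF n u y₀ β₀ huu hy₀u hβ₀')⁻¹) := by
      have h2 : eichSU hF n u y β₂ huu hyu hβ₂' =
          eichSU hF n u (a • y₀) (a ^ 2 * β₀) huu hay₀u hβ₁ *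
            (eichSU hF n u y₀ β₀ huu hy₀u hβ₀')⁻¹ := by
        rw [← hfe]
        group
      have h3 : eichSU hF n u (a • y₀) (a ^ 2 * β₀) huu hay₀u hβ₁ =
          d * eichSU hF n u y₀ β₀ huu hy₀u hβ₀' * d⁻¹ := by
        rw [hconj]
        group
      rw [h2, h3]
      group
    rw [h1]
    exact mul_mem hd ((TU_normal hF n).conj_mem d⁻¹ (inv_mem hd) _)
  exact InT_eich_adjust hF n u y β₂ β huu hyu hβ₂' hβ ⟨_, hf, rfl⟩

end

end Cfsg.Agent.Lib.helper99
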