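import Cfsg.Agent.Lib.helper99.UGen4

/-!
Generation of `SU_n(q)` by unitary transvections, part 5: if all Eichler elements lie in `TU`, then `TU`
is transitive on hyperbolic pairs.
-/

set_option autoImplicit false

namespace Cfsg.Agent.Lib.helper99

open Cfsg Matrix Cfsg.Agent.Lib.helper17

/-- All Eichler elements of `SU n F q` lie in the subgroup generated by the transvections. -/
def EichIn (n : ℕ) (F : Type*) [Field F] (q : ℕ) : Prop :=
  ∀ (u y : Fin n → F) (β : F), u ≠ 0 → hermForm n F q u u = 0 → hermForm n F q y u = 0 →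
    β + β ^ q + hermForm n F q y y = 0 → InT n q (eichlerU n q u y β)

section
variable {F : Type*} [Field F] [Fintype F] {q : ℕ} (hF : Fintype.card F = q ^ 2)
include hF

/-- The Eichler elements at `u` act transitively on the isotropic partners of `u`. -/
theorem partner_trans (n : ℕ) (HQ : EichIn n F q) (u w w' : Fin n → F) (hu : u ≠ 0)
    (huu : hermForm n F q u u = 0) (hww : hermForm n F q w w = 0)
    (hw'w' : hermForm n F q w' w' = 0) (hwu : hermForm n F q w u = 1)
    (hw'u : hermForm n F q w' u = 1) :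
    ∃ M : Matrix (Fin n) (Fin n) F, InT n q M ∧ M *ᵥ u = u ∧ M *ᵥ w = w' := by
  have huw := hermForm_eq_one_symm hF n w u hwu
  have huw' := hermForm_eq_one_symm hF n w' u hw'u
  have hyu : hermForm n F q (w' - w) u = 0 := by rw [hermForm_sub_left, hwu, hw'u, sub_self]
  have hβ : hermForm n F q w (w' - w) + (hermForm n F q w (w' - w)) ^ q +
      hermForm n F q (w' - w) (w' - w) = 0 := by
    rw [hermForm_conj hF]
    simp only [hermForm_sub_left, hermForm_sub_right hF, hww, hw'w']
    ring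
  refine ⟨eichlerU n q u (w' - w) (hermForm n F q w (w' - w)), HQ u _ _ hu huu hyu hβ, ?_, ?_⟩
  · rw [eichlerU_mulVec, huu, hermForm_sub_right hF, huw, huw']
    simp
  · rw [eichlerU_mulVec, hwu, one_smul, mul_one]
    abel

/-- Transitivity of `TU` on pairs of non-orthogonal isotropic vectors. -/
theorem iso_trans_nonorth (n : ℕ) (hn : 3 ≤ n) (HQ : EichIn n F q) (u u' : Fin n → F)
    (huu : hermForm n F q u u = 0) (hu'u' : hermForm n F q u' u' = 0)
    (hr : hermForm n F q u u' ≠ 0) :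
    ∃ M : Matrix (Fin n) (Fin n) F, InT n q M ∧ M *ᵥ u = u' := by
  classical
  obtain ⟨r, hr'⟩ : ∃ r : F, r = hermForm n F q u u' := ⟨_, rfl⟩
  rw [← hr'] at hr
  have hu'u : hermForm n F q u' u = r ^ q := by rw [hr', hermForm_conj hF]
  have hrq : r ^ q ≠ 0 := pow_ne_zero _ hr
  obtain ⟨s, hs, hss⟩ := exists_orth_norm hF n
    (Submodule.span F (({u, u'} : Finset (Fin n → F)) : Set (Fin n → F)))
    (lt_of_le_of_lt (finrank_span_finset_le_card _)
      (lt_of_le_of_lt Finset.card_le_two (by omega)))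
    (fun x => x - (hermForm n F q x u' / r) • u - (hermForm n F q x u / r ^ q) • u')
    (fun x => by
      have : x - (x - (hermForm n F q x u' / r) • u - (hermForm n F q x u / r ^ q) • u') =
          (hermForm n F q x u' / r) • u + (hermForm n F q x u / r ^ q) • u' := by abel
      rw [this]
      exact Submodule.add_mem _ (Submodule.smul_mem _ _ (Submodule.subset_span (by simp)))
        (Submodule.smul_mem _ _ (Submodule.subset_span (by simp))))
    (fun x => orth_span hF n _ _ (by
      intro z hz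
      simp only [Finset.coe_insert, Finset.coe_singleton, Set.mem_insert_iff,
        Set.mem_singleton_iff] at hz
      rcases hz with hz | hz
      · rw [hz]
        simp only [hermForm_sub_left, hermForm_smul_left, huu, hu'u]
        field_simp
        ring
      · rw [hz]
        simp only [hermForm_sub_left, hermForm_smul_left, hu'u', ← hr']
        field_simp
        ring))
    (-(r⁻¹ + (r ^ q)⁻¹))
    (by rw [neg_pow_q hF, add_pow_q hF, inv_pow, inv_pow, pow_q_pow_q hF]; ring)
  have hsu : hermForm n F q s u = 0 := hs u (Submodule.subset_span (by simp))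
  have hsu' : hermForm n F q s u' = 0 := hs u' (Submodule.subset_span (by simp))
  have hus := hermForm_eq_zero_symm hF n s u hsu
  have hu's := hermForm_eq_zero_symm hF n s u' hsu'
  obtain ⟨w₁, hw₁⟩ : ∃ w₁ : Fin n → F, w₁ = r⁻¹ • u + (r ^ q)⁻¹ • u' + s := ⟨_, rfl⟩
  have hri : (r⁻¹) ^ q = (r ^ q)⁻¹ := inv_pow r q
  have hrqi : ((r ^ q)⁻¹) ^ q = r⁻¹ := by rw [inv_pow, pow_q_pow_q hF]
  have h1 : hermForm n F q u w₁ = 1 := by
    rw [hw₁]
    simp only [hermForm_add_right hF, hermForm_smul_right, huu, hus, ← hr', hri, hrqi]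
    field_simp
    ring
  have h2 : hermForm n F q u' w₁ = 1 := by
    rw [hw₁]
    simp only [hermForm_add_right hF, hermForm_smul_right, hu'u, hu'u', hu's, hri, hrqi]
    field_simp
    ring
  have h3 : hermForm n F q w₁ w₁ = 0 := by
    rw [hw₁]
    simp only [hermForm_add_left, hermForm_add_right hF, hermForm_smul_left, hermForm_smul_right,
      huu, hu'u', hu'u, ← hr', hsu, hsu', hus, hu's, hss, hri, hrqi]
    field_simp
    ring
  have hw₁0 : w₁ ≠ 0 := by
    intro h
    rw [h, hermForm_zero_right hF] at h1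
    exact zero_ne_one h1
  obtain ⟨M, hM, -, hMu⟩ := partner_trans hF n HQ w₁ u u' hw₁0 h3 huu hu'u' h1 h2
  exact ⟨M, hM, hMu⟩

/-- Two orthogonal non-zero isotropic vectors have a common non-orthogonal isotropic vector. -/
theorem exists_common_nonorth (n : ℕ) (u u' : Fin n → F) (hu : u ≠ 0) (hu' : u' ≠ 0)
    (huu : hermForm n F q u u = 0) (huu' : hermForm n F q u u' = 0) :
    ∃ x : Fin n → F, hermForm n F q x x = 0 ∧ hermForm n F q u x ≠ 0 ∧
      hermForm n F q u' x ≠ 0 := by
  have hq2 := two_le_of_card_eq_sq hF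
  have hu'u := hermForm_eq_zero_symm hF n u u' huu'
  obtain ⟨a, ha⟩ := exists_pair_one (q := q) n u hu
  obtain ⟨b, hb⟩ := exists_pair_one (q := q) n u' hu'
  obtain ⟨v, hvu, hvu'⟩ : ∃ v : Fin n → F,
      hermForm n F q v u ≠ 0 ∧ hermForm n F q v u' ≠ 0 := by
    by_cases h1 : hermForm n F q a u' = 0
    · by_cases h2 : hermForm n F q b u = 0
      · refine ⟨a + b, ?_, ?_⟩
        · rw [hermForm_add_left, ha, h2, add_zero]
          exact one_ne_zero
        · rw [hermForm_add_left, h1, hb, zero_add]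
          exact one_ne_zero
      · exact ⟨b, h2, by rw [hb]; exact one_ne_zero⟩
    · exact ⟨a, by rw [ha]; exact one_ne_zero, h1⟩
  obtain ⟨ρ, hρ⟩ : ∃ ρ : F, ρ = hermForm n F q u v := ⟨_, rfl⟩
  have hvu2 : hermForm n F q v u = ρ ^ q := by rw [hρ, hermForm_conj hF]
  have hρ0 : ρ ≠ 0 := by
    intro h
    rw [h, zero_pow (by omega)] at hvu2
    exact hvu hvu2
  have hρq : ρ ^ q ≠ 0 := pow_ne_zero _ hρ0
  obtain ⟨t, ht⟩ := exists_trace_eq hF (-(hermForm n F q v v))
    (by rw [neg_pow_q hF, hermForm_self_fixed hF])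
  refine ⟨v + (t / ρ) • u, ?_, ?_, ?_⟩
  · simp only [hermForm_add_left, hermForm_add_right hF, hermForm_smul_left, hermForm_smul_right,
      huu, hvu2, ← hρ, div_pow]
    have e1 : t / ρ * ρ = t := div_mul_cancel₀ t hρ0
    have e2 : t ^ q / ρ ^ q * ρ ^ q = t ^ q := div_mul_cancel₀ _ hρq
    linear_combination ht + e1 + e2
  · rw [hermForm_add_right hF, hermForm_smul_right, huu, mul_zero, add_zero, ← hρ]
    exact hρ0
  · rw [hermForm_add_right hF, hermForm_smul_right, hu'u, mul_zero, add_zero]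
    intro h
    exact hvu' (hermForm_eq_zero_symm hF n u' v h)

/-- Transitivity of `TU` on non-zero isotropic vectors. -/
theorem iso_trans (n : ℕ) (hn : 3 ≤ n) (HQ : EichIn n F q) (u u' : Fin n → F) (hu : u ≠ 0)
    (hu' : u' ≠ 0) (huu : hermForm n F q u u = 0) (hu'u' : hermForm n F q u' u' = 0) :
    ∃ M : Matrix (Fin n) (Fin n) F, InT n q M ∧ M *ᵥ u = u' := by
  by_cases hr : hermForm n F q u u' = 0
  · obtain ⟨x, hxx, hux, hu'x⟩ := exists_common_nonorth hF n u u' hu hu' huu hr
    obtain ⟨M₁, hM₁, h1⟩ := iso_trans_nonorth hF n hn HQ u x huu hxx hux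
    obtain ⟨M₂, hM₂, h2⟩ := iso_trans_nonorth hF n hn HQ x u' hxx hu'u'
      (fun h => hu'x (hermForm_eq_zero_symm hF n x u' h))
    exact ⟨M₂ * M₁, hM₂.mul hM₁, by rw [← Matrix.mulVec_mulVec, h1, h2]⟩
  · exact iso_trans_nonorth hF n hn HQ u u' huu hu'u' hr

/-- Transitivity of `TU` on hyperbolic pairs. -/
theorem hyp_trans (n : ℕ) (hn : 3 ≤ n) (HQ : EichIn n F q) (u w u' w' : Fin n → F)
    (huu : hermForm n F q u u = 0) (hww : hermForm n F q w w = 0)
    (huw : hermForm n F q u w = 1) (hu'u' : hermForm n F q u' u' = 0)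
    (hw'w' : hermForm n F q w' w' = 0) (hu'w' : hermForm n F q u' w' = 1) :
    ∃ M : Matrix (Fin n) (Fin n) F, InT n q M ∧ M *ᵥ u = u' ∧ M *ᵥ w = w' := by
  have hu : u ≠ 0 := by
    intro h
    rw [h, hermForm_zero_left] at huw
    exact zero_ne_one huw
  have hu' : u' ≠ 0 := by
    intro h
    rw [h, hermForm_zero_left] at hu'w'
    exact zero_ne_one hu'w'
  obtain ⟨M₁, hM₁, h1⟩ := iso_trans hF n hn HQ u u' hu hu' huu hu'u'
  have hwu := hermForm_eq_one_symm hF n u w huw
  have hw'u' := hermForm_eq_one_symm hF n u' w' hu'w'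
  obtain ⟨M₂, hM₂, h2, h3⟩ := partner_trans hF n HQ u' (M₁ *ᵥ w) w' hu' hu'u'
    (by rw [hM₁.isIsom]; exact hww) hw'w' (by rw [← h1, hM₁.isIsom]; exact hwu) hw'u'
  exact ⟨M₂ * M₁, hM₂.mul hM₁, by rw [← Matrix.mulVec_mulVec, h1, h2],
    by rw [← Matrix.mulVec_mulVec, h3]⟩

end

end Cfsg.Agent.Lib.helper99
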