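import Cfsg.Agent.Lib.helper99.UGen5

/-!
Generation of `SU_n(q)` by unitary transvections, part 6: an element of `SU` fixing pointwise the
orthogonal complement of a hyperbolic pair is a product of transvections; `SU_2` is generated by
transvections.
-/

set_option autoImplicit false

namespace Cfsg.Agent.Lib.helper99

open Cfsg Matrix Cfsg.Agent.Lib.helper17

section
variable {F : Type*} [Field F] [Fintype F] {q : ℕ} (hF : Fintype.card F = q ^ 2)
include hF

omit [Fintype F] hF in
theorem one_add_vecMulVec_mulVec (n q : ℕ) (a v x : Fin n → F) :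
    (1 + Matrix.vecMulVec a (fun j => v j ^ q)) *ᵥ x = x + hermForm n F q x v • a := by
  rw [Matrix.add_mulVec, Matrix.one_mulVec, Matrix.vecMulVec_mulVec, pow_dotProduct,
    op_smul_eq_smul]

omit [Fintype F] hF in
theorem det_one_add_vmv (n : ℕ) (a b : Fin n → F) :
    (1 + Matrix.vecMulVec a b).det = 1 + b ⬝ᵥ a := by
  rw [Matrix.vecMulVec_eq Unit, Matrix.det_one_add_replicateCol_mul_replicateRow]

/-- A vector orthogonal to a hyperbolic pair and to its orthogonal complement is zero. -/
theorem eq_zero_of_orth (n : ℕ) (u w : Fin n → F) (huu : hermForm n F q u u = 0)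
    (hww : hermForm n F q w w = 0) (huw : hermForm n F q u w = 1) (z : Fin n → F)
    (hzu : hermForm n F q z u = 0) (hzw : hermForm n F q z w = 0)
    (hz : ∀ x, hermForm n F q x u = 0 → hermForm n F q x w = 0 → hermForm n F q z x = 0) :
    z = 0 := by
  classical
  have hq2 := two_le_of_card_eq_sq hF
  have hwu := hermForm_eq_one_symm hF n u w huw
  have hall : ∀ x, hermForm n F q z x = 0 := by
    intro x
    have hdec : x = hermForm n F q x w • u + hermForm n F q x u • w +
        (x - hermForm n F q x w • u - hermForm n F q x u • w) := by abel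
    have h1 : hermForm n F q (x - hermForm n F q x w • u - hermForm n F q x u • w) u = 0 := by
      simp only [hermForm_sub_left, hermForm_smul_left, huu, hwu]
      ring
    have h2 : hermForm n F q (x - hermForm n F q x w • u - hermForm n F q x u • w) w = 0 := by
      simp only [hermForm_sub_left, hermForm_smul_left, hww, huw]
      ring
    rw [hdec, hermForm_add_right hF, hermForm_add_right hF, hermForm_smul_right,
      hermForm_smul_right, hzu, hzw, hz _ h1 h2]
    ring
  funext i
  have := hall (Pi.single i 1)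
  rwa [Cfsg.Agent.Lib.helper7.herm_single_right (by omega)] at this

/-- An isometry fixing pointwise the orthogonal complement of a hyperbolic pair maps the vectors
orthogonal to that complement into the plane of the pair. -/
theorem image_in_plane (n : ℕ) (u w : Fin n → F) (huu : hermForm n F q u u = 0)
    (hww : hermForm n F q w w = 0) (huw : hermForm n F q u w = 1)
    (G : Matrix (Fin n) (Fin n) F)
    (hG : ∀ x y, hermForm n F q (G *ᵥ x) (G *ᵥ y) = hermForm n F q x y)
    (hfix : ∀ x, hermForm n F q x u = 0 → hermForm n F q x w = 0 → G *ᵥ x = x) (v : Fin n → F)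
    (hv : ∀ x, hermForm n F q x u = 0 → hermForm n F q x w = 0 → hermForm n F q v x = 0) :
    G *ᵥ v = hermForm n F q (G *ᵥ v) w • u + hermForm n F q (G *ᵥ v) u • w := by
  have hwu := hermForm_eq_one_symm hF n u w huw
  have h1 : hermForm n F q (G *ᵥ v - hermForm n F q (G *ᵥ v) w • u -
      hermForm n F q (G *ᵥ v) u • w) u = 0 := by
    simp only [hermForm_sub_left, hermForm_smul_left, huu, hwu]
    ring
  have h2 : hermForm n F q (G *ᵥ v - hermForm n F q (G *ᵥ v) w • u -
      hermForm n F q (G *ᵥ v) u • w) w = 0 := by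
    simp only [hermForm_sub_left, hermForm_smul_left, hww, huw]
    ring
  have h3 : ∀ x, hermForm n F q x u = 0 → hermForm n F q x w = 0 →
      hermForm n F q (G *ᵥ v - hermForm n F q (G *ᵥ v) w • u -
        hermForm n F q (G *ᵥ v) u • w) x = 0 := by
    intro x hxu hxw
    have hux := hermForm_eq_zero_symm hF n x u hxu
    have hwx := hermForm_eq_zero_symm hF n x w hxw
    have h4 : hermForm n F q (G *ᵥ v) x = 0 := by
      conv_lhs => rw [← hfix x hxu hxw]
      rw [hG, hv x hxu hxw]
    rw [hermForm_sub_left, hermForm_sub_left, hermForm_smul_left, hermForm_smul_left, hux, hwx,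
      h4]
    ring
  have hz := eq_zero_of_orth hF n u w huu hww huw _ h1 h2 h3
  rw [sub_sub, sub_eq_zero] at hz
  exact hz

/-- Moving an isotropic vector of the plane of a hyperbolic pair onto a multiple of `u` by
transvections. -/
theorem exists_to_u (n : ℕ) (u w : Fin n → F) (huu : hermForm n F q u u = 0)
    (hww : hermForm n F q w w = 0) (huw : hermForm n F q u w = 1) (a b : F)
    (hab : a * b ^ q + b * a ^ q = 0) (hne : a ≠ 0 ∨ b ≠ 0) :
    ∃ (T₁ : Matrix (Fin n) (Fin n) F) (a₁ : F), InT n q T₁ ∧ a₁ ≠ 0 ∧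
      T₁ *ᵥ (a • u + b • w) = a₁ • u ∧
      ∀ x, hermForm n F q x u = 0 → hermForm n F q x w = 0 → T₁ *ᵥ x = x := by
  have hwu := hermForm_eq_one_symm hF n u w huw
  by_cases ha : a = 0
  · have hb : b ≠ 0 := by
      rcases hne with h | h
      · exact absurd ha h
      · exact h
    obtain ⟨κ, hκ0, hκ⟩ := exists_skew_ne_zero hF
    refine ⟨unitaryTransvection n q w (-κ⁻¹) * unitaryTransvection n q u κ, b * κ, ?_,
      mul_ne_zero hb hκ0, ?_, ?_⟩
    · exact (transv_InT hF n w _ hww (by rw [neg_pow_q hF, inv_pow, hκ, inv_neg])).mul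
        (transv_InT hF n u κ huu hκ)
    · rw [ha]
      simp only [← Matrix.mulVec_mulVec, unitaryTransvection_mulVec, hermForm_add_left,
        hermForm_smul_left, huu, hww, huw, hwu]
      ext i
      simp only [Pi.add_apply, Pi.smul_apply, smul_eq_mul]
      field_simp
      ring
    · intro x hxu hxw
      simp only [← Matrix.mulVec_mulVec, unitaryTransvection_mulVec, hermForm_add_left,
        hermForm_smul_left, huw, hxu, hxw]
      simp
  · have haq : a ^ q ≠ 0 := pow_ne_zero _ ha
    refine ⟨unitaryTransvection n q w (-(b / a)), a, ?_, ha, ?_, ?_⟩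
    · refine transv_InT hF n w _ hww ?_
      rw [neg_pow_q hF, div_pow, neg_neg, neg_eq_iff_eq_neg, div_eq_iff haq, neg_mul,
        div_mul_eq_mul_div, eq_neg_iff_add_eq_zero, ← sub_eq_zero]
      field_simp
      linear_combination hab
    · simp only [unitaryTransvection_mulVec, hermForm_add_left, hermForm_smul_left, hww, huw]
      ext i
      simp only [Pi.add_apply, Pi.smul_apply, smul_eq_mul]
      field_simp
      ring
    · intro x hxu hxw
      simp only [unitaryTransvection_mulVec, hxw]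
      simp

/-- An element of `SU` fixing pointwise the orthogonal complement of a hyperbolic pair is a product of
transvections. -/
theorem stab_InT (n : ℕ) (u w : Fin n → F) (huu : hermForm n F q u u = 0)
    (hww : hermForm n F q w w = 0) (huw : hermForm n F q u w = 1) (g : ↥(SU n F q))
    (hfix : ∀ x, hermForm n F q x u = 0 → hermForm n F q x w = 0 → suMat g *ᵥ x = x) :
    InT n q (suMat g) := by
  have hq2 := two_le_of_card_eq_sq hF
  have hwu := hermForm_eq_one_symm hF n u w huw
  have hu_perp : ∀ x, hermForm n F q x u = 0 → hermForm n F q x w = 0 →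
      hermForm n F q u x = 0 := fun x hxu _ => hermForm_eq_zero_symm hF n x u hxu
  have hw_perp : ∀ x, hermForm n F q x u = 0 → hermForm n F q x w = 0 →
      hermForm n F q w x = 0 := fun x _ hxw => hermForm_eq_zero_symm hF n x w hxw
  obtain ⟨a, ha⟩ : ∃ a : F, a = hermForm n F q (suMat g *ᵥ u) w := ⟨_, rfl⟩
  obtain ⟨b, hb⟩ : ∃ b : F, b = hermForm n F q (suMat g *ᵥ u) u := ⟨_, rfl⟩
  have hGu : suMat g *ᵥ u = a • u + b • w := by
    rw [ha, hb]
    exact image_in_plane hF n u w huu hww huw (suMat g) (suMat_isIsom g) hfix u hu_perp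
  have hab : a * b ^ q + b * a ^ q = 0 := by
    have := suMat_isIsom g u u
    rw [hGu, huu] at this
    simp only [hermForm_add_left, hermForm_add_right hF, hermForm_smul_left, hermForm_smul_right,
      huu, hww, huw, hwu] at this
    linear_combination this
  have hne : a ≠ 0 ∨ b ≠ 0 := by
    by_contra hcon
    push Not at hcon
    have := suMat_isIsom g u w
    rw [hGu, hcon.1, hcon.2, huw] at this
    simp only [zero_smul, add_zero, hermForm_zero_left] at this
    exact zero_ne_one this
  obtain ⟨T₁, a₁, hT₁, ha₁, hT₁u, hT₁x⟩ := exists_to_u hF n u w huu hww huw a b hab hne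
  obtain ⟨t₁, ht₁, ht₁T⟩ := hT₁
  have hg₁u : suMat (t₁ * g) *ᵥ u = a₁ • u := by
    rw [suMat_mul, ← Matrix.mulVec_mulVec, hGu, ht₁T, hT₁u]
  have hg₁x : ∀ x, hermForm n F q x u = 0 → hermForm n F q x w = 0 →
      suMat (t₁ * g) *ᵥ x = x := by
    intro x hxu hxw
    rw [suMat_mul, ← Matrix.mulVec_mulVec, hfix x hxu hxw, ht₁T, hT₁x x hxu hxw]
  obtain ⟨a₂, ha₂⟩ : ∃ a₂ : F, a₂ = hermForm n F q (suMat (t₁ * g) *ᵥ w) w := ⟨_, rfl⟩
  obtain ⟨b₂, hb₂⟩ : ∃ b₂ : F, b₂ = hermForm n F q (suMat (t₁ * g) *ᵥ w) u := ⟨_, rfl⟩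
  have hg₁w : suMat (t₁ * g) *ᵥ w = a₂ • u + b₂ • w := by
    rw [ha₂, hb₂]
    exact image_in_plane hF n u w huu hww huw (suMat (t₁ * g)) (suMat_isIsom _) hg₁x w hw_perp
  have h12 : a₁ * b₂ ^ q = 1 := by
    have := suMat_isIsom (t₁ * g) u w
    rw [hg₁u, hg₁w, huw] at this
    simp only [hermForm_add_right hF, hermForm_smul_left, hermForm_smul_right, huu, huw] at this
    linear_combination this
  have hb₂0 : b₂ ≠ 0 := by
    rintro rfl
    rw [zero_pow (by omega), mul_zero] at h12
    exact zero_ne_one h12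
  have hb₂q : b₂ ^ q ≠ 0 := pow_ne_zero _ hb₂0
  have h22 : a₂ * b₂ ^ q + b₂ * a₂ ^ q = 0 := by
    have := suMat_isIsom (t₁ * g) w w
    rw [hg₁w, hww] at this
    simp only [hermForm_add_left, hermForm_add_right hF, hermForm_smul_left, hermForm_smul_right,
      huu, hww, huw, hwu] at this
    linear_combination this
  have hT₂ : InT n q (unitaryTransvection n q u (-(a₂ / b₂))) := by
    refine transv_InT hF n u _ huu ?_
    rw [neg_pow_q hF, div_pow, neg_neg, neg_eq_iff_eq_neg, div_eq_iff hb₂q, neg_mul,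
      div_mul_eq_mul_div, eq_neg_iff_add_eq_zero, ← sub_eq_zero]
    field_simp
    linear_combination h22
  obtain ⟨t₂, ht₂, ht₂T⟩ := hT₂
  have hg₂u : suMat (t₂ * (t₁ * g)) *ᵥ u = a₁ • u := by
    rw [suMat_mul, ← Matrix.mulVec_mulVec, hg₁u, ht₂T, Matrix.mulVec_smul,
      unitaryTransvection_mulVec, huu]
    simp
  have hg₂w : suMat (t₂ * (t₁ * g)) *ᵥ w = b₂ • w := by
    rw [suMat_mul, ← Matrix.mulVec_mulVec, hg₁w, ht₂T, unitaryTransvection_mulVec]
    simp only [hermForm_add_left, hermForm_smul_left, huu, hwu]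
    ext i
    simp only [Pi.add_apply, Pi.smul_apply, smul_eq_mul]
    field_simp
    ring
  have hg₂x : ∀ x, hermForm n F q x u = 0 → hermForm n F q x w = 0 →
      suMat (t₂ * (t₁ * g)) *ᵥ x = x := by
    intro x hxu hxw
    rw [suMat_mul, ← Matrix.mulVec_mulVec, hg₁x x hxu hxw, ht₂T, unitaryTransvection_mulVec, hxu]
    simp
  have hfac : suMat (t₂ * (t₁ * g)) =
      (1 + Matrix.vecMulVec ((a₁ - 1) • u) (fun j => w j ^ q)) *
        (1 + Matrix.vecMulVec ((b₂ - 1) • w) (fun j => u j ^ q)) := by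
    apply mat_ext_hyp hF n u w huu hww huw
    · rw [hg₂u, ← Matrix.mulVec_mulVec, one_add_vecMulVec_mulVec, one_add_vecMulVec_mulVec, huu,
        zero_smul, add_zero, huw]
      module
    · rw [hg₂w, ← Matrix.mulVec_mulVec]
      simp only [one_add_vecMulVec_mulVec, hermForm_add_left, hermForm_smul_left, hwu, hww]
      module
    · intro x hxu hxw
      rw [hg₂x x hxu hxw, ← Matrix.mulVec_mulVec, one_add_vecMulVec_mulVec,
        one_add_vecMulVec_mulVec, hxu, zero_smul, add_zero, hxw, zero_smul, add_zero]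
  have hdet : a₁ * b₂ = 1 := by
    have := suMat_det (t₂ * (t₁ * g))
    rw [hfac, Matrix.det_mul, det_one_add_vmv, det_one_add_vmv, pow_dotProduct,
      pow_dotProduct, hermForm_smul_left, hermForm_smul_left, huw, hwu] at this
    linear_combination this
  have hb₂inv : b₂ = a₁⁻¹ := eq_inv_of_mul_eq_one_right hdet
  have ha₁q : a₁ ^ q = a₁ := by
    have ha₁q0 : a₁ ^ q ≠ 0 := pow_ne_zero _ ha₁
    rw [hb₂inv, inv_pow] at h12
    field_simp at h12
    exact h12.symm
  obtain ⟨D, hD, hDu, hDw, hDx⟩ := exists_torus hF n u w huu hww huw a₁ ha₁ ha₁q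
  have hg₂D : suMat (t₂ * (t₁ * g)) = D := by
    apply mat_ext_hyp hF n u w huu hww huw
    · rw [hg₂u, hDu]
    · rw [hg₂w, hDw, hb₂inv]
    · intro x hxu hxw
      rw [hg₂x x hxu hxw, hDx x hxu hxw]
  obtain ⟨d, hd, hdD⟩ := hD
  have h5 : t₂ * (t₁ * g) = d := suMat_inj (by rw [hg₂D, hdD])
  have hg : g = t₁⁻¹ * (t₂⁻¹ * d) := by
    rw [← h5]
    group
  exact ⟨g, by rw [hg]; exact mul_mem (inv_mem ht₁) (mul_mem (inv_mem ht₂) hd), rfl⟩

/-- `SU_2` is generated by transvections. -/
theorem su2_InT (g : ↥(SU 2 F q)) : InT 2 q (suMat g) := by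
  have hq2 := two_le_of_card_eq_sq hF
  obtain ⟨ζ, hζ⟩ := exists_norm_eq hF (-1) (neg_ne_zero.mpr one_ne_zero)
    (by rw [neg_pow_q hF, one_pow])
  obtain ⟨α, hα⟩ := exists_trace_one hF
  have hζ0 : ζ ≠ 0 := by
    rintro rfl
    rw [zero_mul] at hζ
    exact (neg_ne_zero.mpr one_ne_zero) hζ.symm
  have hζq : ζ ^ q ≠ 0 := pow_ne_zero _ hζ0
  have h1 : hermForm 2 F q ![1, ζ] ![1, ζ] = 0 := by
    simp only [hermForm, Fin.sum_univ_two, Matrix.cons_val_zero, Matrix.cons_val_one, one_pow,
      mul_one]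
    linear_combination hζ
  have h2 : hermForm 2 F q ![1 - α, -(α * ζ)] ![1 - α, -(α * ζ)] = 0 := by
    simp only [hermForm, Fin.sum_univ_two, Matrix.cons_val_zero, Matrix.cons_val_one,
      neg_pow_q hF, sub_pow_q hF, mul_pow, one_pow]
    linear_combination (-1 : F) * hα + (α * α ^ q) * hζ
  have h3 : hermForm 2 F q ![1, ζ] ![1 - α, -(α * ζ)] = 1 := by
    simp only [hermForm, Fin.sum_univ_two, Matrix.cons_val_zero, Matrix.cons_val_one,
      neg_pow_q hF, sub_pow_q hF, mul_pow, one_pow]
    linear_combination (-α ^ q) * hζ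
  apply stab_InT hF 2 ![1, ζ] ![1 - α, -(α * ζ)] h1 h2 h3 g
  intro x hxu hxw
  simp only [hermForm, Fin.sum_univ_two, Matrix.cons_val_zero, Matrix.cons_val_one,
    neg_pow_q hF, sub_pow_q hF, mul_pow, one_pow, mul_one] at hxu hxw
  have hx0 : x 0 = 0 := by linear_combination hxw + α ^ q * hxu
  have hx1 : x 1 = 0 := by
    rw [hx0, zero_add] at hxu
    rcases mul_eq_zero.mp hxu with h | h
    · exact h
    · exact absurd h hζq
  have hx : x = 0 := by
    funext i
    fin_cases i
    · exact hx0
    · exact hx1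
  rw [hx, Matrix.mulVec_zero]

end

end Cfsg.Agent.Lib.helper99
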