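import Mathlib
import Cfsg.Agent.Lib.helper17.ULag3
import Cfsg.Agent.Lib.helper17.GUBlock2
import Cfsg.Agent.Lib.helper24.LagCountB

/-!
Hyperbolic frames for pairs of complementary totally isotropic subspaces of the unitary space,
Witt's lemma for them, and conjugation of eigenframes into the stabiliser of a given pair
with determinant one.
-/

set_option autoImplicit false

namespace Cfsg.Agent.Lib.helper99.ULp

open Matrix Cfsg Cfsg.Geo Module Cfsg.Agent.Lib.helper17 Cfsg.Agent.Lib.helper95

section
variable {F : Type*} [Field F]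

/-- the linear functional `v ↦ h(v, w)` -/
def hl (n q : ℕ) (w : Fin n → F) : (Fin n → F) →ₗ[F] F where
  toFun v := hermForm n F q v w
  map_add' u v := hermForm_add_left n q u v w
  map_smul' c v := by
    rw [hermForm_smul_left, RingHom.id_apply, smul_eq_mul]

theorem hl_apply (n q : ℕ) (w v : Fin n → F) : hl n q w v = hermForm n F q v w := rfl

/-- hyperbolic frames -/
structure HFrame (n q : ℕ) {k : ℕ} (a b : Fin k → (Fin n → F)) : Prop where
  aa : ∀ i j, hermForm n F q (a i) (a j) = 0
  bb : ∀ i j, hermForm n F q (b i) (b j) = 0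
  ab : ∀ i j, hermForm n F q (a i) (b j) = if i = j then 1 else 0

theorem li_of_dual {n q : ℕ} {ι : Type} [Fintype ι] [DecidableEq ι] (x y : ι → (Fin n → F))
    (h : ∀ i j, hermForm n F q (x i) (y j) = if i = j then 1 else 0) : LinearIndependent F x := by
  rw [Fintype.linearIndependent_iff]
  intro g hg i
  have h1 := congrArg (hl n q (y i)) hg
  rw [map_sum, map_zero] at h1
  simp only [map_smul, smul_eq_mul, hl_apply, h, mul_ite, mul_one, mul_zero, Finset.sum_ite_eq',
    Finset.mem_univ, if_true] at h1
  exact h1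

/-- determinant of a matrix acting diagonally on a basis -/
theorem det_of_eigenbasis {m n : ℕ} (hmn : m = n) (M : Matrix (Fin n) (Fin n) F)
    (b : Fin m → (Fin n → F)) (hb : LinearIndependent F b) (d : Fin m → F)
    (h : ∀ i, M *ᵥ b i = d i • b i) : M.det = ∏ i, d i := by
  classical
  subst hmn
  obtain ⟨B, hB⟩ : ∃ B : Matrix (Fin m) (Fin m) F, B = Matrix.of (fun r c => b c r) := ⟨_, rfl⟩
  have h1 : M * B = B * Matrix.diagonal d := by
    ext r c
    rw [Matrix.mul_diagonal]
    have h2 := congrFun (h c) r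
    rw [Pi.smul_apply, smul_eq_mul] at h2
    have h3 : (M * B) r c = (M *ᵥ b c) r := by
      rw [Matrix.mul_apply, Matrix.mulVec, dotProduct]
      apply Finset.sum_congr rfl
      intro j _
      rw [hB, Matrix.of_apply]
    rw [h3, h2, hB, Matrix.of_apply, mul_comm]
  have hBu : IsUnit B := by
    rw [← Matrix.linearIndependent_cols_iff_isUnit]
    have : B.col = b := by
      funext c r
      rw [hB]
      rfl
    rw [this]
    exact hb
  have hdet : B.det ≠ 0 := ((Matrix.isUnit_iff_isUnit_det B).mp hBu).ne_zero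
  have h4 := congrArg Matrix.det h1
  rw [Matrix.det_mul, Matrix.det_mul, Matrix.det_diagonal] at h4
  exact mul_right_cancel₀ hdet (by rw [h4, mul_comm])

end

section
variable {F : Type*} [Field F] [Fintype F] {q : ℕ} (hF : Fintype.card F = q ^ 2)
include hF

theorem HFrame.ba {n k : ℕ} {a b : Fin k → (Fin n → F)} (h : HFrame n q a b) (i j : Fin k) :
    hermForm n F q (b i) (a j) = if i = j then 1 else 0 := by
  have hq2 := two_le_of_card_eq_sq hF
  rw [← hermForm_conj hF, h.ab j i]
  by_cases hij : i = j
  · subst hij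
    simp
  · rw [if_neg hij, if_neg (Ne.symm hij), zero_pow (by omega)]

theorem HFrame.gram {n k : ℕ} {a b a' b' : Fin k → (Fin n → F)} (h : HFrame n q a b)
    (h' : HFrame n q a' b') (i j : Fin (k + k)) :
    hermForm n F q (Fin.append a b i) (Fin.append a b j) =
      hermForm n F q (Fin.append a' b' i) (Fin.append a' b' j) := by
  refine Fin.addCases (fun i' => ?_) (fun i' => ?_) i <;>
    refine Fin.addCases (fun j' => ?_) (fun j' => ?_) j
  · simp only [Fin.append_left]
    rw [h.aa, h'.aa]
  · simp only [Fin.append_left, Fin.append_right]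
    rw [h.ab, h'.ab]
  · simp only [Fin.append_left, Fin.append_right]
    rw [h.ba hF, h'.ba hF]
  · simp only [Fin.append_right]
    rw [h.bb, h'.bb]

theorem HFrame.li {n k : ℕ} {a b : Fin k → (Fin n → F)} (h : HFrame n q a b) :
    LinearIndependent F (Fin.append a b) := by
  apply li_of_dual (q := q) (Fin.append a b) (Fin.append b a)
  intro i j
  refine Fin.addCases (fun i' => ?_) (fun i' => ?_) i <;>
    refine Fin.addCases (fun j' => ?_) (fun j' => ?_) j
  · simp only [Fin.append_left]
    rw [h.ab]
    by_cases hij : i' = j'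
    · subst hij
      simp
    · rw [if_neg hij, if_neg]
      intro hc
      apply hij
      have := congrArg Fin.val hc
      simp at this
      exact Fin.ext this
  · simp only [Fin.append_left, Fin.append_right]
    rw [h.aa, if_neg]
    intro hc
    have := congrArg Fin.val hc
    simp at this
    omega
  · simp only [Fin.append_left, Fin.append_right]
    rw [h.bb, if_neg]
    intro hc
    have := congrArg Fin.val hc
    simp at this
    omega
  · simp only [Fin.append_right]
    rw [h.ba hF]
    by_cases hij : i' = j'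
    · subst hij
      simp
    · rw [if_neg hij, if_neg]
      intro hc
      apply hij
      have := congrArg Fin.val hc
      simp at this
      exact Fin.ext this

/-- Witt's lemma for hyperbolic frames. -/
theorem witt_frame {n k : ℕ} {a b a' b' : Fin k → (Fin n → F)} (h : HFrame n q a b)
    (h' : HFrame n q a' b') :
    ∃ g : GL (Fin n) F, g ∈ GU n F q ∧ (∀ i, (g : Matrix (Fin n) (Fin n) F) *ᵥ a i = a' i) ∧
      (∀ i, (g : Matrix (Fin n) (Fin n) F) *ᵥ b i = b' i) := by
  obtain ⟨g, hg⟩ := gu_witt_family hF n (Fin.append a b) (Fin.append a' b') (h.li hF) (h'.li hF)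
    (h.gram hF h')
  refine ⟨g.1, g.2, fun i => ?_, fun i => ?_⟩
  · have := hg (Fin.castAdd k i)
    rwa [Fin.append_left, Fin.append_left] at this
  · have := hg (Fin.natAdd k i)
    rwa [Fin.append_right, Fin.append_right] at this

theorem HFrame.scale {n k : ℕ} {a b : Fin k → (Fin n → F)} (h : HFrame n q a b) (s : Fin k → F)
    (hs : ∀ i, s i ≠ 0) : HFrame n q (fun i => s i • a i) (fun i => (s i ^ q)⁻¹ • b i) := by
  refine ⟨fun i j => ?_, fun i j => ?_, fun i j => ?_⟩
  · rw [hermForm_smul_left, hermForm_smul_right, h.aa, mul_zero, mul_zero]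
  · rw [hermForm_smul_left, hermForm_smul_right, h.bb, mul_zero, mul_zero]
  · rw [hermForm_smul_left, hermForm_smul_right, h.ab]
    by_cases hij : i = j
    · subst hij
      rw [if_pos rfl, mul_one, inv_pow, pow_q_pow_q hF, mul_inv_cancel₀ (hs i)]
    · rw [if_neg hij, mul_zero, mul_zero]

theorem perp_all_zero (n : ℕ) (y : Fin n → F) (h : ∀ w, hermForm n F q w y = 0) : y = 0 := by
  have hq2 := two_le_of_card_eq_sq hF
  by_contra hy
  obtain ⟨w, hw⟩ := ulag_nondeg hF n y hy
  apply hw
  rw [← hermForm_conj hF, h w, zero_pow (by omega)]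

theorem lp_perp_zero {n : ℕ} {P Q : Submodule F (Fin n → F)} (hL : ULagPair n q P Q)
    (y : Fin n → F) (hy : y ∈ Q) (h : ∀ p ∈ P, hermForm n F q p y = 0) : y = 0 := by
  apply perp_all_zero hF n y
  intro w
  obtain ⟨p, hp, q', hq', rfl⟩ := hL.span w
  rw [hermForm_add_left, h p hp, hL.tsQ q' hq' y hy, add_zero]

theorem lp_finrank_le {n : ℕ} {P Q : Submodule F (Fin n → F)} (hL : ULagPair n q P Q) :
    finrank F Q ≤ finrank F P := by
  classical
  have hq2 := two_le_of_card_eq_sq hF
  obtain ⟨B⟩ : Nonempty (Module.Basis (Fin (finrank F P)) F P) := ⟨Module.finBasis F P⟩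
  obtain ⟨ψ, hψ⟩ : ∃ ψ : Q →ₗ[F] (Fin (finrank F P) → F),
      ∀ (y : Q) i, ψ y i = hermForm n F q (y : Fin n → F) (B i : Fin n → F) :=
    ⟨LinearMap.pi (fun i => (hl n q (B i : Fin n → F)).comp Q.subtype), fun y i => rfl⟩
  have hinj : Function.Injective ψ := by
    rw [injective_iff_map_eq_zero]
    intro y hy
    apply Subtype.ext
    apply lp_perp_zero hF hL y.1 y.2
    intro p hp
    have hφ : (hl n q y.1).comp P.subtype = 0 := by
      apply B.ext
      intro i
      have h1 : hermForm n F q (y : Fin n → F) (B i : Fin n → F) = 0 := by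
        rw [← hψ, hy]
        rfl
      show hermForm n F q (B i : Fin n → F) y.1 = 0
      rw [← hermForm_conj hF, h1, zero_pow (by omega)]
    exact congrArg (fun f => f ⟨p, hp⟩) hφ
  have := LinearMap.finrank_le_finrank_of_injective hinj
  rwa [Module.finrank_fin_fun] at this

theorem lp_finrank_eq {n : ℕ} {P Q : Submodule F (Fin n → F)} (hL : ULagPair n q P Q) :
    finrank F P = finrank F Q :=
  le_antisymm (lp_finrank_le hF hL.symm) (lp_finrank_le hF hL)

theorem lp_finrank_add {n : ℕ} {P Q : Submodule F (Fin n → F)} (hL : ULagPair n q P Q) :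
    finrank F P + finrank F Q = n := by
  have hc : IsCompl P Q := by
    constructor
    · rw [Submodule.disjoint_def]
      exact fun x hx hx' => hL.disj x hx hx'
    · rw [codisjoint_iff, eq_top_iff]
      intro x _
      obtain ⟨p, hp, q', hq', rfl⟩ := hL.span x
      exact Submodule.add_mem_sup hp hq'
  have := Submodule.finrank_add_eq_of_isCompl hc
  rw [this, Module.finrank_fin_fun]

theorem lp_exists_dual {n k : ℕ} {P Q : Submodule F (Fin n → F)} (hL : ULagPair n q P Q)
    (a : Fin k → (Fin n → F)) (ha : LinearIndependent F a) (haP : ∀ i, a i ∈ P)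
    (hk : finrank F P = k) :
    ∃ b : Fin k → (Fin n → F), (∀ i, b i ∈ Q) ∧ HFrame n q a b := by
  classical
  have hq2 := two_le_of_card_eq_sq hF
  have hspan : Submodule.span F (Set.range a) = P :=
    Cfsg.Agent.Lib.helper24.lag_span_eq P hk a ha haP
  obtain ⟨ψ, hψ⟩ : ∃ ψ : Q →ₗ[F] (Fin k → F),
      ∀ (y : Q) i, ψ y i = hermForm n F q (y : Fin n → F) (a i) :=
    ⟨LinearMap.pi (fun i => (hl n q (a i)).comp Q.subtype), fun y i => rfl⟩
  have hinj : Function.Injective ψ := by
    rw [injective_iff_map_eq_zero]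
    intro y hy
    apply Subtype.ext
    apply lp_perp_zero hF hL y.1 y.2
    intro p hp
    rw [← hspan] at hp
    induction hp using Submodule.span_induction with
    | mem x hx =>
      obtain ⟨i, rfl⟩ := hx
      have h1 : hermForm n F q (y : Fin n → F) (a i) = 0 := by
        rw [← hψ, hy]
        rfl
      rw [← hermForm_conj hF, h1, zero_pow (by omega)]
    | zero => exact hermForm_zero_left n q _
    | add x z _ _ hx hz => rw [hermForm_add_left, hx, hz, add_zero]
    | smul c x _ hx => rw [hermForm_smul_left, hx, mul_zero]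
  have hsurj : Function.Surjective ψ := by
    apply (LinearMap.injective_iff_surjective_of_finrank_eq_finrank ?_).mp hinj
    rw [Module.finrank_fin_fun, ← lp_finrank_eq hF hL, hk]
  choose b hb using fun i : Fin k => hsurj (Pi.single i 1)
  refine ⟨fun i => (b i : Fin n → F), fun i => (b i).2,
    ⟨fun i j => hL.tsP _ (haP i) _ (haP j), fun i j => hL.tsQ _ (b i).2 _ (b j).2, fun i j => ?_⟩⟩
  have h1 : hermForm n F q (b j : Fin n → F) (a i) = if i = j then 1 else 0 := by
    rw [← hψ, hb j, Pi.single_apply]
  rw [← hermForm_conj hF, h1]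
  split_ifs
  · rw [one_pow]
  · rw [zero_pow (by omega)]

theorem lp_exists_frame {n k : ℕ} {P Q : Submodule F (Fin n → F)} (hL : ULagPair n q P Q)
    (hk : finrank F P = k) :
    ∃ a b : Fin k → (Fin n → F), (∀ i, a i ∈ P) ∧ (∀ i, b i ∈ Q) ∧ HFrame n q a b ∧
      Submodule.span F (Set.range a) = P ∧ Submodule.span F (Set.range b) = Q := by
  classical
  obtain ⟨B⟩ : Nonempty (Module.Basis (Fin k) F P) :=
    ⟨(Module.finBasis F P).reindex (finCongr hk)⟩
  have ha : LinearIndependent F (fun i => (B i : Fin n → F)) :=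
    B.linearIndependent.map' P.subtype (Submodule.ker_subtype P)
  obtain ⟨b, hbQ, hfr⟩ := lp_exists_dual hF hL (fun i => (B i : Fin n → F)) ha (fun i => (B i).2) hk
  refine ⟨_, b, fun i => (B i).2, hbQ, hfr,
    Cfsg.Agent.Lib.helper24.lag_span_eq P hk _ ha (fun i => (B i).2),
    Cfsg.Agent.Lib.helper24.lag_span_eq Q (by rw [← lp_finrank_eq hF hL, hk]) b
      (li_of_dual (q := q) b _ (fun i j => hfr.ba hF i j)) hbQ⟩

end

end Cfsg.Agent.Lib.helper99.ULp
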