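import Mathlib
import Cfsg.Agent.Lib.helper99.ULpA

/-!
Conjugating an element with a hyperbolic eigenframe into the stabiliser of a given pair of
complementary totally isotropic subspaces, by an element of `SU`.
-/

set_option autoImplicit false

namespace Cfsg.Agent.Lib.helper99.ULp

open Matrix Cfsg Cfsg.Geo Module Cfsg.Agent.Lib.helper17 Cfsg.Agent.Lib.helper95

section
variable {F : Type*} [Field F] [Fintype F] {q : ℕ} (hF : Fintype.card F = q ^ 2)
include hF

/-- Hilbert 90 for the norm-one group. -/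
theorem exists_h90 (δ : F) (hδ : δ ^ (q + 1) = 1) : ∃ c : F, c ≠ 0 ∧ c ^ q = δ * c := by
  classical
  have hq2 := two_le_of_card_eq_sq hF
  have hδ0 : δ ≠ 0 := by
    intro h
    rw [h, zero_pow (by omega)] at hδ
    exact zero_ne_one hδ
  obtain ⟨γ, hγ⟩ := IsCyclic.exists_generator (α := Fˣ)
  have hord : orderOf γ = q ^ 2 - 1 := by
    rw [orderOf_eq_card_of_forall_mem_zpowers hγ, Nat.card_eq_fintype_card, Fintype.card_units, hF]
  have hmem := hγ (Units.mk0 δ hδ0)
  rw [mem_zpowers_iff_mem_range_orderOf, Finset.mem_image] at hmem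
  obtain ⟨m, -, hm⟩ := hmem
  have h1 : γ ^ (m * (q + 1)) = 1 := by
    rw [pow_mul, hm]
    apply Units.ext
    rw [Units.val_pow_eq_pow_val, Units.val_mk0, hδ, Units.val_one]
  have h2 : q ^ 2 - 1 ∣ m * (q + 1) := by
    rw [← hord]
    exact orderOf_dvd_of_pow_eq_one h1
  have h3 : q ^ 2 - 1 = (q - 1) * (q + 1) := by
    obtain ⟨t, rfl⟩ : ∃ t, q = t + 1 := ⟨q - 1, by omega⟩
    have : (t + 1) ^ 2 = (t + 1 - 1) * (t + 1 + 1) + 1 := by
      rw [Nat.add_sub_cancel]
      ring
    omega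
  rw [h3] at h2
  obtain ⟨m', hm'⟩ := Nat.dvd_of_mul_dvd_mul_right (by omega) h2
  refine ⟨((γ ^ m' : Fˣ) : F), Units.ne_zero _, ?_⟩
  have h4 : (γ ^ m') ^ (q - 1) = Units.mk0 δ hδ0 := by
    rw [← pow_mul, mul_comm, ← hm', ← hm]
  have h5 : (((γ ^ m' : Fˣ) : F)) ^ (q - 1) = δ := by
    rw [← Units.val_pow_eq_pow_val, h4, Units.val_mk0]
  have h6 : q = q - 1 + 1 := by omega
  rw [h6, pow_succ, h5]

/-- conjugation of an element with a hyperbolic eigenframe into the stabiliser of `D` -/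
theorem exists_conj_of_eigenframe {n k : ℕ} (hk : 0 < k) (D : Fin 2 → Submodule F (Fin n → F))
    (hL : ULagPair n q (D 0) (D 1)) (hd : finrank F (D 0) = k)
    (x : GL (Fin n) F) (a b : Fin k → (Fin n → F)) (hfr : HFrame n q a b) (α β : Fin k → F)
    (hxa : ∀ i, (x : Matrix (Fin n) (Fin n) F) *ᵥ a i = α i • a i)
    (hxb : ∀ i, (x : Matrix (Fin n) (Fin n) F) *ᵥ b i = β i • b i) :
    ∃ g ∈ GU n F q ⊓ specialLinear (Fin n) F, g⁻¹ * x * g ∈ decompositionStabilizer D := by
  classical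
  have hq2 := two_le_of_card_eq_sq hF
  have hdim : finrank F (D 0) = finrank F (D 1) := lp_finrank_eq hF hL
  have hkn : k + k = n := by
    have := lp_finrank_add hF hL
    rw [← hdim, hd] at this
    exact this
  obtain ⟨e, f, heD, hfD, hef, hspe, hspf⟩ := lp_exists_frame hF hL hd
  obtain ⟨g₀, hg₀U, hg₀e, hg₀f⟩ := witt_frame hF hef hfr
  have hδ := det_pow_of_mem_GU hF n g₀ hg₀U
  obtain ⟨c, hc0, hc⟩ := exists_h90 hF _ hδ
  obtain ⟨s, hs⟩ : ∃ s : Fin k → F, s = fun i => if i = (⟨0, hk⟩ : Fin k) then c else 1 := ⟨_, rfl⟩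
  have hs0 : ∀ i, s i ≠ 0 := by
    intro i
    rw [hs]
    show (if i = (⟨0, hk⟩ : Fin k) then c else 1) ≠ 0
    split_ifs
    · exact hc0
    · exact one_ne_zero
  obtain ⟨c', hc'U, hc'e, hc'f⟩ := witt_frame hF hef (hef.scale hF s hs0)
  have hdetc : (c' : Matrix (Fin n) (Fin n) F).det = c * (c ^ q)⁻¹ := by
    rw [det_of_eigenbasis hkn (c' : Matrix (Fin n) (Fin n) F) (Fin.append e f) (hef.li hF)
      (Fin.append s (fun i => (s i ^ q)⁻¹)) (by
        intro i
        refine Fin.addCases (fun i' => ?_) (fun i' => ?_) i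
        · rw [Fin.append_left, Fin.append_left]
          exact hc'e i'
        · rw [Fin.append_right, Fin.append_right]
          exact hc'f i')]
    rw [Fin.prod_univ_add]
    simp only [Fin.append_left, Fin.append_right]
    have h1 : ∏ i, s i = c := by
      rw [hs]
      rw [Finset.prod_ite_eq']
      simp
    have h2 : ∏ i, (s i ^ q)⁻¹ = (c ^ q)⁻¹ := by
      have : ∀ i, (s i ^ q)⁻¹ = if i = (⟨0, hk⟩ : Fin k) then (c ^ q)⁻¹ else 1 := by
        intro i
        rw [hs]
        show ((if i = (⟨0, hk⟩ : Fin k) then c else 1) ^ q)⁻¹ = _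
        split_ifs
        · rfl
        · rw [one_pow, inv_one]
      simp only [this]
      rw [Finset.prod_ite_eq']
      simp
    rw [h1, h2]
  refine ⟨g₀ * c', Subgroup.mem_inf.mpr ⟨Subgroup.mul_mem _ hg₀U hc'U, ?_⟩, ?_⟩
  · rw [mem_specialLinear_iff, Units.val_mul, Matrix.det_mul, hdetc, hc]
    have hd0 : (g₀ : Matrix (Fin n) (Fin n) F).det ≠ 0 := by
      intro h
      rw [h, zero_pow (by omega)] at hδ
      exact zero_ne_one hδ
    field_simp
  · have hge : ∀ i, ((g₀ * c' : GL (Fin n) F) : Matrix (Fin n) (Fin n) F) *ᵥ e i = s i • a i := by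
      intro i
      rw [Units.val_mul, ← Matrix.mulVec_mulVec, hc'e, Matrix.mulVec_smul, hg₀e]
    have hgf : ∀ i, ((g₀ * c' : GL (Fin n) F) : Matrix (Fin n) (Fin n) F) *ᵥ f i =
        (s i ^ q)⁻¹ • b i := by
      intro i
      rw [Units.val_mul, ← Matrix.mulVec_mulVec, hc'f, Matrix.mulVec_smul, hg₀f]
    have he : ∀ i, (((g₀ * c')⁻¹ * x * (g₀ * c') : GL (Fin n) F) : Matrix (Fin n) (Fin n) F) *ᵥ e i =
        α i • e i := by
      intro i
      rw [Units.val_mul, Units.val_mul, ← Matrix.mulVec_mulVec, ← Matrix.mulVec_mulVec, hge,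
        Matrix.mulVec_smul, hxa, smul_comm, ← hge, ← Matrix.mulVec_smul, gl_inv_mulVec_mulVec]
    have hf : ∀ i, (((g₀ * c')⁻¹ * x * (g₀ * c') : GL (Fin n) F) : Matrix (Fin n) (Fin n) F) *ᵥ f i =
        β i • f i := by
      intro i
      rw [Units.val_mul, Units.val_mul, ← Matrix.mulVec_mulVec, ← Matrix.mulVec_mulVec, hgf,
        Matrix.mulVec_smul, hxb, smul_comm, ← hgf, ← Matrix.mulVec_smul, gl_inv_mulVec_mulVec]
    refine (lag_mem_decomp_iff D hdim _).mpr (Or.inl ⟨fun v hv => ?_, fun v hv => ?_⟩)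
    · rw [← hspe] at hv
      induction hv using Submodule.span_induction with
      | mem y hy =>
        obtain ⟨i, rfl⟩ := hy
        rw [he]
        exact (D 0).smul_mem _ (heD i)
      | zero =>
        rw [Matrix.mulVec_zero]
        exact (D 0).zero_mem
      | add y z _ _ hy hz =>
        rw [Matrix.mulVec_add]
        exact (D 0).add_mem hy hz
      | smul t y _ hy =>
        rw [Matrix.mulVec_smul]
        exact (D 0).smul_mem _ hy
    · rw [← hspf] at hv
      induction hv using Submodule.span_induction with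
      | mem y hy =>
        obtain ⟨i, rfl⟩ := hy
        rw [hf]
        exact (D 1).smul_mem _ (hfD i)
      | zero =>
        rw [Matrix.mulVec_zero]
        exact (D 1).zero_mem
      | add y z _ _ hy hz =>
        rw [Matrix.mulVec_add]
        exact (D 1).add_mem hy hz
      | smul t y _ hy =>
        rw [Matrix.mulVec_smul]
        exact (D 1).smul_mem _ hy

end

end Cfsg.Agent.Lib.helper99.ULp
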