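import Mathlib
import Cfsg.Agent.Lib.helper99.ULpB

/-!
Hyperbolic eigenframes for elements of `SU_n(q)`, `q` odd, whose square is scalar.
-/

set_option autoImplicit false

namespace Cfsg.Agent.Lib.helper99.ULp

open Matrix Cfsg Cfsg.Geo Module Cfsg.Agent.Lib.helper17 Cfsg.Agent.Lib.helper95

theorem dvd_of_two_adic (o n Q : ℕ) (hn : n ≠ 0) (hQ : Q ≠ 0) (h1 : o ∣ Q) (h2 : o ∣ 2 * n)
    (hv : padicValNat 2 Q ≤ padicValNat 2 n) : o ∣ n := by
  have ho : o ≠ 0 := fun h => hQ (by rw [h] at h1; exact Nat.eq_zero_of_zero_dvd h1)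
  rw [← Nat.factorization_le_iff_dvd ho hn]
  intro p
  by_cases hp : p = 2
  · subst hp
    have h3 := (Nat.factorization_le_iff_dvd ho hQ).mpr h1 2
    simp only [Nat.factorization_def _ Nat.prime_two] at h3 ⊢
    omega
  · have h3 := (Nat.factorization_le_iff_dvd ho (by positivity : 2 * n ≠ 0)).mpr h2 p
    rw [Nat.factorization_mul two_ne_zero hn, Nat.Prime.factorization Nat.prime_two] at h3
    simpa [Finsupp.single_apply, Ne.symm hp] using h3

section
variable {F : Type*} [Field F] [Fintype F] {q : ℕ} (hF : Fintype.card F = q ^ 2)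
include hF

theorem char_ne_two (hq : Odd q) : ringChar F ≠ 2 := by
  intro h
  have h1 := FiniteField.even_card_of_char_two h
  rw [hF] at h1
  have h2 : Odd (q ^ 2) := hq.pow
  rw [Nat.odd_iff] at h2
  omega

theorem two_ne_zero' (hq : Odd q) : (2 : F) ≠ 0 := Ring.two_ne_zero (char_ne_two hF hq)

theorem two_pow_q : (2 : F) ^ q = 2 := by
  obtain ⟨σ, hσ⟩ := exists_frob hF
  rw [← hσ, map_ofNat]

theorem frame_of_orthonormal (hq : Odd q) {n k : ℕ} {ι : Type} [DecidableEq ι]
    (c : ι → (Fin n → F)) (hc : ∀ i j, hermForm n F q (c i) (c j) = if i = j then 1 else 0)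
    (ι₀ ι₁ : Fin k → ι) (h0 : Function.Injective ι₀) (h1 : Function.Injective ι₁)
    (h01 : ∀ i j, ι₀ i ≠ ι₁ j) (ε : F) (hε : ε * ε ^ q = -1) :
    HFrame n q (fun i => (2 : F)⁻¹ • (c (ι₀ i) + ε • c (ι₁ i)))
      (fun i => c (ι₀ i) - ε • c (ι₁ i)) := by
  have h2 := two_ne_zero' hF hq
  have h2q : ((2 : F)⁻¹) ^ q = (2 : F)⁻¹ := by rw [inv_pow, two_pow_q hF]
  have h22 : (2 : F)⁻¹ * 2 = 1 := inv_mul_cancel₀ h2
  have e00 : ∀ i j, hermForm n F q (c (ι₀ i)) (c (ι₀ j)) = if i = j then 1 else 0 := by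
    intro i j
    rw [hc]
    by_cases h : i = j
    · subst h
      simp
    · rw [if_neg h, if_neg (fun h' => h (h0 h'))]
  have e11 : ∀ i j, hermForm n F q (c (ι₁ i)) (c (ι₁ j)) = if i = j then 1 else 0 := by
    intro i j
    rw [hc]
    by_cases h : i = j
    · subst h
      simp
    · rw [if_neg h, if_neg (fun h' => h (h1 h'))]
  have e01 : ∀ i j, hermForm n F q (c (ι₀ i)) (c (ι₁ j)) = 0 := by
    intro i j
    rw [hc, if_neg (h01 i j)]
  have e10 : ∀ i j, hermForm n F q (c (ι₁ i)) (c (ι₀ j)) = 0 := by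
    intro i j
    rw [hc, if_neg (Ne.symm (h01 j i))]
  refine ⟨fun i j => ?_, fun i j => ?_, fun i j => ?_⟩
  · simp only [hermForm_smul_left, hermForm_smul_right, hermForm_add_left, hermForm_add_right hF,
      e00, e11, e01, e10, h2q]
    split_ifs
    · linear_combination ((2 : F)⁻¹ * (2 : F)⁻¹) * hε
    · ring
  · simp only [hermForm_smul_left, hermForm_smul_right, hermForm_sub_left, hermForm_sub_right hF,
      e00, e11, e01, e10]
    split_ifs
    · linear_combination hε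
    · ring
  · simp only [hermForm_smul_left, hermForm_smul_right, hermForm_add_left, hermForm_sub_right hF,
      e00, e11, e01, e10]
    split_ifs
    · linear_combination (-(2 : F)⁻¹) * hε + h22
    · ring

/-- the case of a scalar multiple of a unitary involution -/
theorem frame_of_invol (hq : Odd q) (n : ℕ) (X : Matrix (Fin n) (Fin n) F)
    (hX : ∀ u v, hermForm n F q (X *ᵥ u) (X *ᵥ v) = hermForm n F q u v) (l : F)
    (hl : l ^ (q + 1) = 1) (hXX : X * X = (l * l) • (1 : Matrix (Fin n) (Fin n) F))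
    (hdet : X.det = 1) (hn : Even n) (hn0 : n ≠ 0)
    (hv : padicValNat 2 (q + 1) ≤ padicValNat 2 n) :
    ∃ (k : ℕ) (a b : Fin k → (Fin n → F)) (α β : Fin k → F), k + k = n ∧ HFrame n q a b ∧
      (∀ i, X *ᵥ a i = α i • a i) ∧ (∀ i, X *ᵥ b i = β i • b i) := by
  classical
  have hq2 := two_le_of_card_eq_sq hF
  have h2 := two_ne_zero' hF hq
  have hl0 : l ≠ 0 := by
    intro h
    rw [h, zero_pow (by omega)] at hl
    exact zero_ne_one hl
  have hlq : l * l ^ q = 1 := by rw [← pow_succ']; exact hl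
  obtain ⟨Ep, hEp⟩ : ∃ E : Submodule F (Fin n → F), ∀ v, v ∈ E ↔ X *ᵥ v = l • v :=
    ⟨Module.End.eigenspace (Matrix.toLin' X) l, fun v => by
      rw [Module.End.mem_eigenspace_iff, Matrix.toLin'_apply]⟩
  obtain ⟨Em, hEm⟩ : ∃ E : Submodule F (Fin n → F), ∀ v, v ∈ E ↔ X *ᵥ v = (-l) • v :=
    ⟨Module.End.eigenspace (Matrix.toLin' X) (-l), fun v => by
      rw [Module.End.mem_eigenspace_iff, Matrix.toLin'_apply]⟩
  have hXXv : ∀ v, X *ᵥ (X *ᵥ v) = (l * l) • v := by
    intro v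
    rw [Matrix.mulVec_mulVec, hXX, Matrix.smul_mulVec, Matrix.one_mulVec]
  have hdec : ∀ v, ∃ u ∈ Ep, ∃ w ∈ Em, v = u + w := by
    intro v
    refine ⟨(2 : F)⁻¹ • (v + l⁻¹ • X *ᵥ v), ?_, (2 : F)⁻¹ • (v - l⁻¹ • X *ᵥ v), ?_, ?_⟩
    · rw [hEp, Matrix.mulVec_smul, Matrix.mulVec_add, Matrix.mulVec_smul, hXXv]
      funext i
      simp only [Pi.smul_apply, Pi.add_apply, smul_eq_mul]
      field_simp
      ring
    · rw [hEm, Matrix.mulVec_smul, Matrix.mulVec_sub, Matrix.mulVec_smul, hXXv]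
      funext i
      simp only [Pi.smul_apply, Pi.sub_apply, smul_eq_mul]
      field_simp
      ring
    · funext i
      simp only [Pi.smul_apply, Pi.add_apply, Pi.sub_apply, smul_eq_mul]
      field_simp
      ring
  have horth : ∀ u ∈ Ep, ∀ w ∈ Em, hermForm n F q u w = 0 := by
    intro u hu w hw
    have h := hX u w
    rw [(hEp u).mp hu, (hEm w).mp hw, hermForm_smul_left, hermForm_smul_right, Odd.neg_pow hq] at h
    have h3 : (2 : F) * hermForm n F q u w = 0 := by
      linear_combination (-1 : F) * h - hermForm n F q u w * hlq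
    exact (mul_eq_zero.mp h3).resolve_left h2
  have horth' : ∀ w ∈ Em, ∀ u ∈ Ep, hermForm n F q w u = 0 :=
    fun w hw u hu => hermForm_swap_zero hF n u w (horth u hu w hw)
  have hnd : ∀ u ∈ Ep, (∀ v ∈ Ep, hermForm n F q u v = 0) → u = 0 := by
    intro u hu h
    by_contra hu0
    obtain ⟨w, hw⟩ := ulag_nondeg hF n u hu0
    obtain ⟨w1, hw1, w2, hw2, rfl⟩ := hdec w
    apply hw
    rw [hermForm_add_right hF, h w1 hw1, horth u hu w2 hw2, add_zero]
  obtain ⟨a, ha⟩ : ∃ a, finrank F Ep = a := ⟨_, rfl⟩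
  have han : a ≤ n := by
    rw [← ha]
    have := Submodule.finrank_le Ep
    rwa [Module.finrank_fin_fun] at this
  obtain ⟨b, rfl⟩ : ∃ b, n = a + b := ⟨n - a, by omega⟩
  obtain ⟨A, hA⟩ := exists_gu_map_stdSubU hF a b Ep ha hnd
  obtain ⟨g, hgU, hg⟩ : ∃ g : GL (Fin (a + b)) F, g ∈ GU (a + b) F q ∧
      ∀ u, u ∈ stdSubU F a b ↔ (g : Matrix (Fin (a + b)) (Fin (a + b)) F) *ᵥ u ∈ Ep :=
    ⟨A.1, A.2, hA⟩
  have hgp : ∀ u v, hermForm (a + b) F q ((g : Matrix (Fin (a + b)) (Fin (a + b)) F) *ᵥ u)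
      ((g : Matrix (Fin (a + b)) (Fin (a + b)) F) *ᵥ v) = hermForm (a + b) F q u v := hgU
  obtain ⟨c, hcdef⟩ : ∃ c : Fin (a + b) → (Fin (a + b) → F),
      c = fun j => (g : Matrix (Fin (a + b)) (Fin (a + b)) F) *ᵥ Pi.single j 1 := ⟨_, rfl⟩
  have hc_orth : ∀ i j, hermForm (a + b) F q (c i) (c j) = if i = j then 1 else 0 := by
    intro i j
    rw [hcdef]
    show hermForm (a + b) F q ((g : Matrix (Fin (a + b)) (Fin (a + b)) F) *ᵥ Pi.single i 1)
      ((g : Matrix (Fin (a + b)) (Fin (a + b)) F) *ᵥ Pi.single j 1) = _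
    rw [hgp, hermForm_single_single _ (by omega)]
  have hc_p : ∀ j : Fin (a + b), j.val < a → c j ∈ Ep := by
    intro j hj
    rw [hcdef]
    apply (hg _).mp
    intro t
    rw [Pi.single_apply, if_neg]
    intro h
    have := congrArg Fin.val h
    simp at this
    omega
  have hc_m : ∀ j : Fin (a + b), a ≤ j.val → c j ∈ Em := by
    intro j hj
    obtain ⟨w1, hw1, w2, hw2, hw⟩ := hdec (c j)
    have hw10 : w1 = 0 := by
      apply hnd w1 hw1
      intro v hv
      have hu : ((g⁻¹ : GL (Fin (a + b)) F) : Matrix (Fin (a + b)) (Fin (a + b)) F) *ᵥ v ∈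
          stdSubU F a b := by
        rw [hg, gl_mulVec_inv_mulVec]
        exact hv
      have h1 : hermForm (a + b) F q (c j) v = 0 := by
        have hj' : j = Fin.natAdd a ⟨j.val - a, by omega⟩ := by
          apply Fin.ext
          simp
          omega
        have h3 := hu ⟨j.val - a, by omega⟩
        rw [← hj'] at h3
        rw [← gl_mulVec_inv_mulVec g v, hcdef]
        show hermForm (a + b) F q ((g : Matrix (Fin (a + b)) (Fin (a + b)) F) *ᵥ Pi.single j 1)
          ((g : Matrix (Fin (a + b)) (Fin (a + b)) F) *ᵥ _) = 0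
        rw [hgp, hermForm_single_left, h3, zero_pow (by omega)]
      have h4 : hermForm (a + b) F q w1 v =
          hermForm (a + b) F q (c j) v - hermForm (a + b) F q w2 v := by
        rw [hw, hermForm_add_left]
        ring
      rw [h4, h1, horth' w2 hw2 v hv, sub_zero]
    rw [hw, hw10, zero_add]
    exact hw2
  have hXc : ∀ j : Fin (a + b), X *ᵥ c j = (if j.val < a then l else -l) • c j := by
    intro j
    split_ifs with h
    · exact (hEp _).mp (hc_p j h)
    · exact (hEm _).mp (hc_m j (by omega))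
  have hdet' := det_of_eigenbasis rfl X c (li_of_dual (q := q) c c hc_orth) _ hXc
  rw [hdet, Fin.prod_univ_add] at hdet'
  have hpa : ∏ i : Fin a, (if (Fin.castAdd b i).val < a then l else -l) = l ^ a := by
    rw [Finset.prod_congr rfl (fun i _ => if_pos (by simp))]
    simp
  have hpb : ∏ i : Fin b, (if (Fin.natAdd a i).val < a then l else -l) = (-l) ^ b := by
    rw [Finset.prod_congr rfl (fun i _ => if_neg (by simp))]
    simp
  rw [hpa, hpb] at hdet'
  have hb : Even b := by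
    by_contra hbo
    rw [Nat.not_even_iff_odd] at hbo
    rw [Odd.neg_pow hbo] at hdet'
    have h5 : l ^ (a + b) = -1 := by
      rw [pow_add]
      linear_combination hdet'
    have ho1 : orderOf l ∣ q + 1 := orderOf_dvd_of_pow_eq_one hl
    have ho2 : orderOf l ∣ 2 * (a + b) := by
      apply orderOf_dvd_of_pow_eq_one
      rw [mul_comm, pow_mul, h5]
      norm_num
    have ho3 := dvd_of_two_adic _ _ _ hn0 (by omega) ho1 ho2 hv
    have h6 := orderOf_dvd_iff_pow_eq_one.mp ho3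
    rw [h5] at h6
    apply h2
    linear_combination (-1 : F) * h6
  have ha' : Even a := (Nat.even_add.mp hn).mpr hb
  obtain ⟨a', rfl⟩ := ha'
  obtain ⟨b', rfl⟩ := hb
  obtain ⟨ε, hε⟩ : ∃ ε : F, ε * ε ^ q = -1 := by
    obtain ⟨σ, hσ, hne, hinv⟩ := exists_frob' hF
    obtain ⟨c₀, hc₀⟩ := norm_surj σ hne hinv (-1) (neg_ne_zero.mpr one_ne_zero)
      (by rw [map_neg, map_one])
    exact ⟨c₀, by rw [← hσ]; exact hc₀⟩
  obtain ⟨ι₀, hι₀⟩ : ∃ ι₀ : Fin (a' + b') → Fin (a' + a' + (b' + b')),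
      ∀ i, (ι₀ i).val = 2 * i.val := ⟨fun i => ⟨2 * i.val, by omega⟩, fun i => rfl⟩
  obtain ⟨ι₁, hι₁⟩ : ∃ ι₁ : Fin (a' + b') → Fin (a' + a' + (b' + b')),
      ∀ i, (ι₁ i).val = 2 * i.val + 1 := ⟨fun i => ⟨2 * i.val + 1, by omega⟩, fun i => rfl⟩
  have hfr := frame_of_orthonormal hF hq c hc_orth ι₀ ι₁
    (fun i j h => by
      have := congrArg Fin.val h
      rw [hι₀, hι₀] at this
      exact Fin.ext (by omega))
    (fun i j h => by
      have := congrArg Fin.val h
      rw [hι₁, hι₁] at this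
      exact Fin.ext (by omega))
    (fun i j h => by
      have := congrArg Fin.val h
      rw [hι₀, hι₁] at this
      omega) ε hε
  refine ⟨a' + b', _, _, fun i => if (ι₀ i).val < a' + a' then l else -l,
    fun i => if (ι₀ i).val < a' + a' then l else -l, by omega, hfr, fun i => ?_, fun i => ?_⟩
  · have e1 : (if (ι₁ i).val < a' + a' then l else -l) = if (ι₀ i).val < a' + a' then l else -l := by
      rw [hι₀, hι₁]
      by_cases h : 2 * i.val < a' + a'
      · rw [if_pos h, if_pos (by omega)]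
      · rw [if_neg h, if_neg (by omega)]
    show X *ᵥ ((2 : F)⁻¹ • (c (ι₀ i) + ε • c (ι₁ i))) = _ • ((2 : F)⁻¹ • (c (ι₀ i) + ε • c (ι₁ i)))
    rw [Matrix.mulVec_smul, Matrix.mulVec_add, Matrix.mulVec_smul, hXc, hXc, e1]
    module
  · have e1 : (if (ι₁ i).val < a' + a' then l else -l) = if (ι₀ i).val < a' + a' then l else -l := by
      rw [hι₀, hι₁]
      by_cases h : 2 * i.val < a' + a'
      · rw [if_pos h, if_pos (by omega)]
      · rw [if_neg h, if_neg (by omega)]
    show X *ᵥ (c (ι₀ i) - ε • c (ι₁ i)) = _ • (c (ι₀ i) - ε • c (ι₁ i))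
    rw [Matrix.mulVec_sub, Matrix.mulVec_smul, hXc, hXc, e1]
    module

/-- the case of a scalar multiple of an anti-isometric involution -/
theorem frame_of_anti (hq : Odd q) (n : ℕ) (X : Matrix (Fin n) (Fin n) F)
    (hX : ∀ u v, hermForm n F q (X *ᵥ u) (X *ᵥ v) = hermForm n F q u v) (l : F)
    (hl : l ^ (q + 1) = -1) (hXX : X * X = (l * l) • (1 : Matrix (Fin n) (Fin n) F)) :
    ∃ (k : ℕ) (a b : Fin k → (Fin n → F)) (α β : Fin k → F), k + k = n ∧ HFrame n q a b ∧
      (∀ i, X *ᵥ a i = α i • a i) ∧ (∀ i, X *ᵥ b i = β i • b i) := by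
  classical
  have hq2 := two_le_of_card_eq_sq hF
  have h2 := two_ne_zero' hF hq
  have hl0 : l ≠ 0 := by
    intro h
    rw [h, zero_pow (by omega)] at hl
    have : (1 : F) = 0 := by linear_combination hl
    exact one_ne_zero this
  have hlq : l * l ^ q = -1 := by rw [← pow_succ']; exact hl
  obtain ⟨Ep, hEp⟩ : ∃ E : Submodule F (Fin n → F), ∀ v, v ∈ E ↔ X *ᵥ v = l • v :=
    ⟨Module.End.eigenspace (Matrix.toLin' X) l, fun v => by
      rw [Module.End.mem_eigenspace_iff, Matrix.toLin'_apply]⟩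
  obtain ⟨Em, hEm⟩ : ∃ E : Submodule F (Fin n → F), ∀ v, v ∈ E ↔ X *ᵥ v = (-l) • v :=
    ⟨Module.End.eigenspace (Matrix.toLin' X) (-l), fun v => by
      rw [Module.End.mem_eigenspace_iff, Matrix.toLin'_apply]⟩
  have hXXv : ∀ v, X *ᵥ (X *ᵥ v) = (l * l) • v := by
    intro v
    rw [Matrix.mulVec_mulVec, hXX, Matrix.smul_mulVec, Matrix.one_mulVec]
  have hdec : ∀ v, ∃ u ∈ Ep, ∃ w ∈ Em, v = u + w := by
    intro v
    refine ⟨(2 : F)⁻¹ • (v + l⁻¹ • X *ᵥ v), ?_, (2 : F)⁻¹ • (v - l⁻¹ • X *ᵥ v), ?_, ?_⟩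
    · rw [hEp, Matrix.mulVec_smul, Matrix.mulVec_add, Matrix.mulVec_smul, hXXv]
      funext i
      simp only [Pi.smul_apply, Pi.add_apply, smul_eq_mul]
      field_simp
      ring
    · rw [hEm, Matrix.mulVec_smul, Matrix.mulVec_sub, Matrix.mulVec_smul, hXXv]
      funext i
      simp only [Pi.smul_apply, Pi.sub_apply, smul_eq_mul]
      field_simp
      ring
    · funext i
      simp only [Pi.smul_apply, Pi.add_apply, Pi.sub_apply, smul_eq_mul]
      field_simp
      ring
  have hL : ULagPair n q Ep Em := by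
    refine ⟨fun u hu w hw => ?_, fun u hu w hw => ?_, fun v hv hv' => ?_, hdec⟩
    · have h := hX u w
      rw [(hEp u).mp hu, (hEp w).mp hw, hermForm_smul_left, hermForm_smul_right] at h
      have h3 : (2 : F) * hermForm n F q u w = 0 := by
        linear_combination (-1 : F) * h + hermForm n F q u w * hlq
      exact (mul_eq_zero.mp h3).resolve_left h2
    · have h := hX u w
      rw [(hEm u).mp hu, (hEm w).mp hw, hermForm_smul_left, hermForm_smul_right,
        Odd.neg_pow hq] at h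
      have h3 : (2 : F) * hermForm n F q u w = 0 := by
        linear_combination (-1 : F) * h + hermForm n F q u w * hlq
      exact (mul_eq_zero.mp h3).resolve_left h2
    · have h3 := (hEp v).mp hv
      rw [(hEm v).mp hv'] at h3
      have h4 : ((2 : F) * l) • v = 0 := by
        have : ((2 : F) * l) • v = l • v - (-l) • v := by module
        rw [this, h3, sub_self]
      exact (smul_eq_zero.mp h4).resolve_left (mul_ne_zero h2 hl0)
  obtain ⟨a, b, haP, hbQ, hfr, -, -⟩ := lp_exists_frame hF hL rfl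
  refine ⟨finrank F Ep, a, b, fun _ => l, fun _ => -l, ?_, hfr, fun i => (hEp _).mp (haP i),
    fun i => (hEm _).mp (hbQ i)⟩
  have h5 := lp_finrank_add hF hL
  rw [← lp_finrank_eq hF hL] at h5
  exact h5

/-- hyperbolic eigenframes for elements of `SU` with scalar square -/
theorem exists_eigenframe (hq : Odd q) (n : ℕ) (hn : Even n) (hn0 : n ≠ 0)
    (hv : padicValNat 2 (q + 1) ≤ padicValNat 2 n)
    (x : GL (Fin n) F) (hxU : x ∈ GU n F q) (hxS : x ∈ specialLinear (Fin n) F) (z : F)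
    (hz : ((x ^ 2 : GL (Fin n) F) : Matrix (Fin n) (Fin n) F) = z • (1 : Matrix (Fin n) (Fin n) F)) :
    ∃ (k : ℕ) (a b : Fin k → (Fin n → F)) (α β : Fin k → F), k + k = n ∧ HFrame n q a b ∧
      (∀ i, (x : Matrix (Fin n) (Fin n) F) *ᵥ a i = α i • a i) ∧
      (∀ i, (x : Matrix (Fin n) (Fin n) F) *ᵥ b i = β i • b i) := by
  classical
  have hq2 := two_le_of_card_eq_sq hF
  have hX : ∀ u v, hermForm n F q ((x : Matrix (Fin n) (Fin n) F) *ᵥ u)
      ((x : Matrix (Fin n) (Fin n) F) *ᵥ v) = hermForm n F q u v := hxU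
  have hdet : (x : Matrix (Fin n) (Fin n) F).det = 1 := (mem_specialLinear_iff x).mp hxS
  have hXX : (x : Matrix (Fin n) (Fin n) F) * (x : Matrix (Fin n) (Fin n) F) =
      z • (1 : Matrix (Fin n) (Fin n) F) := by
    rw [← hz, Units.val_pow_eq_pow_val, sq]
  obtain ⟨i₀⟩ : Nonempty (Fin n) := ⟨⟨0, Nat.pos_of_ne_zero hn0⟩⟩
  have hz1 : z ^ (q + 1) = 1 := by
    have h1 := hX ((x : Matrix (Fin n) (Fin n) F) *ᵥ Pi.single i₀ 1)
      ((x : Matrix (Fin n) (Fin n) F) *ᵥ Pi.single i₀ 1)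
    rw [Matrix.mulVec_mulVec, hXX, Matrix.smul_mulVec, Matrix.one_mulVec, hX, hermForm_smul_left,
      hermForm_smul_right, hermForm_single_single n (by omega), if_pos rfl, mul_one] at h1
    rw [pow_succ']
    exact h1
  have hz0 : z ≠ 0 := by
    intro h
    rw [h, zero_pow (by omega)] at hz1
    exact zero_ne_one hz1
  have hsq : IsSquare z := by
    rw [FiniteField.isSquare_iff (char_ne_two hF hq) hz0, hF]
    obtain ⟨t, rfl⟩ := hq
    have h1 : (2 * t + 1) ^ 2 / 2 = (2 * t + 1 + 1) * t := by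
      have : (2 * t + 1) ^ 2 = 2 * ((2 * t + 1 + 1) * t) + 1 := by ring
      omega
    rw [h1, pow_mul, hz1, one_pow]
  obtain ⟨l, hl⟩ := hsq
  have hl2 : (l ^ (q + 1) - 1) * (l ^ (q + 1) + 1) = 0 := by
    have : (l * l) ^ (q + 1) = 1 := by rw [← hl]; exact hz1
    rw [mul_pow] at this
    linear_combination this
  rw [hl] at hXX
  rcases mul_eq_zero.mp hl2 with h | h
  · exact frame_of_invol hF hq n _ hX l (sub_eq_zero.mp h) hXX hdet hn hn0 hv
  · exact frame_of_anti hF hq n _ hX l (eq_neg_of_add_eq_zero_left h) hXX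

end

end Cfsg.Agent.Lib.helper99.ULp
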