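import Mathlib
import Cfsg.Agent.Lib.helper99.ULpC

/-!
Elements of the unitary group stabilising no pair of complementary totally isotropic subspaces.
-/

set_option autoImplicit false

namespace Cfsg.Agent.Lib.helper99.ULp

open Matrix Cfsg Cfsg.Geo Module Cfsg.Agent.Lib.helper17 Cfsg.Agent.Lib.helper95

section
variable {F : Type*} [Field F]

theorem swap_contra {n q : ℕ} {P Q : Submodule F (Fin n → F)} (hL : ULagPair n q P Q)
    (X : Matrix (Fin n) (Fin n) F) (hsw : ∀ v ∈ P, X *ᵥ v ∈ Q) (w : Fin n → F) (hw : w ∈ P)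
    (hw0 : w ≠ 0) (μ : F) (hμ : μ ≠ 0) (hXw : X *ᵥ w = μ • w) : False := by
  have h1 := hsw w hw
  rw [hXw] at h1
  have h2 : w ∈ Q := by
    have := Q.smul_mem μ⁻¹ h1
    rwa [smul_smul, inv_mul_cancel₀ hμ, one_smul] at this
  exact hw0 (hL.disj w hw h2)

end

section
variable {F : Type*} [Field F] [Fintype F] {q : ℕ} (hF : Fintype.card F = q ^ 2)
include hF

theorem lp_two_le {n : ℕ} (hn : 4 ≤ n) {P Q : Submodule F (Fin n → F)} (hL : ULagPair n q P Q) :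
    2 ≤ finrank F P := by
  have h1 := lp_finrank_add hF hL
  have h2 := lp_finrank_eq hF hL
  omega

/-- a conjugate lying in the stabiliser of `D` gives a stable pair -/
theorem pair_of_conj {n : ℕ} (D : Fin 2 → Submodule F (Fin n → F))
    (hL : ULagPair n q (D 0) (D 1)) (x g : GL (Fin n) F) (hg : g ∈ GU n F q)
    (h : g⁻¹ * x * g ∈ decompositionStabilizer D) :
    ∃ P Q : Submodule F (Fin n → F), ULagPair n q P Q ∧
      (((∀ v ∈ P, (x : Matrix (Fin n) (Fin n) F) *ᵥ v ∈ P) ∧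
          (∀ v ∈ Q, (x : Matrix (Fin n) (Fin n) F) *ᵥ v ∈ Q)) ∨
       ((∀ v ∈ P, (x : Matrix (Fin n) (Fin n) F) *ᵥ v ∈ Q) ∧
          (∀ v ∈ Q, (x : Matrix (Fin n) (Fin n) F) *ᵥ v ∈ P))) := by
  have hdim := lp_finrank_eq hF hL
  have hgi : ∀ u v, hermForm n F q (((g⁻¹ : GL (Fin n) F) : Matrix (Fin n) (Fin n) F) *ᵥ u)
      (((g⁻¹ : GL (Fin n) F) : Matrix (Fin n) (Fin n) F) *ᵥ v) = hermForm n F q u v :=
    (GU n F q).inv_mem hg
  obtain ⟨P, hP⟩ : ∃ P : Submodule F (Fin n → F),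
      ∀ v, v ∈ P ↔ ((g⁻¹ : GL (Fin n) F) : Matrix (Fin n) (Fin n) F) *ᵥ v ∈ D 0 :=
    ⟨(D 0).comap (Matrix.toLin' ((g⁻¹ : GL (Fin n) F) : Matrix (Fin n) (Fin n) F)), fun v => by
      rw [Submodule.mem_comap, Matrix.toLin'_apply]⟩
  obtain ⟨Q, hQ⟩ : ∃ Q : Submodule F (Fin n → F),
      ∀ v, v ∈ Q ↔ ((g⁻¹ : GL (Fin n) F) : Matrix (Fin n) (Fin n) F) *ᵥ v ∈ D 1 :=
    ⟨(D 1).comap (Matrix.toLin' ((g⁻¹ : GL (Fin n) F) : Matrix (Fin n) (Fin n) F)), fun v => by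
      rw [Submodule.mem_comap, Matrix.toLin'_apply]⟩
  have key : ∀ v, ((g⁻¹ * x * g : GL (Fin n) F) : Matrix (Fin n) (Fin n) F) *ᵥ
      (((g⁻¹ : GL (Fin n) F) : Matrix (Fin n) (Fin n) F) *ᵥ v) =
      ((g⁻¹ : GL (Fin n) F) : Matrix (Fin n) (Fin n) F) *ᵥ
        ((x : Matrix (Fin n) (Fin n) F) *ᵥ v) := by
    intro v
    rw [Units.val_mul, Units.val_mul, ← Matrix.mulVec_mulVec, ← Matrix.mulVec_mulVec,
      gl_mulVec_inv_mulVec]
  refine ⟨P, Q, ⟨fun u hu v hv => ?_, fun u hu v hv => ?_, fun v hv hv' => ?_, fun v => ?_⟩, ?_⟩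
  · rw [← hgi]
    exact hL.tsP _ ((hP u).mp hu) _ ((hP v).mp hv)
  · rw [← hgi]
    exact hL.tsQ _ ((hQ u).mp hu) _ ((hQ v).mp hv)
  · have h0 := hL.disj _ ((hP v).mp hv) ((hQ v).mp hv')
    have h1 := congrArg (fun w => (g : Matrix (Fin n) (Fin n) F) *ᵥ w) h0
    simpa only [gl_mulVec_inv_mulVec, Matrix.mulVec_zero] using h1
  · obtain ⟨p, hp, q', hq', hpq⟩ := hL.span (((g⁻¹ : GL (Fin n) F) : Matrix (Fin n) (Fin n) F) *ᵥ v)
    refine ⟨(g : Matrix (Fin n) (Fin n) F) *ᵥ p, ?_, (g : Matrix (Fin n) (Fin n) F) *ᵥ q', ?_, ?_⟩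
    · rw [hP, gl_inv_mulVec_mulVec]
      exact hp
    · rw [hQ, gl_inv_mulVec_mulVec]
      exact hq'
    · rw [← Matrix.mulVec_add, ← hpq, gl_mulVec_inv_mulVec]
  · rcases (lag_mem_decomp_iff D hdim _).mp h with ⟨h0, h1⟩ | ⟨h0, h1⟩
    · left
      refine ⟨fun v hv => ?_, fun v hv => ?_⟩
      · rw [hP, ← key]
        exact h0 _ ((hP v).mp hv)
      · rw [hQ, ← key]
        exact h1 _ ((hQ v).mp hv)
    · right
      refine ⟨fun v hv => ?_, fun v hv => ?_⟩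
      · rw [hQ, ← key]
        exact h0 _ ((hP v).mp hv)
      · rw [hP, ← key]
        exact h1 _ ((hQ v).mp hv)

/-- unitary transvections stabilise no pair -/
theorem transv_not_stable {n : ℕ} (hn : 4 ≤ n) {P Q : Submodule F (Fin n → F)}
    (hL : ULagPair n q P Q) (v : Fin n → F) (hv0 : v ≠ 0) (c : F) (hc0 : c ≠ 0)
    (X : Matrix (Fin n) (Fin n) F)
    (hXv : ∀ w, X *ᵥ w = w + (c * hermForm n F q w v) • v) :
    ¬ (((∀ w ∈ P, X *ᵥ w ∈ P) ∧ (∀ w ∈ Q, X *ᵥ w ∈ Q)) ∨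
       ((∀ w ∈ P, X *ᵥ w ∈ Q) ∧ (∀ w ∈ Q, X *ᵥ w ∈ P))) := by
  rintro (⟨hP, hQ⟩ | ⟨hPQ, -⟩)
  · have key : ∀ (S : Submodule F (Fin n → F)), (∀ w ∈ S, X *ᵥ w ∈ S) →
        (v ∈ S ∨ ∀ w ∈ S, hermForm n F q w v = 0) := by
      intro S hS
      by_cases h : ∀ w ∈ S, hermForm n F q w v = 0
      · exact Or.inr h
      · push Not at h
        obtain ⟨w, hw, hwv⟩ := h
        left
        have h1 := hS w hw
        rw [hXv] at h1
        have h2 : (c * hermForm n F q w v) • v ∈ S := by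
          have := S.sub_mem h1 hw
          rwa [add_sub_cancel_left] at this
        have := S.smul_mem (c * hermForm n F q w v)⁻¹ h2
        rwa [smul_smul, inv_mul_cancel₀ (mul_ne_zero hc0 hwv), one_smul] at this
    apply hv0
    apply perp_all_zero hF n v
    intro w
    obtain ⟨p, hp, q', hq', rfl⟩ := hL.span w
    have hpv : hermForm n F q p v = 0 := by
      rcases key P hP with h | h
      · exact hL.tsP p hp v h
      · exact h p hp
    have hqv : hermForm n F q q' v = 0 := by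
      rcases key Q hQ with h | h
      · exact hL.tsQ q' hq' v h
      · exact h q' hq'
    rw [hermForm_add_left, hpv, hqv, add_zero]
  · have h2 := lp_two_le hF hn hL
    obtain ⟨w, hw, hw0, hwv⟩ := ulag_exists_perp n q P 1 (fun _ => v) (by omega)
    exact swap_contra hL X hPQ w hw hw0 1 one_ne_zero (by
      rw [hXv, hwv 0, mul_zero, zero_smul, add_zero, one_smul])

theorem ts_single {n : ℕ} (u : Fin n → F) (i₀ : Fin n) (h : ∀ j, j ≠ i₀ → u j = 0)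
    (huu : hermForm n F q u u = 0) : u = 0 := by
  have hq2 := two_le_of_card_eq_sq hF
  have h1 : hermForm n F q u u = u i₀ * u i₀ ^ q := by
    unfold hermForm
    rw [Finset.sum_eq_single i₀]
    · intro j _ hj
      rw [h j hj, zero_mul]
    · intro h'
      exact absurd (Finset.mem_univ _) h'
  rw [h1] at huu
  have h2 : u i₀ = 0 := by
    rcases mul_eq_zero.mp huu with h3 | h3
    · exact h3
    · exact pow_eq_zero_iff (by omega) |>.mp h3
  funext j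
  by_cases hj : j = i₀
  · rw [hj, h2]
    rfl
  · rw [h j hj]
    rfl

/-- a diagonal matrix with a simple eigenvalue fixes no pair -/
theorem diag_not_fix {n : ℕ} {P Q : Submodule F (Fin n → F)} (hL : ULagPair n q P Q)
    (d : Fin n → F) (i₀ : Fin n) (hd : ∀ j, j ≠ i₀ → d j ≠ d i₀) :
    ¬ ((∀ w ∈ P, Matrix.diagonal d *ᵥ w ∈ P) ∧ (∀ w ∈ Q, Matrix.diagonal d *ᵥ w ∈ Q)) := by
  classical
  rintro ⟨hP, hQ⟩
  obtain ⟨u, hu, w, hw, huw⟩ := hL.span (Pi.single i₀ 1)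
  have h1 : Matrix.diagonal d *ᵥ u - d i₀ • u ∈ P := P.sub_mem (hP u hu) (P.smul_mem _ hu)
  have h2 : Matrix.diagonal d *ᵥ w - d i₀ • w ∈ Q := Q.sub_mem (hQ w hw) (Q.smul_mem _ hw)
  have h3 : (Matrix.diagonal d *ᵥ u - d i₀ • u) + (Matrix.diagonal d *ᵥ w - d i₀ • w) = 0 := by
    have h4 : Matrix.diagonal d *ᵥ (u + w) = d i₀ • (u + w) := by
      rw [← huw]
      funext j
      rw [Matrix.mulVec_diagonal, Pi.smul_apply, smul_eq_mul, Pi.single_apply]
      split_ifs with hj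
      · rw [hj]
      · rw [mul_zero, mul_zero]
    rw [Matrix.mulVec_add, smul_add] at h4
    rw [sub_add_sub_comm, h4, sub_self]
  have h5 : Matrix.diagonal d *ᵥ u - d i₀ • u = 0 := by
    apply hL.disj _ h1
    have : Matrix.diagonal d *ᵥ u - d i₀ • u = -(Matrix.diagonal d *ᵥ w - d i₀ • w) :=
      eq_neg_of_add_eq_zero_left h3
    rw [this]
    exact Q.neg_mem h2
  have h6 : Matrix.diagonal d *ᵥ w - d i₀ • w = 0 := by
    rw [h5, zero_add] at h3
    exact h3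
  have hu0 : u = 0 := by
    apply ts_single hF u i₀ _ (hL.tsP u hu u hu)
    intro j hj
    have h7 := congrFun h5 j
    rw [Pi.sub_apply, Matrix.mulVec_diagonal, Pi.smul_apply, smul_eq_mul, Pi.zero_apply,
      ← sub_mul] at h7
    exact (mul_eq_zero.mp h7).resolve_left (sub_ne_zero.mpr (hd j hj))
  have hw0 : w = 0 := by
    apply ts_single hF w i₀ _ (hL.tsQ w hw w hw)
    intro j hj
    have h7 := congrFun h6 j
    rw [Pi.sub_apply, Matrix.mulVec_diagonal, Pi.smul_apply, smul_eq_mul, Pi.zero_apply,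
      ← sub_mul] at h7
    exact (mul_eq_zero.mp h7).resolve_left (sub_ne_zero.mpr (hd j hj))
  rw [hu0, hw0, add_zero] at huw
  have := congrFun huw i₀
  rw [Pi.single_eq_same, Pi.zero_apply] at this
  exact one_ne_zero this

/-- an element whose odd power is scalar interchanges no pair -/
theorem odd_not_swap {n : ℕ} (hn : 4 ≤ n) {P Q : Submodule F (Fin n → F)}
    (hL : ULagPair n q P Q) (X : Matrix (Fin n) (Fin n) F) (r : ℕ) (hr : Odd r) (z : F)
    (hz0 : z ≠ 0) (hXr : X ^ r = z • (1 : Matrix (Fin n) (Fin n) F)) :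
    ¬ ((∀ w ∈ P, X *ᵥ w ∈ Q) ∧ (∀ w ∈ Q, X *ᵥ w ∈ P)) := by
  rintro ⟨hPQ, hQP⟩
  obtain ⟨m, rfl⟩ := hr
  have h2m : ∀ m : ℕ, ∀ w ∈ P, (X ^ (2 * m)) *ᵥ w ∈ P := by
    intro m
    induction m with
    | zero =>
      intro w hw
      rw [mul_zero, pow_zero, Matrix.one_mulVec]
      exact hw
    | succ m ih =>
      intro w hw
      have e : 2 * (m + 1) = 2 * m + 2 := by ring
      rw [e, pow_add, pow_two, ← Matrix.mulVec_mulVec, ← Matrix.mulVec_mulVec]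
      exact ih _ (hQP _ (hPQ _ hw))
  have h2 := lp_two_le hF hn hL
  obtain ⟨w, hw, hw0, -⟩ := ulag_exists_perp n q P 0 (fun i => i.elim0) (by omega)
  refine swap_contra hL (X ^ (2 * m + 1)) ?_ w hw hw0 z hz0 ?_
  · intro v hv
    rw [pow_succ', ← Matrix.mulVec_mulVec]
    exact hPQ _ (h2m m v hv)
  · rw [hXr, Matrix.smul_mulVec, Matrix.one_mulVec]

theorem fix_all {n : ℕ} {P Q : Submodule F (Fin n → F)} (hL : ULagPair n q P Q)
    (X : Matrix (Fin n) (Fin n) F)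
    (hX : ∀ u v, hermForm n F q (X *ᵥ u) (X *ᵥ v) = hermForm n F q u v)
    (hQ : ∀ w ∈ Q, X *ᵥ w ∈ Q) (hP1 : ∀ u ∈ P, X *ᵥ u = u) : ∀ w ∈ Q, X *ᵥ w = w := by
  intro w hw
  have := lp_perp_zero hF hL (X *ᵥ w - w) (Q.sub_mem (hQ w hw) hw) (fun p hp => by
    rw [hermForm_sub_right hF]
    nth_rewrite 1 [← hP1 p hp]
    rw [hX, sub_self])
  exact sub_eq_zero.mp this

theorem eq_one_of_fix {n : ℕ} {P Q : Submodule F (Fin n → F)} (hL : ULagPair n q P Q)
    (X : Matrix (Fin n) (Fin n) F) (hP1 : ∀ u ∈ P, X *ᵥ u = u) (hQ1 : ∀ u ∈ Q, X *ᵥ u = u) :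
    X = 1 := by
  apply Matrix.toLin'.injective
  apply LinearMap.ext
  intro v
  obtain ⟨p, hp, q', hq', rfl⟩ := hL.span v
  rw [Matrix.toLin'_apply, Matrix.mulVec_add, hP1 p hp, hQ1 q' hq', Matrix.toLin'_one]
  rfl

/-- an element of odd prime order with small commutator space fixes no pair -/
theorem odd_block_not_fix {n : ℕ} {P Q : Submodule F (Fin n → F)} (hL : ULagPair n q P Q)
    (X : Matrix (Fin n) (Fin n) F)
    (hX : ∀ u v, hermForm n F q (X *ᵥ u) (X *ᵥ v) = hermForm n F q u v)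
    (r : ℕ) [Fact r.Prime] (hrq : ¬ r ∣ Fintype.card F) (hXr : X ^ r = 1) (hX1 : X ≠ 1)
    (i : ℕ) (hi : 1 ≤ i)
    (hmin : ∀ ρ, 1 ≤ ρ → ((Fintype.card F : ℕ) : ZMod r) ^ ρ = 1 → i ≤ ρ)
    (hrank : finrank F (LinearMap.range (Matrix.toLin' X - 1)) ≤ i) :
    ¬ ((∀ w ∈ P, X *ᵥ w ∈ P) ∧ (∀ w ∈ Q, X *ᵥ w ∈ Q)) := by
  rintro ⟨hP, hQ⟩
  have hT : (Matrix.toLin' X) ^ r = 1 := by
    rw [← Matrix.toLin'_pow, hXr, Matrix.toLin'_one]
    rfl
  have hPQ : P ⊓ Q = ⊥ := by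
    rw [eq_bot_iff]
    intro v hv
    rw [Submodule.mem_bot]
    exact hL.disj v hv.1 hv.2
  rcases Cfsg.Agent.Lib.helper24.lag_trivial_on_one r hrq (Matrix.toLin' X) hT i hi hmin hrank
    P Q hPQ (fun u hu => by rw [Matrix.toLin'_apply]; exact hP u hu)
    (fun u hu => by rw [Matrix.toLin'_apply]; exact hQ u hu) with h | h
  · have hP1 : ∀ u ∈ P, X *ᵥ u = u := fun u hu => by
      rw [← Matrix.toLin'_apply]
      exact h u hu
    exact hX1 (eq_one_of_fix hF hL X hP1 (fix_all hF hL X hX hQ hP1))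
  · have hQ1 : ∀ u ∈ Q, X *ᵥ u = u := fun u hu => by
      rw [← Matrix.toLin'_apply]
      exact h u hu
    exact hX1 (eq_one_of_fix hF hL X (fix_all hF hL.symm X hX hP hQ1) hQ1)

end

end Cfsg.Agent.Lib.helper99.ULp
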