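import Mathlib
import Cfsg.Agent.Lib.helper99.ULpD

/-!
The index of the stabiliser of a pair of complementary totally isotropic subspaces in `SU_n(q)`.
-/

set_option autoImplicit false

namespace Cfsg.Agent.Lib.helper99.ULp

open Matrix Cfsg Cfsg.Geo Module Cfsg.Agent.Lib.helper17 Cfsg.Agent.Lib.helper95

theorem relIndex_dvd_index_of_normal' {G : Type*} [Group G] [Finite G] (H K : Subgroup G)
    [K.Normal] : H.relIndex K ∣ H.index := by
  have h1 : K.relIndex (H ⊔ K) = K.relIndex H := Subgroup.relIndex_sup_right H K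
  have h2 : (H ⊓ K).relIndex K * K.index = (H ⊓ K).index :=
    Subgroup.relIndex_mul_index inf_le_right
  have h3 : (H ⊓ K).relIndex H * H.index = (H ⊓ K).index :=
    Subgroup.relIndex_mul_index inf_le_left
  rw [Subgroup.inf_relIndex_right] at h2
  rw [Subgroup.inf_relIndex_left] at h3
  have h4 : K.relIndex (H ⊔ K) * (H ⊔ K).index = K.index :=
    Subgroup.relIndex_mul_index le_sup_right
  rw [h1] at h4
  have hb : K.relIndex H ≠ 0 := by
    unfold Subgroup.relIndex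
    exact Subgroup.index_ne_zero_of_finite
  refine ⟨(H ⊔ K).index, ?_⟩
  apply Nat.eq_of_mul_eq_mul_left (Nat.pos_of_ne_zero hb)
  rw [h3, ← h2, ← h4]
  ring

section arith

theorem u_prod_gu (q k : ℕ) :
    ∏ i ∈ Finset.range (k + k), (if Even i then q ^ (i + 1) + 1 else q ^ (i + 1) - 1) =
      (∏ m ∈ Finset.range k, (q ^ (2 * m + 1) + 1)) *
        ∏ m ∈ Finset.range k, ((q ^ 2) ^ (m + 1) - 1) := by
  induction k with
  | zero => simp
  | succ k ih =>
    have e : k + 1 + (k + 1) = k + k + 1 + 1 := by ring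
    rw [e, Finset.prod_range_succ, Finset.prod_range_succ, ih, Finset.prod_range_succ,
      Finset.prod_range_succ]
    have h1 : Even (k + k) := ⟨k, rfl⟩
    have h2 : ¬ Even (k + k + 1) := by
      rw [Nat.not_even_iff_odd]
      exact ⟨k, by ring⟩
    rw [if_pos h1, if_neg h2]
    have e1 : k + k + 1 = 2 * k + 1 := by ring
    have e2 : q ^ (k + k + 1 + 1) = (q ^ 2) ^ (k + 1) := by
      rw [← pow_mul]
      congr 1
      ring
    rw [e2, e1]
    ring

theorem u_arith (q k N r : ℕ) (hr : r.Prime) (hq2 : 2 ≤ q) (hrq : ¬ r ∣ q)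
    (h : N * ∏ i : Fin k, ((q ^ 2) ^ k - (q ^ 2) ^ (i : ℕ)) =
      q ^ ((k + k) * (k + k - 1) / 2) *
        ∏ i ∈ Finset.range (k + k), (if Even i then q ^ (i + 1) + 1 else q ^ (i + 1) - 1))
    (hN : r ∣ N) : ∃ j, Odd j ∧ j < k + k ∧ r ∣ q ^ j + 1 := by
  rw [Cfsg.Agent.Lib.helper24.lag_prod_fin (q ^ 2) k, u_prod_gu] at h
  have hB : 0 < ∏ m ∈ Finset.range k, ((q ^ 2) ^ (m + 1) - 1) := by
    apply Finset.prod_pos
    intro i _
    have h1 : 2 ≤ (q ^ 2) ^ (i + 1) := by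
      calc 2 ≤ q := hq2
        _ ≤ q ^ 2 := by nlinarith
        _ = (q ^ 2) ^ 1 := (pow_one _).symm
        _ ≤ (q ^ 2) ^ (i + 1) := Nat.pow_le_pow_right (by positivity) (by omega)
    omega
  have h2 : N * ∏ i ∈ Finset.range k, (q ^ 2) ^ i =
      q ^ ((k + k) * (k + k - 1) / 2) * ∏ m ∈ Finset.range k, (q ^ (2 * m + 1) + 1) := by
    apply Nat.eq_of_mul_eq_mul_right hB
    rw [mul_assoc, h]
    ring
  have h4 : r ∣ q ^ ((k + k) * (k + k - 1) / 2) *
      ∏ m ∈ Finset.range k, (q ^ (2 * m + 1) + 1) := by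
    rw [← h2]
    exact Dvd.dvd.mul_right hN _
  rcases (Nat.Prime.dvd_mul hr).1 h4 with h5 | h5
  · exact absurd (hr.dvd_of_dvd_pow h5) hrq
  · obtain ⟨i, hi, h6⟩ := (Prime.dvd_finsetProd_iff hr.prime _).1 h5
    rw [Finset.mem_range] at hi
    exact ⟨2 * i + 1, ⟨i, rfl⟩, by omega, h6⟩

theorem u_order (q r j : ℕ) [hr : Fact r.Prime] (hr2 : r ≠ 2) (hj : Odd j)
    (h : r ∣ q ^ j + 1) :
    ∃ e, Odd e ∧ e ≤ j ∧ r ∣ q ^ e + 1 ∧
      ∀ ρ, 1 ≤ ρ → ((q ^ 2 : ℕ) : ZMod r) ^ ρ = 1 → e ≤ ρ := by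
  have hj1 : 1 ≤ j := by
    obtain ⟨t, rfl⟩ := hj
    omega
  have h1 : ((q : ℕ) : ZMod r) ^ j = -1 := by
    have h0 := (ZMod.natCast_eq_zero_iff (q ^ j + 1) r).2 h
    push_cast at h0
    exact eq_neg_of_add_eq_zero_left h0
  have h2 : ((q : ℕ) : ZMod r) ^ (2 * j) = 1 := by
    rw [mul_comm, pow_mul, h1]
    norm_num
  have hne : (-1 : ZMod r) ≠ 1 := by
    intro h3
    have h4 : (2 : ZMod r) = 0 := by linear_combination (-1 : ZMod r) * h3
    have h5 : ((2 : ℕ) : ZMod r) = 0 := by exact_mod_cast h4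
    rw [ZMod.natCast_eq_zero_iff] at h5
    exact hr2 ((Nat.prime_dvd_prime_iff_eq hr.out Nat.prime_two).1 h5)
  have hi_dvd : orderOf ((q : ℕ) : ZMod r) ∣ 2 * j := orderOf_dvd_of_pow_eq_one h2
  have hi_ndvd : ¬ orderOf ((q : ℕ) : ZMod r) ∣ j := by
    rintro ⟨c, hc⟩
    apply hne
    rw [← h1, hc, pow_mul, pow_orderOf_eq_one, one_pow]
  have hi_even : 2 ∣ orderOf ((q : ℕ) : ZMod r) := by
    by_contra hcon
    have h3 : Nat.Coprime 2 (orderOf ((q : ℕ) : ZMod r)) :=
      (Nat.Prime.coprime_iff_not_dvd Nat.prime_two).2 hcon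
    exact hi_ndvd (Nat.Coprime.dvd_of_dvd_mul_left h3.symm hi_dvd)
  obtain ⟨e, he⟩ := hi_even
  have he_dvd : e ∣ j := by
    rw [he] at hi_dvd
    exact Nat.dvd_of_mul_dvd_mul_left (by norm_num) hi_dvd
  have he1 : 1 ≤ e := by
    rcases Nat.eq_zero_or_pos e with h3 | h3
    · exfalso
      rw [h3] at he_dvd
      have := Nat.eq_zero_of_zero_dvd he_dvd
      omega
    · exact h3
  have hqe : ((q : ℕ) : ZMod r) ^ e = -1 := by
    have h3 : (((q : ℕ) : ZMod r) ^ e - 1) * (((q : ℕ) : ZMod r) ^ e + 1) = 0 := by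
      have h4 : ((q : ℕ) : ZMod r) ^ (2 * e) = 1 := by rw [← he, pow_orderOf_eq_one]
      rw [mul_comm, pow_mul] at h4
      linear_combination h4
    rcases mul_eq_zero.mp h3 with h4 | h4
    · exfalso
      have h5 : orderOf ((q : ℕ) : ZMod r) ∣ e := orderOf_dvd_of_pow_eq_one (sub_eq_zero.mp h4)
      rw [he] at h5
      have := Nat.le_of_dvd (by omega) h5
      omega
    · exact eq_neg_of_add_eq_zero_left h4
  refine ⟨e, Odd.of_dvd_nat hj he_dvd, Nat.le_of_dvd hj1 he_dvd, ?_, ?_⟩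
  · rw [← ZMod.natCast_eq_zero_iff]
    push_cast
    rw [hqe]
    ring
  · intro ρ hρ h3
    have h4 : ((q : ℕ) : ZMod r) ^ (2 * ρ) = 1 := by
      rw [pow_mul]
      push_cast at h3
      exact h3
    have h5 : 2 * e ∣ 2 * ρ := by
      rw [← he]
      exact orderOf_dvd_of_pow_eq_one h4
    exact Nat.le_of_dvd hρ (Nat.dvd_of_mul_dvd_mul_left (by norm_num) h5)

end arith

section
variable {F : Type*} [Field F]

theorem maps_span {n k : ℕ} (M : Matrix (Fin n) (Fin n) F) (e : Fin k → (Fin n → F))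
    (S : Submodule F (Fin n → F)) (h : ∀ i, M *ᵥ e i ∈ S) :
    ∀ v ∈ Submodule.span F (Set.range e), M *ᵥ v ∈ S := by
  intro v hv
  induction hv using Submodule.span_induction with
  | mem y hy =>
    obtain ⟨i, rfl⟩ := hy
    exact h i
  | zero =>
    rw [Matrix.mulVec_zero]
    exact S.zero_mem
  | add y z _ _ hy hz =>
    rw [Matrix.mulVec_add]
    exact S.add_mem hy hz
  | smul t y _ hy =>
    rw [Matrix.mulVec_smul]
    exact S.smul_mem _ hy

theorem fixes_span {n k : ℕ} (M : Matrix (Fin n) (Fin n) F) (e : Fin k → (Fin n → F))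
    (h : ∀ i, M *ᵥ e i = e i) : ∀ v ∈ Submodule.span F (Set.range e), M *ᵥ v = v := by
  intro v hv
  induction hv using Submodule.span_induction with
  | mem y hy =>
    obtain ⟨i, rfl⟩ := hy
    exact h i
  | zero => rw [Matrix.mulVec_zero]
  | add y z _ _ hy hz => rw [Matrix.mulVec_add, hy, hz]
  | smul t y _ hy => rw [Matrix.mulVec_smul, hy]

end

section
variable {F : Type*} [Field F] [Fintype F] {q : ℕ} (hF : Fintype.card F = q ^ 2)
include hF

/-- the order of the stabiliser in `GU` of both members of the pair -/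
theorem card_stab {n k : ℕ} (D : Fin 2 → Submodule F (Fin n → F))
    (hL : ULagPair n q (D 0) (D 1)) (hd : finrank F (D 0) = k) :
    Nat.card ↥(GU n F q ⊓ subspaceStabilizer (D 0) ⊓ subspaceStabilizer (D 1)) =
      ∏ i : Fin k, ((q ^ 2) ^ k - (q ^ 2) ^ (i : ℕ)) := by
  classical
  obtain ⟨e, f, heD, hfD, hef, hspe, hspf⟩ := lp_exists_frame hF hL hd
  have he_li : LinearIndependent F e := li_of_dual (q := q) e f hef.ab
  have hcard := card_linearIndependent (K := F) (V := ↥(D 0)) (k := k) (by rw [hd])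
  rw [hd, hF] at hcard
  rw [← hcard]
  have hmem : ∀ (g : ↥(GU n F q ⊓ subspaceStabilizer (D 0) ⊓ subspaceStabilizer (D 1))) i,
      ((g.1 : GL (Fin n) F) : Matrix (Fin n) (Fin n) F) *ᵥ e i ∈ D 0 := fun g i =>
    ((mem_subspaceStabilizer_iff (D 0) g.1).mp g.2.1.2 (e i)).mp (heD i)
  have hli : ∀ (g : ↥(GU n F q ⊓ subspaceStabilizer (D 0) ⊓ subspaceStabilizer (D 1))),
      LinearIndependent F (fun i => (⟨((g.1 : GL (Fin n) F) : Matrix (Fin n) (Fin n) F) *ᵥ e i,
        hmem g i⟩ : ↥(D 0))) := by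
    intro g
    apply LinearIndependent.of_comp (D 0).subtype
    have hinj : Function.Injective
        (Matrix.toLin' ((g.1 : GL (Fin n) F) : Matrix (Fin n) (Fin n) F)) := by
      intro x y hxy
      rw [Matrix.toLin'_apply, Matrix.toLin'_apply] at hxy
      have := congrArg (fun v => (((g.1 : GL (Fin n) F)⁻¹ : GL (Fin n) F) :
        Matrix (Fin n) (Fin n) F) *ᵥ v) hxy
      simpa only [gl_inv_mulVec_mulVec] using this
    have h6 := he_li.map' (Matrix.toLin' ((g.1 : GL (Fin n) F) : Matrix (Fin n) (Fin n) F))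
      (LinearMap.ker_eq_bot.mpr hinj)
    have h7 : (Matrix.toLin' ((g.1 : GL (Fin n) F) : Matrix (Fin n) (Fin n) F)) ∘ e =
        fun i => ((g.1 : GL (Fin n) F) : Matrix (Fin n) (Fin n) F) *ᵥ e i :=
      funext fun i => Matrix.toLin'_apply _ _
    rw [h7] at h6
    exact h6
  apply Nat.card_congr
  refine Equiv.ofBijective (fun g => ⟨fun i => ⟨_, hmem g i⟩, hli g⟩) ⟨?_, ?_⟩
  · intro g g' hgg'
    have h1 : ∀ i, ((g.1 : GL (Fin n) F) : Matrix (Fin n) (Fin n) F) *ᵥ e i =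
        ((g'.1 : GL (Fin n) F) : Matrix (Fin n) (Fin n) F) *ᵥ e i := fun i =>
      congrArg Subtype.val (congrFun (congrArg Subtype.val hgg') i)
    have hhe : ∀ i, (((g.1 : GL (Fin n) F)⁻¹ * g'.1 : GL (Fin n) F) :
        Matrix (Fin n) (Fin n) F) *ᵥ e i = e i := by
      intro i
      rw [Units.val_mul, ← Matrix.mulVec_mulVec, ← h1, gl_inv_mulVec_mulVec]
    have hhU : (g.1 : GL (Fin n) F)⁻¹ * g'.1 ∈ GU n F q :=
      (GU n F q).mul_mem ((GU n F q).inv_mem g.2.1.1) g'.2.1.1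
    have hh1 : (g.1 : GL (Fin n) F)⁻¹ * g'.1 ∈ subspaceStabilizer (D 1) :=
      (subspaceStabilizer (D 1)).mul_mem ((subspaceStabilizer (D 1)).inv_mem g.2.2) g'.2.2
    have hP1 : ∀ u ∈ D 0, (((g.1 : GL (Fin n) F)⁻¹ * g'.1 : GL (Fin n) F) :
        Matrix (Fin n) (Fin n) F) *ᵥ u = u := by
      intro u hu
      rw [← hspe] at hu
      exact fixes_span _ e hhe u hu
    have hQ1 := fix_all hF hL _ hhU
      (fun w hw => ((mem_subspaceStabilizer_iff (D 1) _).mp hh1 w).mp hw) hP1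
    have h2 := eq_one_of_fix hF hL _ hP1 hQ1
    have h3 : (g.1 : GL (Fin n) F)⁻¹ * g'.1 = 1 := Units.ext h2
    exact Subtype.ext (inv_mul_eq_one.mp h3)
  · rintro ⟨s, hs⟩
    have ha' : LinearIndependent F (fun i => ((s i : ↥(D 0)) : Fin n → F)) :=
      hs.map' (D 0).subtype (Submodule.ker_subtype _)
    obtain ⟨b', hb'Q, hfr'⟩ := lp_exists_dual hF hL _ ha' (fun i => (s i).2) hd
    obtain ⟨g, hgU, hge, hgf⟩ := witt_frame hF hef hfr'
    have h0 : g ∈ subspaceStabilizer (D 0) := by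
      apply mem_subspaceStabilizer_of_forall
      intro v hv
      rw [← hspe] at hv
      exact maps_span _ e (D 0) (fun i => by rw [hge]; exact (s i).2) v hv
    have h1 : g ∈ subspaceStabilizer (D 1) := by
      apply mem_subspaceStabilizer_of_forall
      intro v hv
      rw [← hspf] at hv
      exact maps_span _ f (D 1) (fun i => by rw [hgf]; exact hb'Q i) v hv
    exact ⟨⟨g, ⟨⟨hgU, h0⟩, h1⟩⟩, Subtype.ext (funext fun i => Subtype.ext (hge i))⟩

theorem index_prime_dvd {n k : ℕ} (hkn : k + k = n) (D : Fin 2 → Submodule F (Fin n → F))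
    (hL : ULagPair n q (D 0) (D 1)) (hd : finrank F (D 0) = k) (r : ℕ) (hr : r.Prime)
    (hrq : ¬ r ∣ q)
    (hΩ : r ∣ (decompositionStabilizer D).relIndex (GU n F q ⊓ specialLinear (Fin n) F)) :
    ∃ j, Odd j ∧ j < n ∧ r ∣ q ^ j + 1 := by
  classical
  have hq2 := two_le_of_card_eq_sq hF
  have hKH : GU n F q ⊓ subspaceStabilizer (D 0) ⊓ subspaceStabilizer (D 1) ≤
      decompositionStabilizer D := by
    intro g hg
    exact (lag_mem_decomp_iff D (lp_finrank_eq hF hL) g).mpr (Or.inl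
      ⟨fun v hv => ((mem_subspaceStabilizer_iff _ g).mp hg.1.2 v).mp hv,
        fun v hv => ((mem_subspaceStabilizer_iff _ g).mp hg.2 v).mp hv⟩)
  have hKU : GU n F q ⊓ subspaceStabilizer (D 0) ⊓ subspaceStabilizer (D 1) ≤ GU n F q :=
    fun g hg => hg.1.1
  have h1 := Subgroup.relIndex_dvd_of_le_left (GU n F q ⊓ specialLinear (Fin n) F) hKH
  have h2 : (GU n F q ⊓ subspaceStabilizer (D 0) ⊓ subspaceStabilizer (D 1)).relIndex
      (GU n F q ⊓ specialLinear (Fin n) F) ∣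
      (GU n F q ⊓ subspaceStabilizer (D 0) ⊓ subspaceStabilizer (D 1)).relIndex (GU n F q) := by
    rw [← Subgroup.relIndex_subgroupOf
      (inf_le_left : GU n F q ⊓ specialLinear (Fin n) F ≤ GU n F q)]
    have : (specialLinear (Fin n) F).Normal := by
      unfold specialLinear
      infer_instance
    have : ((GU n F q ⊓ specialLinear (Fin n) F).subgroupOf (GU n F q)).Normal := by
      rw [Subgroup.inf_subgroupOf_left]
      infer_instance
    exact relIndex_dvd_index_of_normal' _ _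
  have h3 := Subgroup.relIndex_mul_relIndex ⊥ _ (GU n F q) bot_le hKU
  rw [Subgroup.relIndex_bot_left, Subgroup.relIndex_bot_left, card_stab hF D hL hd,
    Cfsg.Agent.Lib.helper7.card_GU hF n] at h3
  subst hkn
  exact u_arith q k _ r hr hq2 hrq (by rw [mul_comm]; exact h3) (dvd_trans hΩ (dvd_trans h1 h2))

end

end Cfsg.Agent.Lib.helper99.ULp
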