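import Mathlib
import Cfsg.Agent.Lib.helper99.ULpE

/-!
Explicit elements of `SU_n(q)` stabilising no pair of complementary totally isotropic subspaces:
transvections, scalar multiples of reflections, diagonal elements of odd prime order.
-/

set_option autoImplicit false

namespace Cfsg.Agent.Lib.helper99.ULp

open Matrix Cfsg Cfsg.Geo Module Cfsg.Agent.Lib.helper17 Cfsg.Agent.Lib.helper95

section
variable {F : Type*} [Field F] [Fintype F] {q : ℕ} (hF : Fintype.card F = q ^ 2)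
include hF

theorem exists_norm_neg_one' : ∃ ε : F, ε * ε ^ q = -1 := by
  obtain ⟨σ, hσ, hne, hinv⟩ := exists_frob' hF
  obtain ⟨c₀, hc₀⟩ := norm_surj σ hne hinv (-1) (neg_ne_zero.mpr one_ne_zero)
    (by rw [map_neg, map_one])
  exact ⟨c₀, by rw [← hσ]; exact hc₀⟩

/-- a unitary transvection is a derangement of order `p` -/
theorem exists_transv (n : ℕ) (hn : 4 ≤ n) (p : ℕ) [Fact p.Prime] [CharP F p] :
    ∃ x : GL (Fin n) F, x ∈ GU n F q ⊓ specialLinear (Fin n) F ∧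
      ((x ^ p : GL (Fin n) F) : Matrix (Fin n) (Fin n) F) = 1 ∧
      (∀ z : F, (x : Matrix (Fin n) (Fin n) F) ≠ z • (1 : Matrix (Fin n) (Fin n) F)) ∧
      ∀ P Q : Submodule F (Fin n → F), ULagPair n q P Q →
        ¬ (((∀ w ∈ P, (x : Matrix (Fin n) (Fin n) F) *ᵥ w ∈ P) ∧
              (∀ w ∈ Q, (x : Matrix (Fin n) (Fin n) F) *ᵥ w ∈ Q)) ∨
           ((∀ w ∈ P, (x : Matrix (Fin n) (Fin n) F) *ᵥ w ∈ Q) ∧
              (∀ w ∈ Q, (x : Matrix (Fin n) (Fin n) F) *ᵥ w ∈ P))) := by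
  classical
  have hq2 := two_le_of_card_eq_sq hF
  obtain ⟨ε, hε⟩ := exists_norm_neg_one' hF
  obtain ⟨c, hc0, hc⟩ := exists_trace_zero_ne hF
  obtain ⟨i₀, i₁, h01⟩ : ∃ i₀ i₁ : Fin n, i₀ ≠ i₁ :=
    ⟨⟨0, by omega⟩, ⟨1, by omega⟩, fun h => by simpa using congrArg Fin.val h⟩
  obtain ⟨v, hvdef⟩ : ∃ v : Fin n → F, v = Pi.single i₀ 1 + ε • Pi.single i₁ 1 := ⟨_, rfl⟩
  have hvv : hermForm n F q v v = 0 := by
    rw [hvdef]
    simp only [hermForm_add_left, hermForm_add_right hF, hermForm_smul_left, hermForm_smul_right,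
      hermForm_single_single n (by omega : q ≠ 0), if_neg h01, if_neg (Ne.symm h01)]
    simp only [if_true]
    linear_combination hε
  have hv0 : v ≠ 0 := by
    intro h
    have h1 := congrFun h i₀
    rw [hvdef] at h1
    simp [Pi.single_apply, h01] at h1
  have hmul := uT_mulVec hF n v c hvv
  have hpow : ∀ (m : ℕ) (w : Fin n → F),
      ((uE n q v 0 c ^ m : GL (Fin n) F) : Matrix (Fin n) (Fin n) F) *ᵥ w =
        w + ((m : F) * c * hermForm n F q w v) • v := by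
    intro m
    induction m with
    | zero =>
      intro w
      rw [pow_zero, Units.val_one, Matrix.one_mulVec, Nat.cast_zero, zero_mul, zero_mul, zero_smul,
        add_zero]
    | succ m ih =>
      intro w
      rw [pow_succ, Units.val_mul, ← Matrix.mulVec_mulVec, hmul, Matrix.mulVec_add,
        Matrix.mulVec_smul, ih, ih, hvv, mul_zero, zero_smul, add_zero, Nat.cast_succ]
      module
  refine ⟨uE n q v 0 c, uT_mem hF n v c hvv hc, ?_, ?_, ?_⟩
  · apply Matrix.toLin'.injective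
    apply LinearMap.ext
    intro w
    rw [Matrix.toLin'_apply, hpow, CharP.cast_eq_zero F p, zero_mul, zero_mul, zero_smul, add_zero,
      Matrix.toLin'_one]
    rfl
  · intro z hz
    have h1 := hmul v
    rw [hz, Matrix.smul_mulVec, Matrix.one_mulVec, hvv, mul_zero, zero_smul, add_zero] at h1
    have hz1 : z = 1 := by
      have h2 : (z - 1) • v = 0 := by rw [sub_smul, h1, one_smul, sub_self]
      exact sub_eq_zero.mp ((smul_eq_zero.mp h2).resolve_right hv0)
    apply hv0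
    apply perp_all_zero hF n v
    intro w
    have h3 := hmul w
    rw [hz, hz1, one_smul, Matrix.one_mulVec] at h3
    have h4 : (c * hermForm n F q w v) • v = 0 := by
      have := congrArg (fun u => u - w) h3
      simp only [sub_self, add_sub_cancel_left] at this
      exact this.symm
    exact (mul_eq_zero.mp ((smul_eq_zero.mp h4).resolve_right hv0)).resolve_left hc0
  · intro P Q hL
    exact transv_not_stable hF hn hL v hv0 c hc0 _ hmul

/-- a scalar multiple of a reflection, of determinant one -/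
theorem exists_refl (hq : Odd q) (n : ℕ) (hn : 4 ≤ n)
    (hv : padicValNat 2 n < padicValNat 2 (q + 1)) :
    ∃ x : GL (Fin n) F, x ∈ GU n F q ⊓ specialLinear (Fin n) F ∧
      (∃ z : F, ((x ^ 2 : GL (Fin n) F) : Matrix (Fin n) (Fin n) F) =
        z • (1 : Matrix (Fin n) (Fin n) F)) ∧
      (∀ z : F, (x : Matrix (Fin n) (Fin n) F) ≠ z • (1 : Matrix (Fin n) (Fin n) F)) ∧
      ∀ P Q : Submodule F (Fin n → F), ULagPair n q P Q →
        ¬ (((∀ w ∈ P, (x : Matrix (Fin n) (Fin n) F) *ᵥ w ∈ P) ∧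
              (∀ w ∈ Q, (x : Matrix (Fin n) (Fin n) F) *ᵥ w ∈ Q)) ∨
           ((∀ w ∈ P, (x : Matrix (Fin n) (Fin n) F) *ᵥ w ∈ Q) ∧
              (∀ w ∈ Q, (x : Matrix (Fin n) (Fin n) F) *ᵥ w ∈ P))) := by
  classical
  have hq2 := two_le_of_card_eq_sq hF
  have h2 := two_ne_zero' hF hq
  have hn0 : n ≠ 0 := by omega
  -- an element `l` with `l ^ (q + 1) = 1` and `l ^ n = -1`
  obtain ⟨l, hl1, hln⟩ : ∃ l : F, l ^ (q + 1) = 1 ∧ l ^ n = -1 := by
    obtain ⟨γ, hγ⟩ := IsCyclic.exists_generator (α := Fˣ)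
    have hord : orderOf γ = q ^ 2 - 1 := by
      rw [orderOf_eq_card_of_forall_mem_zpowers hγ, Nat.card_eq_fintype_card, Fintype.card_units,
        hF]
    have h3 : q ^ 2 - 1 = (q - 1) * (q + 1) := by
      obtain ⟨t, rfl⟩ : ∃ t, q = t + 1 := ⟨q - 1, by omega⟩
      have : (t + 1) ^ 2 = (t + 1 - 1) * (t + 1 + 1) + 1 := by
        rw [Nat.add_sub_cancel]
        ring
      omega
    have hs1 : 2 ^ (padicValNat 2 n + 1) ∣ q + 1 :=
      (padicValNat_dvd_iff_le (by omega)).mpr hv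
    have hs2 : 2 ^ (padicValNat 2 n + 1) ∣ q ^ 2 - 1 := by
      rw [h3]
      exact Dvd.dvd.mul_left hs1 _
    obtain ⟨m, hm⟩ := hs2
    have hm0 : m ≠ 0 := by
      rintro rfl
      rw [mul_zero] at hm
      have : 4 ≤ q ^ 2 := by nlinarith
      omega
    have hol : orderOf (γ ^ m) = 2 ^ (padicValNat 2 n + 1) := by
      rw [orderOf_pow_of_dvd hm0 (by rw [hord, hm]; exact Dvd.intro_left _ rfl), hord, hm]
      exact Nat.mul_div_cancel _ (Nat.pos_of_ne_zero hm0)
    have hu1 : (γ ^ m) ^ (q + 1) = 1 := by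
      rw [← orderOf_dvd_iff_pow_eq_one, hol]
      exact hs1
    have hu2 : (γ ^ m) ^ (2 * n) = 1 := by
      rw [← orderOf_dvd_iff_pow_eq_one, hol, pow_succ']
      exact Nat.mul_dvd_mul_left 2 pow_padicValNat_dvd
    have hu3 : (γ ^ m) ^ n ≠ 1 := by
      rw [Ne, ← orderOf_dvd_iff_pow_eq_one, hol, padicValNat_dvd_iff_le hn0]
      omega
    refine ⟨((γ ^ m : Fˣ) : F), ?_, ?_⟩
    · rw [← Units.val_pow_eq_pow_val, hu1, Units.val_one]
    · have h4 : (((γ ^ m : Fˣ) : F) ^ n - 1) * (((γ ^ m : Fˣ) : F) ^ n + 1) = 0 := by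
        have h5 : ((γ ^ m : Fˣ) : F) ^ (2 * n) = 1 := by
          rw [← Units.val_pow_eq_pow_val, hu2, Units.val_one]
        rw [mul_comm, pow_mul] at h5
        linear_combination h5
      rcases mul_eq_zero.mp h4 with h5 | h5
      · exfalso
        apply hu3
        apply Units.ext
        rw [Units.val_pow_eq_pow_val, Units.val_one]
        exact sub_eq_zero.mp h5
      · exact eq_neg_of_add_eq_zero_left h5
  have hl0 : l ≠ 0 := by
    intro h
    rw [h, zero_pow (by omega)] at hl1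
    exact zero_ne_one hl1
  obtain ⟨i₀, i₁, h01⟩ : ∃ i₀ i₁ : Fin n, i₀ ≠ i₁ :=
    ⟨⟨0, by omega⟩, ⟨1, by omega⟩, fun h => by simpa using congrArg Fin.val h⟩
  obtain ⟨d, hddef⟩ : ∃ d : Fin n → F, d = fun j => l * (if j = i₀ then -1 else 1) := ⟨_, rfl⟩
  have hd0 : d i₀ = -l := by rw [hddef]; simp
  have hdj : ∀ j, j ≠ i₀ → d j = l := by
    intro j hj
    rw [hddef]
    simp [hj]
  have hd : ∀ j, d j ^ (q + 1) = 1 := by
    intro j
    by_cases hj : j = i₀
    · rw [hj, hd0, Even.neg_pow (Odd.add_one hq), hl1]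
    · rw [hdj j hj, hl1]
  have hne : ∀ j, j ≠ i₀ → d j ≠ d i₀ := by
    intro j hj h
    rw [hdj j hj, hd0] at h
    apply mul_ne_zero h2 hl0
    linear_combination h
  refine ⟨(diagGU n q d hd).1, Subgroup.mem_inf.mpr ⟨(diagGU n q d hd).2, ?_⟩, ⟨l * l, ?_⟩, ?_, ?_⟩
  · rw [mem_specialLinear_iff, diagGU_coe, Matrix.det_diagonal, hddef, Finset.prod_mul_distrib,
      Finset.prod_const, Finset.prod_ite_eq', Finset.card_univ, Fintype.card_fin, hln]
    simp
  · rw [Units.val_pow_eq_pow_val, diagGU_coe, sq, Matrix.diagonal_mul_diagonal,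
      Matrix.smul_one_eq_diagonal]
    congr 1
    funext j
    by_cases hj : j = i₀
    · rw [hj, hd0]
      ring
    · rw [hdj j hj]
  · intro z hz
    rw [diagGU_coe, Matrix.smul_one_eq_diagonal] at hz
    have h3 := Matrix.diagonal_injective hz
    have h4 := congrFun h3 i₀
    have h5 := congrFun h3 i₁
    exact hne i₁ (Ne.symm h01) (by rw [h4, h5])
  · intro P Q hL
    rw [diagGU_coe]
    rintro (h | ⟨hPQ, -⟩)
    · exact diag_not_fix hF hL d i₀ hne h
    · have h3 := lp_two_le hF hn hL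
      obtain ⟨w, hw, hw0, hwv⟩ := ulag_exists_perp n q P 1 (fun _ => Pi.single i₀ 1) (by omega)
      have hwi : w i₀ = 0 := by
        have := hwv 0
        rwa [hermForm_single_right n q (by omega)] at this
      refine swap_contra hL _ hPQ w hw hw0 l hl0 ?_
      funext j
      rw [Matrix.mulVec_diagonal, Pi.smul_apply, smul_eq_mul]
      by_cases hj : j = i₀
      · rw [hj, hwi, mul_zero, mul_zero]
      · rw [hdj j hj]

/-- a diagonal element of odd prime order `r` dividing `q + 1` -/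
theorem exists_diag (n : ℕ) (hn : 4 ≤ n) (r : ℕ) [Fact r.Prime] (hr2 : r ≠ 2)
    (hr : r ∣ q + 1) :
    ∃ x : GL (Fin n) F, x ∈ GU n F q ⊓ specialLinear (Fin n) F ∧
      ((x ^ r : GL (Fin n) F) : Matrix (Fin n) (Fin n) F) = 1 ∧
      (∀ z : F, (x : Matrix (Fin n) (Fin n) F) ≠ z • (1 : Matrix (Fin n) (Fin n) F)) ∧
      ∀ P Q : Submodule F (Fin n → F), ULagPair n q P Q →
        ¬ (((∀ w ∈ P, (x : Matrix (Fin n) (Fin n) F) *ᵥ w ∈ P) ∧
              (∀ w ∈ Q, (x : Matrix (Fin n) (Fin n) F) *ᵥ w ∈ Q)) ∨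
           ((∀ w ∈ P, (x : Matrix (Fin n) (Fin n) F) *ᵥ w ∈ Q) ∧
              (∀ w ∈ Q, (x : Matrix (Fin n) (Fin n) F) *ᵥ w ∈ P))) := by
  classical
  have hq2 := two_le_of_card_eq_sq hF
  have hrp : r.Prime := Fact.out
  have hcard : r ∣ Nat.card Fˣ := by
    rw [Nat.card_eq_fintype_card, Fintype.card_units, hF]
    have h3 : q ^ 2 - 1 = (q - 1) * (q + 1) := by
      obtain ⟨t, rfl⟩ : ∃ t, q = t + 1 := ⟨q - 1, by omega⟩
      have : (t + 1) ^ 2 = (t + 1 - 1) * (t + 1 + 1) + 1 := by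
        rw [Nat.add_sub_cancel]
        ring
      omega
    rw [h3]
    exact Dvd.dvd.mul_left hr _
  obtain ⟨ωu, hωu⟩ := exists_prime_orderOf_dvd_card' r hcard
  obtain ⟨ω, hωdef⟩ : ∃ ω : F, ω = (ωu : F) := ⟨_, rfl⟩
  have hω0 : ω ≠ 0 := by rw [hωdef]; exact Units.ne_zero _
  have hωr : ω ^ r = 1 := by
    rw [hωdef, ← Units.val_pow_eq_pow_val, ← hωu, pow_orderOf_eq_one, Units.val_one]
  have hω1 : ω ≠ 1 := by
    intro h
    have h1 : ωu = 1 := Units.ext (by rw [← hωdef, h, Units.val_one])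
    rw [h1, orderOf_one] at hωu
    exact hrp.one_lt.ne' hωu.symm
  have hωq : ω ^ (q + 1) = 1 := by
    obtain ⟨t, ht⟩ := hr
    rw [ht, pow_mul, hωr, one_pow]
  have hω2 : ω⁻¹ ≠ ω := by
    intro h
    have h1 : ω ^ 2 = 1 := by
      rw [sq]
      nth_rewrite 1 [← h]
      exact inv_mul_cancel₀ hω0
    have h2 : ωu ^ 2 = 1 := Units.ext (by rw [Units.val_pow_eq_pow_val, ← hωdef, h1, Units.val_one])
    have h3 := orderOf_dvd_of_pow_eq_one h2
    rw [hωu] at h3
    exact hr2 ((Nat.prime_dvd_prime_iff_eq hrp Nat.prime_two).mp h3)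
  obtain ⟨i₀, i₁, i₂, h01, h02, h12⟩ : ∃ i₀ i₁ i₂ : Fin n, i₀ ≠ i₁ ∧ i₀ ≠ i₂ ∧ i₁ ≠ i₂ :=
    ⟨⟨0, by omega⟩, ⟨1, by omega⟩, ⟨2, by omega⟩, fun h => by simpa using congrArg Fin.val h,
      fun h => by simpa using congrArg Fin.val h, fun h => by simpa using congrArg Fin.val h⟩
  obtain ⟨d, hddef⟩ : ∃ d : Fin n → F,
      d = fun j => (if j = i₀ then ω else 1) * (if j = i₁ then ω⁻¹ else 1) := ⟨_, rfl⟩
  have hd0 : d i₀ = ω := by rw [hddef]; simp [h01]
  have hd1 : d i₁ = ω⁻¹ := by rw [hddef]; simp [Ne.symm h01]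
  have hdj : ∀ j, j ≠ i₀ → j ≠ i₁ → d j = 1 := by
    intro j hj hj'
    rw [hddef]
    simp [hj, hj']
  have hdr : ∀ j, d j ^ r = 1 := by
    intro j
    by_cases hj : j = i₀
    · rw [hj, hd0, hωr]
    · by_cases hj' : j = i₁
      · rw [hj', hd1, inv_pow, hωr, inv_one]
      · rw [hdj j hj hj', one_pow]
  have hd : ∀ j, d j ^ (q + 1) = 1 := by
    intro j
    obtain ⟨t, ht⟩ := hr
    rw [ht, pow_mul, hdr, one_pow]
  have hne : ∀ j, j ≠ i₀ → d j ≠ d i₀ := by
    intro j hj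
    rw [hd0]
    by_cases hj' : j = i₁
    · rw [hj', hd1]
      exact hω2
    · rw [hdj j hj hj']
      exact Ne.symm hω1
  have hXr : (Matrix.diagonal d) ^ r = (1 : F) • (1 : Matrix (Fin n) (Fin n) F) := by
    rw [Matrix.diagonal_pow, one_smul, ← Matrix.diagonal_one]
    congr 1
    funext j
    exact hdr j
  refine ⟨(diagGU n q d hd).1, Subgroup.mem_inf.mpr ⟨(diagGU n q d hd).2, ?_⟩, ?_, ?_, ?_⟩
  · rw [mem_specialLinear_iff, diagGU_coe, Matrix.det_diagonal, hddef, Finset.prod_mul_distrib,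
      Finset.prod_ite_eq', Finset.prod_ite_eq']
    simp [hω0]
  · rw [Units.val_pow_eq_pow_val, diagGU_coe, hXr, one_smul]
  · intro z hz
    rw [diagGU_coe, Matrix.smul_one_eq_diagonal] at hz
    have h3 := Matrix.diagonal_injective hz
    have h4 := congrFun h3 i₀
    have h5 := congrFun h3 i₂
    rw [hd0] at h4
    rw [hdj i₂ (Ne.symm h02) (Ne.symm h12)] at h5
    exact hω1 (by rw [h4, h5])
  · intro P Q hL
    rw [diagGU_coe]
    rintro (h | h)
    · exact diag_not_fix hF hL d i₀ hne h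
    · exact odd_not_swap hF hn hL _ r (hrp.odd_of_ne_two hr2) 1 one_ne_zero hXr h

end

end Cfsg.Agent.Lib.helper99.ULp
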