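import Mathlib
import Cfsg.Agent.Lib.helper99.ULpF

/-!
Block-diagonal elements of odd prime order in `SU_n(q)` stabilising no pair of complementary
totally isotropic subspaces.
-/

set_option autoImplicit false

namespace Cfsg.Agent.Lib.helper99.ULp

open Matrix Cfsg Cfsg.Geo Module Cfsg.Agent.Lib.helper17 Cfsg.Agent.Lib.helper95

section
variable {F : Type*} [Field F]

theorem block_mulVec_natAdd (e d : ℕ) (B : Matrix (Fin e) (Fin e) F) (u : Fin (e + d) → F)
    (t : Fin d) : ((blockMatU e d B 1) *ᵥ u) (Fin.natAdd e t) = u (Fin.natAdd e t) := by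
  have h := congrFun (mulVec_comp_finSum e d (blockMatU e d B 1) u) (Sum.inr t)
  rw [blockMatU_submatrix, Matrix.fromBlocks_mulVec] at h
  simpa using h

theorem block_det (e d : ℕ) (B : Matrix (Fin e) (Fin e) F) (C : Matrix (Fin d) (Fin d) F) :
    (blockMatU e d B C).det = B.det * C.det := by
  unfold blockMatU
  rw [Matrix.det_submatrix_equiv_self, Matrix.det_fromBlocks_zero₂₁]

theorem block_range (e d : ℕ) (B : Matrix (Fin e) (Fin e) F) :
    finrank F (LinearMap.range (Matrix.toLin' (blockMatU e d B 1) - 1)) ≤ e := by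
  have h0 : ∀ v ∈ LinearMap.range (Matrix.toLin' (blockMatU e d B 1) - 1),
      ∀ t : Fin d, v (Fin.natAdd e t) = 0 := by
    rintro _ ⟨u, rfl⟩ t
    rw [LinearMap.sub_apply, Matrix.toLin'_apply, Pi.sub_apply, block_mulVec_natAdd]
    exact sub_self _
  obtain ⟨π, hπ⟩ : ∃ π : (Fin (e + d) → F) →ₗ[F] (Fin e → F),
      π = LinearMap.funLeft F F (Fin.castAdd d) := ⟨_, rfl⟩
  have hinj : Function.Injective
      (π.domRestrict (LinearMap.range (Matrix.toLin' (blockMatU e d B 1) - 1))) := by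
    rw [injective_iff_map_eq_zero]
    rintro ⟨v, hv⟩ h1
    apply Subtype.ext
    show v = 0
    have h2 : π v = 0 := h1
    funext c
    refine Fin.addCases (fun s => ?_) (fun t => ?_) c
    · have h3 := congrFun h2 s
      rw [hπ] at h3
      exact h3
    · exact h0 v hv t
  have h1 := LinearMap.finrank_le_finrank_of_injective hinj
  rw [Module.finrank_fin_fun] at h1
  exact h1

end

section
variable {F : Type*} [Field F] [Fintype F] {q : ℕ} (hF : Fintype.card F = q ^ 2)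
include hF

/-- a block element of odd prime order -/
theorem exists_block (n : ℕ) (hn : 4 ≤ n) (r : ℕ) [Fact r.Prime] (hr2 : r ≠ 2)
    (hrq : ¬ r ∣ q) (e : ℕ) (he2 : 2 ≤ e) (heo : Odd e) (hen : e < n) (hre : r ∣ q ^ e + 1)
    (hmin : ∀ ρ, 1 ≤ ρ → ((q ^ 2 : ℕ) : ZMod r) ^ ρ = 1 → e ≤ ρ) :
    ∃ x : GL (Fin n) F, x ∈ GU n F q ⊓ specialLinear (Fin n) F ∧
      ((x ^ r : GL (Fin n) F) : Matrix (Fin n) (Fin n) F) = 1 ∧
      (∀ z : F, (x : Matrix (Fin n) (Fin n) F) ≠ z • (1 : Matrix (Fin n) (Fin n) F)) ∧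
      ∀ P Q : Submodule F (Fin n → F), ULagPair n q P Q →
        ¬ (((∀ w ∈ P, (x : Matrix (Fin n) (Fin n) F) *ᵥ w ∈ P) ∧
              (∀ w ∈ Q, (x : Matrix (Fin n) (Fin n) F) *ᵥ w ∈ Q)) ∨
           ((∀ w ∈ P, (x : Matrix (Fin n) (Fin n) F) *ᵥ w ∈ Q) ∧
              (∀ w ∈ Q, (x : Matrix (Fin n) (Fin n) F) *ᵥ w ∈ P))) := by
  classical
  have hq2 := two_le_of_card_eq_sq hF
  have hrp : r.Prime := Fact.out
  obtain ⟨d, rfl⟩ : ∃ d, n = e + d := ⟨n - e, by omega⟩
  have hcardA : r ∣ Nat.card (GU e F q) := by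
    rw [Cfsg.Agent.Lib.helper7.card_GU hF e]
    apply Dvd.dvd.mul_left
    refine dvd_trans ?_ (Finset.dvd_prod_of_mem _ (Finset.mem_range.2 (show e - 1 < e by omega)))
    have h1 : Even (e - 1) := by
      obtain ⟨t, rfl⟩ := heo
      exact ⟨t, by omega⟩
    have h2 : e - 1 + 1 = e := by omega
    rw [if_pos h1, h2]
    exact hre
  obtain ⟨A, hA⟩ := exists_prime_orderOf_dvd_card' r hcardA
  have hAr : A ^ r = 1 := by rw [← hA]; exact pow_orderOf_eq_one A
  have hA1 : A ≠ 1 := by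
    intro h
    rw [h, orderOf_one] at hA
    exact hrp.one_lt.ne' hA.symm
  have hnd : ¬ r ∣ q + 1 := by
    intro h
    have h0 := (ZMod.natCast_eq_zero_iff (q + 1) r).2 h
    push_cast at h0
    have h1 : ((q : ℕ) : ZMod r) = -1 := eq_neg_of_add_eq_zero_left h0
    have h2 := hmin 1 le_rfl (by push_cast; rw [h1]; ring)
    omega
  have hdetA : ((A.1 : GL (Fin e) F) : Matrix (Fin e) (Fin e) F).det = 1 := by
    have h1 := det_pow_of_mem_GU hF e A.1 A.2
    have h2 : ((A.1 : GL (Fin e) F) : Matrix (Fin e) (Fin e) F).det ^ r = 1 := by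
      rw [← Matrix.det_pow, ← Units.val_pow_eq_pow_val, ← Subgroup.coe_pow, hAr]
      simp
    have ho1 := orderOf_dvd_of_pow_eq_one h1
    have ho2 := orderOf_dvd_of_pow_eq_one h2
    have hcop : Nat.Coprime r (q + 1) := (Nat.Prime.coprime_iff_not_dvd hrp).mpr hnd
    exact orderOf_eq_one_iff.mp ((Nat.Coprime.coprime_dvd_left ho2 hcop).eq_one_of_dvd ho1)
  have hXc : (((blockGU F e d q (A, 1)).1 : GL (Fin (e + d)) F) :
      Matrix (Fin (e + d)) (Fin (e + d)) F) =
      blockMatU e d ((A.1 : GL (Fin e) F) : Matrix (Fin e) (Fin e) F) 1 := by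
    have h := blockGU_coe (F := F) e d q (A, 1)
    rw [guToMat_apply, guToMat_apply, guToMat_apply] at h
    rw [h]
    rfl
  have hpow : (blockGU F e d q (A, 1)) ^ r = 1 := by
    rw [← map_pow, Prod.pow_mk, hAr, one_pow]
    exact map_one _
  have hXr : (((blockGU F e d q (A, 1)).1 : GL (Fin (e + d)) F) :
      Matrix (Fin (e + d)) (Fin (e + d)) F) ^ r = 1 := by
    rw [← Units.val_pow_eq_pow_val, ← Subgroup.coe_pow, hpow]
    rfl
  have hX1 : (((blockGU F e d q (A, 1)).1 : GL (Fin (e + d)) F) :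
      Matrix (Fin (e + d)) (Fin (e + d)) F) ≠ 1 := by
    intro h
    have h1 : blockGU F e d q (A, 1) = 1 := Subtype.ext (Units.ext h)
    rw [← map_one (blockGU F e d q)] at h1
    have h2 := blockGU_injective e d q h1
    exact hA1 (congrArg Prod.fst h2)
  have hpres : ∀ u v, hermForm (e + d) F q
      ((((blockGU F e d q (A, 1)).1 : GL (Fin (e + d)) F) :
        Matrix (Fin (e + d)) (Fin (e + d)) F) *ᵥ u)
      ((((blockGU F e d q (A, 1)).1 : GL (Fin (e + d)) F) :
        Matrix (Fin (e + d)) (Fin (e + d)) F) *ᵥ v) = hermForm (e + d) F q u v :=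
    (blockGU F e d q (A, 1)).2
  refine ⟨(blockGU F e d q (A, 1)).1, Subgroup.mem_inf.mpr ⟨(blockGU F e d q (A, 1)).2, ?_⟩, ?_,
    ?_, ?_⟩
  · rw [mem_specialLinear_iff, hXc, block_det, hdetA, Matrix.det_one, mul_one]
  · rw [Units.val_pow_eq_pow_val, hXr]
  · intro z hz
    apply hX1
    have hz1 : z = 1 := by
      have h1 := block_mulVec_natAdd e d ((A.1 : GL (Fin e) F) : Matrix (Fin e) (Fin e) F)
        (Pi.single (Fin.natAdd e (⟨0, by omega⟩ : Fin d)) 1) ⟨0, by omega⟩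
      rw [← hXc, hz, Matrix.smul_mulVec, Matrix.one_mulVec, Pi.smul_apply, Pi.single_eq_same,
        smul_eq_mul, mul_one] at h1
      exact h1
    rw [hz, hz1, one_smul]
  · intro P Q hL
    rintro (h | h)
    · refine odd_block_not_fix hF hL _ hpres r ?_ hXr hX1 e (by omega) ?_ ?_ h
      · rw [hF]
        intro h1
        exact hrq (hrp.dvd_of_dvd_pow h1)
      · rw [hF]
        exact hmin
      · rw [hXc]
        exact block_range e d _
    · exact odd_not_swap hF hn hL _ r (hrp.odd_of_ne_two hr2) 1 one_ne_zero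
        (by rw [hXr, one_smul]) h

/-- derangements of odd prime order `r ≠ p` -/
theorem exists_odd (n : ℕ) (hn : 4 ≤ n) (r : ℕ) [Fact r.Prime] (hr2 : r ≠ 2) (hrq : ¬ r ∣ q)
    (j : ℕ) (hj : Odd j) (hjn : j < n) (h : r ∣ q ^ j + 1) :
    ∃ x : GL (Fin n) F, x ∈ GU n F q ⊓ specialLinear (Fin n) F ∧
      ((x ^ r : GL (Fin n) F) : Matrix (Fin n) (Fin n) F) = 1 ∧
      (∀ z : F, (x : Matrix (Fin n) (Fin n) F) ≠ z • (1 : Matrix (Fin n) (Fin n) F)) ∧
      ∀ P Q : Submodule F (Fin n → F), ULagPair n q P Q →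
        ¬ (((∀ w ∈ P, (x : Matrix (Fin n) (Fin n) F) *ᵥ w ∈ P) ∧
              (∀ w ∈ Q, (x : Matrix (Fin n) (Fin n) F) *ᵥ w ∈ Q)) ∨
           ((∀ w ∈ P, (x : Matrix (Fin n) (Fin n) F) *ᵥ w ∈ Q) ∧
              (∀ w ∈ Q, (x : Matrix (Fin n) (Fin n) F) *ᵥ w ∈ P))) := by
  obtain ⟨e, heo, hej, hre, hmin⟩ := u_order q r j hr2 hj h
  by_cases he : e = 1
  · subst he
    exact exists_diag hF n hn r hr2 (by simpa using hre)
  · exact exists_block hF n hn r hr2 hrq e (by obtain ⟨t, rfl⟩ := heo; omega) heo (by omega) hre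
      hmin

end

end Cfsg.Agent.Lib.helper99.ULp
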