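import Cfsg.Agent.S0780
import Cfsg.Agent.S0781

/-!
`SU_n(q)` is generated by its transvections and is perfect, for `n ≥ 3`, `(n, q) ≠ (3, 2)`.
-/

set_option autoImplicit false

namespace Cfsg.Agent.Lib.helper99

open Cfsg Matrix Cfsg.Agent.Lib.helper17

section
variable {F : Type*} [Field F] [Fintype F] {q : ℕ} (hF : Fintype.card F = q ^ 2)
include hF

/-- The transvection subgroup is all of `SU_n(q)`. -/
theorem TU_eq_top (n : ℕ) (hn : 3 ≤ n) (h32 : ¬ (n = 3 ∧ q = 2)) : TU n F q = ⊤ :=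
  Cfsg.Agent.S0780.result hF n hn h32

/-- `SU_n(q)` is perfect for `n ≥ 3`, `(n, q) ≠ (3, 2)`. -/
theorem su_perfect (n : ℕ) (hn : 3 ≤ n) (h32 : ¬ (n = 3 ∧ q = 2)) :
    commutator ↥(SU n F q) = ⊤ := by
  have hq2 := two_le_of_card_eq_sq hF
  have hn' : 4 ≤ n ∨ (n = 3 ∧ 3 ≤ q) := by
    by_cases h4 : 4 ≤ n
    · exact Or.inl h4
    · right
      have h3 : n = 3 := by omega
      refine ⟨h3, ?_⟩
      by_contra hcon
      exact h32 ⟨h3, by omega⟩
  rw [eq_top_iff, ← TU_eq_top hF n hn h32, commutator_eq_closure]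
  unfold TU
  apply Subgroup.closure_mono
  rintro A ⟨v, c, hv, hA⟩
  exact Cfsg.Agent.S0781.result hF n hn' A v c hv hA

end

end Cfsg.Agent.Lib.helper99
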