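import Cfsg.Agent.Lib.helper99.USimple

/-!
Elements `g` of `SU_n(q)` with `g - 1` of rank one are exactly the non-trivial unitary transvections.
-/

set_option autoImplicit false

namespace Cfsg.Agent.Lib.helper99

open Cfsg Matrix Cfsg.Agent.Lib.helper17

section
variable {F : Type*} [Field F]

/-- A matrix of rank one is a column times a row. -/
theorem rank_one_decomp (n : ℕ) (N : Matrix (Fin n) (Fin n) F) (h : N.rank = 1) :
    ∃ u w : Fin n → F, N = Matrix.vecMulVec u w := by
  classical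
  have h1 : Module.finrank F (LinearMap.range N.mulVecLin) = 1 := h
  obtain ⟨⟨u, hu⟩, _, hspan⟩ := finrank_eq_one_iff'.mp h1
  have : ∀ j : Fin n, ∃ c : F, c • u = N *ᵥ Pi.single j 1 := by
    intro j
    obtain ⟨c, hc⟩ := hspan ⟨N *ᵥ Pi.single j 1, ⟨Pi.single j 1, rfl⟩⟩
    exact ⟨c, congrArg Subtype.val hc⟩
  choose c hc using this
  refine ⟨u, c, ?_⟩
  ext i j
  have := congrFun (hc j) i
  rw [Matrix.mulVec_single_one] at this
  simp only [Pi.smul_apply, smul_eq_mul, Matrix.col_apply] at this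
  rw [Matrix.vecMulVec_apply, ← this, mul_comm]

theorem rank_ne_zero_of_ne_zero (n : ℕ) (M : Matrix (Fin n) (Fin n) F) (hM : M ≠ 0) :
    M.rank ≠ 0 := by
  classical
  intro h
  apply hM
  have h1 : Module.finrank F (LinearMap.range M.mulVecLin) = 0 := h
  rw [Submodule.finrank_eq_zero, LinearMap.range_eq_bot] at h1
  ext i j
  have h2 := congrFun (congrArg (fun f => f (Pi.single j 1)) h1) i
  simpa [Matrix.mulVec_single_one] using h2

end

section
variable {F : Type*} [Field F] [Fintype F] {q : ℕ} (hF : Fintype.card F = q ^ 2)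
include hF

/-- A non-trivial unitary transvection minus one has rank one. -/
theorem transv_rank (n : ℕ) (v : Fin n → F) (c : F) (hv : v ≠ 0) (hc : c ≠ 0) :
    (unitaryTransvection n q v c - 1).rank = 1 := by
  classical
  have hq2 := two_le_of_card_eq_sq hF
  have e : unitaryTransvection n q v c - 1 = Matrix.vecMulVec (c • v) (fun j => v j ^ q) := by
    unfold unitaryTransvection
    rw [add_sub_cancel_left, Matrix.smul_vecMulVec]
  rw [e]
  apply le_antisymm (Matrix.rank_vecMulVec_le _ _)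
  have hne : Matrix.vecMulVec (c • v) (fun j => v j ^ q) ≠ 0 := by
    obtain ⟨i, hi⟩ : ∃ i, v i ≠ 0 := by
      by_contra hcon
      push Not at hcon
      exact hv (funext hcon)
    intro h0
    have h1 := congrFun (congrFun h0 i) i
    rw [Matrix.vecMulVec_apply] at h1
    simp only [Pi.smul_apply, smul_eq_mul, Matrix.zero_apply] at h1
    exact mul_ne_zero (mul_ne_zero hc hi) (pow_ne_zero _ hi) h1
  have := rank_ne_zero_of_ne_zero n _ hne
  omega

/-- An element `g` of `SU` with `g - 1` of rank one is a unitary transvection. -/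
theorem exists_transv_of_rank (n : ℕ) (g : ↥(SU n F q)) (h : (suMat g - 1).rank = 1) :
    ∃ (v : Fin n → F) (c : F), v ≠ 0 ∧ hermForm n F q v v = 0 ∧ c ≠ 0 ∧ c ^ q = -c ∧
      suMat g = unitaryTransvection n q v c := by
  classical
  have hq2 := two_le_of_card_eq_sq hF
  obtain ⟨a, b, hab⟩ := rank_one_decomp n _ h
  have hG : suMat g = 1 + Matrix.vecMulVec a b := by
    rw [← hab]
    abel
  have hne : Matrix.vecMulVec a b ≠ 0 := by
    intro h0
    rw [hab, h0, Matrix.rank_zero] at h
    exact zero_ne_one h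
  have ha : a ≠ 0 := by
    rintro rfl
    apply hne
    ext i j
    simp [Matrix.vecMulVec_apply]
  have hb : b ≠ 0 := by
    rintro rfl
    apply hne
    ext i j
    simp [Matrix.vecMulVec_apply]
  have hGx : ∀ x, suMat g *ᵥ x = x + (b ⬝ᵥ x) • a := by
    intro x
    rw [hG, Matrix.add_mulVec, Matrix.one_mulVec, Matrix.vecMulVec_mulVec, op_smul_eq_smul]
  have hba : b ⬝ᵥ a = 0 := by
    have hd := suMat_det g
    rw [hG, det_one_add_vmv] at hd
    linear_combination hd
  -- a vector with `b ⬝ᵥ y₀ = 1`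
  obtain ⟨j, hj⟩ : ∃ j, b j ≠ 0 := by
    by_contra hcon
    push Not at hcon
    exact hb (funext hcon)
  obtain ⟨y₀, hy₀⟩ : ∃ y₀ : Fin n → F, b ⬝ᵥ y₀ = 1 := by
    refine ⟨(b j)⁻¹ • Pi.single j 1, ?_⟩
    rw [dotProduct_smul, dotProduct_single, mul_one, smul_eq_mul, inv_mul_cancel₀ hj]
  -- the isometry condition
  have hiso : ∀ x y, (b ⬝ᵥ x) * hermForm n F q a y + (b ⬝ᵥ y) ^ q * hermForm n F q x a +
      (b ⬝ᵥ x) * (b ⬝ᵥ y) ^ q * hermForm n F q a a = 0 := by
    intro x y
    have h1 := suMat_isIsom g x y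
    rw [hGx, hGx] at h1
    simp only [hermForm_add_left, hermForm_add_right hF, hermForm_smul_left, hermForm_smul_right]
      at h1
    linear_combination h1
  have hker : ∀ x, b ⬝ᵥ x = 0 → hermForm n F q x a = 0 := by
    intro x hx
    have h1 := hiso x y₀
    rw [hx, hy₀] at h1
    simpa using h1
  obtain ⟨μ, hμ⟩ : ∃ μ : F, μ = hermForm n F q y₀ a := ⟨_, rfl⟩
  have hxa : ∀ x, hermForm n F q x a = μ * (b ⬝ᵥ x) := by
    intro x
    have h1 := hker (x - (b ⬝ᵥ x) • y₀) (by
      rw [dotProduct_sub, dotProduct_smul, hy₀, smul_eq_mul, mul_one, sub_self])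
    rw [hermForm_sub_left, hermForm_smul_left, ← hμ] at h1
    linear_combination h1
  have hμ0 : μ ≠ 0 := by
    intro h0
    apply ha
    apply herm_eq_zero_of_forall hF n a
    intro x
    rw [hxa, h0, zero_mul]
  have haa : hermForm n F q a a = 0 := by rw [hxa, hba, mul_zero]
  have hT : suMat g = unitaryTransvection n q a μ⁻¹ := by
    rw [Matrix.ext_iff_mulVec]
    intro x
    rw [hGx, unitaryTransvection_mulVec, hxa, ← mul_assoc, inv_mul_cancel₀ hμ0, one_mul]
  exact ⟨a, μ⁻¹, ha, haa, inv_ne_zero hμ0, skew_of_transv_mem hF n a μ⁻¹ ha haa g hT, hT⟩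

end

end Cfsg.Agent.Lib.helper99
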